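import Mathlib
import Cfsg.Agent.Lib.Involutions.Basic

/-! Counting pairs of involutions by their product, and grouping elements by their centralizers. -/

set_option autoImplicit false

namespace CfsgLib.InvChar

open Subgroup CfsgLib.Involutions

variable {G : Type*} [Group G] [Fintype G]

open scoped Classical in
/-- The set of involutions. -/
noncomputable def invs (G : Type*) [Group G] [Fintype G] : Finset G :=
  Finset.univ.filter fun t => orderOf t = 2

open scoped Classical in
/-- The involutions `t` with `t * u` an involution: ordered pairs of involutions with product `u`. -/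
noncomputable def invPairs (u : G) : Finset G :=
  (invs G).filter fun t => t * u ∈ invs G

@[simp] theorem mem_invs {t : G} : t ∈ invs G ↔ orderOf t = 2 := by
  classical simp [invs]

theorem mem_invPairs {u t : G} : t ∈ invPairs u ↔ orderOf t = 2 ∧ orderOf (t * u) = 2 := by
  classical simp [invPairs]

theorem sum_card_invPairs : ∑ u : G, (invPairs u).card = (invs G).card * (invs G).card := by
  classical
  simp only [invPairs, Finset.card_filter]
  rw [Finset.sum_comm]
  rw [show (invs G).card * (invs G).card = ∑ _t ∈ invs G, (invs G).card by simp]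
  refine Finset.sum_congr rfl fun t _ => ?_
  rw [← Finset.card_filter]
  refine Finset.card_bij (fun u _ => t * u) (fun u hu => (Finset.mem_filter.1 hu).2)
    (fun u _ v _ h => mul_left_cancel h) fun s hs => ⟨t⁻¹ * s, ?_, mul_inv_cancel_left t s⟩
  simpa using mem_invs.1 hs

theorem invPairs_one : invPairs (1 : G) = invs G := by
  ext t
  simp [mem_invPairs]

theorem mem_invPairs_iff_inverts {u t : G} : t ∈ invPairs u ↔
    orderOf t = 2 ∧ t * u ≠ 1 ∧ t * u * t⁻¹ = u⁻¹ := by
  rw [mem_invPairs]
  constructor
  · rintro ⟨ht, htu⟩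
    refine ⟨ht, ne_one_of_involution htu, ?_⟩
    rw [inv_eq_self_of_involution ht]
    refine eq_inv_of_mul_eq_one_left ?_
    rw [mul_assoc]
    exact mul_self_eq_one htu
  · rintro ⟨ht, hne, hinv⟩
    refine ⟨ht, orderOf_eq_two_iff_mul.2 ⟨hne, ?_⟩⟩
    rw [inv_eq_self_of_involution ht] at hinv
    rw [← mul_assoc, hinv, inv_mul_cancel]

theorem mem_invPairs_of_involution {u t : G} (hu : orderOf u = 2) :
    t ∈ invPairs u ↔ orderOf t = 2 ∧ Commute t u ∧ t ≠ u := by
  rw [mem_invPairs_iff_inverts]
  refine and_congr_right fun ht => ?_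
  rw [inv_eq_self_of_involution hu]
  constructor
  · rintro ⟨hne, hinv⟩
    exact ⟨mul_inv_eq_iff_eq_mul.1 hinv, fun h => hne (by rw [h]; exact mul_self_eq_one hu)⟩
  · rintro ⟨hc, hne⟩
    refine ⟨fun h => hne ?_, by rw [hc.eq, mul_inv_cancel_right]⟩
    exact (inv_eq_self_of_involution ht).symm.trans (inv_eq_of_mul_eq_one_right h)

section Inverted

variable {u t : G}

/-- If an involution inverts `u` and centralizes no nontrivial element of `C(u)`, it inverts `C(u)`. -/
theorem inverts_centralizer (ht : t ∈ invPairs u)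
    (hfix : ∀ c ∈ centralizer ({u} : Set G), Commute c t → c = 1) :
    (∀ c ∈ centralizer ({u} : Set G), t * c * t⁻¹ = c⁻¹) ∧
      IsMulCommutative ↥(centralizer ({u} : Set G)) ∧
      Odd (Nat.card ↥(centralizer ({u} : Set G))) := by
  obtain ⟨ht2, -, hinv⟩ := mem_invPairs_iff_inverts.1 ht
  have hmem : ∀ c ∈ centralizer ({u} : Set G), t * c * t⁻¹ ∈ centralizer ({u} : Set G) := by
    intro c hc
    rw [mem_centralizer_singleton_iff] at hc ⊢
    have h1 : Commute (t * c * t⁻¹) (t * u⁻¹ * t⁻¹) :=
      Commute.map (show Commute c u⁻¹ from (show Commute c u from hc).inv_right) (MulAut.conj t).toMonoidHom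
    rw [show t * u⁻¹ * t⁻¹ = u by rw [← conj_inv, hinv, inv_inv]] at h1
    exact h1.eq
  let φ : ↥(centralizer ({u} : Set G)) →* ↥(centralizer ({u} : Set G)) :=
    MonoidHom.mk' (fun c => ⟨t * c * t⁻¹, hmem c c.2⟩) fun a b => Subtype.ext (by simp [conj_mul])
  have hinvol : Function.Involutive φ := fun c => Subtype.ext (by
    change t * (t * (c : G) * t⁻¹) * t⁻¹ = c
    calc t * (t * (c : G) * t⁻¹) * t⁻¹ = (t * t) * c * (t * t)⁻¹ := by group
      _ = c := by rw [mul_self_eq_one ht2]; simp)
  have hff : MonoidHom.FixedPointFree φ := fun c hc => Subtype.ext (hfix c c.2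
    (mul_inv_eq_iff_eq_mul.1 (congrArg Subtype.val hc)).symm)
  refine ⟨fun c hc => ?_, ⟨⟨hff.commute_all_of_involutive hinvol⟩⟩, hff.odd_card_of_involutive hinvol⟩
  exact congrArg Subtype.val (congrFun (hff.coe_eq_inv_of_involutive hinvol) ⟨c, hc⟩)

/-- In that situation the involution pairs with product `u` are indexed by `C(u)`. -/
theorem card_invPairs_eq (ht : t ∈ invPairs u)
    (hfix : ∀ c ∈ centralizer ({u} : Set G), Commute c t → c = 1) :
    (invPairs u).card = Nat.card ↥(centralizer ({u} : Set G)) := by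
  classical
  have hinvc := (inverts_centralizer ht hfix).1
  obtain ⟨ht2, -, hinv⟩ := mem_invPairs_iff_inverts.1 ht
  have himg : invPairs u = ((centralizer ({u} : Set G) : Set G).toFinset).image (fun c => t * c) := by
    ext w
    simp only [Finset.mem_image, Set.mem_toFinset, SetLike.mem_coe]
    constructor
    · intro hw
      obtain ⟨hw2, -, hwinv⟩ := mem_invPairs_iff_inverts.1 hw
      refine ⟨t⁻¹ * w, ?_, mul_inv_cancel_left t w⟩
      rw [mem_centralizer_singleton_iff]
      have : t⁻¹ * w * u * (t⁻¹ * w)⁻¹ = u := by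
        calc t⁻¹ * w * u * (t⁻¹ * w)⁻¹ = t⁻¹ * (w * u * w⁻¹) * t := by group
          _ = t⁻¹ * (t * u * t⁻¹) * t := by rw [hwinv, hinv]
          _ = u := by group
      exact mul_inv_eq_iff_eq_mul.1 this
    · rintro ⟨c, hc, rfl⟩
      have key : ∀ d ∈ centralizer ({u} : Set G), orderOf (t * d) = 2 := by
        intro d hd
        refine orderOf_eq_two_iff_mul.2 ⟨fun h => ?_, ?_⟩
        · have hdt : d = t :=
            (inv_eq_of_mul_eq_one_right h).symm.trans (inv_eq_self_of_involution ht2)
          have h1 := hfix d hd (hdt ▸ Commute.refl t)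
          exact ne_one_of_involution ht2 (hdt.symm.trans h1)
        · have h2 := hinvc d hd
          rw [inv_eq_self_of_involution ht2] at h2
          rw [← mul_assoc, h2, inv_mul_cancel]
      refine mem_invPairs.2 ⟨key c hc, ?_⟩
      rw [mul_assoc]
      exact key _ (mul_mem hc (mem_centralizer_singleton_iff.2 rfl))
  rw [himg, Finset.card_image_of_injective _ fun a b h => mul_left_cancel h, Set.toFinset_card,
    ← Nat.card_eq_fintype_card]
  rfl

end Inverted

/-- An involution normalizing `A` without fixed points on it inverts it. -/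
theorem inverts_of_fixedPointFree {A : Subgroup G} {s : G} (hs : orderOf s = 2)
    (hn : ∀ c ∈ A, s * c * s⁻¹ ∈ A) (hfix : ∀ c ∈ A, Commute c s → c = 1) :
    ∀ c ∈ A, s * c * s⁻¹ = c⁻¹ := by
  let φ : ↥A →* ↥A := MonoidHom.mk' (fun c => ⟨s * c * s⁻¹, hn c c.2⟩)
    fun a b => Subtype.ext (by simp [conj_mul])
  have hinvol : Function.Involutive φ := fun c => Subtype.ext (by
    change s * (s * (c : G) * s⁻¹) * s⁻¹ = c
    calc s * (s * (c : G) * s⁻¹) * s⁻¹ = (s * s) * c * (s * s)⁻¹ := by group
      _ = c := by rw [mul_self_eq_one hs]; simp)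
  have hff : MonoidHom.FixedPointFree φ := fun c hc => Subtype.ext (hfix c c.2
    (mul_inv_eq_iff_eq_mul.1 (congrArg Subtype.val hc)).symm)
  exact fun c hc => congrArg Subtype.val (congrFun (hff.coe_eq_inv_of_involutive hinvol) ⟨c, hc⟩)

/-- The number of conjugates of an element is the index of its centralizer. -/
theorem ncard_conjugates (x : G) :
    {y : G | IsConj x y}.ncard = (centralizer ({x} : Set G)).index := by
  have h1 := MulAction.index_stabilizer (ConjAct G) x
  rw [ConjAct.stabilizer_eq_centralizer] at h1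
  have horb : MulAction.orbit (ConjAct G) x = {y : G | IsConj x y} := by
    ext y
    rw [ConjAct.mem_orbit_conjAct, Set.mem_setOf_eq]
    exact ⟨IsConj.symm, IsConj.symm⟩
  rw [horb] at h1
  exact h1.symm

theorem card_conj_orbit (A : Subgroup G) [DecidableEq (Subgroup G)] :
    (Finset.univ.image fun g : G => A.map (MulAut.conj g).toMonoidHom).card =
      (normalizer (A : Set G)).index := by
  classical
  have key : ∀ g h : G, A.map (MulAut.conj g).toMonoidHom = A.map (MulAut.conj h).toMonoidHom ↔
      g⁻¹ * h ∈ normalizer (A : Set G) := by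
    intro g h
    have hcomp : ∀ a b : G, (A.map (MulAut.conj b).toMonoidHom).map (MulAut.conj a).toMonoidHom =
        A.map (MulAut.conj (a * b)).toMonoidHom := by
      intro a b
      rw [Subgroup.map_map]
      congr 1
      ext w
      simp [MulAut.conj_apply, mul_assoc]
    have hone : A.map (MulAut.conj (1 : G)).toMonoidHom = A := by
      ext w
      simp
    rw [mem_normalizer_iff_map_conj_eq]
    constructor
    · intro hgh
      have := congrArg (Subgroup.map (MulAut.conj g⁻¹).toMonoidHom) hgh.symm
      rwa [hcomp, hcomp, inv_mul_cancel, hone] at this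
    · intro hgh
      have := congrArg (Subgroup.map (MulAut.conj g).toMonoidHom) hgh
      rw [show (A.map ((MulAut.conj (g⁻¹ * h) : MulAut G) : G →* G)).map (MulAut.conj g).toMonoidHom =
        A.map (MulAut.conj (g * (g⁻¹ * h))).toMonoidHom from hcomp g _, mul_inv_cancel_left] at this
      exact this.symm
  rw [Subgroup.index, ← Nat.card_eq_finsetCard]
  symm
  refine Nat.card_eq_of_bijective
    (Quotient.lift (fun g => (⟨A.map (MulAut.conj g).toMonoidHom, Finset.mem_image.2 ⟨g, Finset.mem_univ _, rfl⟩⟩ :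
      ↥(Finset.univ.image fun g : G => A.map (MulAut.conj g).toMonoidHom)))
      fun g h hgh => Subtype.ext ((key g h).2 (QuotientGroup.leftRel_apply.1 hgh))) ⟨?_, ?_⟩
  · intro a b
    refine Quotient.inductionOn₂ a b fun g h hgh => ?_
    exact Quotient.sound (QuotientGroup.leftRel_apply.2 ((key g h).1 (congrArg Subtype.val hgh)))
  · rintro ⟨B, hB⟩
    obtain ⟨g, -, rfl⟩ := Finset.mem_image.1 hB
    exact ⟨Quotient.mk'' g, rfl⟩

/-- Group a conjugation invariant set of elements with TI centralizers by the classes of those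
centralizers. -/
theorem exists_reps_sum (R : Finset G) (hconj : ∀ g u : G, u ∈ R → g * u * g⁻¹ ∈ R)
    (h1 : (1 : G) ∉ R)
    (hcl : ∀ u ∈ R, ∀ v ∈ centralizer ({u} : Set G), v ≠ 1 →
      v ∈ R ∧ centralizer ({v} : Set G) = centralizer ({u} : Set G)) :
    ∃ reps : Finset (Subgroup G), (∀ A ∈ reps, ∃ u ∈ R, A = centralizer ({u} : Set G)) ∧
      (∀ A ∈ reps, ∀ B ∈ reps, (∃ g : G, A.map (MulAut.conj g).toMonoidHom = B) → A = B) ∧
      ∀ f : ℕ → ℕ, ∑ u ∈ R, f (Nat.card ↥(centralizer ({u} : Set G))) =
        ∑ A ∈ reps, (normalizer (A : Set G)).index * ((Nat.card ↥A - 1) * f (Nat.card ↥A)) := by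
  classical
  set P : Finset (Subgroup G) := R.image fun u => centralizer ({u} : Set G) with hP
  let cls : Subgroup G → Finset (Subgroup G) :=
    fun A => Finset.univ.image fun g : G => A.map (MulAut.conj g).toMonoidHom
  let pick : Finset (Subgroup G) → Subgroup G := fun s => if h : s.Nonempty then h.choose else ⊥
  have hself : ∀ A, A ∈ cls A := fun A => Finset.mem_image.2 ⟨1, Finset.mem_univ _, by ext; simp⟩
  have hpick : ∀ A, pick (cls A) ∈ cls A := by
    intro A
    have hne : (cls A).Nonempty := ⟨A, hself A⟩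
    simp only [pick, dif_pos hne]
    exact hne.choose_spec
  have hclscls : ∀ A B, B ∈ cls A → cls B = cls A := by
    intro A B hB
    obtain ⟨g, -, rfl⟩ := Finset.mem_image.1 hB
    ext C
    simp only [cls, Finset.mem_image, Finset.mem_univ, true_and]
    constructor
    · rintro ⟨h, rfl⟩
      refine ⟨h * g, ?_⟩
      rw [Subgroup.map_map]
      congr 1
      ext w
      simp [MulAut.conj_apply, mul_assoc]
    · rintro ⟨h, rfl⟩
      refine ⟨h * g⁻¹, ?_⟩
      rw [Subgroup.map_map]
      congr 1
      ext w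
      simp [MulAut.conj_apply, mul_assoc]
  have hclsP : ∀ A ∈ P, ∀ B ∈ cls A, B ∈ P := by
    intro A hA B hB
    obtain ⟨u, hu, rfl⟩ := Finset.mem_image.1 hA
    obtain ⟨g, -, rfl⟩ := Finset.mem_image.1 hB
    refine Finset.mem_image.2 ⟨g * u * g⁻¹, hconj g u hu, ?_⟩
    ext w
    simp only [mem_centralizer_singleton_iff, Subgroup.mem_map_equiv, MulAut.conj_symm_apply]
    constructor
    · intro hw
      calc g⁻¹ * w * g * u = g⁻¹ * (w * (g * u * g⁻¹)) * g := by group
        _ = g⁻¹ * (g * u * g⁻¹ * w) * g := by rw [hw]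
        _ = u * (g⁻¹ * w * g) := by group
    · intro hw
      calc w * (g * u * g⁻¹) = g * (g⁻¹ * w * g * u) * g⁻¹ := by group
        _ = g * (u * (g⁻¹ * w * g)) * g⁻¹ := by rw [hw]
        _ = g * u * g⁻¹ * w := by group
  refine ⟨P.image fun A => pick (cls A), ?_, ?_, ?_⟩
  · intro A hA
    obtain ⟨B, hB, rfl⟩ := Finset.mem_image.1 hA
    obtain ⟨u, hu, hu'⟩ := Finset.mem_image.1 (hclsP B hB _ (hpick B))
    exact ⟨u, hu, hu'.symm⟩
  · intro A hA B hB ⟨g, hg⟩
    obtain ⟨A', hA', rfl⟩ := Finset.mem_image.1 hA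
    obtain ⟨B', hB', rfl⟩ := Finset.mem_image.1 hB
    have h2 : cls (pick (cls B')) = cls (pick (cls A')) :=
      hclscls _ _ (Finset.mem_image.2 ⟨g, Finset.mem_univ _, hg⟩)
    rw [hclscls _ _ (hpick B'), hclscls _ _ (hpick A')] at h2
    exact (congrArg pick h2).symm
  · intro f
    rw [← Finset.sum_fiberwise_of_maps_to (t := P) (g := fun u => centralizer ({u} : Set G))
      (fun u hu => Finset.mem_image.2 ⟨u, hu, rfl⟩)]
    have hfib : ∀ A ∈ P, ∑ u ∈ R with centralizer ({u} : Set G) = A,
        f (Nat.card ↥(centralizer ({u} : Set G))) = (Nat.card ↥A - 1) * f (Nat.card ↥A) := by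
      intro A hA
      obtain ⟨u, hu, rfl⟩ := Finset.mem_image.1 hA
      have hset : R.filter (fun v => centralizer ({v} : Set G) = centralizer ({u} : Set G)) =
          ((centralizer ({u} : Set G) : Set G).toFinset).erase 1 := by
        ext v
        simp only [Finset.mem_filter, Finset.mem_erase, Set.mem_toFinset, SetLike.mem_coe]
        constructor
        · rintro ⟨hv, hvu⟩
          exact ⟨fun h => h1 (h ▸ hv), hvu ▸ mem_centralizer_singleton_iff.2 rfl⟩
        · rintro ⟨hv1, hv⟩
          exact hcl u hu v hv hv1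
      rw [Finset.sum_congr rfl (g := fun _ => f (Nat.card ↥(centralizer ({u} : Set G))))
        (fun v hv => by rw [(Finset.mem_filter.1 hv).2]), Finset.sum_const, smul_eq_mul, hset,
        Finset.card_erase_of_mem (by simp [Set.mem_toFinset, one_mem]), Set.toFinset_card,
        ← Nat.card_eq_fintype_card]
      rfl
    rw [Finset.sum_congr rfl hfib,
      ← Finset.sum_fiberwise_of_maps_to (t := P.image fun A => pick (cls A)) (g := fun A => pick (cls A))
      (fun A hA => Finset.mem_image.2 ⟨A, hA, rfl⟩)]
    refine Finset.sum_congr rfl fun A hA => ?_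
    obtain ⟨A', hA', rfl⟩ := Finset.mem_image.1 hA
    have hclsA : cls (pick (cls A')) = cls A' := hclscls _ _ (hpick A')
    have hset : P.filter (fun B => pick (cls B) = pick (cls A')) = cls (pick (cls A')) := by
      ext B
      simp only [Finset.mem_filter]
      constructor
      · rintro ⟨-, hB⟩
        rw [← hB, hclscls _ _ (hpick B)]
        exact hself B
      · intro hB
        refine ⟨hclsP A' hA' B (hclsA ▸ hB), ?_⟩
        rw [hclscls _ _ (hclsA ▸ hB : B ∈ cls A')]
    rw [← card_conj_orbit (pick (cls A'))]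
    change _ = (cls (pick (cls A'))).card * _
    rw [← hset, ← smul_eq_mul (a := Finset.card _), ← Finset.sum_const]
    refine Finset.sum_congr rfl fun B hB => ?_
    have hB' : B ∈ cls (pick (cls A')) := hset ▸ hB
    obtain ⟨g, -, rfl⟩ := Finset.mem_image.1 hB'
    rw [Subgroup.card_map_of_injective (MulAut.conj g).injective]

end CfsgLib.InvChar
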