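import Cfsg.Agent.Lib.Blocks.WeakOrth
import Cfsg.Agent.Lib.Blocks.RootsMod
import Cfsg.Agent.Lib.Blk4.Modular
import Cfsg.Agent.Lib.Characters.Burnside
import Cfsg.Agent.Lib.Structure.SolvableRadical

/-!
# Kazarin: an element with prime power class size lies in the solvable radical
-/

set_option autoImplicit false
set_option linter.style.haveILetI false

namespace CfsgLib.InvChar

open Cfsg CfsgLib.Characters Subgroup

universe u

variable {G : Type u} [Group G] [Finite G]

open scoped Classical in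
/-- Some nontrivial irreducible character has `y` in its kernel. -/
theorem exists_char_ker {p k q : ℕ} (hp : p.Prime) (hq : q.Prime) (hqp : q ≠ p) (y : G)
    (hqy : ¬ q ∣ orderOf y) (hcl : (centralizer ({y} : Set G)).index ∣ p ^ k)
    (hqG : q ∣ Nat.card G) :
    ∃ (n : ℕ) (ρ : Representation ℂ G (Fin n → ℂ)),
      ρ y = 1 ∧ ∃ g, ρ g ≠ 1 := by
  have : Fintype G := Fintype.ofFinite G
  obtain ⟨M, hM⟩ := CfsgLib.Blk4.Modular.exists_isPModular q hq
  obtain ⟨j, -, hj⟩ := (Nat.dvd_prime_pow hp).1 hcl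
  by_contra hcon
  push Not at hcon
  set B := blockOf M (principalIrr G : G → ℂ) with hBdef
  have hB : IsPBlock M B := CfsgLib.Blocks.isPBlock_blockOf _
  -- degrees of the nontrivial block characters are divisible by `p`
  have hdiv : ∀ χ ∈ B, χ ≠ principalIrr G → ∃ e : ℕ, (χ : G → ℂ) 1 = (p : ℂ) * (e : ℂ) := by
    intro χ hχ hne
    obtain ⟨d, hd, -, -⟩ := irr_degree_dvd_card χ
    by_cases hpd : p ∣ d
    · obtain ⟨e, rfl⟩ := hpd
      exact ⟨e, by rw [hd]; push_cast; rfl⟩
    exfalso
    obtain ⟨_, n, ρ, hρ, rfl⟩ := χ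
    haveI := hρ
    haveI := CfsgLib.Characters.nontrivial_of_irreducible ρ
    change ρ.character 1 = _ at hd
    rw [Representation.char_one] at hd
    have hd' : d = Module.finrank ℂ (Fin n → ℂ) := by exact_mod_cast hd.symm
    have hn0 : (Module.finrank ℂ (Fin n → ℂ) : ℂ) ≠ 0 :=
      Nat.cast_ne_zero.2 Module.finrank_pos.ne'
    have hcop : Nat.Coprime (Module.finrank ℂ (Fin n → ℂ)) (Nat.card {x : G // IsConj y x}) := by
      rw [card_isConj_eq_index, hj, ← hd']
      exact ((hp.coprime_iff_not_dvd.mpr hpd).symm).pow_right j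
    have hmem := hχ y
    change MemLocalIdeal M (centralChar (fun _ : G => (1 : ℂ)) y - centralChar ρ.character y) at hmem
    rw [centralChar, centralChar, hj, Representation.char_one] at hmem
    have hqj : ¬ q ∣ p ^ j := fun h => hqp ((Nat.prime_dvd_prime_iff_eq hq hp).1 (hq.dvd_of_dvd_pow h))
    rcases CfsgLib.Burnside.eq_zero_or_norm_eq_of_coprime ρ y hcop with h0 | hnorm
    · refine hqj ((CfsgLib.Blocks.memLocalIdeal_natCast_iff hM _).1 ?_)
      simpa [h0] using hmem
    obtain ⟨c, hc⟩ := (norm_char_eq_iff_scalar ρ y).mp hnorm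
    have hval : ρ.character y = c * (Module.finrank ℂ (Fin n → ℂ) : ℂ) := by
      simp [Representation.character, hc]
    rw [hval] at hmem
    obtain ⟨v, hv⟩ := exists_ne (0 : Fin n → ℂ)
    have hpow : ∀ i : ℕ, ρ (y ^ i) v = c ^ i • v := by
      intro i
      induction i with
      | zero => simp
      | succ i ih =>
        rw [pow_succ', map_mul, Module.End.mul_apply, ih, map_smul, hc]
        simp [smul_smul, pow_succ]
    have hco : c ^ orderOf y = 1 := by
      have h := hpow (orderOf y)
      rw [pow_orderOf_eq_one, map_one, Module.End.one_apply] at h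
      exact smul_left_injective ℂ hv (show c ^ orderOf y • v = (1 : ℂ) • v by rw [one_smul]; exact h.symm)
    have hint : IsIntegral ℤ c := IsIntegral.of_pow (orderOf_pos y) (by rw [hco]; exact isIntegral_one)
    have hc1 : c = 1 := by
      let z : AlgInt := ⟨c, hint⟩
      have h2 : MemLocalIdeal M (((p ^ j : ℕ) : ℂ) * (1 - c)) := by
        convert hmem using 1
        field_simp
      rcases CfsgLib.Blocks.MemLocalIdeal.mul_cases hM
          (natCast_mem (CfsgLib.Blocks.lRing hM) _)
          ((CfsgLib.Blocks.lRing hM).sub_mem (CfsgLib.Blocks.lRing hM).one_mem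
            (CfsgLib.Blocks.isIntegral_mem_lRing hM hint)) h2 with h3 | h3
      · exact absurd ((CfsgLib.Blocks.memLocalIdeal_natCast_iff hM _).1 h3) hqj
      have h4 : z - 1 ∈ M := by
        rw [← CfsgLib.Blocks.memLocalIdeal_coe_iff hM]
        have := CfsgLib.Blocks.MemLocalIdeal.neg hM h3
        simpa [z] using this
      have h5 := CfsgLib.Blocks.rootOfUnity_eq_one_of_mem hM hqy
        (show z ^ orderOf y = 1 from Subtype.ext (by simpa [z] using hco)) h4
      simpa [z] using congrArg Subtype.val h5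
    have hρy : ρ y = 1 := by rw [hc, hc1, one_smul]; rfl
    have hall := hcon n ρ hρy
    refine hne (CfsgLib.Burnside.eq_one_of_irr_const (c := (Module.finrank ℂ (Fin n → ℂ) : ℂ)) fun g => ?_)
    change ρ.character g = _
    simp [Representation.character, hall g]
  haveI : Fact q.Prime := ⟨hq⟩
  obtain ⟨t, ht⟩ := exists_prime_orderOf_dvd_card' q hqG
  have h0 := CfsgLib.Blocks.weak_orth hM hB (x := (1 : G)) (y := t)
    (by rw [orderOf_one]; exact hq.not_dvd_one) (by rw [ht])
  have hP : principalIrr G ∈ Finset.univ.filter (· ∈ B) :=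
    Finset.mem_filter.2 ⟨Finset.mem_univ _, CfsgLib.Blocks.mem_blockOf_self hM _⟩
  rw [← Finset.add_sum_erase _ _ hP] at h0
  simp only [principalIrr_apply, map_one, mul_one] at h0
  have hint : ∀ χ ∈ (Finset.univ.filter (· ∈ B)).erase (principalIrr G),
      IsIntegral ℤ ((χ : G → ℂ) 1 * (starRingEnd ℂ) ((χ : G → ℂ) t) / (p : ℂ)) := by
    intro χ hχ
    obtain ⟨e, he⟩ := hdiv χ (Finset.mem_filter.1 (Finset.mem_of_mem_erase hχ)).2
      (Finset.ne_of_mem_erase hχ)
    rw [he, mul_assoc, mul_div_cancel_left₀ _ (Nat.cast_ne_zero.mpr hp.ne_zero)]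
    refine IsIntegral.mul (by simpa using (isIntegral_algebraMap (R := ℤ) (A := ℂ) (x := (e : ℤ)))) ?_
    rw [← irr_apply_inv]
    exact isIntegral_of_isCharacter (irr_isCharacter χ) _
  have h1 : IsIntegral ℤ ((1 : ℕ) / (p : ℕ) : ℂ) := by
    have := (IsIntegral.sum _ hint).neg
    rw [← Finset.sum_div, eq_neg_of_add_eq_zero_right h0] at this
    simpa [neg_div] using this
  exact hp.one_lt.ne' (Nat.dvd_one.mp (nat_dvd_of_isIntegral_div hp.ne_zero h1))

theorem relIndex_eq_relIndex_sup (C K : Subgroup G) [K.Normal] :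
    C.relIndex (C ⊔ K) = C.relIndex K := by
  have h1 := relIndex_mul_relIndex (C ⊓ K) C (C ⊔ K) inf_le_left le_sup_left
  have h2 := relIndex_mul_relIndex (C ⊓ K) K (C ⊔ K) inf_le_right le_sup_right
  rw [inf_relIndex_left] at h1
  rw [inf_relIndex_right, relIndex_sup_right] at h2
  exact mul_left_cancel₀ (fun h : K.relIndex C = 0 => (Nat.card_pos (α := C ⧸ K.subgroupOf C)).ne' h)
    (h1.trans (h2.symm.trans (mul_comm _ _)))

theorem relIndex_dvd_index_of_normal' (C K : Subgroup G) [K.Normal] : C.relIndex K ∣ C.index := by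
  rw [← relIndex_eq_relIndex_sup]
  exact Dvd.intro _ (relIndex_mul_index le_sup_left)

theorem relIndex_dvd_of_le_normalizer {C Y K : Subgroup G} (hKY : K ≤ Y)
    (hn : Y ≤ normalizer (K : Set G)) : C.relIndex K ∣ C.relIndex Y := by
  haveI hN : (K.subgroupOf Y).Normal := normal_subgroupOf_of_le_normalizer hn
  rw [← relIndex_subgroupOf (H := C) hKY]
  change _ ∣ (C.subgroupOf Y).index
  rw [← relIndex_eq_relIndex_sup]
  exact Dvd.intro _ (relIndex_mul_index le_sup_left)

omit [Finite G] in
theorem mem_normalizer_map_of_characteristic {H : Subgroup G} (R : Subgroup H) [hR : R.Characteristic]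
    {g : G} (hg : g ∈ normalizer (H : Set G)) : g ∈ normalizer ((R.map H.subtype : Subgroup G) : Set G) := by
  rw [mem_normalizer_iff''] at *
  intro h
  let e : H ≃* H :=
    { toFun := fun a => ⟨g⁻¹ * a * g, (hg _).1 a.2⟩
      invFun := fun a => ⟨g * a * g⁻¹, (hg _).2 (by simp [mul_assoc])⟩
      left_inv := fun a => Subtype.ext (by simp [mul_assoc])
      right_inv := fun a => Subtype.ext (by simp [mul_assoc])
      map_mul' := fun a b => Subtype.ext (by simp [mul_assoc]) }
  have he : R.comap e.toMonoidHom = R := hR.fixed e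
  constructor
  · rintro ⟨a, ha, rfl⟩
    exact ⟨e a, by rw [SetLike.mem_coe, ← he] at ha; exact ha, rfl⟩
  · rintro ⟨a, ha, haa⟩
    refine ⟨e.symm a, ?_, ?_⟩
    · rw [SetLike.mem_coe, ← he]
      simpa using ha
    · show g * (a : G) * g⁻¹ = h
      have haa' : (a : G) = g⁻¹ * h * g := haa
      rw [haa']
      simp [mul_assoc]

/-- The last term of the derived series of a subgroup. -/
theorem exists_perfect_core (K : Subgroup G) :
    ∃ K' : Subgroup G, K' ≤ K ∧ ⁅K', K'⁆ = K' ∧
      (∀ g ∈ normalizer (K : Set G), g ∈ normalizer (K' : Set G)) ∧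
      ∃ n, (derivedSeries K n).map K.subtype ≤ K' := by
  obtain ⟨n, hn⟩ : ∃ n, derivedSeries K (n + 1) = derivedSeries K n := by
    obtain ⟨a, b, hab, h⟩ := Finite.exists_ne_map_eq_of_infinite (derivedSeries K)
    wlog hlt : a < b generalizing a b
    · exact this b a hab.symm h.symm (lt_of_le_of_ne (not_lt.1 hlt) hab.symm)
    exact ⟨a, le_antisymm (derivedSeries_antitone K (Nat.le_succ a))
      (h.le.trans (derivedSeries_antitone K hlt))⟩
  refine ⟨(derivedSeries K n).map K.subtype, map_subtype_le _, ?_, ?_, n, le_rfl⟩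
  · rw [← map_commutator]
    exact congrArg _ ((derivedSeries_succ K n).symm.trans hn)
  · intro g hg
    exact mem_normalizer_map_of_characteristic _ hg

omit [Finite G] in
theorem isSolvable_inf_centralizer {K K' : Subgroup G}
    (hs : ∃ n, (derivedSeries K n).map K.subtype ≤ K') :
    Group.IsSolvable ↥(K ⊓ centralizer (K' : Set G) : Subgroup G) := by
  obtain ⟨n, hn⟩ := hs
  set L := K ⊓ centralizer (K' : Set G)
  refine ⟨⟨n + 1, ?_⟩⟩
  rw [derivedSeries_succ, commutator_eq_bot_iff_le_centralizer]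
  intro a ha b hb
  apply Subtype.ext
  have h1 : ∀ c ∈ derivedSeries L n, ((c : L) : G) ∈ K' := fun c hc =>
    hn ⟨inclusion (inf_le_left : L ≤ K) c,
      map_derivedSeries_le_derivedSeries (inclusion (inf_le_left : L ≤ K)) n ⟨c, hc, rfl⟩, rfl⟩
  exact mem_centralizer_iff.1 (inf_le_right (α := Subgroup G) a.2 : (a : G) ∈ centralizer (K' : Set G)) _ (h1 b hb)

theorem le_centralizer_of_class {p k r : ℕ} (hp : p.Prime) (hr : r.Prime) (y : G) (hy : orderOf y = r)
    (M : Subgroup G) (hperf : ⁅M, M⁆ = M)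
    (hfree : ∀ L : Subgroup G, L ≤ M → M ≤ normalizer (L : Set G) → Group.IsSolvable L → L = ⊥)
    (hyM : y ∈ normalizer (M : Set G))
    (hcl : (centralizer ({y} : Set G)).relIndex M ∣ p ^ k) :
    M ≤ centralizer ({y} : Set G) := by
  induction hm : Nat.card M using Nat.strong_induction_on generalizing M with
  | _ m ih =>
  subst hm
  rcases eq_or_ne M ⊥ with rfl | hM
  · exact bot_le
  obtain ⟨q, hq, hqM, hqp, hqr⟩ : ∃ q, q.Prime ∧ q ∣ Nat.card M ∧ q ≠ p ∧ q ≠ r := by
    by_contra hcon
    push Not at hcon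
    apply hM
    refine hfree M le_rfl le_normalizer ?_
    rcases eq_or_ne p r with rfl | hpr
    · have h := Nat.eq_prime_pow_of_unique_prime_dvd Nat.card_pos.ne'
        (fun {d} hd hd' => by by_contra h; exact h (hcon d hd hd' h))
      exact CfsgLib.Burnside.isSolvable_of_card_eq hp hp _ 0 (by simpa using h)
    · obtain ⟨t, ht⟩ : ∃ t, Nat.card M / p ^ (Nat.card M).factorization p = r ^ t := by
        refine ⟨_, Nat.eq_prime_pow_of_unique_prime_dvd (Nat.ordCompl_pos p Nat.card_pos.ne').ne'
          (fun {d} hd hd' => hcon d hd (hd'.trans (Nat.ordCompl_dvd _ _)) ?_)⟩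
        rintro rfl
        exact Nat.not_dvd_ordCompl hd Nat.card_pos.ne' hd'
      exact CfsgLib.Burnside.isSolvable_of_card_eq hp hr _ t
        (by rw [← ht, Nat.ordProj_mul_ordCompl_eq_self])
  set C := centralizer ({y} : Set G)
  have hyC : zpowers y ≤ C := by
    rw [zpowers_le]; exact mem_centralizer_singleton_iff.2 rfl
  set Y := M ⊔ zpowers y with hY
  have hMY : M ≤ Y := le_sup_left
  have hyY : y ∈ Y := (le_sup_right : zpowers y ≤ Y) (mem_zpowers y)
  have hYN : Y ≤ normalizer (M : Set G) := sup_le le_normalizer (by rwa [zpowers_le])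
  haveI hMn : (M.subgroupOf Y).Normal := normal_subgroupOf_of_le_normalizer hYN
  have hC' : centralizer ({(⟨y, hyY⟩ : Y)} : Set Y) = C.subgroupOf Y := by
    ext z
    simp [C, mem_subgroupOf, mem_centralizer_singleton_iff, Subtype.ext_iff]
  have hsup : C.subgroupOf Y ⊔ M.subgroupOf Y = ⊤ := by
    rw [eq_top_iff]
    have h1 : (⊤ : Subgroup Y) = M.subgroupOf Y ⊔ (zpowers y).subgroupOf Y := by
      rw [← subgroupOf_sup hMY le_sup_right, subgroupOf_self]
    rw [h1, sup_comm]
    exact sup_le_sup_right (comap_mono hyC) _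
  have hidx : (centralizer ({(⟨y, hyY⟩ : Y)} : Set Y)).index ∣ p ^ k := by
    rw [hC', ← relIndex_top_right, ← hsup, relIndex_eq_relIndex_sup, relIndex_subgroupOf hMY]
    exact hcl
  obtain ⟨n, ρ, hρy, g, hg⟩ := exists_char_ker (q := q) hp hq hqp (⟨y, hyY⟩ : Y)
    (by rw [Subgroup.orderOf_mk, hy]; exact fun h => hqr ((Nat.prime_dvd_prime_iff_eq hq hr).1 h))
    hidx (hqM.trans (Subgroup.card_dvd_of_le hMY))
  set K0 : Subgroup Y := MonoidHom.ker (ρ : Y →* _)
  haveI : K0.Normal := MonoidHom.normal_ker _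
  set K : Subgroup G := (K0 ⊓ M.subgroupOf Y).map Y.subtype with hK
  have hKM : K ≤ M := by
    rintro _ ⟨a, ⟨-, ha⟩, rfl⟩; exact ha
  have hKY : Y ≤ normalizer (K : Set G) := by
    haveI : (K0 ⊓ M.subgroupOf Y).Normal := inferInstance
    refine le_trans (le_of_eq ?_) ((le_normalizer_map (H := K0 ⊓ M.subgroupOf Y) Y.subtype))
    rw [normalizer_eq_top, ← MonoidHom.range_eq_map, range_subtype]
  have hlt : K < M := by
    refine lt_of_le_of_ne hKM fun heq => hg ?_
    have hM0 : M.subgroupOf Y ≤ K0 := by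
      intro a ha
      have : (a : G) ∈ K := by rw [heq]; exact ha
      obtain ⟨b, hb, hba⟩ := this
      exact Y.subtype_injective hba ▸ hb.1
    have htop : (⊤ : Subgroup Y) ≤ K0 := by
      rw [show (⊤ : Subgroup Y) = M.subgroupOf Y ⊔ (zpowers y).subgroupOf Y by
        rw [← subgroupOf_sup hMY le_sup_right, subgroupOf_self]]
      refine sup_le hM0 ?_
      rintro ⟨a, ha'⟩ ha
      obtain ⟨i, rfl⟩ := mem_zpowers_iff.1 (show a ∈ zpowers y from ha)
      have : (⟨y ^ i, ha'⟩ : Y) = (⟨y, hyY⟩ : Y) ^ i := Subtype.ext (by simp)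
      rw [this]
      exact zpow_mem (MonoidHom.mem_ker.2 hρy) i
    exact MonoidHom.mem_ker.1 (htop (mem_top g))
  obtain ⟨K', hK'K, hperf', hnorm', hsol'⟩ := exists_perfect_core K
  have hYK' : Y ≤ normalizer (K' : Set G) := fun a ha => hnorm' a (hKY ha)
  have hfree' : ∀ L : Subgroup G, L ≤ K' → K' ≤ normalizer (L : Set G) → Group.IsSolvable L → L = ⊥ := by
    intro L hL hLn hLs
    set R := (Cfsg.solvableRadical K').map K'.subtype
    haveI := CfsgLib.Structure.solvableRadical_normal (G := ↥K')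
    have hRn : M ≤ normalizer (R : Set G) := by
      intro a ha
      have ha' := hYK' (hMY ha)
      haveI := CfsgLib.Structure.solvableRadical_characteristic (G := ↥K')
      exact mem_normalizer_map_of_characteristic _ ha'
    have hR0 : R = ⊥ := by
      haveI := CfsgLib.Structure.isSolvable_solvableRadical (G := ↥K')
      exact hfree R ((map_subtype_le _).trans (hK'K.trans hKM)) hRn
        (Group.isSolvable_of_surjective (MonoidHom.subgroupMap_surjective _ _))
    haveI : (L.subgroupOf K').Normal := normal_subgroupOf_of_le_normalizer hLn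
    have h1 : L.subgroupOf K' ≤ Cfsg.solvableRadical K' :=
      CfsgLib.Structure.le_solvableRadical inferInstance
        (Group.isSolvable_of_surjective (f := (subgroupOfEquivOfLe hL).symm.toMonoidHom)
          (MulEquiv.surjective _))
    have h2 := map_mono (f := K'.subtype) h1
    rw [map_subgroupOf_eq_of_le hL] at h2
    exact le_bot_iff.1 (h2.trans hR0.le)
  have hind : K' ≤ C := by
    refine ih _ ?_ K' hperf' hfree' (hYK' hyY)
      (dvd_trans (relIndex_dvd_of_le_normalizer (hK'K.trans hKM) (hMY.trans hYK')) hcl) rfl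
    exact lt_of_le_of_lt (Subgroup.card_le_of_le hK'K)
      (Set.ncard_lt_ncard (SetLike.coe_ssubset_coe.2 hlt) (Set.toFinite _))
  set L := K ⊓ centralizer (K' : Set G)
  have hLn : M ≤ normalizer (L : Set G) := by
    intro a ha
    rw [mem_normalizer_iff]
    intro h
    have h1 := (mem_normalizer_iff.1 (hKY (hMY ha))) h
    have h2 := mem_normalizer_iff''.1 (hYK' (hMY ha))
    have h3 : h ∈ centralizer (K' : Set G) ↔ a * h * a⁻¹ ∈ centralizer (K' : Set G) := by
      simp only [mem_centralizer_iff, SetLike.mem_coe]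
      constructor
      · intro hh b hb
        have := hh _ ((h2 b).1 hb)
        calc b * (a * h * a⁻¹) = a * (a⁻¹ * b * a * h) * a⁻¹ := by group
          _ = a * (h * (a⁻¹ * b * a)) * a⁻¹ := by rw [this]
          _ = a * h * a⁻¹ * b := by group
      · intro hh b hb
        have hb' : a * b * a⁻¹ ∈ K' := (mem_normalizer_iff.1 (hYK' (hMY ha)) b).1 hb
        have := hh _ hb'
        calc b * h = a⁻¹ * (a * b * a⁻¹ * (a * h * a⁻¹)) * a := by group
          _ = a⁻¹ * (a * h * a⁻¹ * (a * b * a⁻¹)) * a := by rw [this]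
          _ = h * b := by group
    exact and_congr h1 h3
  have hL0 : L = ⊥ := hfree L (inf_le_left.trans hKM) hLn
    (isSolvable_inf_centralizer hsol')
  intro a ha
  have hyC' : ∀ b ∈ K', b * y = y * b := fun b hb => mem_centralizer_singleton_iff.1 (hind hb)
  have hc : a * y * a⁻¹ * y⁻¹ ∈ L := by
    refine ⟨?_, ?_⟩
    · refine ⟨⟨a, hMY ha⟩ * ⟨y, hyY⟩ * (⟨a, hMY ha⟩ : Y)⁻¹ * (⟨y, hyY⟩ : Y)⁻¹, ⟨?_, ?_⟩, rfl⟩
      · have hy0 : (⟨y, hyY⟩ : Y) ∈ K0 := MonoidHom.mem_ker.2 hρy
        exact K0.mul_mem (Subgroup.Normal.conj_mem inferInstance _ hy0 _) (K0.inv_mem hy0)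
      · show a * y * a⁻¹ * y⁻¹ ∈ M
        have := (mem_normalizer_iff.1 hyM a⁻¹).1 (inv_mem ha)
        simpa [mul_assoc] using mul_mem ha this
    · refine (centralizer (K' : Set G)).mul_mem ?_
        ((centralizer (K' : Set G)).inv_mem (fun b hb => hyC' b hb))
      intro b hb
      have := hyC' _ ((mem_normalizer_iff''.1 (hYK' (hMY ha)) b).1 hb)
      calc b * (a * y * a⁻¹) = a * (a⁻¹ * b * a * y) * a⁻¹ := by group
        _ = a * (y * (a⁻¹ * b * a)) * a⁻¹ := by rw [this]
        _ = a * y * a⁻¹ * b := by group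
  rw [hL0, mem_bot] at hc
  exact mem_centralizer_singleton_iff.2 (mul_inv_eq_iff_eq_mul.1 (mul_inv_eq_one.1 hc))

/-- With trivial solvable radical, a class of prime power size is trivial. -/
theorem eq_one_of_class {p k : ℕ} (hp : p.Prime) (hR : Cfsg.solvableRadical G = ⊥) (x : G)
    (hcl : (centralizer ({x} : Set G)).index ∣ p ^ k) : x = 1 := by
  by_contra hx
  obtain ⟨r, hr, hrx⟩ := Nat.exists_prime_and_dvd (fun h => hx (orderOf_eq_one_iff.1 h))
  set y := x ^ (orderOf x / r)
  have hy : orderOf y = r := orderOf_pow_orderOf_div (orderOf_pos x).ne' hrx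
  have hle : centralizer ({x} : Set G) ≤ centralizer ({y} : Set G) := fun a ha =>
    mem_centralizer_singleton_iff.2 ((show Commute a x from mem_centralizer_singleton_iff.1 ha).pow_right _).eq
  obtain ⟨M, -, hperf, hnorm, hsol⟩ := exists_perfect_core (⊤ : Subgroup G)
  have hN : ∀ g : G, g ∈ normalizer (M : Set G) := fun g => hnorm g (le_normalizer (mem_top g))
  haveI hMn : M.Normal := normalizer_eq_top_iff.1 (top_le_iff.1 fun g _ => hN g)
  have hMC : M ≤ centralizer ({y} : Set G) := by
    refine le_centralizer_of_class hp hr y hy M hperf ?_ (hN y) ?_ (k := k)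
    · intro L hL hLn hLs
      haveI := hLs
      have hs : (L.subgroupOf M).Normal := normal_subgroupOf_of_le_normalizer hLn
      have : L.IsSubnormal := by
        have h1 : (L.subgroupOf M).IsSubnormal := hs.isSubnormal
        have h2 := Subgroup.IsSubnormal.trans hL h1 hMn.isSubnormal
        exact h2
      exact le_bot_iff.1 ((CfsgLib.Structure.le_solvableRadical_of_isSubnormal this hLs).trans hR.le)
    · exact (relIndex_dvd_index_of_normal' _ M).trans ((index_dvd_of_le hle).trans hcl)
  have hsolC := isSolvable_inf_centralizer hsol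
  rw [top_inf_eq] at hsolC
  have hyC : y ∈ centralizer (M : Set G) := fun b hb => mem_centralizer_singleton_iff.1 (hMC hb)
  have h0 := CfsgLib.Structure.le_solvableRadical (normal_centralizer (H := M)) hsolC hyC
  rw [hR, mem_bot] at h0
  rw [h0, orderOf_one] at hy
  exact hr.one_lt.ne hy

/-- Kazarin's theorem: an element with prime power class size lies in the solvable radical. -/
theorem mem_solvableRadical_of_class {p k : ℕ} (hp : p.Prime) (x : G)
    (hcl : (centralizer ({x} : Set G)).index ∣ p ^ k) : x ∈ Cfsg.solvableRadical G := by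
  haveI := CfsgLib.Structure.solvableRadical_normal (G := G)
  set q := QuotientGroup.mk' (Cfsg.solvableRadical G)
  have hle : (centralizer ({x} : Set G)).map q ≤ centralizer ({q x} : Set (G ⧸ Cfsg.solvableRadical G)) := by
    rintro _ ⟨a, ha, rfl⟩
    rw [mem_centralizer_singleton_iff, ← map_mul, ← map_mul, mem_centralizer_singleton_iff.1 ha]
  exact (QuotientGroup.eq_one_iff x).1 (eq_one_of_class hp CfsgLib.Structure.solvableRadical_quotient (q x)
    ((index_dvd_of_le hle).trans ((index_map_dvd (H := centralizer ({x} : Set G)) (QuotientGroup.mk'_surjective _)).trans hcl)))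

end CfsgLib.InvChar
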