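import Mathlib

/-!
# Solvability of small groups: symmetric groups of degree at most 4, groups of order dividing 40
-/

namespace CfsgLib.InvCharSmall

/-- The double transpositions and the identity, as a subgroup of `S₄`. -/
def fourGroup : Subgroup (Equiv.Perm (Fin 4)) where
  carrier := {g | g * g = 1 ∧ Equiv.Perm.sign g = 1}
  one_mem' := by simp
  mul_mem' := by
    intro a b ha hb
    exact (by decide +kernel : ∀ a b : Equiv.Perm (Fin 4), a * a = 1 ∧ Equiv.Perm.sign a = 1 →
      b * b = 1 ∧ Equiv.Perm.sign b = 1 → (a * b) * (a * b) = 1 ∧ Equiv.Perm.sign (a * b) = 1) a b ha hb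
  inv_mem' := by
    rintro a ⟨ha, hs⟩
    exact ⟨by rw [← mul_inv_rev, ha, inv_one], by simp [hs]⟩

theorem isSolvable_perm_four : Group.IsSolvable (Equiv.Perm (Fin 4)) := by
  have h1 : derivedSeries (Equiv.Perm (Fin 4)) 1 ≤ MonoidHom.ker (Equiv.Perm.sign (α := Fin 4)) := by
    rw [derivedSeries_succ, derivedSeries_zero, Subgroup.commutator_le]
    intro a _ b _
    rw [MonoidHom.mem_ker, map_commutatorElement, commutatorElement_eq_one_iff_commute]
    exact Commute.all _ _
  have h2 : derivedSeries (Equiv.Perm (Fin 4)) 2 ≤ fourGroup := by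
    rw [derivedSeries_succ, Subgroup.commutator_le]
    intro a ha b hb
    exact (by decide +kernel : ∀ a b : Equiv.Perm (Fin 4), Equiv.Perm.sign a = 1 → Equiv.Perm.sign b = 1 →
      (a * b * a⁻¹ * b⁻¹) * (a * b * a⁻¹ * b⁻¹) = 1 ∧ Equiv.Perm.sign (a * b * a⁻¹ * b⁻¹) = 1) a b (h1 ha) (h1 hb)
  refine ⟨⟨3, ?_⟩⟩
  rw [derivedSeries_succ, eq_bot_iff, Subgroup.commutator_le]
  intro a ha b hb
  rw [Subgroup.mem_bot, commutatorElement_eq_one_iff_commute]
  exact (by decide +kernel : ∀ a b : Equiv.Perm (Fin 4), a * a = 1 ∧ Equiv.Perm.sign a = 1 →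
      b * b = 1 ∧ Equiv.Perm.sign b = 1 → a * b = b * a) a b (h2 ha) (h2 hb)

theorem isSolvable_perm_of_card_le_four {α : Type*} [Finite α] (h : Nat.card α ≤ 4) :
    Group.IsSolvable (Equiv.Perm α) := by
  have := Fintype.ofFinite α
  have := isSolvable_perm_four
  rw [Nat.card_eq_fintype_card, ← Fintype.card_fin 4] at h
  obtain ⟨f⟩ := Function.Embedding.nonempty_of_card_le h
  exact Group.isSolvable_of_isSolvable_injective (Equiv.Perm.viaEmbeddingHom_injective f)

theorem isSolvable_of_forall_orderOf {G : Type*} [Group G] [Finite G] (p : ℕ) [Fact p.Prime]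
    (h : IsPGroup p G) : Group.IsSolvable G :=
  have := h.isNilpotent
  inferInstance

/-- A group of order dividing 40 is solvable. -/
theorem isSolvable_of_card_dvd_forty {G : Type*} [Group G] [Finite G] (h : Nat.card G ∣ 40) :
    Group.IsSolvable G := by
  have : Fact (Nat.Prime 5) := ⟨by norm_num⟩
  have : Fact (Nat.Prime 2) := ⟨Nat.prime_two⟩
  let P : Sylow 5 G := default
  have h1 : Nat.card (Sylow 5 G) ∣ 40 := (P.card_dvd_index.trans (Subgroup.index_dvd_card _)).trans h
  have h3 := card_sylow_modEq_one 5 G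
  have hle : Nat.card (Sylow 5 G) ≤ 40 := Nat.le_of_dvd (by norm_num) h1
  have hone : Nat.card (Sylow 5 G) = 1 := by
    unfold Nat.ModEq at h3
    interval_cases hk : Nat.card (Sylow 5 G) <;> omega
  have hsub : Subsingleton (Sylow 5 G) := (Nat.card_eq_one_iff_unique.1 hone).1
  have : (P : Subgroup G).Normal := P.normal_of_subsingleton
  have hP : Group.IsSolvable (P : Subgroup G) := isSolvable_of_forall_orderOf 5 P.2
  have hQ : Group.IsSolvable (G ⧸ (P : Subgroup G)) := by
    apply isSolvable_of_forall_orderOf 2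
    rw [IsPGroup.iff_card]
    have h5 : ¬ 5 ∣ (P : Subgroup G).index := P.not_dvd_index
    have hidx : (P : Subgroup G).index ∣ 40 := (Subgroup.index_dvd_card _).trans h
    have h8 : (P : Subgroup G).index ∣ 8 :=
      ((Nat.Prime.coprime_iff_not_dvd (by norm_num)).2 h5).symm.dvd_of_dvd_mul_left
        (by norm_num; exact hidx)
    obtain ⟨i, -, hi⟩ := (Nat.dvd_prime_pow Nat.prime_two (m := 3)).1 h8
    exact ⟨i, by rw [← Subgroup.index]; exact hi⟩
  exact Group.isSolvable_of_ker_le_range (P : Subgroup G).subtype (QuotientGroup.mk' (P : Subgroup G)) (by simp)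

end CfsgLib.InvCharSmall
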