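import Mathlib
import Cfsg.Agent.Lib.PCore.Basic
import Cfsg.Agent.Lib.Solvable.Fitting
import Cfsg.Prelude.Def_CaseTheorems
import Cfsg.Prelude.Def_Transfer

/-! Solvable groups with trivial odd core: the 2-core controls everything. -/

set_option autoImplicit false

namespace CfsgLib.InvChar

open Cfsg Subgroup

variable {G : Type*} [Group G]

theorem centralizer_pCore_le [Finite G] [Group.IsSolvable G] {p : ℕ} [hp : Fact p.Prime]
    (hO : pPrimeCore p G = ⊥) : centralizer (pCore p G : Set G) ≤ pCore p G := by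
  have hF : Cfsg.fittingSubgroup G = pCore p G := by
    refine le_antisymm ?_ (CfsgLib.Fitting.pCore_le_fitting hp.out)
    rw [CfsgLib.Fitting.fitting_eq_iSup_pCore]
    refine iSup_le fun q => ?_
    by_cases hq : (q : ℕ) = p
    · rw [hq]
    · have hqp := Nat.prime_of_mem_primeFactors q.2
      have : Fact (q : ℕ).Prime := ⟨hqp⟩
      refine le_trans (CfsgLib.PCore.le_pPrimeCore (p := p) (pCore_normal _ _) ?_) (by rw [hO]; exact bot_le)
      obtain ⟨k, hk⟩ := IsPGroup.iff_card.1 (CfsgLib.PCore.pCore_isPGroup (p := (q : ℕ)) (G := G))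
      rw [hk]
      exact Nat.Coprime.pow_left k ((Nat.coprime_primes hqp hp.out).2 hq)
  have := CfsgLib.Fitting.centralizer_fitting_le (G := G)
  rwa [hF] at this

/-- An element of odd order normalizing a cyclic 2-subgroup centralizes it. -/
theorem commute_of_odd_of_cyclic [Finite G] {g : G} (hg : Odd (orderOf g)) (R : Subgroup G)
    (hR : IsPGroup 2 ↥R) [IsCyclic ↥R] (hn : g ∈ normalizer (R : Set G)) {r : G} (hr : r ∈ R) :
    g * r = r * g := by
  let φ : MulAut ↥R := Subgroup.normalizerMonoidHom R ⟨g, hn⟩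
  have h1 : orderOf φ ∣ orderOf g :=
    (orderOf_map_dvd _ _).trans (by simp [Subgroup.orderOf_mk])
  have h2 : orderOf φ ∣ Nat.card (MulAut ↥R) := orderOf_dvd_natCard _
  obtain ⟨k, hk⟩ := IsPGroup.iff_card.1 hR
  rw [IsCyclic.card_mulAut, hk] at h2
  have h3 : orderOf φ = 1 := by
    rcases k with _ | k
    · simpa using h2
    · rw [Nat.totient_prime_pow_succ Nat.prime_two, show 2 - 1 = 1 from rfl, mul_one] at h2
      exact Nat.eq_one_of_dvd_coprimes ((Nat.coprime_two_right.2 hg).pow_right k) h1 h2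
  have h4 : φ = 1 := orderOf_eq_one_iff.1 h3
  have h5 : ((φ ⟨r, hr⟩ : ↥R) : G) = g * r * g⁻¹ := rfl
  rw [h4] at h5
  exact (eq_mul_inv_iff_mul_eq.1 h5).symm

/-- An element of odd order stabilising `1 ≤ R ≤ Q` with trivial action on the factors is trivial. -/
theorem commute_of_odd_of_chain [Finite G] {g y r : G} (hg : Odd (orderOf g))
    (hr : ∃ k : ℕ, r ^ 2 ^ k = 1) (hgr : g * r = r * g) (hy : g * y * g⁻¹ = y * r) :
    g * y = y * g := by
  have key : ∀ k : ℕ, g ^ k * y * (g ^ k)⁻¹ = y * r ^ k := by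
    intro k
    induction k with
    | zero => simp
    | succ k ih =>
      have hc : g * r ^ k * g⁻¹ = r ^ k := by
        rw [((show Commute g r from hgr).pow_right k).eq, mul_inv_cancel_right]
      calc g ^ (k + 1) * y * (g ^ (k + 1))⁻¹ = g * (g ^ k * y * (g ^ k)⁻¹) * g⁻¹ := by group
        _ = g * (y * r ^ k) * g⁻¹ := by rw [ih]
        _ = (g * y * g⁻¹) * (g * r ^ k * g⁻¹) := by group
        _ = y * r * r ^ k := by rw [hy, hc]
        _ = y * r ^ (k + 1) := by rw [mul_assoc, ← pow_succ']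
  have h1 := key (orderOf g)
  simp only [pow_orderOf_eq_one, one_mul, inv_one, mul_one] at h1
  obtain ⟨k, hk⟩ := hr
  have h2 : orderOf r ∣ orderOf g := orderOf_dvd_of_pow_eq_one (mul_left_cancel (a := y) (by
    rw [mul_one]; exact h1.symm))
  have h3 : orderOf r = 1 :=
    Nat.eq_one_of_dvd_coprimes ((Nat.coprime_two_right.2 hg).pow_right k) h2
      (orderOf_dvd_of_pow_eq_one hk)
  rw [orderOf_eq_one_iff.1 h3, mul_one] at hy
  exact mul_inv_eq_iff_eq_mul.1 hy

/-- If every element of odd order centralizes `O₂(G)`, where `G` is solvable with trivial odd core,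
then `G` is a 2-group. -/
theorem isPGroup_two_of_odd_centralize [Finite G] [Group.IsSolvable G] (hO : oddCore G = ⊥)
    (h : ∀ g : G, Odd (orderOf g) → ∀ x ∈ pCore 2 G, g * x = x * g) : IsPGroup 2 G := by
  rw [IsPGroup.iff_card]
  refine ⟨(Nat.card G).primeFactorsList.length,
    Nat.eq_prime_pow_of_unique_prime_dvd Nat.card_pos.ne' ?_⟩
  intro q hq hdvd
  by_contra hne
  have : Fact q.Prime := ⟨hq⟩
  obtain ⟨g, hg⟩ := exists_prime_orderOf_dvd_card' q hdvd
  have hmem : g ∈ centralizer (pCore 2 G : Set G) := fun x hx =>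
    (h g (by rw [hg]; exact hq.odd_of_ne_two hne) x hx).symm
  have h2 := centralizer_pCore_le hO hmem
  obtain ⟨k, hk⟩ := CfsgLib.PCore.pCore_isPGroup (p := 2) (G := G) ⟨g, h2⟩
  have hk' : g ^ 2 ^ k = 1 := congrArg Subtype.val hk
  have h3 := orderOf_dvd_of_pow_eq_one hk'
  rw [hg] at h3
  exact hne ((Nat.prime_dvd_prime_iff_eq hq Nat.prime_two).1 (hq.dvd_of_dvd_pow h3))

/-- A Sylow 2-subgroup is isomorphic to its image modulo the odd core. -/
theorem exists_sylow_quotient_equiv [Finite G] (T : Sylow 2 G) :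
    ∃ T' : Sylow 2 (G ⧸ oddCore G), Nonempty (↥(T : Subgroup G) ≃* ↥(T' : Subgroup (G ⧸ oddCore G))) := by
  refine ⟨T.mapSurjective (QuotientGroup.mk'_surjective _), ?_⟩
  have hinj : Function.Injective ((QuotientGroup.mk' (oddCore G)).subgroupMap (T : Subgroup G)) := by
    rw [injective_iff_map_eq_one]
    rintro ⟨x, hx⟩ h
    have h' : (QuotientGroup.mk' (oddCore G)) x = 1 := congrArg Subtype.val h
    rw [QuotientGroup.mk'_apply, QuotientGroup.eq_one_iff] at h'
    have hb := CfsgLib.PCore.inf_eq_bot_of_isPGroup_coprime (p := 2) T.isPGroup'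
      (CfsgLib.PCore.pPrimeCore_coprime (G := G))
    have : x ∈ (T : Subgroup G) ⊓ oddCore G := ⟨hx, h'⟩
    rw [hb, mem_bot] at this
    exact Subtype.ext this
  refine ⟨(MulEquiv.ofBijective _ ⟨hinj, MonoidHom.subgroupMap_surjective _ _⟩).trans
    (MulEquiv.subgroupCongr ?_)⟩
  exact (Sylow.coe_mapSurjective _ _).symm

theorem oddCore_quotient_oddCore [Finite G] : oddCore (G ⧸ oddCore G) = ⊥ :=
  CfsgLib.PCore.pPrimeCore_quotient_pPrimeCore

/-- If the quotient by the odd core is a 2-group there is a normal 2-complement. -/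
theorem hasNormalPComplement_of_isPGroup_quotient [Finite G]
    (h : IsPGroup 2 (G ⧸ oddCore G)) : HasNormalPComplement 2 G := by
  obtain ⟨T⟩ := (inferInstance : Nonempty (Sylow 2 G))
  refine ⟨T, oddCore G, pPrimeCore_normal _ _, ?_⟩
  obtain ⟨T', ⟨e⟩⟩ := exists_sylow_quotient_equiv T
  have htop : (T' : Subgroup (G ⧸ oddCore G)) = ⊤ :=
    (T'.is_maximal' (h.of_equiv topEquiv.symm) le_top).symm
  refine isComplement'_of_card_mul_and_disjoint ?_ (disjoint_iff.2 ?_)
  · rw [Nat.card_congr e.toEquiv, htop, card_top, mul_comm, ← Subgroup.card_eq_card_quotient_mul_card_subgroup]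
  · rw [inf_comm]
    exact CfsgLib.PCore.inf_eq_bot_of_isPGroup_coprime T.isPGroup' CfsgLib.PCore.pPrimeCore_coprime

end CfsgLib.InvChar
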