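import Mathlib
import Cfsg.Prelude.Def_Solvable
import Cfsg.Prelude.Def_CaseTheorems
import Cfsg.Agent.Lib.PLocal.Constraint
import Cfsg.Agent.Lib.Involutions.Basic
import Cfsg.Agent.Lib.Components.Local

/-!
Cores of centralizers of involutions: balance for constrained centralizers, and the elementary
signalizer argument when some involution of a central position has trivial core.
-/

set_option autoImplicit false

namespace CfsgLib.InvChar.InvolutionCores

open Subgroup CfsgLib.Involutions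

variable {G : Type*} [Group G]

/-- The core of the centralizer of an element, inside the group. -/
noncomputable def cc (a : G) : Subgroup G :=
  (Cfsg.pPrimeCore 2 ↥(centralizer ({a} : Set G))).map (centralizer ({a} : Set G)).subtype

theorem cc_le (a : G) : cc a ≤ centralizer ({a} : Set G) := map_subtype_le _

theorem commute_of_mem_cc {a x : G} (hx : x ∈ cc a) : Commute x a :=
  mem_centralizer_singleton_iff.1 (cc_le a hx)

theorem conj_mem_cc {a x g : G} (hg : Commute g a) (hx : x ∈ cc a) : g * x * g⁻¹ ∈ cc a := by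
  obtain ⟨y, hy, rfl⟩ := hx
  exact ⟨⟨g, mem_centralizer_singleton_iff.2 hg.eq⟩ * y *
    (⟨g, mem_centralizer_singleton_iff.2 hg.eq⟩)⁻¹,
    (Cfsg.pPrimeCore_normal 2 _).conj_mem _ hy _, rfl⟩

variable [Finite G]

theorem odd_card_cc (a : G) : Odd (Nat.card ↥(cc a)) := by
  rw [cc, ← Nat.card_congr (equivMapOfInjective _ _ (Subgroup.subtype_injective _)).toEquiv]
  exact Nat.not_even_iff_odd.1 fun h =>
    CfsgLib.PCore.not_dvd_card_pPrimeCore (even_iff_two_dvd.1 h)

theorem odd_orderOf_cc {a x : G} (hx : x ∈ cc a) : Odd (orderOf x) :=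
  (odd_card_cc a).of_dvd_nat (orderOf_dvd_natCard _ hx)

theorem le_cc {a : G} {Y : Subgroup G} (hY : Y ≤ centralizer ({a} : Set G))
    (hodd : Odd (Nat.card ↥Y))
    (hn : ∀ g, Commute g a → ∀ y ∈ Y, g * y * g⁻¹ ∈ Y) : Y ≤ cc a := by
  intro y hy
  refine ⟨⟨y, hY hy⟩, ?_, rfl⟩
  have : (Y.subgroupOf (centralizer ({a} : Set G))).Normal :=
    ⟨fun u hu g => hn g (mem_centralizer_singleton_iff.1 g.2) u hu⟩
  refine CfsgLib.PCore.le_pPrimeCore this ?_ (show (⟨y, hY hy⟩ : ↥(centralizer ({a} : Set G))) ∈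
    Y.subgroupOf (centralizer ({a} : Set G)) from hy)
  rw [Nat.card_congr (subgroupOfEquivOfLe hY).toEquiv]
  exact Nat.coprime_comm.1 ((Nat.prime_two.coprime_iff_not_dvd).2 fun h =>
    Nat.not_even_iff_odd.2 hodd (even_iff_two_dvd.2 h))

/-- Conjugation carries cores to cores. -/
theorem cc_conj {a x : G} (g : G) (hx : x ∈ cc a) : g * x * g⁻¹ ∈ cc (g * a * g⁻¹) := by
  refine le_cc (Y := (cc a).map (MulAut.conj g).toMonoidHom) ?_ ?_ ?_ ⟨x, hx, rfl⟩
  · rintro _ ⟨y, hy, rfl⟩
    exact mem_centralizer_singleton_iff.2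
      ((commute_of_mem_cc hy).map (MulAut.conj g).toMonoidHom).eq
  · rw [← Nat.card_congr (equivMapOfInjective _ _ (MulAut.conj g).injective).toEquiv]
    exact odd_card_cc a
  · rintro h hh _ ⟨y, hy, rfl⟩
    refine ⟨g⁻¹ * h * g * y * (g⁻¹ * h * g)⁻¹, conj_mem_cc ?_ hy, ?_⟩
    · have h' := hh.map (MulAut.conj g⁻¹).toMonoidHom
      simpa [mul_assoc] using h'
    · show g * (g⁻¹ * h * g * y * (g⁻¹ * h * g)⁻¹) * g⁻¹ = h * (g * y * g⁻¹) * h⁻¹
      group

/-- `C(a)` is constrained. -/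
def Con (a : G) : Prop := Cfsg.IsPConstrained 2 ↥(centralizer ({a} : Set G))

/-- Balance: what centralizes `a` in the core of `C(b)` is in the core of `C(a)`. -/
theorem balance {a b y : G} (ha : Con a) (hb : orderOf b = 2) (hab : Commute a b)
    (hy : y ∈ cc b) (hya : Commute y a) : y ∈ cc a := by
  classical
  have : Fact (Nat.Prime 2) := ⟨Nat.prime_two⟩
  set N := centralizer ({a} : Set G) with hN
  set O := Cfsg.pPrimeCore 2 ↥N with hO
  have : O.Normal := Cfsg.pPrimeCore_normal 2 _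
  set y' : ↥N := ⟨y, mem_centralizer_singleton_iff.2 hya.eq⟩ with hy'
  set b' : ↥N := ⟨b, mem_centralizer_singleton_iff.2 hab.symm.eq⟩ with hb'
  have hb'2 : orderOf b' = 2 := by rw [← Subgroup.orderOf_coe]; exact hb
  set q := QuotientGroup.mk' O with hq
  set R := Cfsg.pCore 2 (↥N ⧸ O) with hR
  have hchar : centralizer (R : Set (↥N ⧸ O)) ≤ R := CfsgLib.PLocal.isPConstrained_iff.1 ha
  have hyodd : (orderOf (q y')).Coprime 2 := by
    refine Nat.coprime_comm.1 ((Nat.prime_two.coprime_iff_not_dvd).2 fun h => ?_)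
    have h1 : 2 ∣ orderOf y := Subgroup.orderOf_coe y' ▸ h.trans (orderOf_map_dvd q y')
    exact Nat.not_even_iff_odd.2 (odd_orderOf_cc hy) (even_iff_two_dvd.2 h1)
  have hRp : IsPGroup 2 ↥R := CfsgLib.LocalEvenCharP.isPGroup_pCore 2 _
  have hRn : R.Normal := Cfsg.pCore_normal 2 _
  have hNR : normalizer (R : Set (↥N ⧸ O)) = ⊤ := normalizer_eq_top_iff.2 hRn
  have hcy : Commute (q y') (q b') :=
    (show Commute y' b' from Subtype.ext (commute_of_mem_cc hy).eq).map q
  have hfix : ∀ r ∈ R, r ∈ centralizer ((zpowers (q b') : Subgroup (↥N ⧸ O)) : Set (↥N ⧸ O)) →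
      q y' * r = r * q y' := by
    intro r hr hrb
    obtain ⟨r', rfl⟩ := QuotientGroup.mk'_surjective O r
    have hcop : (Nat.card ↥O).Coprime 2 := CfsgLib.PCore.pPrimeCore_coprime
    obtain ⟨n, hn, hnr⟩ := CfsgLib.PLocal.exists_mul_mem_centralizer (p := 2) hcop
      (P := zpowers b') (IsPGroup.of_card (n := 1) (by rw [Nat.card_zpowers, hb'2, pow_one]))
      (x := r') (by rw [MonoidHom.map_zpowers]; exact hrb)
    have hnr' : q (n * r') = q r' := by
      rw [map_mul, show q n = 1 from (QuotientGroup.eq_one_iff n).2 hn, one_mul]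
    have hcb : Commute ((n * r' : ↥N) : G) b :=
      (congrArg Subtype.val (mem_centralizer_iff.1 hnr b' (mem_zpowers b'))).symm
    -- the commutator is in the core of `C(b)` and in `R`
    set d : ↥N := y' * (n * r') * y'⁻¹ * (n * r')⁻¹ with hd
    have hdY : (d : G) ∈ cc b := by
      have h1 := conj_mem_cc hcb ((cc b).inv_mem hy)
      have h2 := (cc b).mul_mem hy h1
      simpa [hd, hy', mul_assoc] using h2
    have hdR : q d ∈ R := by
      rw [hd, map_mul, map_mul, map_mul, map_inv, map_inv, hnr']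
      exact R.mul_mem (hRn.conj_mem _ hr _) (R.inv_mem hr)
    have hd1 : q d = 1 := by
      refine CfsgLib.LocalEvenCharP.eq_one_of_coprime_of_mem hRp hdR ?_
      refine Nat.coprime_comm.1 ((Nat.prime_two.coprime_iff_not_dvd).2 fun h => ?_)
      have h1 : 2 ∣ orderOf (d : G) := Subgroup.orderOf_coe d ▸ h.trans (orderOf_map_dvd q d)
      exact Nat.not_even_iff_odd.2 (odd_orderOf_cc hdY) (even_iff_two_dvd.2 h1)
    rw [hd, map_mul, map_mul, map_mul, map_inv, map_inv, hnr', mul_inv_eq_one,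
      mul_inv_eq_iff_eq_mul] at hd1
    exact hd1
  have hyR : q y' ∈ centralizer (R : Set (↥N ⧸ O)) :=
    CfsgLib.Components.mem_centralizer_of_AxB hRp
      (IsPGroup.of_card (n := if q b' = 1 then 0 else 1) (by
        split_ifs with h
        · rw [h, zpowers_one_eq_bot, card_bot, pow_zero]
        · rw [Nat.card_zpowers, pow_one, orderOf_eq_prime (p := 2) ?_ h]
          rw [← map_pow, show b' ^ 2 = 1 from hb'2 ▸ pow_orderOf_eq_one b', map_one]))
      (hNR ▸ le_top) (hNR ▸ mem_top _)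
      (mem_centralizer_iff.2 fun u hu => by
        obtain ⟨k, rfl⟩ := mem_zpowers_iff.1 hu
        exact (hcy.zpow_right k).eq.symm) hyodd hfix
  have h1 := CfsgLib.LocalEvenCharP.eq_one_of_coprime_of_mem hRp (hchar hyR) hyodd
  exact ⟨y', (QuotientGroup.eq_one_iff y').1 h1, rfl⟩

/-- An involution with no fixed points on a group of odd order inverts it. -/
theorem inverts {v : G} (hv2 : v * v = 1) (K : Subgroup G)
    (hvK : ∀ x ∈ K, v * x * v⁻¹ ∈ K) (hv : ∀ x ∈ K, Commute x v → x = 1) :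
    ∀ x ∈ K, v * x * v⁻¹ = x⁻¹ := by
  intro x hx
  let f : ↥K → ↥K := fun y => ⟨(y : G)⁻¹ * (v * (y : G) * v⁻¹), K.mul_mem (K.inv_mem y.2) (hvK _ y.2)⟩
  have hf : Function.Injective f := by
    intro a b h
    have h' : (a : G)⁻¹ * (v * (a : G) * v⁻¹) = (b : G)⁻¹ * (v * (b : G) * v⁻¹) :=
      congrArg Subtype.val h
    refine Subtype.ext (mul_inv_eq_one.1 (hv _ (K.mul_mem b.2 (K.inv_mem a.2)) ?_)).symm
    refine (mul_inv_eq_iff_eq_mul.1 (?_ : v * ((b : G) * (a : G)⁻¹) * v⁻¹ = _)).symm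
    calc v * ((b : G) * (a : G)⁻¹) * v⁻¹ = (v * b * v⁻¹) * (v * a * v⁻¹)⁻¹ := by group
      _ = ((b : G) * ((b : G)⁻¹ * (v * b * v⁻¹))) * ((a : G) * ((a : G)⁻¹ * (v * a * v⁻¹)))⁻¹ := by
        group
      _ = _ := by rw [h']; group
  obtain ⟨y, hy⟩ := (Finite.injective_iff_surjective.1 hf) ⟨x, hx⟩
  have hy' : (y : G)⁻¹ * (v * (y : G) * v⁻¹) = x := congrArg Subtype.val hy
  have hvi : v⁻¹ = v := inv_eq_of_mul_eq_one_right hv2
  rw [← hy', hvi]
  simp only [mul_inv_rev, inv_inv, hvi, mul_assoc, hv2, mul_one]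

/-- Split an element along a commuting pair `x`, `e x e`. -/
theorem exists_split {e x : G} (he : e * e = 1) (hx : Odd (orderOf x))
    (hcomm : Commute x (e * x * e)) : ∃ u v : G, x = u * v ∧ Commute u e ∧ e * v * e = v⁻¹ ∧
      u ∈ closure ({x, e * x * e} : Set G) ∧ v ∈ closure ({x, e * x * e} : Set G) := by
  obtain ⟨m, hm⟩ := hx
  set y := e * x * e with hy
  have hyx : e * y * e = x := by
    rw [hy, show e * (e * x * e) * e = (e * e) * x * (e * e) by group, he, one_mul, mul_one]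
  have hinv : e⁻¹ = e := inv_eq_of_mul_eq_one_right he
  have hmap : ∀ w : G, e * w * e = MulAut.conj e w := fun w => by
    rw [MulAut.conj_apply, hinv]
  have hX : x ∈ closure ({x, y} : Set G) := subset_closure (Or.inl rfl)
  have hY : y ∈ closure ({x, y} : Set G) := subset_closure (Or.inr rfl)
  refine ⟨(x * y) ^ (m + 1), (x * y⁻¹) ^ (m + 1), ?_, ?_, ?_,
    pow_mem (mul_mem hX hY) _, pow_mem (mul_mem hX (inv_mem hY)) _⟩
  · have h1 : x ^ (2 * m + 1) = 1 := hm ▸ pow_orderOf_eq_one x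
    have hc : Commute (x * y) (x * y⁻¹) :=
      ((Commute.refl x).mul_right hcomm.inv_right).mul_left
        (hcomm.symm.mul_right (Commute.refl y).inv_right)
    rw [← hc.mul_pow, show x * y * (x * y⁻¹) = x * (y * x) * y⁻¹ by group, ← hcomm.eq,
      show x * (x * y) * y⁻¹ = x * x by group, ← pow_two, ← pow_mul,
      show 2 * (m + 1) = (2 * m + 1) + 1 by ring, pow_succ, h1, one_mul]
  · refine Commute.pow_left ?_ _
    have h1 : e * (x * y) * e = x * y := by
      rw [show e * (x * y) * e = (e * x * e) * (e * y * e) by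
        rw [show (e * x * e) * (e * y * e) = e * x * (e * e) * y * e by group, he]; group,
        hyx, ← hy, ← hcomm.eq]
    calc x * y * e = e * (x * y) * e * e := by rw [h1]
      _ = e * (x * y) := by rw [mul_assoc _ e e, he, mul_one]
  · rw [hmap, map_pow, ← inv_pow]
    congr 1
    rw [map_mul, map_inv, ← hmap, ← hmap, hyx, ← hy, mul_inv_rev, inv_inv]

variable {E : Subgroup G} {z : G}

/-- The hypotheses on the four-generated elementary group `E`. -/
structure Setting (E : Subgroup G) (z : G) : Prop where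
  sq : ∀ a ∈ E, a * a = 1
  comm : ∀ a ∈ E, ∀ b ∈ E, Commute a b
  big : 4 < Nat.card ↥E
  zmem : z ∈ E
  zne : z ≠ 1
  zcore : cc z = ⊥
  con : ∀ a ∈ E, a ≠ 1 → Con a

variable (h : Setting E z)

include h

omit [Finite G] in
theorem Setting.ord {a : G} (ha : a ∈ E) (ha1 : a ≠ 1) : orderOf a = 2 :=
  orderOf_eq_two_iff_mul.2 ⟨ha1, h.sq a ha⟩

theorem Setting.abelian {a x y : G} (ha : a ∈ E) (ha1 : a ≠ 1) (hx : x ∈ cc a) (hy : y ∈ cc a) :
    Commute x y := by
  have hz : ∀ w ∈ cc a, z * w * z⁻¹ = w⁻¹ :=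
    inverts (h.sq z h.zmem) _ (fun w hw => conj_mem_cc (h.comm z h.zmem a ha) hw)
      (fun w hw hc => by
        have h1 := balance (h.con z h.zmem h.zne) (h.ord ha ha1) (h.comm z h.zmem a ha) hw hc
        rwa [h.zcore, mem_bot] at h1)
  have h1 := hz _ ((cc a).mul_mem ((cc a).inv_mem hx) ((cc a).inv_mem hy))
  rw [show z * (x⁻¹ * y⁻¹) * z⁻¹ = (z * x⁻¹ * z⁻¹) * (z * y⁻¹ * z⁻¹) by group,
    hz _ ((cc a).inv_mem hx), hz _ ((cc a).inv_mem hy), inv_inv, inv_inv, mul_inv_rev, inv_inv,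
    inv_inv] at h1
  exact h1

/-- Splitting inside the core of `C(a)` along `e`. -/
theorem Setting.split {a x e : G} (ha : a ∈ E) (ha1 : a ≠ 1) (hx : x ∈ cc a) (he : e ∈ E) :
    ∃ u v : G, x = u * v ∧ u ∈ cc a ∧ v ∈ cc a ∧ Commute u e ∧ e * v * e = v⁻¹ ∧
      (∀ d ∈ E, d * x * d = x⁻¹ → d * u * d = u⁻¹ ∧ d * v * d = v⁻¹) := by
  have hinv : e⁻¹ = e := inv_eq_of_mul_eq_one_right (h.sq e he)
  have hexe : e * x * e ∈ cc a := by
    have h1 := conj_mem_cc (h.comm e he a ha) hx
    rwa [hinv] at h1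
  obtain ⟨u, v, hxuv, hu, hv, hum, hvm⟩ :=
    exists_split (h.sq e he) (odd_orderOf_cc hx) (h.abelian ha ha1 hx hexe)
  have hle : closure ({x, e * x * e} : Set G) ≤ cc a := by
    rw [closure_le]
    rintro w (rfl | rfl)
    · exact hx
    · exact hexe
  refine ⟨u, v, hxuv, hle hum, hle hvm, hu, hv, fun d hd hdx => ?_⟩
  have hdd := h.sq d hd
  have hdi : d⁻¹ = d := inv_eq_of_mul_eq_one_right hdd
  have hclos : ∀ w ∈ closure ({x, e * x * e} : Set G), d * w * d = w⁻¹ := by
    intro w hw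
    induction hw using closure_induction with
    | mem w hw =>
      rcases hw with rfl | rfl
      · exact hdx
      · have hde := (h.comm d hd e he).eq
        calc d * (e * x * e) * d = (d * e) * x * (e * d) := by group
          _ = (e * d) * x * (d * e) := by rw [hde]
          _ = e * (d * x * d) * e := by group
          _ = e * x⁻¹ * e := by rw [hdx]
          _ = _ := by rw [mul_inv_rev, mul_inv_rev, hinv, mul_assoc]
    | one => rw [mul_one, hdd, inv_one]
    | mul w₁ w₂ h1 h2 i1 i2 =>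
      have hc : Commute w₁ w₂ := h.abelian ha ha1 (hle h1) (hle h2)
      rw [show d * (w₁ * w₂) * d = d * w₁ * (d * d) * w₂ * d by rw [hdd]; group,
        show d * w₁ * (d * d) * w₂ * d = (d * w₁ * d) * (d * w₂ * d) by group, i1, i2,
        ← mul_inv_rev, hc.eq]
    | inv w h1 i1 =>
      calc d * w⁻¹ * d = (d * w * d)⁻¹ := by simp only [mul_inv_rev, hdi, mul_assoc]
        _ = _ := by rw [i1]
  exact ⟨hclos u hum, hclos v hvm⟩

theorem Setting.mem_of_commute {a b x : G} (ha : a ∈ E) (ha1 : a ≠ 1) (hb : b ∈ E) (hb1 : b ≠ 1)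
    (hx : x ∈ cc a) (hxb : Commute x b) : x ∈ cc b :=
  balance (h.con b hb hb1) (h.ord ha ha1) (h.comm b hb a ha) hx hxb

omit [Finite G] in
theorem Setting.commute_mul_of_inverted {b c x : G} (hb : b ∈ E) (hc : c ∈ E)
    (hbx : b * x * b = x⁻¹) (hcx : c * x * c = x⁻¹) : Commute x (b * c) := by
  have hbb := h.sq b hb
  have hcc := h.sq c hc
  have hci : c⁻¹ = c := inv_eq_of_mul_eq_one_right hcc
  have h1 : c * x⁻¹ * c = x := by
    have := congrArg (fun w => w⁻¹) hcx
    simpa [mul_inv_rev, hci, mul_assoc] using this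
  have h2 : c * (b * x * b) * c = x := by rw [hbx, h1]
  have hbc := (h.comm c hc b hb).eq
  calc x * (b * c) = (c * b) * x * ((b * c) * (b * c)) := by nth_rw 1 [← h2]; group
    _ = b * c * x := by
      rw [show (b * c) * (b * c) = 1 by
        rw [show b * c * (b * c) = b * (c * b) * c by group, hbc,
          show b * (b * c) * c = (b * b) * (c * c) by group, hbb, hcc, one_mul], mul_one, hbc]

/-- The cores of the centralizers of the involutions of `E` commute elementwise. -/
theorem Setting.commute_cc {a b x y : G} (ha : a ∈ E) (ha1 : a ≠ 1) (hb : b ∈ E) (hb1 : b ≠ 1)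
    (hx : x ∈ cc a) (hy : y ∈ cc b) : Commute x y := by
  classical
  by_cases hab : a = b
  · exact h.abelian ha ha1 hx (hab ▸ hy)
  obtain ⟨x1, x2, rfl, hx1, hx2, hx1b, hx2b, -⟩ := h.split ha ha1 hx hb
  obtain ⟨y1, y2, rfl, hy1, hy2, hy1a, hy2a, -⟩ := h.split hb hb1 hy ha
  have hxy2 : Commute x2 y2 := by
    obtain ⟨c, hc, hne⟩ : ∃ c ∈ E, c ∉ ({1, a, b, a * b} : Set G) := by
      by_contra hall
      push Not at hall
      have h1 := Set.ncard_le_ncard (s := (E : Set G)) (t := {1, a, b, a * b}) hall (Set.toFinite _)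
      have h2 : ({1, a, b, a * b} : Set G).ncard ≤ 4 := by
        refine (Set.ncard_insert_le _ _).trans ?_
        refine Nat.succ_le_succ ((Set.ncard_insert_le _ _).trans ?_)
        refine Nat.succ_le_succ ((Set.ncard_insert_le _ _).trans ?_)
        simp
      have h3 : (E : Set G).ncard = Nat.card ↥E := (Nat.card_coe_set_eq _).symm
      have := h.big
      omega
    simp only [Set.mem_insert_iff, Set.mem_singleton_iff, not_or] at hne
    obtain ⟨hc1, hca, hcb, hcab⟩ := hne
    have hcbE : c * b ∈ E := E.mul_mem hc hb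
    have hcaE : c * a ∈ E := E.mul_mem hc ha
    have hcb1 : c * b ≠ 1 := fun e => hcb (by
      rw [mul_eq_one_iff_eq_inv] at e; rw [e, inv_eq_of_mul_eq_one_right (h.sq b hb)])
    have hca1 : c * a ≠ 1 := fun e => hca (by
      rw [mul_eq_one_iff_eq_inv] at e; rw [e, inv_eq_of_mul_eq_one_right (h.sq a ha)])
    have habc1 : c * (a * b) ≠ 1 := fun e => hcab (by
      rw [mul_eq_one_iff_eq_inv] at e
      rw [e, inv_eq_of_mul_eq_one_right (h.sq _ (E.mul_mem ha hb))])
    have habcE : c * (a * b) ∈ E := E.mul_mem hc (E.mul_mem ha hb)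
    obtain ⟨u, v, rfl, hu, hv, huc, hvc, huv⟩ := h.split ha ha1 hx2 hc
    obtain ⟨u', v', rfl, hu', hv', huc', hvc', huv'⟩ := h.split hb hb1 hy2 hc
    obtain ⟨hub, hvb⟩ := huv b hb hx2b
    obtain ⟨hua', hva'⟩ := huv' a ha hy2a
    have cu : u ∈ cc c := h.mem_of_commute ha ha1 hc hc1 hu huc
    have cu' : u' ∈ cc c := h.mem_of_commute hb hb1 hc hc1 hu' huc'
    have cua : u ∈ cc (c * a) :=
      h.mem_of_commute ha ha1 hcaE hca1 hu (huc.mul_right (commute_of_mem_cc hu))
    have cub' : u' ∈ cc (c * b) :=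
      h.mem_of_commute hb hb1 hcbE hcb1 hu' (huc'.mul_right (commute_of_mem_cc hu'))
    have hvcb : Commute v (c * b) := h.commute_mul_of_inverted hc hb hvc hvb
    have hvca' : Commute v' (c * a) := h.commute_mul_of_inverted hc ha hvc' hva'
    have cv : v ∈ cc (c * b) := h.mem_of_commute ha ha1 hcbE hcb1 hv hvcb
    have cv' : v' ∈ cc (c * a) := h.mem_of_commute hb hb1 hcaE hca1 hv' hvca'
    have cvabc : v ∈ cc (c * (a * b)) := by
      refine h.mem_of_commute ha ha1 habcE habc1 hv ?_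
      rw [(h.comm a ha b hb).eq, ← mul_assoc]
      exact hvcb.mul_right (commute_of_mem_cc hv)
    have cvabc' : v' ∈ cc (c * (a * b)) := by
      refine h.mem_of_commute hb hb1 habcE habc1 hv' ?_
      rw [← mul_assoc]
      exact hvca'.mul_right (commute_of_mem_cc hv')
    exact ((h.abelian hc hc1 cu cu').mul_right (h.abelian hcaE hca1 cua cv')).mul_left
      ((h.abelian hcbE hcb1 cv cub').mul_right (h.abelian habcE habc1 cvabc cvabc'))
  have hx1B := h.mem_of_commute ha ha1 hb hb1 hx1 hx1b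
  have hy1A := h.mem_of_commute hb hb1 ha ha1 hy1 hy1a
  exact ((h.abelian ha ha1 hx1 hy1A).mul_right (h.abelian hb hb1 hx1B hy2)).mul_left
    ((h.abelian ha ha1 hx2 hy1A).mul_right hxy2)

/-- The cores generate a subgroup of odd order. -/
theorem Setting.odd_closure :
    Odd (Nat.card ↥(closure {x : G | ∃ a ∈ E, a ≠ 1 ∧ x ∈ cc a})) := by
  set W := closure {x : G | ∃ a ∈ E, a ≠ 1 ∧ x ∈ cc a} with hW
  have hcomm : IsMulCommutative ↥W := by
    refine isMulCommutative_closure ?_
    rintro x ⟨a, ha, ha1, hx⟩ y ⟨b, hb, hb1, hy⟩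
    exact h.commute_cc ha ha1 hb hb1 hx hy
  have hodd : ∀ x ∈ W, Odd (orderOf x) := by
    intro x hx
    induction hx using closure_induction with
    | mem x hx => obtain ⟨a, -, -, hxa⟩ := hx; exact odd_orderOf_cc hxa
    | one => simp
    | mul x y hx hy i1 i2 =>
      have hc : Commute x y := by
        have h1 : (⟨x, hx⟩ : ↥W) * ⟨y, hy⟩ = ⟨y, hy⟩ * ⟨x, hx⟩ :=
          hcomm.is_comm.comm _ _
        exact congrArg Subtype.val h1
      exact (i1.mul i2).of_dvd_nat (hc.orderOf_mul_dvd_mul_orderOf)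
    | inv x hx i1 => rwa [orderOf_inv]
  refine Nat.not_even_iff_odd.1 fun he => ?_
  have : Fact (Nat.Prime 2) := ⟨Nat.prime_two⟩
  obtain ⟨w, hw⟩ := exists_prime_orderOf_dvd_card' 2 (even_iff_two_dvd.1 he)
  have h2 := hodd w w.2
  rw [Subgroup.orderOf_coe, hw] at h2
  exact absurd h2 (by decide)

end CfsgLib.InvChar.InvolutionCores
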