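import Mathlib
import Cfsg.Agent.Lib.InvChar.InvolutionCount
import Cfsg.Agent.Lib.Transfer.Basic

/-! Groups without subgroups of index 2 having an involution with dihedral centralizer of order 8
have order 168 or 360, and are simple. -/

set_option autoImplicit false

namespace CfsgLib.InvChar.DihedralEight

open CfsgLib.Involutions CfsgLib.InvChar Subgroup

variable {G : Type*} [Group G]

/-- The facts about the centralizer of an involution that are used. -/
structure IsD8Centralizer (t : G) : Prop where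
  ord : orderOf t = 2
  card : Nat.card ↥(centralizer ({t} : Set G)) = 8
  four : ∀ c : G, Commute c t → c * c ≠ 1 → c * c = t
  inv : ∀ c s : G, Commute c t → Commute s t → c * c ≠ 1 → orderOf s = 2 → s ≠ t → s * c * s⁻¹ = c⁻¹
  five : {c : G | Commute c t ∧ orderOf c = 2}.ncard = 5
  two : {c : G | Commute c t ∧ c * c = t}.ncard = 2
  central : ∀ c : G, orderOf c = 2 → Commute c t → (∀ d : G, Commute d t → Commute c d) → c = t
  rot : ∃ r : G, Commute r t ∧ r * r = t

theorem dihedral_facts :
    (∀ c : DihedralGroup 4, (∀ d, c * d = d * c) → c * c = 1 → c ≠ 1 → c = DihedralGroup.r 2) ∧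
    (∀ c : DihedralGroup 4, c * c ≠ 1 → c * c = DihedralGroup.r 2) ∧
    (∀ c s : DihedralGroup 4, c * c ≠ 1 → s * s = 1 → s ≠ 1 → s ≠ DihedralGroup.r 2 →
      s * c * s⁻¹ = c⁻¹) ∧
    (Finset.univ.filter fun c : DihedralGroup 4 => c * c = 1 ∧ c ≠ 1).card = 5 ∧
    (Finset.univ.filter fun c : DihedralGroup 4 => c * c = DihedralGroup.r 2).card = 2 ∧
    (∀ c : DihedralGroup 4, c * DihedralGroup.r 2 = DihedralGroup.r 2 * c) := by
  refine ⟨?_, ?_, ?_, ?_, ?_, ?_⟩ <;> decide +kernel

theorem ncard_transfer {t : G} (e : ↥(centralizer ({t} : Set G)) ≃* DihedralGroup 4)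
    (p : DihedralGroup 4 → Prop) [DecidablePred p] (q : G → Prop)
    (h : ∀ c : ↥(centralizer ({t} : Set G)), q c ↔ p (e c)) :
    {c : G | Commute c t ∧ q c}.ncard = (Finset.univ.filter p).card := by
  have himg : {c : G | Commute c t ∧ q c} =
      (fun d => ((e.symm d : ↥(centralizer ({t} : Set G))) : G)) '' {d | p d} := by
    ext c
    constructor
    · rintro ⟨hc, hq⟩
      exact ⟨e ⟨c, mem_centralizer_singleton_iff.2 hc.eq⟩, (h ⟨c, _⟩).1 hq, by simp⟩
    · rintro ⟨d, hd, rfl⟩
      exact ⟨mem_centralizer_singleton_iff.1 (e.symm d).2, (h _).2 (by simpa using hd)⟩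
  have hinj : Function.Injective fun d => ((e.symm d : ↥(centralizer ({t} : Set G))) : G) :=
    fun _ _ h => e.symm.injective (Subtype.ext h)
  rw [himg, Set.ncard_image_of_injective _ hinj, Set.ncard_eq_toFinset_card']
  congr 1
  ext d
  simp

theorem isD8Centralizer_of_equiv {t : G} (ht : orderOf t = 2)
    (e : ↥(centralizer ({t} : Set G)) ≃* DihedralGroup 4) : IsD8Centralizer t := by
  obtain ⟨f1, f2, f3, f4, f5, f6⟩ := dihedral_facts
  have htC : t ∈ centralizer ({t} : Set G) := mem_centralizer_singleton_iff.2 rfl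
  set t0 : ↥(centralizer ({t} : Set G)) := ⟨t, htC⟩ with ht0
  have hsq : ∀ c : ↥(centralizer ({t} : Set G)), e c * e c = 1 ↔ (c : G) * c = 1 := by
    intro c
    rw [← map_mul, MulEquiv.map_eq_one_iff]
    exact ⟨fun h => congrArg Subtype.val h, fun h => Subtype.ext h⟩
  have hone : ∀ c : ↥(centralizer ({t} : Set G)), e c = 1 ↔ (c : G) = 1 := fun c => by
    rw [MulEquiv.map_eq_one_iff]
    exact ⟨fun h => congrArg Subtype.val h, fun h => Subtype.ext h⟩
  have het : e t0 = DihedralGroup.r 2 := by
    refine f1 _ (fun d => ?_) ((hsq t0).2 (mul_self_eq_one ht)) fun h =>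
      ne_one_of_involution ht ((hone t0).1 h)
    obtain ⟨c, rfl⟩ := e.surjective d
    rw [← map_mul, ← map_mul]
    exact congrArg e (Subtype.ext (mem_centralizer_singleton_iff.1 c.2).symm)
  have hval : ∀ {a b : ↥(centralizer ({t} : Set G))}, e a = e b → (a : G) = b :=
    fun h => congrArg Subtype.val (e.injective h)
  refine ⟨ht, ?_, ?_, ?_, ?_, ?_, ?_, ?_⟩
  · rw [Nat.card_congr e.toEquiv, DihedralGroup.nat_card]
  · intro c hc h
    have hcC : c ∈ centralizer ({t} : Set G) := mem_centralizer_singleton_iff.2 hc.eq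
    exact hval (a := ⟨c, hcC⟩ * ⟨c, hcC⟩) (b := t0)
      (by rw [map_mul, het]; exact f2 _ fun h' => h ((hsq ⟨c, hcC⟩).1 h'))
  · intro c s hc hs h hs2 hst
    have hcC : c ∈ centralizer ({t} : Set G) := mem_centralizer_singleton_iff.2 hc.eq
    have hsC : s ∈ centralizer ({t} : Set G) := mem_centralizer_singleton_iff.2 hs.eq
    have key := f3 (e ⟨c, hcC⟩) (e ⟨s, hsC⟩) (fun h' => h ((hsq ⟨c, hcC⟩).1 h'))
      ((hsq ⟨s, hsC⟩).2 (mul_self_eq_one hs2))
      (fun h' => ne_one_of_involution hs2 ((hone _).1 h'))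
      (fun h' => hst (hval (a := ⟨s, hsC⟩) (b := t0) (h'.trans het.symm)))
    exact hval (a := ⟨s, hsC⟩ * ⟨c, hcC⟩ * ⟨s, hsC⟩⁻¹) (b := ⟨c, hcC⟩⁻¹)
      (by rw [map_mul, map_mul, map_inv, map_inv]; exact key)
  · rw [ncard_transfer e (fun c => c * c = 1 ∧ c ≠ 1) (fun c => orderOf c = 2)]
    · exact f4
    · intro c
      rw [hsq, ne_eq, hone, orderOf_eq_two_iff_mul]
      exact and_comm
  · rw [ncard_transfer e (fun c => c * c = DihedralGroup.r 2) (fun c => c * c = t)]
    · exact f5
    · intro c
      rw [← het, ← map_mul, e.injective.eq_iff]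
      exact ⟨fun h => Subtype.ext h, fun h => congrArg Subtype.val h⟩
  · intro c hc hct hcen
    have hcC : c ∈ centralizer ({t} : Set G) := mem_centralizer_singleton_iff.2 hct.eq
    refine hval (a := ⟨c, hcC⟩) (b := t0) ?_
    rw [het]
    refine f1 _ (fun d => ?_) ((hsq ⟨c, hcC⟩).2 (mul_self_eq_one hc))
      fun h' => ne_one_of_involution hc ((hone _).1 h')
    obtain ⟨d, rfl⟩ := e.surjective d
    rw [← map_mul, ← map_mul]
    exact congrArg e (Subtype.ext (hcen d (mem_centralizer_singleton_iff.1 d.2)).eq)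
  · refine ⟨_, mem_centralizer_singleton_iff.1 (e.symm (DihedralGroup.r 1)).2, ?_⟩
    exact hval (a := e.symm (DihedralGroup.r 1) * e.symm (DihedralGroup.r 1)) (b := t0)
      (by rw [map_mul, het, MulEquiv.apply_symm_apply, DihedralGroup.r_mul_r]; rfl)

theorem IsD8Centralizer.conj {t : G} (h : IsD8Centralizer t) (g : G) :
    IsD8Centralizer (g * t * g⁻¹) := by
  have hc : ∀ c, Commute c (g * t * g⁻¹) ↔ Commute (g⁻¹ * c * g) t := by
    intro c
    constructor <;> intro h'
    · have := Commute.map h' (MulAut.conj g⁻¹).toMonoidHom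
      simpa [MulAut.conj_apply, mul_assoc] using this
    · have := Commute.map h' (MulAut.conj g).toMonoidHom
      simpa [MulAut.conj_apply, mul_assoc] using this
  have hsq : ∀ c, (g⁻¹ * c * g) * (g⁻¹ * c * g) = g⁻¹ * (c * c) * g := fun c => by group
  have hne : ∀ c, c * c ≠ 1 → (g⁻¹ * c * g) * (g⁻¹ * c * g) ≠ 1 := fun c hc' h' => hc' (by
    rw [hsq] at h'
    have := congrArg (fun z => g * z * g⁻¹) h'
    simpa [mul_assoc] using this)
  have hord : ∀ c, orderOf (g⁻¹ * c * g) = orderOf c := fun c => by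
    have := orderOf_conj_eq g⁻¹ c
    rwa [inv_inv] at this
  have hback : ∀ c, g * (g⁻¹ * c * g) * g⁻¹ = c := fun c => by group
  refine ⟨by rw [orderOf_conj_eq]; exact h.ord, ?_, ?_, ?_, ?_, ?_, ?_, ?_⟩
  · rw [show centralizer ({g * t * g⁻¹} : Set G) =
        (centralizer ({t} : Set G)).map (MulAut.conj g).toMonoidHom from ?_,
      card_map_of_injective (MulAut.conj g).injective]
    · exact h.card
    ext c
    rw [mem_map_equiv, MulAut.conj_symm_apply, mem_centralizer_singleton_iff,
      mem_centralizer_singleton_iff]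
    exact hc c
  · intro c hc' hne'
    rw [← hback (c * c), ← hsq, h.four _ ((hc c).1 hc') (hne c hne')]
  · intro c s hc' hs' hne' hs2 hst
    have := h.inv _ _ ((hc c).1 hc') ((hc s).1 hs') (hne c hne') (by rw [hord, hs2])
      (fun h' => hst (by rw [← h', hback]))
    calc s * c * s⁻¹ = g * ((g⁻¹ * s * g) * (g⁻¹ * c * g) * (g⁻¹ * s * g)⁻¹) * g⁻¹ := by group
      _ = g * (g⁻¹ * c * g)⁻¹ * g⁻¹ := by rw [this]
      _ = c⁻¹ := by group
  · rw [show {c | Commute c (g * t * g⁻¹) ∧ orderOf c = 2} =
      MulAut.conj g '' {c | Commute c t ∧ orderOf c = 2} from ?_,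
      Set.ncard_image_of_injective _ (MulAut.conj g).injective]
    · exact h.five
    ext c
    constructor
    · rintro ⟨h1, h2⟩
      exact ⟨g⁻¹ * c * g, ⟨(hc c).1 h1, by rw [hord, h2]⟩, hback c⟩
    · rintro ⟨d, ⟨h1, h2⟩, rfl⟩
      exact ⟨Commute.map h1 (MulAut.conj g).toMonoidHom, by rw [MulEquiv.orderOf_eq, h2]⟩
  · rw [show {c | Commute c (g * t * g⁻¹) ∧ c * c = g * t * g⁻¹} =
      MulAut.conj g '' {c | Commute c t ∧ c * c = t} from ?_,
      Set.ncard_image_of_injective _ (MulAut.conj g).injective]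
    · exact h.two
    ext c
    constructor
    · rintro ⟨h1, h2⟩
      exact ⟨g⁻¹ * c * g, ⟨(hc c).1 h1, by rw [hsq, h2]; group⟩, hback c⟩
    · rintro ⟨d, ⟨h1, h2⟩, rfl⟩
      refine ⟨Commute.map h1 (MulAut.conj g).toMonoidHom, ?_⟩
      change MulAut.conj g d * MulAut.conj g d = MulAut.conj g t
      rw [← map_mul, h2]
  · intro c hc2 hct hcen
    have := h.central _ (by rw [hord, hc2]) ((hc c).1 hct) (fun d hd => by
      have h1 := hcen (g * d * g⁻¹) (Commute.map hd (MulAut.conj g).toMonoidHom)
      have := Commute.map h1 (MulAut.conj g⁻¹).toMonoidHom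
      simpa [MulAut.conj_apply, mul_assoc] using this)
    rw [← this, hback]
  · obtain ⟨r, hr1, hr2⟩ := h.rot
    exact ⟨g * r * g⁻¹, Commute.map hr1 (MulAut.conj g).toMonoidHom, by rw [conj_mul, hr2]⟩

/-- The centralizer is a Sylow 2-subgroup. -/
theorem exists_sylow_eq [Finite G] {t : G} (h : IsD8Centralizer t) :
    ∃ P : Sylow 2 G, (P : Subgroup G) = centralizer ({t} : Set G) := by
  set C := centralizer ({t} : Set G)
  have hp : IsPGroup 2 ↥C := IsPGroup.of_card (n := 3) (by rw [h.card]; norm_num)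
  obtain ⟨P, hP⟩ := hp.exists_le_sylow
  refine ⟨P, ?_⟩
  by_contra hne
  have hlt : C < (P : Subgroup G) := lt_of_le_of_ne hP (Ne.symm hne)
  obtain ⟨y, hyC, hyN⟩ : ∃ y, y ∉ C ∧ y ∈ normalizer (C : Set G) := by
    have hnil : Group.IsNilpotent ↥(P : Subgroup G) := P.isPGroup'.isNilpotent
    obtain ⟨s, hsN, hsD⟩ := SetLike.exists_of_lt (Group.normalizerCondition_of_isNilpotent
      (C.subgroupOf (P : Subgroup G)) (lt_top_iff_ne_top.2 fun h => hlt.not_ge (subgroupOf_eq_top.1 h)))
    refine ⟨s, hsD, Subgroup.mem_normalizer_fintype fun c hc => ?_⟩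
    exact (Subgroup.mem_normalizer_iff.1 hsN ⟨c, hP hc⟩).1 hc
  apply hyC
  have hN := fun c => (Subgroup.mem_normalizer_iff.1 hyN c)
  have hyt : y * t * y⁻¹ = t := by
    refine h.central _ (by rw [orderOf_conj_eq, h.ord])
      (mem_centralizer_singleton_iff.1 ((hN t).1 (mem_centralizer_singleton_iff.2 rfl))) fun d hd => ?_
    have hd' : y⁻¹ * d * y ∈ C := (hN _).2 (by
      rw [show y * (y⁻¹ * d * y) * y⁻¹ = d by group]
      exact mem_centralizer_singleton_iff.2 hd.eq)
    have := Commute.map (show Commute t (y⁻¹ * d * y) from (mem_centralizer_singleton_iff.1 hd').symm)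
      (MulAut.conj y).toMonoidHom
    simpa [MulAut.conj_apply, mul_assoc] using this
  exact mem_centralizer_singleton_iff.2 (mul_inv_eq_iff_eq_mul.1 hyt)

/-- Without subgroups of index 2, all involutions are conjugate. -/
theorem isConj_of_no_index_two [Finite G] {t : G} (h : IsD8Centralizer t)
    (hidx : ∀ H : Subgroup G, H.index ≠ 2) {u : G} (hu : orderOf u = 2) : IsConj t u := by
  by_contra hnc
  obtain ⟨P, hP⟩ := exists_sylow_eq h
  obtain ⟨r, hr1, hr2⟩ := h.rot
  have hrord : orderOf r = 4 := by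
    refine orderOf_eq_prime_pow (p := 2) (n := 1) ?_ ?_
    · rw [pow_one, pow_two, hr2]; exact ne_one_of_involution h.ord
    · rw [show 2 ^ (1 + 1) = 2 * 2 from rfl, pow_mul, pow_two r, hr2, pow_two]
      exact mul_self_eq_one h.ord
  have hQP : zpowers r ≤ (P : Subgroup G) :=
    zpowers_le.2 (hP ▸ mem_centralizer_singleton_iff.2 hr1.eq)
  have hrel : (zpowers r).relIndex (P : Subgroup G) = 2 := by
    have h1 := Subgroup.relIndex_mul_relIndex ⊥ (zpowers r) (P : Subgroup G) bot_le hQP
    rw [relIndex_bot_left, relIndex_bot_left, Nat.card_zpowers, hrord, hP, h.card] at h1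
    rw [hP]
    omega
  obtain ⟨M, -, hM, -⟩ := CfsgLib.Transfer.thompson_transfer P (zpowers r) hrel u
    (by rw [pow_two]; exact mul_self_eq_one hu) fun g _ hgQ => by
      obtain ⟨k, hk⟩ := (mem_zpowers_iff.1 hgQ)
      have h2 : g * u * g⁻¹ = t := by
        have hsq : (g * u * g⁻¹) * (g * u * g⁻¹) = 1 := by
          rw [conj_mul, mul_self_eq_one hu]; simp
        rw [← hk] at hsq ⊢
        have hne : r ^ k ≠ 1 := fun h' => ne_one_of_involution hu
          (conj_eq_one_iff.1 (hk.symm.trans h'))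
        rw [← zpow_add, ← orderOf_dvd_iff_zpow_eq_one, hrord] at hsq
        obtain ⟨j, hj⟩ : ∃ j, k = 4 * j + 2 := by
          have hne' : ¬ ((4 : ℤ) ∣ k) := fun h4 => hne
            (orderOf_dvd_iff_zpow_eq_one.1 (by rw [hrord]; exact_mod_cast h4))
          refine ⟨(k - 2) / 4, ?_⟩
          have : (4 : ℤ) ∣ k + k := by exact_mod_cast hsq
          omega
        rw [hj, zpow_add, zpow_mul,
          show r ^ (4 : ℤ) = 1 by rw [show (4 : ℤ) = ((4 : ℕ) : ℤ) from rfl, zpow_natCast, ← hrord, pow_orderOf_eq_one],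
          one_zpow, one_mul, zpow_two, hr2]
      exact hnc (isConj_iff.2 ⟨g⁻¹, by rw [← h2]; group⟩)
  exact hidx M hM

theorem arith1 (m a e d i : ℕ) (he : e = 1 ∨ e = 2 ∧ Even d) (hd : 1 ≤ d) (ha : a = e * d + 1)
    (hm : m = 13 + 4 * d) (hi : i * (e * a) = 4 * m) (hodd : Odd a) : m = 21 ∨ m = 45 := by
  rcases he with rfl | ⟨rfl, k, rfl⟩
  · have h1 : a ∣ 4 * m := Dvd.intro_left (i * 1) (by rw [mul_assoc]; exact hi)
    have h2 : a ∣ m := ((Nat.coprime_two_right.2 hodd).pow_right 2).dvd_of_dvd_mul_left h1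
    have h3 : a ∣ 4 * a + 9 := by rwa [show 4 * a + 9 = m by omega]
    have h4 : a ∣ 9 := (Nat.dvd_add_right (dvd_mul_left a 4)).1 h3
    have h5 := Nat.le_of_dvd (by norm_num) h4
    obtain ⟨l, hl⟩ := hodd
    interval_cases a <;> omega
  · exfalso
    have h1 : a ∣ 4 * m := Dvd.intro_left (i * 2) (by rw [mul_assoc]; exact hi)
    have h2 : a ∣ m := ((Nat.coprime_two_right.2 hodd).pow_right 2).dvd_of_dvd_mul_left h1
    have h3 : a ∣ 2 * a + 11 := by rwa [show 2 * a + 11 = m by omega]
    have h4 : a ∣ 11 := (Nat.dvd_add_right (dvd_mul_left a 2)).1 h3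
    rcases (Nat.dvd_prime (by norm_num)).1 h4 with h | h <;> omega

theorem dvd_m (m a e i : ℕ) (hi : i * (e * a) = 4 * m) (hodd : Odd a) : a ∣ m :=
  ((Nat.coprime_two_right.2 hodd).pow_right 2).dvd_of_dvd_mul_left
    (Dvd.intro_left (i * e) (by rw [mul_assoc]; exact hi))

theorem arith12 (m a b d c : ℕ) (ha : a = d + 1) (hb : b = 2 * c + 1) (hc : Even c) (hd : 2 ≤ a)
    (hb5 : 5 ≤ b) (hodd : Odd a) (hm : m = 13 + 4 * (d + c)) (ham : a ∣ m) (hbm : b ∣ m)
    (hlt : 4 * d * b + 4 * c * a < 5 * (a * b)) : m = 45 := by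
  obtain ⟨k, rfl⟩ := hc
  subst ha hb
  have h1 : 4 * (d * k) < d + 12 * k + 5 := by ring_nf at hlt ⊢; omega
  obtain ⟨l, hl⟩ := hodd
  have hd5 : d < 6 := by
    by_contra hcon
    obtain ⟨j, rfl⟩ : ∃ j, d = 6 + j := ⟨d - 6, by omega⟩
    obtain ⟨i, rfl⟩ : ∃ i, k = 1 + i := ⟨k - 1, by omega⟩
    ring_nf at h1
    omega
  obtain rfl | rfl : d = 2 ∨ d = 4 := by omega
  · exfalso
    have h2 : 2 * (k + k) + 1 ∣ 19 := (Nat.dvd_add_right (dvd_mul_left _ 2)).1
      (show 2 * (k + k) + 1 ∣ 2 * (2 * (k + k) + 1) + 19 by rwa [show 2 * (2 * (k + k) + 1) + 19 = m by omega])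
    rcases (Nat.dvd_prime (by norm_num)).1 h2 with h | h <;> omega
  · have hk : k ≤ 2 := by omega
    interval_cases k <;> omega

theorem arith22 (m a b c c' : ℕ) (ha : a = 2 * c + 1) (hb : b = 2 * c' + 1) (hc : Even c)
    (hc' : Even c') (ha5 : 5 ≤ a) (hab : a ≤ b) (hm : m = 13 + 4 * (c + c')) (ham : a ∣ m)
    (hbm : b ∣ m) : m = 45 := by
  obtain ⟨k, rfl⟩ := hc
  obtain ⟨l, rfl⟩ := hc'
  have h1 : b ∣ 2 * b + (2 * a + 9) := by rwa [show 2 * b + (2 * a + 9) = m by omega]
  have h2 : b ∣ 2 * a + 9 := (Nat.dvd_add_right (dvd_mul_left b 2)).1 h1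
  have h3 : a ∣ 2 * a + (2 * b + 9) := by rwa [show 2 * a + (2 * b + 9) = m by omega]
  have h4 : a ∣ 2 * b + 9 := (Nat.dvd_add_right (dvd_mul_left a 2)).1 h3
  obtain ⟨q, hq⟩ := h2
  have hq4 : q < 4 := by nlinarith
  interval_cases q
  · omega
  · have h5 : a ∣ 4 * a + 27 := by rwa [show 4 * a + 27 = 2 * b + 9 by omega]
    have h6 : a ∣ 27 := (Nat.dvd_add_right (dvd_mul_left a 4)).1 h5
    have h7 := Nat.le_of_dvd (by norm_num) h6
    have hk : k ≤ 6 := by omega
    interval_cases k <;> omega
  · omega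
  · have hk : k ≤ 2 := by omega
    interval_cases k <;> omega

theorem arith222 (m a b c : ℕ) (ha : a % 4 = 1) (hb : b % 4 = 1) (hc : c % 4 = 1) (ha5 : 5 ≤ a)
    (hab : a ≤ b) (hbc : b ≤ c) (hm : m = 7 + 2 * (a + b + c)) (ham : a ∣ m)
    (hlt : a * b * c < 2 * (a * b + b * c + c * a)) : m = 45 := by
  have hp : 0 < b * c := Nat.mul_pos (by omega) (by omega)
  have ha6 : a < 6 := by
    by_contra h
    have h1 : a * b ≤ b * c := by rw [mul_comm b c]; exact Nat.mul_le_mul_right b (hab.trans hbc)
    have h2 : c * a ≤ b * c := by rw [mul_comm b c]; exact Nat.mul_le_mul_left c hab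
    nlinarith
  obtain rfl : a = 5 := by omega
  have hb7 : b < 7 := by nlinarith
  obtain rfl : b = 5 := by omega
  have hc10 : c < 10 := by nlinarith
  interval_cases c <;> omega

theorem card_eq [Fintype G] (hall : ∀ t : G, orderOf t = 2 → IsD8Centralizer t)
    {x : G} (hx : orderOf x = 2) (hconj : ∀ t : G, orderOf t = 2 → IsConj x t) :
    Nat.card G = 168 ∨ Nat.card G = 360 := by
  classical
  set m := (invs G).card with hm
  have hg : Nat.card G = 8 * m := by
    have hset : (invs G : Set G) = {y | IsConj x y} := by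
      ext y
      simp only [Finset.mem_coe, mem_invs, Set.mem_setOf_eq]
      exact ⟨hconj y, fun h => (orderOf_eq_of_isConj h).trans hx⟩
    have h1 := ncard_conjugates x
    rw [← hset, Set.ncard_coe_finset] at h1
    have h2 := Subgroup.card_mul_index (centralizer ({x} : Set G))
    rw [(hall x hx).card, ← h1] at h2
    exact h2.symm
  have hmpos : 0 < m := Finset.card_pos.2 ⟨x, mem_invs.2 hx⟩
  -- the squares of elements commuting with an involution
  have hsq : ∀ t c : G, orderOf t = 2 → Commute c t → c * c = 1 ∨ c * c = t := fun t c ht hc =>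
    (em (c * c = 1)).imp_right fun h => (hall t ht).four c hc h
  have hpow4 : ∀ t c : G, orderOf t = 2 → Commute c t → c ^ 4 = 1 := by
    intro t c ht hc
    rw [show (4 : ℕ) = 2 * 2 from rfl, pow_mul, pow_two c]
    rcases hsq t c ht hc with h | h <;> rw [h]
    · exact one_pow 2
    · rw [pow_two]; exact mul_self_eq_one ht
  set Q4 : Finset G := Finset.univ.filter (fun u => orderOf (u * u) = 2) with hQ4
  set R : Finset G := Finset.univ.filter (fun u => u ^ 4 ≠ 1 ∧ (invPairs u).Nonempty) with hR
  have hnocent : ∀ u ∈ R, ∀ z : G, orderOf z = 2 → ¬ Commute z u := fun u hu z hz hc =>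
    (Finset.mem_filter.1 hu).2.1 (hpow4 z u hz hc.symm)
  have hfix : ∀ u ∈ R, ∀ s : G, orderOf s = 2 → ∀ c ∈ centralizer ({u} : Set G),
      Commute c s → c = 1 := by
    intro u hu s hs c hc hcs
    by_contra h
    rcases hsq s c hs hcs with h2 | h2
    · exact hnocent u hu c (orderOf_eq_two_iff_mul.2 ⟨h, h2⟩) (mem_centralizer_singleton_iff.1 hc)
    · refine hnocent u hu s hs ?_
      rw [← h2]
      exact Commute.mul_left (mem_centralizer_singleton_iff.1 hc) (mem_centralizer_singleton_iff.1 hc)
  have hRr : ∀ u ∈ R, (invPairs u).card = Nat.card ↥(centralizer ({u} : Set G)) := by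
    intro u hu
    obtain ⟨t, ht⟩ := (Finset.mem_filter.1 hu).2.2
    exact card_invPairs_eq ht (hfix u hu t (mem_invPairs.1 ht).1)
  have hfour : ∀ v : G, orderOf v = 2 →
      ((Finset.univ.filter fun t : G => Commute t v ∧ orderOf t = 2).erase v).card = 4 := by
    intro v hv
    rw [Finset.card_erase_of_mem (by simp [hv])]
    have h5 := (hall v hv).five
    rw [Set.ncard_eq_toFinset_card'] at h5
    simp only [Set.toFinset_setOf] at h5
    rw [h5]
  have hinvr : ∀ u : G, orderOf u = 2 → (invPairs u).card = 4 := by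
    intro u hu
    rw [← hfour u hu]
    congr 1
    ext t
    simp only [mem_invPairs_of_involution hu, Finset.mem_erase, Finset.mem_filter, Finset.mem_univ, true_and]
    tauto
  have hQr : ∀ u ∈ Q4, (invPairs u).card = 4 := by
    intro u hu
    have hv : orderOf (u * u) = 2 := (Finset.mem_filter.1 hu).2
    have huu : u * u ≠ 1 := ne_one_of_involution hv
    have hcu : Commute u (u * u) := (Commute.refl u).mul_right (Commute.refl u)
    rw [← hfour _ hv]
    congr 1
    ext t
    simp only [mem_invPairs_iff_inverts, Finset.mem_erase, Finset.mem_filter, Finset.mem_univ, true_and]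
    constructor
    · rintro ⟨ht, hne, hinv⟩
      refine ⟨?_, ?_, ht⟩
      · rintro rfl
        rw [hcu.symm.eq, mul_inv_cancel_right] at hinv
        exact huu (mul_eq_one_iff_eq_inv.2 hinv)
      · have h2 : t * (u * u) * t⁻¹ = u * u := by
          rw [← conj_mul, hinv, ← mul_inv_rev, inv_eq_self_of_involution hv]
        exact mul_inv_eq_iff_eq_mul.1 h2
    · rintro ⟨hne, hc, ht⟩
      refine ⟨ht, fun h => huu ?_, (hall _ hv).inv u t hcu hc huu ht hne⟩
      have hut : u = t := (inv_eq_of_mul_eq_one_right h).symm.trans (inv_eq_self_of_involution ht)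
      rw [hut]
      exact mul_self_eq_one ht
  have hQcard : Q4.card = 2 * m := by
    have hfib : ∀ v ∈ invs G, (Q4.filter fun u => u * u = v).card = 2 := by
      intro v hv
      have hv2 := mem_invs.1 hv
      have h5 := (hall v hv2).two
      rw [Set.ncard_eq_toFinset_card'] at h5
      rw [← h5]
      congr 1
      ext c
      simp only [hQ4, Finset.mem_filter, Finset.mem_univ, true_and, Set.mem_toFinset, Set.mem_setOf_eq]
      exact ⟨fun h => ⟨h.2 ▸ (Commute.refl c).mul_right (Commute.refl c), h.2⟩,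
        fun h => ⟨by rw [h.2]; exact hv2, h.2⟩⟩
    rw [Finset.card_eq_sum_card_fiberwise (f := fun u => u * u) (t := invs G)
      fun u hu => mem_invs.2 (Finset.mem_filter.1 hu).2]
    rw [Finset.sum_congr rfl hfib, Finset.sum_const, smul_eq_mul, mul_comm]
  have hsplit : ∀ u : G, (invPairs u).card = (if u = 1 then m else 0) + (if orderOf u = 2 then 4 else 0) +
      (if u ∈ Q4 then 4 else 0) + (if u ∈ R then Nat.card ↥(centralizer ({u} : Set G)) else 0) := by
    intro u
    by_cases h1 : u = 1
    · subst h1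
      simp [invPairs_one, hR, hQ4, hm]
    by_cases h2 : orderOf u = 2
    · have h2' : u * u = 1 := mul_self_eq_one h2
      have h4 : u ^ 4 = 1 := by rw [show (4 : ℕ) = 2 * 2 from rfl, pow_mul, pow_two u, h2', one_pow]
      simp [h1, h2, hinvr u h2, hR, hQ4, h2', h4]
    by_cases h3 : u ∈ Q4
    · have h4 : u ^ 4 = 1 := by
        rw [show (4 : ℕ) = 2 * 2 from rfl, pow_mul, pow_two u, pow_two]
        exact mul_self_eq_one (Finset.mem_filter.1 h3).2
      simp [h1, h2, h3, hQr u h3, hR, h4]
    by_cases h4 : u ∈ R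
    · simp [h1, h2, h3, h4, hRr u h4]
    · have : ¬ (invPairs u).Nonempty := by
        intro hne
        refine h4 (Finset.mem_filter.2 ⟨Finset.mem_univ _, fun hu4 => ?_, hne⟩)
        have huu : u * u ≠ 1 := fun h => h2 (orderOf_eq_two_iff_mul.2 ⟨h1, h⟩)
        refine h3 (Finset.mem_filter.2 ⟨Finset.mem_univ _, orderOf_eq_two_iff_mul.2 ⟨huu, ?_⟩⟩)
        rw [← hu4, show (4 : ℕ) = 2 * 2 from rfl, pow_mul, pow_two u, pow_two]
      simp [h1, h2, h3, h4, Finset.not_nonempty_iff_eq_empty.1 this]
  have heq : m * m = 13 * m + ∑ u ∈ R, Nat.card ↥(centralizer ({u} : Set G)) := by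
    rw [hm, ← sum_card_invPairs, Finset.sum_congr rfl fun u _ => hsplit u, Finset.sum_add_distrib,
      Finset.sum_add_distrib, Finset.sum_add_distrib, Finset.sum_ite_eq' Finset.univ (1 : G) fun _ => m,
      ← Finset.sum_filter, ← Finset.sum_filter, ← Finset.sum_filter]
    simp only [Finset.mem_univ, if_true, Finset.sum_const, smul_eq_mul]
    rw [show (Finset.univ.filter fun a : G => orderOf a = 2).card = m from rfl,
      Finset.filter_univ_mem R, Finset.filter_univ_mem Q4, hQcard]
    omega
  have hRconj : ∀ g u : G, u ∈ R → g * u * g⁻¹ ∈ R := by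
    intro g u hu
    obtain ⟨h1, t, ht⟩ := (Finset.mem_filter.1 hu).2
    refine Finset.mem_filter.2 ⟨Finset.mem_univ _, fun h => h1 (conj_eq_one_iff.1 (by rwa [← conj_pow])),
      g * t * g⁻¹, ?_⟩
    obtain ⟨a, b⟩ := mem_invPairs.1 ht
    refine mem_invPairs.2 ⟨by rwa [orderOf_conj_eq], ?_⟩
    rwa [conj_mul, orderOf_conj_eq]
  have h1R : (1 : G) ∉ R := fun h => (Finset.mem_filter.1 h).2.1 (one_pow 4)
  have hcl : ∀ u ∈ R, ∀ v ∈ centralizer ({u} : Set G), v ≠ 1 →
      v ∈ R ∧ centralizer ({v} : Set G) = centralizer ({u} : Set G) := by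
    intro u hu v hv hv1
    obtain ⟨t, ht⟩ := (Finset.mem_filter.1 hu).2.2
    obtain ⟨hinv, hab, hodd⟩ := inverts_centralizer ht (hfix u hu t (mem_invPairs.1 ht).1)
    have hvR : v ∈ R := by
      refine Finset.mem_filter.2 ⟨Finset.mem_univ _, fun h4 => hv1 ?_, t, ?_⟩
      · have hd := Subgroup.orderOf_dvd_natCard _ hv
        exact orderOf_eq_one_iff.1 (Nat.eq_one_of_dvd_coprimes
          ((Nat.coprime_two_right.2 hodd).pow_right 2) hd (orderOf_dvd_of_pow_eq_one h4))
      · refine mem_invPairs_iff_inverts.2 ⟨(mem_invPairs.1 ht).1, fun h => ?_, hinv v hv⟩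
        have htv : v = t := (inv_eq_of_mul_eq_one_right h).symm.trans
          (inv_eq_self_of_involution (mem_invPairs.1 ht).1)
        rw [htv] at hv
        exact hnocent u hu t (mem_invPairs.1 ht).1 (mem_centralizer_singleton_iff.1 hv)
    refine ⟨hvR, ?_⟩
    obtain ⟨t', ht'⟩ := (Finset.mem_filter.1 hvR).2.2
    have habv := (inverts_centralizer ht' (hfix v hvR t' (mem_invPairs.1 ht').1)).2.1
    have huv : u ∈ centralizer ({v} : Set G) := mem_centralizer_singleton_iff.2
      (mem_centralizer_singleton_iff.1 hv).symm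
    refine le_antisymm (fun w hw => ?_) fun w hw => ?_
    · exact mem_centralizer_singleton_iff.2
        (congrArg Subtype.val (habv.is_comm.comm ⟨w, hw⟩ ⟨u, huv⟩))
    · exact mem_centralizer_singleton_iff.2
        (congrArg Subtype.val (hab.is_comm.comm ⟨w, hw⟩ ⟨v, hv⟩))
  obtain ⟨reps, hrep, -, hsum⟩ := exists_reps_sum R hRconj h1R hcl
  have hA : ∀ A ∈ reps, ∃ e d : ℕ, (e = 1 ∨ e = 2 ∧ Even d) ∧ 1 ≤ d ∧ Odd (Nat.card ↥A) ∧
      Nat.card ↥A = e * d + 1 ∧
      (Subgroup.normalizer (A : Set G)).index * (e * Nat.card ↥A) = 4 * m := by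
    intro A hA
    obtain ⟨u, hu, rfl⟩ := hrep A hA
    obtain ⟨hu4, t, ht⟩ := (Finset.mem_filter.1 hu).2
    have ht2 := (mem_invPairs.1 ht).1
    set A := centralizer ({u} : Set G) with hAdef
    have hfixA : ∀ s : G, orderOf s = 2 → ∀ c ∈ A, Commute c s → c = 1 := hfix u hu
    obtain ⟨hinv, hab, hodd⟩ : (∀ c ∈ A, t * c * t⁻¹ = c⁻¹) ∧ IsMulCommutative ↥A ∧ Odd (Nat.card ↥A) :=
      inverts_centralizer ht (hfixA t ht2)
    have huA : u ∈ A := mem_centralizer_singleton_iff.2 rfl
    have h3 : 3 ≤ Nat.card ↥A := by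
      have : 1 < Nat.card ↥A := (Subgroup.one_lt_card_iff_ne_bot A).2 fun h => by
        rw [h, Subgroup.mem_bot] at huA; exact hu4 (by rw [huA, one_pow])
      obtain ⟨k, hk⟩ := hodd
      omega
    set D : Subgroup G := centralizer ({t} : Set G) ⊓ normalizer (A : Set G) with hD
    have hD8 : Nat.card ↥D ∣ 8 := by
      rw [← (hall t ht2).card]; exact card_dvd_of_le inf_le_left
    have hDinv : ∀ s ∈ D, orderOf s = 2 → s = t := by
      intro s hs hs2
      by_contra hst
      have hsinv := inverts_of_fixedPointFree hs2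
        (fun c hc => (Subgroup.mem_normalizer_iff.1 hs.2 c).1 hc) (hfixA s hs2)
      have hstA : t⁻¹ * s ∈ A := by
        rw [hAdef, mem_centralizer_singleton_iff]
        refine mul_inv_eq_iff_eq_mul.1 ?_
        calc t⁻¹ * s * u * (t⁻¹ * s)⁻¹ = t⁻¹ * (s * u * s⁻¹) * t := by group
          _ = t⁻¹ * (t * u * t⁻¹) * t := by rw [hsinv u huA, hinv u huA]
          _ = u := by group
      exact hst (inv_mul_eq_one.1 (hfixA t ht2 _ hstA
        ((Commute.refl t).inv_left.mul_left (mem_centralizer_singleton_iff.1 hs.1)))).symm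
    have hDsub : ((D : Set G).toFinset) ⊆
        insert 1 (insert t (Finset.univ.filter fun c => Commute c t ∧ c * c = t)) := by
      intro c hc
      rw [Set.mem_toFinset, SetLike.mem_coe] at hc
      have hct : Commute c t := mem_centralizer_singleton_iff.1 hc.1
      simp only [Finset.mem_insert, Finset.mem_filter, Finset.mem_univ, true_and]
      rcases hsq t c ht2 hct with h | h
      · by_cases hc1 : c = 1
        · exact Or.inl hc1
        · exact Or.inr (Or.inl (hDinv c hc (orderOf_eq_two_iff_mul.2 ⟨hc1, h⟩)))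
      · exact Or.inr (Or.inr ⟨hct, h⟩)
    have htD : t ∈ D := ⟨mem_centralizer_singleton_iff.2 rfl,
      Subgroup.mem_normalizer_fintype fun c hc => by rw [hinv c hc]; exact inv_mem hc⟩
    have hD4 : Nat.card ↥D ≤ 4 := by
      have h1 := Finset.card_le_card hDsub
      have h5 := (hall t ht2).two
      rw [Set.ncard_eq_toFinset_card'] at h5
      simp only [Set.toFinset_setOf] at h5
      rw [Set.toFinset_card, ← Nat.card_eq_fintype_card] at h1
      refine le_trans h1 ((Finset.card_insert_le _ _).trans ?_)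
      have := Finset.card_insert_le t (Finset.univ.filter fun c => Commute c t ∧ c * c = t)
      omega
    have hD2 : 2 ∣ Nat.card ↥D := ht2 ▸ Subgroup.orderOf_dvd_natCard D htD
    have hAD : A ⊓ D = ⊥ := by
      rw [eq_bot_iff]
      intro c hc
      exact hfixA t ht2 c hc.1 (mem_centralizer_singleton_iff.1 hc.2.1)
    have hsup : ∀ n ∈ normalizer (A : Set G), ∃ d ∈ A, d⁻¹ * n ∈ D := by
      intro n hn
      have hnu : n⁻¹ * u * n ∈ A := (Subgroup.mem_normalizer_iff''.1 hn u).1 huA
      have h4 : (n * t * n⁻¹) * u * (n * t * n⁻¹)⁻¹ = u⁻¹ := by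
        calc (n * t * n⁻¹) * u * (n * t * n⁻¹)⁻¹ = n * (t * (n⁻¹ * u * n) * t⁻¹) * n⁻¹ := by group
          _ = n * (n⁻¹ * u * n)⁻¹ * n⁻¹ := by rw [hinv _ hnu]
          _ = u⁻¹ := by group
      have hc : t⁻¹ * (n * t * n⁻¹) ∈ A := by
        rw [hAdef, mem_centralizer_singleton_iff]
        refine mul_inv_eq_iff_eq_mul.1 ?_
        calc t⁻¹ * (n * t * n⁻¹) * u * (t⁻¹ * (n * t * n⁻¹))⁻¹
            = t⁻¹ * ((n * t * n⁻¹) * u * (n * t * n⁻¹)⁻¹) * t := by group
          _ = t⁻¹ * (t * u * t⁻¹) * t := by rw [h4, hinv u huA]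
          _ = u := by group
      obtain ⟨k, hk⟩ := hodd
      set c := t⁻¹ * (n * t * n⁻¹) with hcdef
      set d := (c ^ (k + 1))⁻¹ with hd
      have hdA : d ∈ A := inv_mem (pow_mem hc _)
      refine ⟨d, hdA, mem_centralizer_singleton_iff.2 ?_,
        (normalizer (A : Set G)).mul_mem ((normalizer (A : Set G)).inv_mem (Subgroup.le_normalizer hdA)) hn⟩
      have hdd : (d * d)⁻¹ = c := by
        have h5 : c ^ Nat.card ↥A = 1 :=
          congrArg Subtype.val (pow_card_eq_one' (G := ↥A) (x := ⟨c, hc⟩))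
        rw [hk] at h5
        rw [hd, mul_inv_rev, inv_inv, ← pow_add, show k + 1 + (k + 1) = (2 * k + 1) + 1 by omega,
          pow_succ, h5, one_mul]
      have h7 : t⁻¹ * d * t = d⁻¹ := by
        have h6 : t * d * t⁻¹ = d⁻¹ := hinv d hdA
        rw [inv_eq_self_of_involution ht2] at h6 ⊢; exact h6
      have hdt : d * t * d⁻¹ = n * t * n⁻¹ := by
        calc d * t * d⁻¹ = t * (t⁻¹ * d * t) * d⁻¹ := by group
          _ = t * (d * d)⁻¹ := by rw [h7, mul_inv_rev]; group
          _ = n * t * n⁻¹ := by rw [hdd, hcdef]; group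
      calc d⁻¹ * n * t = d⁻¹ * (n * t * n⁻¹) * n := by group
        _ = d⁻¹ * (d * t * d⁻¹) * n := by rw [hdt]
        _ = t * (d⁻¹ * n) := by group
    have hNcard : Nat.card ↥(normalizer (A : Set G)) = Nat.card ↥A * Nat.card ↥D := by
      rw [← Nat.card_prod]
      symm
      refine Nat.card_eq_of_bijective
        (fun p : ↥A × ↥D => (⟨(p.1 : G) * p.2,
          mul_mem (Subgroup.le_normalizer p.1.2) p.2.2.2⟩ : ↥(normalizer (A : Set G)))) ⟨?_, ?_⟩
      · intro p q hpq
        have h := congrArg Subtype.val hpq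
        change (p.1 : G) * p.2 = q.1 * q.2 at h
        have h' : (q.1 : G)⁻¹ * p.1 = (q.2 : G) * (p.2 : G)⁻¹ := by
          calc (q.1 : G)⁻¹ * p.1 = (q.1 : G)⁻¹ * ((p.1 : G) * p.2) * (p.2 : G)⁻¹ := by group
            _ = (q.2 : G) * (p.2 : G)⁻¹ := by rw [h]; group
        have hmem : (q.1 : G)⁻¹ * p.1 ∈ A ⊓ D :=
          ⟨A.mul_mem (A.inv_mem q.1.2) p.1.2, h'.symm ▸ D.mul_mem q.2.2 (D.inv_mem p.2.2)⟩
        rw [hAD, Subgroup.mem_bot] at hmem
        have e1 : p.1 = q.1 := Subtype.ext (inv_mul_eq_one.1 hmem).symm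
        rw [e1] at h
        exact Prod.ext e1 (Subtype.ext (mul_left_cancel h))
      · rintro ⟨n, hn⟩
        obtain ⟨d, hd, hdn⟩ := hsup n hn
        exact ⟨(⟨d, hd⟩, ⟨_, hdn⟩), Subtype.ext (mul_inv_cancel_left d n)⟩
    have hidx := Subgroup.card_mul_index (normalizer (A : Set G))
    rw [hNcard, hg] at hidx
    have hpos : 0 < Nat.card ↥D := Nat.card_pos
    have hD24 : Nat.card ↥D = 2 ∨ Nat.card ↥D = 4 := by
      generalize Nat.card ↥D = k at *
      interval_cases k <;> omega
    rcases hD24 with hcd | hcd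
    · refine ⟨1, Nat.card ↥A - 1, Or.inl rfl, by omega, hodd, by omega, ?_⟩
      rw [hcd] at hidx; linarith
    · refine ⟨2, (Nat.card ↥A - 1) / 2, Or.inr ⟨rfl, ?_⟩, by omega, hodd, ?_, ?_⟩
      · -- an element of order 4 of `D` acts semiregularly on `A ∖ {1}`
        obtain ⟨w, hw, hwt⟩ : ∃ w ∈ D, w * w = t := by
          by_contra hcon
          push Not at hcon
          have hsub2 : (D : Set G).toFinset ⊆ {1, t} := by
            intro c hc
            have h1 := hDsub hc
            simp only [Finset.mem_insert, Finset.mem_filter, Finset.mem_univ, true_and,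
              Finset.mem_singleton] at h1 ⊢
            rcases h1 with h | h | ⟨-, h⟩
            · exact Or.inl h
            · exact Or.inr h
            · exact absurd h (hcon c (by simpa using hc))
          have := Finset.card_le_card hsub2
          rw [Set.toFinset_card, ← Nat.card_eq_fintype_card, Finset.card_pair
            (ne_one_of_involution ht2).symm] at this
          change Nat.card ↥D ≤ 2 at this
          omega
        have hw4 : orderOf w = 2 ^ 2 := by
          refine orderOf_eq_prime_pow (p := 2) (n := 1) ?_ ?_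
          · rw [pow_one, pow_two, hwt]; exact ne_one_of_involution ht2
          · rw [show 2 ^ (1 + 1) = 2 * 2 from rfl, pow_mul, pow_two w, hwt, pow_two]
            exact mul_self_eq_one ht2
        have hn : ∀ k ∈ zpowers w, ∀ c ∈ A, k * c * k⁻¹ ∈ A := fun k hk c hc =>
          (Subgroup.mem_normalizer_iff.1 ((zpowers_le.2 hw.2) hk) c).1 hc
        let act : MulAction ↥(zpowers w) ↥A :=
          { smul := fun k c => ⟨(k : G) * c * (k : G)⁻¹, hn k k.2 c c.2⟩
            one_smul := fun c => Subtype.ext (by change (1 : G) * c * (1 : G)⁻¹ = c; simp)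
            mul_smul := fun k l c => Subtype.ext (by
              change ((k : G) * l) * c * ((k : G) * l)⁻¹ = k * (l * c * (l : G)⁻¹) * (k : G)⁻¹
              group) }
        have hpg : IsPGroup 2 ↥(zpowers w) := IsPGroup.of_card (n := 2) (by rw [Nat.card_zpowers, hw4])
        -- count the orbits: each nontrivial orbit has length 4
        have hdvd : 4 ∣ Nat.card ↥A - 1 := by
          classical
          have : Fintype ↥A := Fintype.ofFinite _
          let s : Finset ↥A := Finset.univ.filter fun c => c ≠ 1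
          have hs : s.card = Nat.card ↥A - 1 := by
            simp only [s]
            rw [Finset.filter_ne', Finset.card_erase_of_mem (Finset.mem_univ _), Finset.card_univ,
              Nat.card_eq_fintype_card]
          let o : ↥A → Finset ↥A := fun c =>
            Finset.univ.filter fun d => d ∈ MulAction.orbit ↥(zpowers w) c
          have ho : ∀ c ∈ s, (o c).card = 4 := by
            intro c hc
            have hc1 : c ≠ 1 := (Finset.mem_filter.1 hc).2
            have hst : MulAction.stabilizer ↥(zpowers w) c = ⊥ := by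
              rw [eq_bot_iff]
              intro k hk
              have hk' : (k : G) * c * (k : G)⁻¹ = c := congrArg Subtype.val hk
              have hcomm : Commute (k : G) c := mul_inv_eq_iff_eq_mul.1 hk'
              by_contra hk1
              obtain ⟨j, hj⟩ := Subgroup.mem_zpowers_iff.1 k.2
              have h44 : w ^ (4 : ℤ) = 1 := by
                rw [show (4 : ℤ) = ((4 : ℕ) : ℤ) from rfl, zpow_natCast,
                  show (4 : ℕ) = orderOf w by rw [hw4]; norm_num, pow_orderOf_eq_one]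
              have hk2 : (k : G) * k = t ∨ (k : G) = t := by
                rw [← hj]
                rcases Int.even_or_odd' j with ⟨l, rfl | rfl⟩
                · rcases Int.even_or_odd' l with ⟨i, rfl | rfl⟩
                  · exfalso
                    apply hk1
                    refine Subgroup.mem_bot.2 (Subtype.ext ?_)
                    change (k : G) = 1
                    rw [← hj, show 2 * (2 * i) = 4 * i by ring, zpow_mul, h44, one_zpow]
                  · right
                    rw [show 2 * (2 * i + 1) = 4 * i + 2 by ring, zpow_add, zpow_mul, h44, one_zpow,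
                      one_mul, zpow_two, hwt]
                · left
                  rw [← zpow_add, show 2 * l + 1 + (2 * l + 1) = 4 * l + 2 by ring, zpow_add,
                    zpow_mul, h44, one_zpow, one_mul, zpow_two, hwt]
              refine hc1 (Subtype.ext (hfixA t ht2 c c.2 ?_))
              rcases hk2 with h | h
              · rw [← h]; exact hcomm.symm.mul_right hcomm.symm
              · rw [← h]; exact hcomm.symm
            have h1 := MulAction.index_stabilizer ↥(zpowers w) c
            rw [hst, Subgroup.index_bot, Nat.card_zpowers, hw4, Set.ncard_eq_toFinset_card'] at h1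
            simp only [o]
            rw [show (4 : ℕ) = 2 ^ 2 by norm_num, h1]
            congr 1
            ext d
            simp
          rw [← hs, Finset.card_eq_sum_card_fiberwise (f := o) (t := s.image o)
            fun c hc => Finset.mem_image_of_mem o hc]
          refine Finset.dvd_sum fun z hz => ?_
          obtain ⟨c, hc, rfl⟩ := Finset.mem_image.1 hz
          have heqs : s.filter (fun d => o d = o c) = o c := by
            ext d
            simp only [Finset.mem_filter]
            constructor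
            · rintro ⟨-, hd⟩
              rw [← hd]
              simp [o]
            · intro hd
              have hd' : d ∈ MulAction.orbit ↥(zpowers w) c := (Finset.mem_filter.1 hd).2
              refine ⟨?_, ?_⟩
              · refine Finset.mem_filter.2 ⟨Finset.mem_univ _, fun hd1 => ?_⟩
                obtain ⟨k, hk⟩ := hd'
                subst hd1
                exact (Finset.mem_filter.1 hc).2 (Subtype.ext (conj_eq_one_iff.1 (congrArg Subtype.val hk)))
              · simp only [o, MulAction.orbit_eq_iff.2 hd']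
          rw [heqs, ho c hc]
        obtain ⟨l, hl⟩ := hdvd
        exact ⟨l, by omega⟩
      · obtain ⟨k, hk⟩ := hodd; omega
      · rw [hcd] at hidx; linarith
  choose! ef df he hd1 hodd ha hidx using hA
  set a : Subgroup G → ℕ := fun A => Nat.card ↥A with hadef
  set I : Subgroup G → ℕ := fun A => (normalizer (A : Set G)).index with hIdef
  have hS : ∀ A ∈ reps, I A * ((a A - 1) * a A) = 4 * m * df A := by
    intro A hA
    have h1 : a A - 1 = ef A * df A := by
      have := ha A hA
      simp only [hadef]; omega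
    rw [h1, ← hidx A hA]; simp only [hadef, hIdef]; ring
  have hm' : m = 13 + 4 * ∑ A ∈ reps, df A := by
    have h10 := hsum id
    simp only [id] at h10
    rw [h10, Finset.sum_congr rfl hS, ← Finset.mul_sum] at heq
    refine Nat.eq_of_mul_eq_mul_left hmpos ?_
    rw [heq]; ring
  have hcount : ∑ A ∈ reps, I A * (a A - 1) + 1 ≤ 5 * m := by
    have h11 := hsum fun _ => 1
    simp only [Finset.sum_const, smul_eq_mul, mul_one] at h11
    simp only [hIdef, hadef]
    rw [← h11]
    have hd : Disjoint R (invs G) := Finset.disjoint_left.2 fun u hu hu' =>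
      (Finset.mem_filter.1 hu).2.1 (by
        rw [show (4 : ℕ) = 2 * 2 from rfl, pow_mul, ← mem_invs.1 hu', pow_orderOf_eq_one, one_pow])
    have hd' : Disjoint (R ∪ invs G) Q4 := Finset.disjoint_left.2 fun u hu hu' => by
      have h2 := (Finset.mem_filter.1 hu').2
      rcases Finset.mem_union.1 hu with h | h
      · refine (Finset.mem_filter.1 h).2.1 ?_
        rw [show (4 : ℕ) = 2 * 2 from rfl, pow_mul, pow_two u, pow_two]
        exact mul_self_eq_one h2
      · exact ne_one_of_involution h2 (mul_self_eq_one (mem_invs.1 h))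
    have h12 : (1 : G) ∉ R ∪ invs G ∪ Q4 := by
      simp only [Finset.mem_union, mem_invs, orderOf_one, hQ4, Finset.mem_filter, Finset.mem_univ,
        true_and, mul_one]
      rintro ((h | h) | h)
      · exact h1R h
      · omega
      · omega
    have h13 := Finset.card_le_univ (insert (1 : G) (R ∪ invs G ∪ Q4))
    rw [Finset.card_insert_of_notMem h12, Finset.card_union_of_disjoint hd',
      Finset.card_union_of_disjoint hd, hQcard, ← Nat.card_eq_fintype_card, hg, ← hm] at h13
    omega
  -- weights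
  have hT : ∀ A ∈ reps, 8 * m ≤ 5 * (I A * (a A - 1)) ∧ (ef A = 1 → 8 * m ≤ 3 * (I A * (a A - 1))) ∧
      I A * (a A - 1) * a A = 4 * m * df A := by
    intro A hA
    have h1 : a A = ef A * df A + 1 := ha A hA
    have h2 : I A * (ef A * a A) = 4 * m := hidx A hA
    have h3 := hodd A hA
    have h4 := hd1 A hA
    refine ⟨?_, ?_, by rw [mul_assoc]; exact hS A hA⟩
    · rcases he A hA with h | ⟨h, k, hk⟩ <;> rw [h] at h1 h2
      · obtain ⟨l, hl⟩ := h3
        have : 3 ≤ a A := by simp only [hadef] at *; omega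
        rw [h1, Nat.add_sub_cancel]
        rw [h1] at h2
        nlinarith
      · have : 5 ≤ a A := by omega
        rw [h1, Nat.add_sub_cancel]
        rw [h1] at h2
        nlinarith
    · intro h
      rw [h] at h1 h2
      obtain ⟨l, hl⟩ := h3
      have : 3 ≤ a A := by simp only [hadef] at *; omega
      rw [h1, Nat.add_sub_cancel]
      rw [h1] at h2
      nlinarith
  have hlen : reps.card ≤ 3 := by
    by_contra h
    have h14 := Finset.sum_le_sum fun A hA => (hT A hA).1
    simp only [Finset.sum_const, smul_eq_mul, ← Finset.mul_sum] at h14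
    have h15 : 4 * (8 * m) ≤ reps.card * (8 * m) := Nat.mul_le_mul_right _ (by omega)
    omega
  have hdvd : ∀ A ∈ reps, a A ∣ m := fun A hA => dvd_m m (a A) (ef A) (I A) (hidx A hA) (hodd A hA)
  have htwo : ∀ A ∈ reps, ef A ≠ 1 → a A = 2 * df A + 1 ∧ Even (df A) ∧ 5 ≤ a A ∧ a A % 4 = 1 := by
    intro A hA h
    obtain h' | ⟨h', k, hk⟩ := he A hA
    · exact absurd h' h
    · have := ha A hA
      rw [h'] at this
      have := hd1 A hA
      simp only [hadef]
      exact ⟨‹_›, ⟨k, hk⟩, by omega, by omega⟩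
  have hgoal : m = 21 ∨ m = 45 → Nat.card G = 168 ∨ Nat.card G = 360 := by
    rintro (h | h) <;> rw [hg, h] <;> simp
  apply hgoal
  obtain h | h | h | h : reps.card = 0 ∨ reps.card = 1 ∨ reps.card = 2 ∨ reps.card = 3 := by omega
  · -- no odd strongly real elements
    exfalso
    rw [Finset.card_eq_zero] at h
    rw [h, Finset.sum_empty] at hm'
    have hRempty : R = ∅ := by
      have h11 := hsum fun _ => 1
      rw [h] at h11
      simpa using h11
    have hg13 : Nat.card G = 104 := by rw [hg, hm']; norm_num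
    have : Fact (Nat.Prime 13) := ⟨by norm_num⟩
    obtain ⟨P⟩ : Nonempty (Sylow 13 G) := inferInstance
    have hPc : Nat.card ↥(P : Subgroup G) = 13 := by
      rw [P.card_eq_multiplicity, hg13, show (104 : ℕ) = 2 ^ 3 * 13 by norm_num,
        Nat.factorization_mul (by norm_num) (by norm_num)]
      simp [Nat.Prime.factorization (show Nat.Prime 13 by norm_num),
        Nat.factorization_eq_zero_of_not_dvd (show ¬ 13 ∣ 8 by norm_num)]
    have hn1 : Nat.card (Sylow 13 G) = 1 := by
      have h1 := P.card_dvd_index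
      have h2 := Subgroup.card_mul_index (P : Subgroup G)
      rw [hPc, hg13] at h2
      rw [show (P : Subgroup G).index = 8 by omega] at h1
      have h3 := card_sylow_modEq_one 13 G
      have h4 := Nat.le_of_dvd (by norm_num) h1
      unfold Nat.ModEq at h3
      generalize Nat.card (Sylow 13 G) = n at *
      omega
    have : Subsingleton (Sylow 13 G) := (Nat.card_eq_one_iff_unique.1 hn1).1
    have hPn : (P : Subgroup G).Normal := Sylow.normal_of_subsingleton P
    obtain ⟨⟨u, huP⟩, hu⟩ := exists_prime_orderOf_dvd_card' (G := ↥(P : Subgroup G)) 13 (by rw [hPc])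
    rw [Subgroup.orderOf_mk] at hu
    have hu4 : u ^ 4 ≠ 1 := fun h4 => by
      have := orderOf_dvd_of_pow_eq_one h4
      rw [hu] at this
      norm_num at this
    have hzu : zpowers u = (P : Subgroup G) :=
      Subgroup.eq_of_le_of_card_ge (zpowers_le.2 huP) (by rw [Nat.card_zpowers, hu, hPc])
    obtain ⟨k, hk⟩ := mem_zpowers_iff.1 (hzu ▸ hPn.conj_mem u huP x :
      x * u * x⁻¹ ∈ zpowers u)
    have hkk : u ^ (k * k) = u := by
      rw [zpow_mul, hk, conj_zpow, hk]
      calc x * (x * u * x⁻¹) * x⁻¹ = (x * x) * u * (x * x)⁻¹ := by group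
        _ = u := by rw [mul_self_eq_one hx]; simp
    have hdvd13 : ((13 : ℕ) : ℤ) ∣ (k - 1) * (k + 1) := by
      rw [show (k - 1) * (k + 1) = k * k - 1 by ring, ← hu, orderOf_dvd_iff_zpow_eq_one, zpow_sub,
        hkk, zpow_one, mul_inv_cancel]
    rcases (Nat.prime_iff_prime_int.1 (by norm_num : Nat.Prime 13)).dvd_mul.1 hdvd13 with h5 | h5
    · apply hu4
      refine hpow4 x u hx ?_
      rw [← hu, orderOf_dvd_iff_zpow_eq_one, zpow_sub, hk, zpow_one, mul_inv_eq_one] at h5
      exact (mul_inv_eq_iff_eq_mul.1 h5).symm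
    · rw [← hu, orderOf_dvd_iff_zpow_eq_one, zpow_add, hk, zpow_one, mul_eq_one_iff_eq_inv] at h5
      have hxR : u ∈ R := by
        refine Finset.mem_filter.2 ⟨Finset.mem_univ _, hu4, x, mem_invPairs_iff_inverts.2 ⟨hx, ?_, h5⟩⟩
        intro h6
        have := (inv_eq_of_mul_eq_one_right h6).symm.trans (inv_eq_self_of_involution hx)
        rw [this, hx] at hu
        omega
      rw [hRempty] at hxR
      exact absurd hxR (Finset.notMem_empty u)
  · obtain ⟨A, rfl⟩ := Finset.card_eq_one.1 h
    rw [Finset.sum_singleton] at hm'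
    have hA := Finset.mem_singleton_self A
    exact arith1 m (a A) (ef A) (df A) (I A) (he A hA) (hd1 A hA) (ha A hA) hm' (hidx A hA) (hodd A hA)
  · right
    obtain ⟨A, B, hne, rfl⟩ := Finset.card_eq_two.1 h
    rw [Finset.sum_pair hne] at hm' hcount
    have hA : A ∈ ({A, B} : Finset (Subgroup G)) := by simp
    have hB : B ∈ ({A, B} : Finset (Subgroup G)) := by simp
    -- at most one of the two is of type 1
    have mixed : ∀ P Q, P ∈ ({A, B} : Finset (Subgroup G)) → Q ∈ ({A, B} : Finset (Subgroup G)) →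
        ef P = 1 → ef Q ≠ 1 → df P + df Q = df A + df B →
        I P * (a P - 1) + I Q * (a Q - 1) = I A * (a A - 1) + I B * (a B - 1) → m = 45 := by
      intro P Q hP hQ hP1 hQ1 hdd hTT
      obtain ⟨q1, q2, q3, -⟩ := htwo Q hQ hQ1
      have p1 : a P = df P + 1 := by
        have := ha P hP
        rw [hP1, one_mul] at this
        exact this
      have hPo : Odd (a P) := hodd P hP
      refine arith12 m (a P) (a Q) (df P) (df Q) p1 q1 q2 (by have := hd1 P hP; omega) q3 hPo
        (by omega) (hdvd P hP) (hdvd Q hQ) ?_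
      have t1 := (hT P hP).2.2
      have t2 := (hT Q hQ).2.2
      have hab : 0 < a P * a Q := Nat.mul_pos (by omega) (by omega)
      nlinarith
    by_cases h1 : ef A = 1 <;> by_cases h2 : ef B = 1
    · exfalso
      have := (hT A hA).2.1 h1
      have := (hT B hB).2.1 h2
      omega
    · exact mixed A B hA hB h1 h2 rfl rfl
    · exact mixed B A hB hA h2 h1 (add_comm _ _) (add_comm _ _)
    · obtain ⟨a1, a2, a3, -⟩ := htwo A hA h1
      obtain ⟨b1, b2, b3, -⟩ := htwo B hB h2
      rcases le_total (a A) (a B) with hle | hle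
      · exact arith22 m _ _ _ _ a1 b1 a2 b2 a3 hle hm' (hdvd A hA) (hdvd B hB)
      · exact arith22 m _ _ _ _ b1 a1 b2 a2 b3 hle (by omega) (hdvd B hB) (hdvd A hA)
  · right
    obtain ⟨A, B, C, hAB, hAC, hBC, rfl⟩ := Finset.card_eq_three.1 h
    rw [Finset.sum_insert (by simp [hAB, hAC]), Finset.sum_pair hBC] at hm' hcount
    have hA : A ∈ ({A, B, C} : Finset (Subgroup G)) := by simp
    have hB : B ∈ ({A, B, C} : Finset (Subgroup G)) := by simp
    have hC : C ∈ ({A, B, C} : Finset (Subgroup G)) := by simp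
    have wA := (hT A hA).1
    have wB := (hT B hB).1
    have wC := (hT C hC).1
    have nA : ef A ≠ 1 := fun h1 => by have := (hT A hA).2.1 h1; omega
    have nB : ef B ≠ 1 := fun h1 => by have := (hT B hB).2.1 h1; omega
    have nC : ef C ≠ 1 := fun h1 => by have := (hT C hC).2.1 h1; omega
    obtain ⟨a1, -, a3, a4⟩ := htwo A hA nA
    obtain ⟨b1, -, b3, b4⟩ := htwo B hB nB
    obtain ⟨c1, -, c3, c4⟩ := htwo C hC nC
    have tA := (hT A hA).2.2
    have tB := (hT B hB).2.2
    have tC := (hT C hC).2.2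
    have hlt : a A * a B * a C < 2 * (a A * a B + a B * a C + a C * a A) := by
      have h0 : 0 < a A * a B * a C := Nat.mul_pos (Nat.mul_pos (by omega) (by omega)) (by omega)
      have h5 : (I A * (a A - 1) + (I B * (a B - 1) + I C * (a C - 1))) * (a A * a B * a C) <
          5 * m * (a A * a B * a C) := Nat.mul_lt_mul_of_pos_right (by omega) h0
      have h6 : (I A * (a A - 1) + (I B * (a B - 1) + I C * (a C - 1))) * (a A * a B * a C) =
          4 * m * (df A * (a B * a C) + df B * (a A * a C) + df C * (a A * a B)) := by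
        calc _ = (I A * (a A - 1) * a A) * (a B * a C) + (I B * (a B - 1) * a B) * (a A * a C) +
              (I C * (a C - 1) * a C) * (a A * a B) := by ring
          _ = _ := by rw [tA, tB, tC]; ring
      rw [h6] at h5
      have h7 : 4 * (df A * (a B * a C) + df B * (a A * a C) + df C * (a A * a B)) <
          5 * (a A * a B * a C) := Nat.lt_of_mul_lt_mul_left (a := m) (by linarith)
      rw [a1, b1, c1] at h7 ⊢
      nlinarith
    -- sort the three orders
    have sym : ∀ p q r : ℕ, p % 4 = 1 → q % 4 = 1 → r % 4 = 1 → 5 ≤ p → p ≤ q → q ≤ r →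
        m = 7 + 2 * (p + q + r) → p ∣ m → p * q * r < 2 * (p * q + q * r + r * p) → m = 45 :=
      fun p q r => arith222 m p q r
    rcases le_total (a A) (a B) with h1 | h1 <;> rcases le_total (a B) (a C) with h2 | h2 <;>
      rcases le_total (a A) (a C) with h3 | h3
    all_goals first
      | exact sym _ _ _ a4 b4 c4 a3 h1 h2 (by omega) (hdvd A hA) (by linarith)
      | exact sym _ _ _ a4 c4 b4 a3 h3 h2 (by omega) (hdvd A hA) (by linarith)
      | exact sym _ _ _ b4 a4 c4 b3 h1 h3 (by omega) (hdvd B hB) (by linarith)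
      | exact sym _ _ _ b4 c4 a4 b3 h2 h3 (by omega) (hdvd B hB) (by linarith)
      | exact sym _ _ _ c4 a4 b4 c3 h3 h1 (by omega) (hdvd C hC) (by linarith)
      | exact sym _ _ _ c4 b4 a4 c3 h2 h1 (by omega) (hdvd C hC) (by linarith)

theorem hall_of_no_index_two [Finite G] {t : G} (h : IsD8Centralizer t)
    (hidx : ∀ H : Subgroup G, H.index ≠ 2) : ∀ u : G, orderOf u = 2 → IsD8Centralizer u := by
  intro u hu
  obtain ⟨g, rfl⟩ := isConj_iff.1 (isConj_of_no_index_two h hidx hu)
  exact h.conj g

/-- The order is 168 or 360. -/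
theorem card_168_or_360 [Finite G] {t : G} (ht : orderOf t = 2)
    (e : ↥(centralizer ({t} : Set G)) ≃* DihedralGroup 4)
    (hidx : ∀ H : Subgroup G, H.index ≠ 2) : Nat.card G = 168 ∨ Nat.card G = 360 := by
  have := Fintype.ofFinite G
  have h := isD8Centralizer_of_equiv ht e
  exact card_eq (hall_of_no_index_two h hidx) ht fun u hu => isConj_of_no_index_two h hidx hu

/-- The group is simple and non-abelian. -/
theorem isSimpleGroup [Finite G] {t : G} (ht : orderOf t = 2)
    (e : ↥(centralizer ({t} : Set G)) ≃* DihedralGroup 4)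
    (hidx : ∀ H : Subgroup G, H.index ≠ 2) : IsSimpleGroup G := by
  have h := isD8Centralizer_of_equiv ht e
  have hall := hall_of_no_index_two h hidx
  have hconj : ∀ u v : G, orderOf u = 2 → orderOf v = 2 → IsConj u v := fun u v hu hv =>
    (isConj_of_no_index_two h hidx hu).symm.trans (isConj_of_no_index_two h hidx hv)
  have hG : Nat.card G = 168 ∨ Nat.card G = 360 := card_168_or_360 ht e hidx
  have : Nontrivial G := ⟨⟨t, 1, ne_one_of_involution ht⟩⟩
  refine ⟨fun N hN => ?_⟩
  by_cases hev : ∃ v ∈ N, orderOf v = 2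
  · -- `N` contains every involution and has odd index
    right
    obtain ⟨v, hvN, hv⟩ := hev
    have hallN : ∀ u : G, orderOf u = 2 → u ∈ N := fun u hu => by
      obtain ⟨g, rfl⟩ := isConj_iff.1 (hconj v u hv hu)
      exact hN.conj_mem v hvN g
    obtain ⟨r, hr1, hr2⟩ := h.rot
    -- the Sylow subgroup lies in `N`
    have hC : centralizer ({t} : Set G) ≤ N := by
      intro c hc
      have hct : Commute c t := mem_centralizer_singleton_iff.1 hc
      by_cases hc1 : c = 1
      · rw [hc1]; exact N.one_mem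
      by_cases hcc : c * c = 1
      · exact hallN c (orderOf_eq_two_iff_mul.2 ⟨hc1, hcc⟩)
      -- write `c` as a product of two involutions
      obtain ⟨s, ⟨hs, hs2⟩, hst⟩ : ∃ s ∈ {s : G | Commute s t ∧ orderOf s = 2}, s ≠ t := by
        by_contra hcon
        push Not at hcon
        have := Set.ncard_le_ncard (show {s : G | Commute s t ∧ orderOf s = 2} ⊆ {t} from
          fun s hs => hcon s hs) (Set.toFinite _)
        rw [h.five, Set.ncard_singleton] at this
        omega
      have hsc : (s * c) * (s * c) = 1 := by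
        have := h.inv c s hct hs hcc hs2 hst
        rw [inv_eq_self_of_involution hs2] at this
        rw [← mul_assoc, this, inv_mul_cancel]
      have hsc1 : s * c ≠ 1 := fun h' => hcc (by
        rw [← inv_eq_of_mul_eq_one_right h', inv_eq_self_of_involution hs2]
        exact mul_self_eq_one hs2)
      have := N.mul_mem (hallN s hs2) (hallN (s * c) (orderOf_eq_two_iff_mul.2 ⟨hsc1, hsc⟩))
      rwa [← mul_assoc, mul_self_eq_one hs2, one_mul] at this
    obtain ⟨P, hP⟩ := exists_sylow_eq h
    -- all involutions are conjugate inside `N`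
    have hinN : ∀ w : G, orderOf w = 2 → ∃ n ∈ N, n * t * n⁻¹ = w := by
      intro w hw
      obtain ⟨Q, hQ⟩ := exists_sylow_eq (hall w hw)
      have hQN : (Q : Subgroup G) ≤ N := by
        obtain ⟨g, hg⟩ := MulAction.exists_smul_eq G P Q
        rw [← hg]
        rintro _ ⟨c, hc, rfl⟩
        exact hN.conj_mem c (hC (hP ▸ hc)) g
      obtain ⟨⟨n, hnN⟩, hn⟩ := MulAction.exists_smul_eq (↥N) (P.subtype (hP.le.trans hC)) (Q.subtype hQN)
      refine ⟨n, hnN, ?_⟩
      have hmap : ∀ c : G, c ∈ centralizer ({w} : Set G) → n⁻¹ * c * n ∈ centralizer ({t} : Set G) := by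
        intro c hc
        have hcN : c ∈ N := hQN (hQ ▸ hc)
        have h1 : (⟨c, hcN⟩ : ↥N) ∈ (Q.subtype hQN : Subgroup ↥N) := by
          change c ∈ (Q : Subgroup G)
          rw [hQ]; exact hc
        rw [← hn, Sylow.coe_subgroup_smul, Subgroup.mem_pointwise_smul_iff_inv_smul_mem] at h1
        have h2 : n⁻¹ * c * n ∈ (P : Subgroup G) := by
          have : ((⟨n, hnN⟩ : ↥N)⁻¹ * ⟨c, hcN⟩ * (⟨n, hnN⟩ : ↥N)) ∈ (P.subtype (hP.le.trans hC) : Subgroup ↥N) := by
            simpa [MulAut.smul_def] using h1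
          exact this
        rwa [hP] at h2
      have hbij : ∀ d : G, Commute d t → Commute (n * d * n⁻¹) w := by
        intro d hd
        have hsub : (centralizer ({w} : Set G)).map (MulAut.conj n⁻¹).toMonoidHom ≤ centralizer ({t} : Set G) := by
          rintro _ ⟨c, hc, rfl⟩
          simpa [MulAut.conj_apply] using hmap c hc
        have heq := Subgroup.eq_of_le_of_card_ge hsub (by
          rw [card_map_of_injective (MulAut.conj n⁻¹).injective, (hall w hw).card, h.card])
        obtain ⟨c, hc, hcd⟩ := heq.ge (mem_centralizer_singleton_iff.2 hd.eq)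
        have : n * d * n⁻¹ = c := by
          rw [← hcd]
          simp [MulAut.conj_apply, mul_assoc]
        rw [this]
        exact mem_centralizer_singleton_iff.1 hc
      refine (hall w hw).central _ (by rw [orderOf_conj_eq, ht]) (hbij t (Commute.refl t)) fun d hd => ?_
      have h3 : Commute (n⁻¹ * d * n) t :=
        mem_centralizer_singleton_iff.1 (hmap d (mem_centralizer_singleton_iff.2 hd.eq))
      have := Commute.map h3.symm (MulAut.conj n).toMonoidHom
      simpa [MulAut.conj_apply, mul_assoc] using this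
    refine eq_top_iff.2 fun g _ => ?_
    obtain ⟨n, hnN, hn⟩ := hinN (g * t * g⁻¹) (by rw [orderOf_conj_eq, ht])
    have hmem : n⁻¹ * g ∈ centralizer ({t} : Set G) := by
      refine mem_centralizer_singleton_iff.2 (mul_inv_eq_iff_eq_mul.1 ?_)
      calc n⁻¹ * g * t * (n⁻¹ * g)⁻¹ = n⁻¹ * (g * t * g⁻¹) * n := by group
        _ = t := by rw [← hn]; group
    have := N.mul_mem hnN (hC hmem)
    rwa [mul_inv_cancel_left] at this
  · left
    push Not at hev
    -- involutions act on `N` without fixed points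
    have hfixN : ∀ s : G, orderOf s = 2 → ∀ c ∈ N, Commute c s → c = 1 := by
      intro s hs c hc hcs
      by_contra hc1
      by_cases h2 : c * c = 1
      · exact hev c hc (orderOf_eq_two_iff_mul.2 ⟨hc1, h2⟩)
      · exact hev (c * c) (N.mul_mem hc hc) (by rw [(hall s hs).four c hcs h2]; exact hs)
    obtain ⟨s, ⟨hs, hs2⟩, hst⟩ : ∃ s ∈ {s : G | Commute s t ∧ orderOf s = 2}, s ≠ t := by
      by_contra hcon
      push Not at hcon
      have := Set.ncard_le_ncard (show {s : G | Commute s t ∧ orderOf s = 2} ⊆ {t} from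
        fun s hs => hcon s hs) (Set.toFinite _)
      rw [h.five, Set.ncard_singleton] at this
      omega
    have hst2 : orderOf (s * t) = 2 := by
      refine orderOf_eq_two_iff_mul.2 ⟨fun h' => hst ?_, ?_⟩
      · exact ((inv_eq_of_mul_eq_one_left h').symm.trans (inv_eq_self_of_involution ht))
      · rw [hs.symm.mul_mul_mul_comm, mul_self_eq_one hs2, mul_self_eq_one ht, one_mul]
    rw [eq_bot_iff]
    intro c hc
    have := Fintype.ofFinite G
    have h1 := inverts_of_fixedPointFree hs2 (fun d hd => hN.conj_mem d hd s) (hfixN s hs2) c hc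
    have h2 := inverts_of_fixedPointFree ht (fun d hd => hN.conj_mem d hd t) (hfixN t ht)
    refine hfixN _ hst2 c hc ?_
    have h3 : (s * t) * c * (s * t)⁻¹ = c := by
      calc (s * t) * c * (s * t)⁻¹ = s * (t * c * t⁻¹) * s⁻¹ := by group
        _ = (s * c * s⁻¹)⁻¹ := by rw [h2 c hc]; group
        _ = c := by rw [h1, inv_inv]
    exact (mul_inv_eq_iff_eq_mul.1 h3).symm

end CfsgLib.InvChar.DihedralEight
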