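import Cfsg.Agent.Lib.ClassicalGroups.HermGroup
import Cfsg.Agent.Classical.SLBasic

/-!
# Sylow 2-subgroups of `PSL₃(F)` and `PSU₃(q)` in characteristic two, as explicit groups
-/

set_option autoImplicit false

namespace CfsgLib.InvCharThree

open Matrix

/-- An injective hom from a 2-group into `G` stays injective modulo an odd order centre. -/
theorem mk_comp_injective {U G : Type*} [Group U] [Group G] [Finite G] (hU : IsPGroup 2 U)
    (f : U →* G) (hf : Function.Injective f) (hZ : Odd (Nat.card (Subgroup.center G))) :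
    Function.Injective ((QuotientGroup.mk' (Subgroup.center G)).comp f) := by
  rw [injective_iff_map_eq_one]
  intro u hu
  have hmem : f u ∈ Subgroup.center G := (QuotientGroup.eq_one_iff _).1 hu
  obtain ⟨k, hk⟩ := hU u
  have h1 : orderOf (f u) ∣ Nat.gcd (2 ^ k) (Nat.card (Subgroup.center G)) :=
    Nat.dvd_gcd (orderOf_dvd_of_pow_eq_one (by rw [← map_pow, hk, map_one]))
      (Subgroup.orderOf_dvd_natCard _ hmem)
  rw [(Nat.coprime_two_left.2 hZ).pow_left k, Nat.dvd_one, orderOf_eq_one_iff] at h1
  exact hf (h1.trans (map_one f).symm)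

/-- A 2-group embedded with `|G| * m = |U| * r`, `r` odd, is iso to every Sylow 2-subgroup. -/
theorem nonempty_equiv_sylow {U G : Type*} [Group U] [Group G] [Finite G] (hU : IsPGroup 2 U)
    (f : U →* G) (hf : Function.Injective f) {m r : ℕ} (hr : Odd r)
    (hcard : Nat.card G * m = Nat.card U * r) (S : Sylow 2 G) :
    Nonempty (U ≃* (S : Subgroup G)) := by
  have : Fact (Nat.Prime 2) := ⟨Nat.prime_two⟩
  have hR : IsPGroup 2 f.range := hU.of_equiv (MonoidHom.ofInjective hf)
  have : Finite U := Finite.of_injective f hf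
  have hidx : ¬ 2 ∣ f.range.index := by
    intro h2
    rw [← f.range.card_mul_index, Nat.card_congr (MonoidHom.ofInjective hf).symm.toEquiv, mul_assoc] at hcard
    have h : f.range.index * m = r := Nat.eq_of_mul_eq_mul_left Nat.card_pos hcard
    exact hr.not_two_dvd_nat (h ▸ h2.mul_right m)
  exact ⟨(MonoidHom.ofInjective hf).trans ((hR.toSylow hidx).equiv S)⟩

/-! ### `PSL₃` -/

/-- Upper unitriangular 3×3 matrices `[[1,v,w],[0,1,u],[0,0,1]]`. -/
@[ext] structure Uni (F : Type*) where
  u : F
  v : F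
  w : F

section Uni

variable {F : Type*} [Field F]

instance uniMul : Mul (Uni F) := ⟨fun x y => ⟨x.u + y.u, x.v + y.v, x.w + y.w + x.v * y.u⟩⟩
instance uniOne : One (Uni F) := ⟨⟨0, 0, 0⟩⟩
instance uniInv : Inv (Uni F) := ⟨fun x => ⟨-x.u, -x.v, -x.w + x.v * x.u⟩⟩

@[simp] theorem uni_mul_u (x y : Uni F) : (x * y).u = x.u + y.u := rfl
@[simp] theorem uni_mul_v (x y : Uni F) : (x * y).v = x.v + y.v := rfl
@[simp] theorem uni_mul_w (x y : Uni F) : (x * y).w = x.w + y.w + x.v * y.u := rfl
@[simp] theorem uni_one_u : (1 : Uni F).u = 0 := rfl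
@[simp] theorem uni_one_v : (1 : Uni F).v = 0 := rfl
@[simp] theorem uni_one_w : (1 : Uni F).w = 0 := rfl
@[simp] theorem uni_inv_u (x : Uni F) : x⁻¹.u = -x.u := rfl
@[simp] theorem uni_inv_v (x : Uni F) : x⁻¹.v = -x.v := rfl
@[simp] theorem uni_inv_w (x : Uni F) : x⁻¹.w = -x.w + x.v * x.u := rfl

instance uniGroup : Group (Uni F) where
  mul_assoc x y z := by ext <;> simp <;> ring
  one_mul x := by ext <;> simp
  mul_one x := by ext <;> simp
  inv_mul_cancel x := by ext <;> simp <;> ring

/-- The obvious bijection with triples. -/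
def uniEquiv : Uni F ≃ F × F × F where
  toFun x := (x.u, x.v, x.w)
  invFun t := ⟨t.1, t.2.1, t.2.2⟩
  left_inv _ := rfl
  right_inv _ := rfl

/-- The matrix embedding. -/
def uniToSL : Uni F →* SpecialLinearGroup (Fin 3) F where
  toFun x := ⟨!![1, x.v, x.w; 0, 1, x.u; 0, 0, 1], by simp [det_fin_three]⟩
  map_one' := by
    ext i j; fin_cases i <;> fin_cases j <;> simp
  map_mul' x y := by
    refine Subtype.ext ?_
    show (!![1, (x * y).v, (x * y).w; 0, 1, (x * y).u; 0, 0, 1] : Matrix (Fin 3) (Fin 3) F) =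
      !![1, x.v, x.w; 0, 1, x.u; 0, 0, 1] * !![1, y.v, y.w; 0, 1, y.u; 0, 0, 1]
    ext i j; fin_cases i <;> fin_cases j <;> simp [mul_apply, Fin.sum_univ_three] <;> ring

theorem uniToSL_injective : Function.Injective (uniToSL (F := F)) := by
  intro x y h
  have e := fun i j => congrArg (fun A : SpecialLinearGroup (Fin 3) F => A.1 i j) h
  ext
  · exact e 1 2
  · exact e 0 1
  · exact e 0 2

variable [Fintype F]

theorem natCard_uni : Nat.card (Uni F) = Fintype.card F ^ 3 := by
  rw [Nat.card_congr uniEquiv, Nat.card_prod, Nat.card_prod, Nat.card_eq_fintype_card]; ring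

theorem isPGroup_uni {n : ℕ} (hF : Fintype.card F = 2 ^ n) : IsPGroup 2 (Uni F) :=
  IsPGroup.of_card (n := n * 3) (by rw [natCard_uni, hF, pow_mul])

/-- The Sylow 2-subgroups of `PSL₃(F)`, `|F| = 2^n`, are copies of the unitriangular group. -/
theorem uni_equiv_sylow_psl {n : ℕ} (hn : 1 ≤ n) (hF : Fintype.card F = 2 ^ n)
    (S : Sylow 2 (ProjectiveSpecialLinearGroup (Fin 3) F)) : Nonempty (Uni F ≃* (S : Subgroup (ProjectiveSpecialLinearGroup (Fin 3) F))) := by
  have hq : 2 ≤ Fintype.card F := Fintype.one_lt_card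
  have he : Even (Fintype.card F) := by rw [hF]; exact even_two.pow_of_ne_zero (by omega)
  obtain ⟨c, hc⟩ := he
  have hZ : Odd (Nat.card (Subgroup.center (SpecialLinearGroup (Fin 3) F))) := by
    rw [Cfsg.Agent.Classical.card_center_sl 3 (by norm_num)]
    exact Odd.of_dvd_nat (by decide : Odd 3) (Nat.gcd_dvd_left _ _)
  have hc3 := Cfsg.Agent.Classical.card_psl_mul (F := F) 3 (by norm_num)
  rw [Fin.prod_univ_three] at hc3
  obtain ⟨k, hk⟩ : ∃ k, Fintype.card F = k + 1 := ⟨Fintype.card F - 1, by omega⟩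
  refine nonempty_equiv_sylow (isPGroup_uni hF) ((QuotientGroup.mk' _).comp uniToSL)
    (mk_comp_injective (isPGroup_uni hF) uniToSL uniToSL_injective hZ)
    (m := Nat.gcd 3 (Fintype.card F - 1) * (Fintype.card F - 1))
    (r := (Fintype.card F ^ 3 - 1) * (Fintype.card F ^ 2 - 1) * (Fintype.card F - 1)) ?_ ?_ S
  · have hev : Even (Fintype.card F) := ⟨c, hc⟩
    refine (Odd.mul (Odd.mul ?_ ?_) ?_)
    · exact Nat.Even.sub_odd (Nat.one_le_pow _ _ (by omega)) (hev.pow_of_ne_zero (by norm_num)) odd_one
    · exact Nat.Even.sub_odd (Nat.one_le_pow _ _ (by omega)) (hev.pow_of_ne_zero (by norm_num)) odd_one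
    · exact Nat.Even.sub_odd (by omega) hev odd_one
  · rw [natCard_uni]
    have e1 : Fintype.card F ^ 3 - Fintype.card F ^ ((1 : Fin 3) : ℕ) = Fintype.card F * (Fintype.card F ^ 2 - 1) := by
      rw [Nat.mul_sub_one, ← pow_succ', Fin.val_one, pow_one]
    have e2 : Fintype.card F ^ 3 - Fintype.card F ^ ((2 : Fin 3) : ℕ) = Fintype.card F ^ 2 * (Fintype.card F - 1) := by
      rw [Nat.mul_sub_one, ← pow_succ, Fin.val_two]
    rw [Fin.val_zero, pow_zero, e1, e2] at hc3
    calc _ = _ := by ring
      _ = _ := hc3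
      _ = _ := by ring

end Uni

/-! ### `PSU₃` -/

/-- Pairs `(a, b)` with `b + b^q = a^(q+1)`. -/
@[ext] structure Herm (F : Type*) [Field F] (q : ℕ) where
  a : F
  b : F
  rel : b + b ^ q = a ^ (q + 1)

section Herm

variable {F : Type*} [Field F] [Fintype F] {q : ℕ}

open CfsgLib.ClassicalGroups

theorem two_eq_zero (hF : Fintype.card F = q ^ 2) (he : Even q) : (2 : F) = 0 := by
  obtain ⟨p, k, hp, hc, hk⟩ := herm_exists_prime_pow hF
  have h2 : p = 2 := by
    have : 2 ∣ p ^ k := hk ▸ he.two_dvd
    exact ((Nat.prime_dvd_prime_iff_eq Nat.prime_two hp).1 (Nat.prime_two.dvd_of_dvd_pow this)).symm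
  subst h2
  exact_mod_cast CharP.cast_eq_zero F 2

/-- The group structure on `Herm F q`. -/
@[reducible] def hermGroup (hF : Fintype.card F = q ^ 2) (he : Even q) : Group (Herm F q) :=
  have h2 := two_eq_zero hF he
  have hq : q ≠ 0 := by have := herm_two_le hF; omega
  let _ : Mul (Herm F q) := ⟨fun x y => ⟨x.a + y.a, x.b + y.b + x.a ^ q * y.a, by
      simp only [← hermConj_apply hF, map_add, map_mul, pow_succ]
      have hx := x.rel; have hy := y.rel
      simp only [← hermConj_apply hF, pow_succ] at hx hy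
      have hcc : hermConj hF (hermConj hF x.a) = x.a := hermConj_conj hF x.a
      rw [hcc]
      linear_combination hx + hy⟩⟩
  let _ : One (Herm F q) := ⟨⟨0, 0, by simp [hq]⟩⟩
  let _ : Inv (Herm F q) := ⟨fun x => ⟨x.a, x.b ^ q, by rw [hermConj_conj hF, add_comm]; exact x.rel⟩⟩
  { mul := (· * ·)
    one := 1
    inv := (·⁻¹)
    mul_assoc := fun x y z => by
      refine Herm.ext (add_assoc _ _ _) ?_
      show x.b + y.b + x.a ^ q * y.a + z.b + (x.a + y.a) ^ q * z.a =
        x.b + (y.b + z.b + y.a ^ q * z.a) + x.a ^ q * (y.a + z.a)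
      simp only [← hermConj_apply hF, map_add]
      ring
    one_mul := fun x => Herm.ext (zero_add _) (by show 0 + x.b + (0 : F) ^ q * x.a = x.b; simp [hq])
    mul_one := fun x => Herm.ext (add_zero _) (by show x.b + 0 + x.a ^ q * 0 = x.b; simp)
    inv_mul_cancel := fun x => Herm.ext (by show x.a + x.a = 0; rw [← two_mul, h2, zero_mul]) (by
      show x.b ^ q + x.b + x.a ^ q * x.a = 0
      have hx := x.rel
      rw [pow_succ] at hx
      linear_combination hx + (x.a ^ q * x.a) * h2) }

variable (hF : Fintype.card F = q ^ 2) (he : Even q)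

theorem herm_mul_a (x y : Herm F q) : letI := hermGroup hF he; (x * y).a = x.a + y.a := rfl
theorem herm_mul_b (x y : Herm F q) : letI := hermGroup hF he; (x * y).b = x.b + y.b + x.a ^ q * y.a := rfl
theorem herm_one_a : letI := hermGroup hF he; (1 : Herm F q).a = 0 := rfl
theorem herm_one_b : letI := hermGroup hF he; (1 : Herm F q).b = 0 := rfl
theorem herm_inv_a (x : Herm F q) : letI := hermGroup hF he; x⁻¹.a = x.a := rfl
theorem herm_inv_b (x : Herm F q) : letI := hermGroup hF he; x⁻¹.b = x.b ^ q := rfl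

include hF in
theorem card_fixed_le : Nat.card {x : F // x ^ q = x} ≤ q := by
  classical
  have hq := herm_two_le hF
  have hne : (Polynomial.X ^ q - Polynomial.X : Polynomial F) ≠ 0 :=
    FiniteField.X_pow_card_sub_X_ne_zero F (by omega)
  have hsub : (Finset.univ.filter fun x : F => x ^ q = x) ⊆ (Polynomial.X ^ q - Polynomial.X : Polynomial F).roots.toFinset := by
    intro x hx
    simp only [Finset.mem_filter, Finset.mem_univ, true_and] at hx
    rw [Multiset.mem_toFinset, Polynomial.mem_roots hne]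
    simp [hx]
  rw [Nat.card_eq_fintype_card, Fintype.card_subtype]
  refine (Finset.card_le_card hsub).trans ((Multiset.toFinset_card_le _).trans ((Polynomial.card_roots' _).trans ?_))
  rw [FiniteField.X_pow_card_sub_X_natDegree_eq F (by omega)]

include hF he in
/-- Trace onto the fixed field: each fibre has `q` elements. -/
theorem card_trace_fibre {c : F} (hc : c ^ q = c) : Nat.card {b : F // b + b ^ q = c} = q := by
  classical
  have h2 := two_eq_zero hF he
  have hq := herm_two_le hF
  let Φ : AddSubgroup F :=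
    { carrier := {x | x ^ q = x}
      zero_mem' := zero_pow (by omega)
      add_mem' := fun {x y} hx hy => by
        simp only [Set.mem_ofPred_eq, ← hermConj_apply hF] at *; rw [map_add, hx, hy]
      neg_mem' := fun {x} hx => by
        simp only [Set.mem_ofPred_eq, ← hermConj_apply hF] at *; rw [map_neg, hx] }
  let τ : F →+ F :=
    { toFun := fun b => b + b ^ q
      map_zero' := by simp [zero_pow (show q ≠ 0 by omega)]
      map_add' := fun x y => by simp only [← hermConj_apply hF, map_add]; ring }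
  have hker : τ.ker = Φ := by
    ext x
    show x + x ^ q = 0 ↔ x ^ q = x
    constructor
    · intro h; linear_combination h - x * h2
    · intro h; rw [h, ← two_mul, h2, zero_mul]
  have hran : τ.range ≤ Φ := by
    rintro _ ⟨x, rfl⟩
    show (x + x ^ q) ^ q = x + x ^ q
    rw [← hermConj_apply hF, map_add, hermConj_apply hF, hermConj_apply hF, hermConj_conj hF, add_comm]
  have hΦ : Nat.card Φ ≤ q := card_fixed_le hF
  have hle : Nat.card τ.range ≤ Nat.card Φ := AddSubgroup.card_le_of_le hran
  have hmul : Nat.card Φ * Nat.card τ.range = q * q := by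
    rw [← hker, ← AddSubgroup.index_ker, AddSubgroup.card_mul_index, Nat.card_eq_fintype_card, hF, pow_two]
  have hΦq : Nat.card Φ = q := by
    have := Nat.mul_le_mul_left (Nat.card Φ) hle
    nlinarith
  have hRq : Nat.card τ.range = q := by
    rw [hΦq] at hmul
    exact Nat.eq_of_mul_eq_mul_left (by omega) hmul
  obtain ⟨b₀, hb₀⟩ : ∃ b₀, τ b₀ = c := by
    have := AddSubgroup.eq_of_le_of_card_ge hran (by omega)
    exact this.ge (show c ∈ Φ from hc)
  refine Eq.trans ?_ hΦq
  rw [← hker]
  exact Nat.card_congr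
    { toFun := fun b => ⟨b - b₀, by rw [AddMonoidHom.mem_ker, map_sub, hb₀]; exact sub_eq_zero.2 b.2⟩
      invFun := fun k => ⟨k + b₀, by
        have := k.2; rw [AddMonoidHom.mem_ker] at this
        show τ (k + b₀) = c
        rw [map_add, this, hb₀, zero_add]⟩
      left_inv := fun b => Subtype.ext (sub_add_cancel _ _)
      right_inv := fun k => Subtype.ext (add_sub_cancel_right _ _) }

/-- `Herm F q` as a sigma type. -/
def hermEquiv : Herm F q ≃ Σ a : F, {b : F // b + b ^ q = a ^ (q + 1)} where
  toFun x := ⟨x.a, x.b, x.rel⟩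
  invFun s := ⟨s.1, s.2.1, s.2.2⟩
  left_inv _ := rfl
  right_inv _ := rfl

include hF in
theorem norm_fixed (a : F) : (a ^ (q + 1)) ^ q = a ^ (q + 1) := by
  rw [← pow_mul, mul_comm, pow_mul, pow_succ (a ^ q), hermConj_conj hF, pow_succ']

include hF he in
theorem natCard_herm : Nat.card (Herm F q) = q ^ 3 := by
  classical
  rw [Nat.card_congr hermEquiv, Nat.card_sigma, Finset.sum_congr rfl (fun a _ => card_trace_fibre hF he (norm_fixed hF a))]
  simp [hF]; ring

theorem isPGroup_herm {n : ℕ} (hn : q = 2 ^ n) : letI := hermGroup hF he; IsPGroup 2 (Herm F q) := by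
  let _ := hermGroup hF he
  exact IsPGroup.of_card (n := n * 3) (by rw [natCard_herm hF he, hn, pow_mul])

/-- The matrix of a pair. -/
def hermMat (x : Herm F q) : Matrix (Fin 3) (Fin 3) F :=
  !![1 + x.b, x.b, x.a ^ q; x.b, 1 + x.b, x.a ^ q; x.a, x.a, 1]

include hF he in
theorem hermMat_det (x : Herm F q) : (hermMat x).det = 1 := by
  have h2 := two_eq_zero hF he
  simp [hermMat, det_fin_three]
  linear_combination x.b * h2 - x.a * x.a ^ q * h2

include hF he in
theorem hermMat_preserves (x : Herm F q) (u v : Fin 3 → F) :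
    Cfsg.hermForm 3 F q (hermMat x *ᵥ u) (hermMat x *ᵥ v) = Cfsg.hermForm 3 F q u v := by
  have h2 := two_eq_zero hF he
  have hcc : hermConj hF (hermConj hF x.a) = x.a := hermConj_conj hF x.a
  have hb := x.rel
  rw [pow_succ', ← hermConj_apply hF, ← hermConj_apply hF] at hb
  simp [Cfsg.hermForm, hermMat, mulVec, dotProduct, Fin.sum_univ_three]
  simp only [← hermConj_apply hF, map_add, map_mul, map_one, hcc]
  generalize hermConj hF x.a = A at *
  generalize hermConj hF x.b = B at *
  generalize hermConj hF (v 0) = w0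
  generalize hermConj hF (v 1) = w1
  generalize hermConj hF (v 2) = w2
  linear_combination (u 0 + u 1) * (w0 + w1) * hb +
    (x.a * A * (u 0 + u 1) * (w0 + w1) + (x.b * (u 0 + u 1) + A * u 2) * (B * (w0 + w1) + x.a * w2) +
      (u 0 + u 1) * x.a * w2 + u 2 * A * (w0 + w1)) * h2

/-- The embedding in `SU₃`. -/
def hermToSU : letI := hermGroup hF he; Herm F q →* Cfsg.SU 3 F q :=
  letI := hermGroup hF he
  MonoidHom.mk' (fun x => ⟨⟨hermMat x, hermMat_det hF he x⟩, mem_SU_iff.2 (hermMat_preserves hF he x)⟩) (by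
    intro x y
    have h2 := two_eq_zero hF he
    refine Subtype.ext (Subtype.ext ?_)
    show hermMat (x * y) = hermMat x * hermMat y
    ext i j
    fin_cases i <;> fin_cases j <;>
      simp [hermMat, mul_apply, Fin.sum_univ_three, herm_mul_a hF he, herm_mul_b hF he] <;>
      (try simp only [← hermConj_apply hF, map_add]) <;>
      first
        | linear_combination (x.b * y.b) * h2
        | linear_combination (x.b * hermConj hF y.a) * h2
        | linear_combination (x.a * y.b) * h2
        | linear_combination (x.a * hermConj hF y.a) * h2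
        | linear_combination (-(x.b * y.b)) * h2
        | linear_combination (-(x.b * hermConj hF y.a)) * h2
        | linear_combination (-(x.a * y.b)) * h2
        | linear_combination (-(x.a * hermConj hF y.a)) * h2
        | ring)

theorem hermToSU_injective : letI := hermGroup hF he; Function.Injective (hermToSU hF he) := by
  let _ := hermGroup hF he
  intro x y h
  have e := fun i j => congrArg (fun A : Cfsg.SU 3 F q => A.1.1 i j) h
  exact Herm.ext (by simpa [hermToSU, hermMat] using e 2 0) (by simpa [hermToSU, hermMat] using e 0 1)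

include hF he in
theorem su_card_odd_part : ∃ m r, Odd r ∧ Nat.card (Cfsg.PSU 3 F q) * m = q ^ 3 * r := by
  refine ⟨Nat.gcd 3 (q + 1) * (q + 1), (q + 1) * (q ^ 2 - 1) * (q ^ 3 + 1), ?_, ?_⟩
  · have hq := herm_two_le hF
    refine Odd.mul (Odd.mul he.add_one ?_) (he.pow_of_ne_zero (by norm_num)).add_one
    exact Nat.Even.sub_odd (Nat.one_le_pow _ _ (by omega)) (he.pow_of_ne_zero (by norm_num)) odd_one
  · have h := card_GU hF 3
    rw [← card_SU_mul hF (show 1 ≤ 3 by norm_num), card_SU_eq_center_mul_PSU 3,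
      card_center_SU hF (show 1 ≤ 3 by norm_num)] at h
    simp [Finset.prod_range_succ, parity_simps] at h
    linear_combination h

include hF he in
theorem su_center_odd : Odd (Nat.card (Subgroup.center (Cfsg.SU 3 F q))) := by
  rw [card_center_SU hF (show 1 ≤ 3 by norm_num)]
  exact Odd.of_dvd_nat (by decide : Odd 3) (Nat.gcd_dvd_left _ _)

/-- The Sylow 2-subgroups of `PSU₃(q)`, `q = 2^n`, are copies of `Herm F q`. -/
theorem herm_equiv_sylow_psu {n : ℕ} (hn : q = 2 ^ n) (S : Sylow 2 (Cfsg.PSU 3 F q)) :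
    letI := hermGroup hF he; Nonempty (Herm F q ≃* (S : Subgroup (Cfsg.PSU 3 F q))) := by
  let _ := hermGroup hF he
  obtain ⟨m, r, hr, hmr⟩ := su_card_odd_part hF he
  exact nonempty_equiv_sylow (isPGroup_herm hF he hn) ((QuotientGroup.mk' _).comp (hermToSU hF he))
    (mk_comp_injective (isPGroup_herm hF he hn) (hermToSU hF he) (hermToSU_injective hF he) (su_center_odd hF he))
    hr (by rw [natCard_herm hF he]; exact hmr) S

/-- The Sylow 2-subgroups of `SU₃(q)`, `q = 2^n`, are copies of `Herm F q`. -/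
theorem herm_equiv_sylow_su {n : ℕ} (hn : q = 2 ^ n) (S : Sylow 2 (Cfsg.SU 3 F q)) :
    letI := hermGroup hF he; Nonempty (Herm F q ≃* (S : Subgroup (Cfsg.SU 3 F q))) := by
  let _ := hermGroup hF he
  obtain ⟨m, r, hr, hmr⟩ := su_card_odd_part hF he
  refine nonempty_equiv_sylow (isPGroup_herm hF he hn) (hermToSU hF he) (hermToSU_injective hF he)
    (m := m) (r := Nat.card (Subgroup.center (Cfsg.SU 3 F q)) * r) ((su_center_odd hF he).mul hr) ?_ S
  rw [natCard_herm hF he, card_SU_eq_center_mul_PSU 3, mul_assoc, hmr]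
  ring

end Herm

end CfsgLib.InvCharThree
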