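import Mathlib.GroupTheory.Sylow
import Mathlib.GroupTheory.Nilpotent

set_option autoImplicit false

/-!
Small conjugation toolkit: images of subgroups under `MulAut.conj`, Sylow containment.
-/

namespace CfsgLib.InvChar

variable {G : Type*} [Group G]

theorem mem_map_conj {g x : G} {H : Subgroup G} :
    x ∈ H.map (MulAut.conj g).toMonoidHom ↔ g⁻¹ * x * g ∈ H := by
  constructor
  · rintro ⟨y, hy, rfl⟩
    simpa [mul_assoc] using hy
  · intro h
    exact ⟨_, h, by simp [mul_assoc]⟩

theorem map_conj_mul (g h : G) (H : Subgroup G) :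
    H.map (MulAut.conj (g * h)).toMonoidHom =
      (H.map (MulAut.conj h).toMonoidHom).map (MulAut.conj g).toMonoidHom := by
  ext x
  simp [mem_map_conj, mul_assoc]

theorem map_conj_one (H : Subgroup G) : H.map (MulAut.conj (1 : G)).toMonoidHom = H := by
  ext x
  simp [mem_map_conj]

theorem map_conj_mono (g : G) {H K : Subgroup G} (h : H ≤ K) :
    H.map (MulAut.conj g).toMonoidHom ≤ K.map (MulAut.conj g).toMonoidHom :=
  Subgroup.map_mono h

theorem map_conj_inv_map_conj (g : G) (H : Subgroup G) :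
    (H.map (MulAut.conj g).toMonoidHom).map (MulAut.conj g⁻¹).toMonoidHom = H := by
  rw [← map_conj_mul, inv_mul_cancel, map_conj_one]

theorem map_conj_map_conj_inv (g : G) (H : Subgroup G) :
    (H.map (MulAut.conj g⁻¹).toMonoidHom).map (MulAut.conj g).toMonoidHom = H := by
  rw [← map_conj_mul, mul_inv_cancel, map_conj_one]

theorem card_map_conj (g : G) (H : Subgroup G) :
    Nat.card ↥(H.map (MulAut.conj g).toMonoidHom) = Nat.card ↥H :=
  Subgroup.card_map_of_injective (MulAut.conj g).injective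

theorem map_conj_eq_iff {g : G} {H : Subgroup G} :
    H.map (MulAut.conj g).toMonoidHom = H ↔ g ∈ Subgroup.normalizer (H : Set G) := by
  constructor
  · intro h
    rw [Subgroup.mem_normalizer_iff]
    intro x
    constructor
    · intro hx
      have := Subgroup.mem_map_of_mem (MulAut.conj g).toMonoidHom hx
      rw [h] at this
      simpa using this
    · intro hx
      rw [← h, mem_map_conj] at hx
      simpa [mul_assoc] using hx
  · intro hg
    ext x
    rw [mem_map_conj]
    rw [Subgroup.mem_normalizer_iff] at hg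
    constructor
    · intro hx
      simpa [mul_assoc] using (hg _).1 hx
    · intro hx
      exact (hg _).2 (by simpa [mul_assoc] using hx)

theorem sylow_conj [Finite G] {p : ℕ} [Fact p.Prime] (P Q : Sylow p G) :
    ∃ g : G, (P : Subgroup G).map (MulAut.conj g).toMonoidHom = (Q : Subgroup G) := by
  obtain ⟨g, hg⟩ := MulAction.exists_smul_eq G P Q
  refine ⟨g, ?_⟩
  rw [← hg, Sylow.coe_subgroup_smul]
  rfl

/-- A `p`-subgroup of `H` is conjugate inside `H` into any Sylow `p`-subgroup of `H`. -/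
theorem exists_conj_le_of_sylow_in [Finite G] {p : ℕ} [Fact p.Prime] (H : Subgroup G) (P : Sylow p ↥H)
    (Q : Subgroup G) (hQ : IsPGroup p ↥Q) (hQH : Q ≤ H) :
    ∃ h ∈ H, Q.map (MulAut.conj h).toMonoidHom ≤ (P : Subgroup ↥H).map H.subtype := by
  obtain ⟨Q1, hQ1⟩ := (hQ.comap_subtype (K := H)).exists_le_sylow
  obtain ⟨h, hh⟩ := MulAction.exists_smul_eq ↥H Q1 P
  refine ⟨h, h.2, ?_⟩
  rintro x ⟨q, hq, rfl⟩
  refine ⟨h * ⟨q, hQH hq⟩ * h⁻¹, ?_, by simp⟩
  have h1 : (⟨q, hQH hq⟩ : ↥H) ∈ (Q1 : Subgroup ↥H) := hQ1 hq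
  rw [← hh, Sylow.coe_subgroup_smul]
  exact ⟨_, h1, rfl⟩

/-- The `p`-part of a finite `p`-subgroup grows in its normalizer inside a larger `p`-subgroup. -/
theorem lt_normalizer_inf_of_lt [Finite G] {p : ℕ} [Fact p.Prime] {D P : Subgroup G}
    (hP : IsPGroup p ↥P) (hDP : D < P) : D < P ⊓ Subgroup.normalizer (D : Set G) := by
  refine lt_of_le_of_ne (le_inf hDP.le Subgroup.le_normalizer) ?_
  intro he
  have : Group.IsNilpotent ↥P := hP.isNilpotent
  have hlt : D.subgroupOf P < ⊤ := by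
    rw [lt_top_iff_ne_top, Ne, Subgroup.subgroupOf_eq_top]
    exact fun h => absurd (le_antisymm hDP.le h) hDP.ne
  have h2 := Group.normalizerCondition_of_isNilpotent (G := ↥P) (D.subgroupOf P) hlt
  obtain ⟨x, hx, hxn⟩ := SetLike.exists_of_lt h2
  apply hxn
  rw [Subgroup.mem_subgroupOf]
  rw [he]
  refine ⟨x.2, ?_⟩
  show (x : G) ∈ Subgroup.normalizer (D : Set G)
  rw [Subgroup.mem_normalizer_iff]
  rw [Subgroup.mem_normalizer_iff] at hx
  intro y
  constructor
  · intro hy
    have := (hx ⟨y, hDP.le hy⟩).1 (by simpa [Subgroup.mem_subgroupOf] using hy)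
    simpa [Subgroup.mem_subgroupOf] using this
  · intro hy
    have hyP : y ∈ P := by
      have h3 : (x : G) * y * (x : G)⁻¹ ∈ P := hDP.le hy
      have h4 := P.mul_mem (P.mul_mem (P.inv_mem x.2) h3) x.2
      simpa [mul_assoc] using h4
    have := (hx ⟨y, hyP⟩).2 (by simpa [Subgroup.mem_subgroupOf] using hy)
    simpa [Subgroup.mem_subgroupOf] using this

theorem eq_one_or_eq_of_mem_zpowers {j x : G} (hj : orderOf j = 2) (hx : x ∈ Subgroup.zpowers j) :
    x = 1 ∨ x = j := by
  obtain ⟨k, rfl⟩ := Subgroup.mem_zpowers_iff.1 hx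
  have hj2 : j ^ (2 : ℤ) = 1 := by
    rw [zpow_ofNat, ← hj]; exact pow_orderOf_eq_one j
  rcases Int.even_or_odd' k with ⟨m, rfl | rfl⟩
  · left; rw [zpow_mul, hj2, one_zpow]
  · right; rw [zpow_add, zpow_mul, hj2, one_zpow, zpow_one, one_mul]

/-- A nontrivial normal subgroup of a finite `p`-group contains a nontrivial central element. -/
theorem exists_ne_one_mem_center {P : Type*} [Group P] [Finite P] {p : ℕ} [Fact p.Prime]
    (hP : IsPGroup p P) (N : Subgroup P) [N.Normal] (hN : N ≠ ⊥) :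
    ∃ x ∈ N, x ≠ 1 ∧ x ∈ Subgroup.center P := by
  have : Nontrivial ↥N := (Subgroup.nontrivial_iff_ne_bot N).2 hN
  obtain ⟨k, hk⟩ := (IsPGroup.iff_card.1 (hP.to_subgroup N))
  have hk0 : k ≠ 0 := by
    rintro rfl
    have := Finite.one_lt_card (α := ↥N)
    simp [hk] at this
  let _ : MulAction (ConjAct P) ↥N := inferInstance
  have h1 : (1 : ↥N) ∈ MulAction.fixedPoints (ConjAct P) ↥N := fun g => Subtype.ext (by
    show ConjAct.ofConjAct g * 1 * (ConjAct.ofConjAct g)⁻¹ = 1
    simp)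
  obtain ⟨b, hb, hb1⟩ := (hP.of_equiv ConjAct.toConjAct).exists_fixed_point_of_prime_dvd_card_of_fixed_point
    (α := ↥N) (hk ▸ dvd_pow_self p hk0) h1
  refine ⟨b, b.2, fun h => hb1 (Subtype.ext h.symm), Subgroup.mem_center_iff.2 fun g => ?_⟩
  have : g * (b : P) * g⁻¹ = b := congrArg Subtype.val (hb (ConjAct.toConjAct g))
  exact mul_inv_eq_iff_eq_mul.1 this

end CfsgLib.InvChar
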