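import Mathlib

/-! The centralizer of a double transposition in the alternating group of degree 6. -/

set_option autoImplicit false

namespace CfsgLib.InvChar.AltSix

open Equiv

/-- The double transposition used as representative. -/
def dt : Perm (Fin 6) := swap 0 1 * swap 2 3

/-- An element of order 4 squaring to it. -/
def rot : Perm (Fin 6) := swap 0 2 * swap 2 1 * swap 1 3 * swap 4 5

/-- A reflection. -/
def refl : Perm (Fin 6) := swap 0 1 * swap 4 5

/-- The dihedral group of order 8 as the centralizer. -/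
def dihFun : DihedralGroup 4 → Perm (Fin 6)
  | .r i => rot ^ i.val
  | .sr i => refl * rot ^ i.val

theorem dihFun_mul : ∀ a b : DihedralGroup 4, dihFun (a * b) = dihFun a * dihFun b := by
  decide +kernel

theorem dihFun_injective : Function.Injective dihFun := by
  unfold Function.Injective
  decide +kernel

theorem dihFun_mem : ∀ a : DihedralGroup 4,
    Equiv.Perm.sign (dihFun a) = 1 ∧ dihFun a * dt = dt * dihFun a := by
  decide +kernel

theorem dihFun_complete : ∀ σ : Perm (Fin 6), σ * dt = dt * σ → Equiv.Perm.sign σ = 1 →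
    ∃ a, dihFun a = σ := by
  decide +kernel

theorem nonempty_centralizer_equiv (t : ↥(alternatingGroup (Fin 6))) (ht : orderOf t = 2)
    (hsupp : (t : Perm (Fin 6)).support.card = 4) :
    Nonempty (↥(Subgroup.centralizer ({t} : Set ↥(alternatingGroup (Fin 6)))) ≃* DihedralGroup 4) := by
  obtain ⟨n, hn⟩ := Equiv.Perm.cycleType_prime_order
    (σ := (t : Perm (Fin 6))) (by rw [Subgroup.orderOf_coe, ht]; exact Nat.prime_two)
  rw [Subgroup.orderOf_coe, ht] at hn
  have h4 := Equiv.Perm.sum_cycleType (t : Perm (Fin 6))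
  rw [hn, Multiset.sum_replicate, smul_eq_mul, hsupp] at h4
  obtain rfl : n = 1 := by omega
  have hdt : Equiv.Perm.cycleType dt = Multiset.replicate (1 + 1) 2 := by decide +kernel
  obtain ⟨σ, hσ⟩ := isConj_iff.1 (Equiv.Perm.isConj_iff_cycleType_eq.2 (hdt.trans hn.symm))
  have hmem : ∀ a, σ * dihFun a * σ⁻¹ ∈ alternatingGroup (Fin 6) := fun a => by
    simp [Equiv.Perm.mem_alternatingGroup, (dihFun_mem a).1]
  let f : DihedralGroup 4 →* ↥(alternatingGroup (Fin 6)) :=
    MonoidHom.mk' (fun a => ⟨σ * dihFun a * σ⁻¹, hmem a⟩) fun a b => Subtype.ext (by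
      change σ * dihFun (a * b) * σ⁻¹ = σ * dihFun a * σ⁻¹ * (σ * dihFun b * σ⁻¹)
      rw [dihFun_mul, conj_mul])
  have hf : Function.Injective f := fun a b h =>
    dihFun_injective (mul_left_cancel (mul_right_cancel (congrArg Subtype.val h)))
  refine ⟨((MonoidHom.ofInjective hf).trans (MulEquiv.subgroupCongr ?_)).symm⟩
  ext c
  rw [Subgroup.mem_centralizer_singleton_iff]
  constructor
  · rintro ⟨a, rfl⟩
    apply Subtype.ext
    change σ * dihFun a * σ⁻¹ * (t : Perm (Fin 6)) = t * (σ * dihFun a * σ⁻¹)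
    rw [← hσ, conj_mul, conj_mul, (dihFun_mem a).2]
  · intro hc
    have h1 : (c : Perm (Fin 6)) * t = t * c := congrArg Subtype.val hc
    obtain ⟨a, ha⟩ := dihFun_complete (σ⁻¹ * c * σ) (by
      rw [← hσ] at h1
      calc σ⁻¹ * c * σ * dt = σ⁻¹ * (c * (σ * dt * σ⁻¹)) * σ := by group
        _ = σ⁻¹ * ((σ * dt * σ⁻¹) * c) * σ := by rw [h1]
        _ = dt * (σ⁻¹ * c * σ) := by group) (by
      simp [Equiv.Perm.mem_alternatingGroup.1 c.2])
    refine ⟨a, Subtype.ext ?_⟩
    change σ * dihFun a * σ⁻¹ = c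
    rw [ha]; group

end CfsgLib.InvChar.AltSix
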