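import Mathlib

/-! Finite facts about the quaternion group of order 8 and the group Q₈ ⋊ S₃ ≅ GL(2,3). -/

set_option autoImplicit false

namespace CfsgLib.InvChar.Q8Action

abbrev Q8 := QuaternionGroup 2
abbrev qa : Q8 := QuaternionGroup.a 1
abbrev qx : Q8 := QuaternionGroup.xa 0
def zz : Q8 := QuaternionGroup.a 2

/-- The endomorphism sending the standard generators to `p` and `q`. -/
def genFun (p q : Q8) : Q8 → Q8
  | .a i => p ^ i.val
  | .xa i => q * p ^ i.val

/-- A pair of elements of order 4 generating the whole group. -/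
def GenPair (p q : Q8) : Prop := p * p ≠ 1 ∧ q * q ≠ 1 ∧ q ≠ p ∧ q ≠ p⁻¹

instance genPairDecidable (p q : Q8) : Decidable (GenPair p q) := by
  unfold GenPair; infer_instance

theorem genFun_hom : ∀ p q : Q8, GenPair p q → ∀ u v : Q8,
    genFun p q (u * v) = genFun p q u * genFun p q v := by
  decide +kernel

theorem genFun_bijective : ∀ p q : Q8, GenPair p q → ∀ u : Q8, ∃ v, genFun p q v = u := by
  decide +kernel

theorem card_genPairs : (Finset.univ.filter fun p : Q8 × Q8 => GenPair p.1 p.2).card = 24 := by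
  decide +kernel

theorem genFun_gens : ∀ p q : Q8, genFun p q qa = p ∧ genFun p q qx = q := by
  decide +kernel

theorem gen_repr : ∀ u : Q8, ∃ i : Fin 4, u = qa ^ (i : ℕ) ∨ u = qx * qa ^ (i : ℕ) := by
  decide +kernel

theorem q8_facts :
    (∀ u : Q8, (u * qa = qa * u ∧ u * qx = qx * u) → u = 1 ∨ u = zz) ∧
    (∀ p : Q8, p * p = 1 → p = 1 ∨ p = zz) ∧
    (∀ p : Q8, p * p ≠ 1 → p * p = zz) ∧
    (∀ p q : Q8, GenPair p q → GenPair p (p * q) ∧ (p * q) * (p * q) ≠ 1 ∧ q * p = (p * q)⁻¹) ∧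
    (∀ p q r : Q8, GenPair p q → r * r ≠ 1 → r ≠ p → r ≠ p⁻¹ → r ≠ q → r ≠ q⁻¹ →
      r = p * q ∨ r = (p * q)⁻¹) ∧
    (∀ p q : Q8, GenPair p q → GenPair p⁻¹ q⁻¹ ∧ p⁻¹ * q⁻¹ = p * q) ∧
    (∀ p q : Q8, GenPair p q → p * (p * q) ≠ q) := by
  refine ⟨?_, ?_, ?_, ?_, ?_, ?_, ?_⟩ <;> decide +kernel

theorem zz_facts : (∀ u : Q8, u * zz = zz * u) ∧ zz * zz = 1 ∧ zz ≠ 1 ∧
    qa * qa = zz ∧ GenPair qa qx := by
  refine ⟨?_, ?_, ?_, ?_, ?_⟩ <;> decide +kernel

theorem hom_ext {M : Type*} [Monoid M] (f g : Q8 →* M) (ha : f qa = g qa) (hx : f qx = g qx) :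
    f = g := by
  ext u
  obtain ⟨i, rfl | rfl⟩ := gen_repr u
  · rw [map_pow, map_pow, ha]
  · rw [map_mul, map_mul, map_pow, map_pow, ha, hx]

/-- The cyclic automorphism `a ↦ x ↦ a x`. -/
def alphaFun : Q8 → Q8 := genFun qx (qa * qx)

/-- The involutory automorphism inverting `alphaFun`. -/
def betaFun : Q8 → Q8 := genFun qa⁻¹ (qa * qx)⁻¹

theorem alpha_mul : ∀ u v : Q8, alphaFun (u * v) = alphaFun u * alphaFun v := by
  decide +kernel

theorem beta_mul : ∀ u v : Q8, betaFun (u * v) = betaFun u * betaFun v := by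
  decide +kernel

theorem alpha_beta_rel : ∀ u : Q8, alphaFun (alphaFun (alphaFun u)) = u ∧ betaFun (betaFun u) = u ∧
    alphaFun (betaFun u) = betaFun (alphaFun (alphaFun u)) := by
  decide +kernel

def alphaEquiv : MulAut Q8 where
  toFun := alphaFun
  invFun u := alphaFun (alphaFun u)
  left_inv u := (alpha_beta_rel u).1
  right_inv u := (alpha_beta_rel u).1
  map_mul' := alpha_mul

def betaEquiv : MulAut Q8 where
  toFun := betaFun
  invFun := betaFun
  left_inv u := (alpha_beta_rel u).2.1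
  right_inv u := (alpha_beta_rel u).2.1
  map_mul' := beta_mul

/-- Extend a pair of elements with the relations of `S₃` to the dihedral group of order 6. -/
def dihFun {M : Type*} [Monoid M] (a b : M) : DihedralGroup 3 → M
  | .r i => a ^ i.val
  | .sr i => b * a ^ i.val

theorem dihFun_mul {M : Type*} [Monoid M] {a b : M} (ha : a ^ 3 = 1) (hb : b * b = 1)
    (hab : a * b = b * a ^ 2) : ∀ u v : DihedralGroup 3, dihFun a b (u * v) = dihFun a b u * dihFun a b v := by
  have hpow : ∀ i : ℕ, a ^ i * b = b * a ^ (2 * i) := by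
    intro i
    induction i with
    | zero => simp
    | succ i ih =>
      rw [pow_succ a i, mul_assoc, hab, ← mul_assoc, ih, mul_assoc, ← pow_add]
      congr 2
  have hmod : ∀ i j : ℕ, i % 3 = j % 3 → a ^ i = a ^ j := fun i j h => by
    rw [pow_eq_pow_mod i ha, pow_eq_pow_mod j ha, h]
  have key : ∀ i j : ZMod 3, (i + j).val % 3 = (i.val + j.val) % 3 ∧
      (j - i).val % 3 = (2 * i.val + j.val) % 3 := by decide +kernel
  rintro (i | i) (j | j) <;> simp only [DihedralGroup.r_mul_r, DihedralGroup.r_mul_sr,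
    DihedralGroup.sr_mul_r, DihedralGroup.sr_mul_sr, dihFun]
  · rw [← pow_add]; exact hmod _ _ (key i j).1
  · rw [← mul_assoc, hpow, mul_assoc, ← pow_add]; congr 1; exact hmod _ _ (key i j).2
  · rw [mul_assoc, ← pow_add]; congr 1; exact hmod _ _ (key i j).1
  · rw [mul_assoc, ← mul_assoc (a ^ i.val), hpow, mul_assoc, ← mul_assoc b b, hb, one_mul, ← pow_add]
    exact hmod _ _ (key i j).2

theorem alpha_beta_group : alphaEquiv ^ 3 = 1 ∧ betaEquiv * betaEquiv = 1 ∧
    alphaEquiv * betaEquiv = betaEquiv * alphaEquiv ^ 2 := by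
  refine ⟨?_, ?_, ?_⟩ <;> ext u <;>
    simp only [pow_succ, pow_zero, one_mul, MulAut.mul_apply, MulAut.one_apply]
  · exact (alpha_beta_rel u).1
  · exact (alpha_beta_rel u).2.1
  · exact (alpha_beta_rel u).2.2

/-- The action of `S₃` on the quaternion group. -/
def actHom : DihedralGroup 3 →* MulAut Q8 :=
  MonoidHom.mk' (dihFun alphaEquiv betaEquiv)
    (dihFun_mul alpha_beta_group.1 alpha_beta_group.2.1 alpha_beta_group.2.2)

/-- The model of GL(2,3). -/
abbrev Octa := SemidirectProduct Q8 (DihedralGroup 3) actHom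

/-- A group of order at most 48 generated in this way is a copy of the model. -/
theorem nonempty_equiv {K : Type*} [Group K] [Finite K] (hK : Nat.card K = 48) (f : Q8 →* K)
    (w t : K) (hw : w ^ 3 = 1) (ht : t * t = 1) (hwt : w * t = t * w ^ 2)
    (hfw : ∀ u, w * f u * w⁻¹ = f (alphaFun u)) (hft : ∀ u, t * f u * t⁻¹ = f (betaFun u))
    (hinj : ∀ u d, f u * dihFun w t d = 1 → u = 1 ∧ d = 1) :
    Nonempty (Octa ≃* K) := by
  let g : DihedralGroup 3 →* K := MonoidHom.mk' (dihFun w t) (dihFun_mul hw ht hwt)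
  have hα : f.comp alphaEquiv.toMonoidHom = (MulAut.conj w).toMonoidHom.comp f := by
    ext u; exact (hfw u).symm
  have hβ : f.comp betaEquiv.toMonoidHom = (MulAut.conj t).toMonoidHom.comp f := by
    ext u; exact (hft u).symm
  have hcomp : ∀ d, f.comp (actHom d).toMonoidHom = (MulAut.conj (g d)).toMonoidHom.comp f := by
    intro d
    have hp : ∀ i : ℕ, f.comp (alphaEquiv ^ i).toMonoidHom =
        (MulAut.conj (w ^ i)).toMonoidHom.comp f := by
      intro i
      induction i with
      | zero => ext u; simp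
      | succ i ih =>
        ext u
        have h1 : f ((alphaEquiv ^ i) (alphaEquiv u)) = w ^ i * f (alphaEquiv u) * (w ^ i)⁻¹ :=
          DFunLike.congr_fun ih (alphaEquiv u)
        have h2 : f (alphaEquiv u) = w * f u * w⁻¹ := DFunLike.congr_fun hα u
        change f ((alphaEquiv ^ (i + 1)) u) = w ^ (i + 1) * f u * (w ^ (i + 1))⁻¹
        rw [pow_succ alphaEquiv, MulAut.mul_apply, h1, h2, pow_succ w]
        group
    rcases d with i | i
    · exact hp i.val
    · ext u
      have h1 : f ((alphaEquiv ^ i.val) u) = w ^ i.val * f u * (w ^ i.val)⁻¹ :=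
        DFunLike.congr_fun (hp i.val) u
      have h2 : f (betaEquiv ((alphaEquiv ^ i.val) u)) = t * f ((alphaEquiv ^ i.val) u) * t⁻¹ :=
        DFunLike.congr_fun hβ _
      change f ((betaEquiv * alphaEquiv ^ i.val) u) = t * w ^ i.val * f u * (t * w ^ i.val)⁻¹
      rw [MulAut.mul_apply, h2, h1]
      group
  let F : Octa →* K := SemidirectProduct.lift f g hcomp
  have hFi : Function.Injective F := by
    rw [injective_iff_map_eq_one]
    intro x hx
    obtain ⟨h1, h2⟩ := hinj x.left x.right hx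
    ext <;> simp [h1, h2]
  have : Finite Octa := Finite.of_injective F hFi
  refine ⟨MulEquiv.ofBijective F ((Nat.bijective_iff_injective_and_card F).2 ⟨hFi, ?_⟩)⟩
  rw [SemidirectProduct.card, hK, DihedralGroup.nat_card, Nat.card_eq_fintype_card,
    QuaternionGroup.card]

end CfsgLib.InvChar.Q8Action
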