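import Mathlib.GroupTheory.Sylow
import Mathlib.GroupTheory.PGroup

/-! Lifting intersections of Sylow subgroups from a quotient. -/

set_option autoImplicit false

namespace CfsgLib.InvChar

theorem sylow_image_full {G Q : Type*} [Group G] [Group Q] [Finite G] {p : ℕ} [Fact p.Prime]
    (f : G →* Q) (hf : Function.Surjective f) (hQ : IsPGroup p Q) (U : Sylow p G) :
    (U : Subgroup G).map f = ⊤ := by
  have h1 := (U.mapSurjective hf).is_maximal' (hQ.of_equiv Subgroup.topEquiv.symm) le_top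
  rw [← Sylow.coe_mapSurjective hf U, ← h1]

/-- Distinct Sylow subgroups of a quotient lift to distinct Sylow subgroups whose intersection
contains a subgroup mapping onto the intersection of the given ones. -/
theorem exists_sylow_lift_inf {G : Type*} [Group G] [Finite G] {p : ℕ} [Fact p.Prime] (H : Subgroup G) [H.Normal]
    (S T : Sylow p (G ⧸ H)) (hST : S ≠ T) :
    ∃ (S₁ T₁ : Sylow p G) (U : Subgroup G), S₁ ≠ T₁ ∧ U ≤ (S₁ : Subgroup G) ⊓ (T₁ : Subgroup G) ∧
      U.map (QuotientGroup.mk' H) = (S : Subgroup (G ⧸ H)) ⊓ (T : Subgroup (G ⧸ H)) := by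
  set π := QuotientGroup.mk' H
  have hπ : Function.Surjective π := QuotientGroup.mk'_surjective H
  set D := ((S : Subgroup (G ⧸ H)) ⊓ (T : Subgroup (G ⧸ H))).comap π with hD
  obtain ⟨U₀⟩ : Nonempty (Sylow p ↥D) := inferInstance
  set U : Subgroup G := (U₀ : Subgroup ↥D).map D.subtype with hU
  have hUD : U ≤ D := Subgroup.map_subtype_le _
  have hUp : IsPGroup p ↥U := U₀.isPGroup'.map _
  -- the image of U is all of S ⊓ T
  have hDp : IsPGroup p ↥((S : Subgroup (G ⧸ H)) ⊓ (T : Subgroup (G ⧸ H))) :=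
    S.isPGroup'.to_le inf_le_left
  have key : U.map π = (S : Subgroup (G ⧸ H)) ⊓ (T : Subgroup (G ⧸ H)) := by
    let f : ↥D →* ↥((S : Subgroup (G ⧸ H)) ⊓ (T : Subgroup (G ⧸ H))) :=
      (π.comp D.subtype).codRestrict _ (fun x => x.2)
    have hf : Function.Surjective f := by
      rintro ⟨y, hy⟩
      obtain ⟨g, rfl⟩ := hπ y
      exact ⟨⟨g, hy⟩, rfl⟩
    have hmap : IsPGroup p ↥((U₀ : Subgroup ↥D).map f) := U₀.isPGroup'.map _
    have hfull := sylow_image_full f hf hDp U₀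
    apply le_antisymm
    · rintro y ⟨g, hg, rfl⟩
      exact hUD hg
    · intro y hy
      have : (⟨y, hy⟩ : ↥((S : Subgroup (G ⧸ H)) ⊓ (T : Subgroup (G ⧸ H)))) ∈
          (U₀ : Subgroup ↥D).map f := by rw [hfull]; trivial
      obtain ⟨u, hu, hu'⟩ := this
      exact ⟨u, ⟨u, hu, rfl⟩, congrArg Subtype.val hu'⟩
  have lift : ∀ R : Sylow p (G ⧸ H), U.map π ≤ R →
      ∃ R₁ : Sylow p G, U ≤ R₁ ∧ (R₁ : Subgroup G).map π = R := by
    intro R hR
    have hUR : U ≤ (R : Subgroup (G ⧸ H)).comap π := Subgroup.map_le_iff_le_comap.1 hR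
    obtain ⟨V, hV⟩ := (hUp.comap_subtype (K := (R : Subgroup (G ⧸ H)).comap π)).exists_le_sylow
    obtain ⟨R₁, hR₁⟩ := (V.isPGroup'.map ((R : Subgroup (G ⧸ H)).comap π).subtype).exists_le_sylow
    refine ⟨R₁, fun u hu => hR₁ ⟨⟨u, hUR hu⟩, hV hu, rfl⟩, ?_⟩
    -- the image of R₁ is a Sylow subgroup containing R
    let g : ↥((R : Subgroup (G ⧸ H)).comap π) →* ↥(R : Subgroup (G ⧸ H)) :=
      π.subgroupComap _
    have hg : Function.Surjective g := π.subgroupComap_surjective_of_surjective _ hπ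
    have hfull := sylow_image_full g hg R.isPGroup' V
    have hle : (R : Subgroup (G ⧸ H)) ≤ (R₁ : Subgroup G).map π := by
      intro y hy
      have : (⟨y, hy⟩ : ↥(R : Subgroup (G ⧸ H))) ∈ (V : Subgroup _).map g := by
        rw [hfull]; trivial
      obtain ⟨v, hv, hv'⟩ := this
      exact ⟨v, hR₁ ⟨v, hv, rfl⟩, congrArg Subtype.val hv'⟩
    exact (R.is_maximal' (R₁.isPGroup'.map π) hle)
  obtain ⟨S₁, hS₁, hS₁'⟩ := lift S (key.le.trans inf_le_left)
  obtain ⟨T₁, hT₁, hT₁'⟩ := lift T (key.le.trans inf_le_right)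
  have hne : S₁ ≠ T₁ := by
    intro h
    apply hST
    exact Sylow.ext (by rw [← hS₁', ← hT₁', h])
  exact ⟨S₁, T₁, U, hne, le_inf hS₁ hT₁, key⟩

end CfsgLib.InvChar
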