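import Mathlib
import Cfsg.Agent.S4593
import Cfsg.Agent.Lib.ClassicalGroups.SL2

/-!
Simple groups with elementary abelian Sylow 2-subgroups of order 8: the normalizer has an element
acting with order 7, and perfect central extensions by 2-groups are trivial.
-/

set_option autoImplicit false

namespace CfsgLib.InvChar.EightSylow

open Subgroup
open scoped commutatorElement

universe u

/-- An abelian Sylow 2-subgroup of `PSL₂(q)`, `q` odd, is a four group. -/
theorem klein_psl_sylow {F : Type*} [Field F] [Fintype F] (hF : Odd (Fintype.card F))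
    (P : Sylow 2 (Matrix.ProjectiveSpecialLinearGroup (Fin 2) F))
    (hP : IsMulCommutative (P : Subgroup (Matrix.ProjectiveSpecialLinearGroup (Fin 2) F))) :
    IsKleinFour (P : Subgroup (Matrix.ProjectiveSpecialLinearGroup (Fin 2) F)) := by
  have : Fact (Nat.Prime 2) := ⟨Nat.prime_two⟩
  by_cases hq : Fintype.card F % 8 = 3 ∨ Fintype.card F % 8 = 5
  · exact CfsgLib.ClassicalGroups.SL2.psl_sylow_two_klein rfl hq P
  exfalso
  let π := QuotientGroup.mk' (Subgroup.center (Matrix.SpecialLinearGroup (Fin 2) F))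
  obtain ⟨R⟩ : Nonempty (Sylow 2 (Matrix.SpecialLinearGroup (Fin 2) F)) := inferInstance
  obtain ⟨k, -, ⟨e⟩⟩ := CfsgLib.ClassicalGroups.SL2.sylow_two_quaternion hF R
  have h16 : 16 ∣ Nat.card (Matrix.SpecialLinearGroup (Fin 2) F) := by
    have hc : Nat.card (Matrix.SpecialLinearGroup (Fin 2) F) =
        Fintype.card F * ((Fintype.card F - 1) * (Fintype.card F + 1)) := by
      rw [CfsgLib.ClassicalGroups.slTwo_card, mul_assoc]
    rw [hc]
    refine Dvd.dvd.mul_left ?_ _
    obtain ⟨j, hj⟩ : ∃ j, Fintype.card F = 8 * j + 1 ∨ Fintype.card F = 8 * j + 7 :=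
      ⟨Fintype.card F / 8, by rw [Nat.odd_iff] at hF; omega⟩
    rcases hj with hj | hj <;> rw [hj]
    · refine ⟨j * (4 * j + 1), ?_⟩
      rw [show 8 * j + 1 - 1 = 8 * j by omega]; ring
    · refine ⟨(4 * j + 3) * (j + 1), ?_⟩
      rw [show 8 * j + 7 - 1 = 8 * j + 6 by omega]; ring
  have hk : 2 ≤ k := by
    have h1 : 2 ^ 4 ∣ Nat.card (R : Subgroup (Matrix.SpecialLinearGroup (Fin 2) F)) :=
      Sylow.pow_dvd_card_of_pow_dvd_card R h16
    rw [Nat.card_congr e.toEquiv, Nat.card_eq_fintype_card, QuaternionGroup.card] at h1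
    by_contra hlt
    interval_cases k <;> norm_num at h1
  let R' := R.mapSurjective (QuotientGroup.mk'_surjective (Subgroup.center (Matrix.SpecialLinearGroup (Fin 2) F)))
  have hR' : IsMulCommutative (R' : Subgroup (Matrix.ProjectiveSpecialLinearGroup (Fin 2) F)) := by
    refine ⟨⟨fun a b => (R'.equiv P).injective ?_⟩⟩
    rw [map_mul, map_mul]
    exact hP.is_comm.comm _ _
  let x := e.symm (QuaternionGroup.a 1)
  let y := e.symm (QuaternionGroup.xa 0)
  have hcent : (x * y * x⁻¹ * y⁻¹).1 ∈ Subgroup.center (Matrix.SpecialLinearGroup (Fin 2) F) := by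
    rw [← QuotientGroup.eq_one_iff]
    have h1 : (⟨π x.1, Subgroup.mem_map_of_mem π x.2⟩ : (R' : Subgroup _)) *
        ⟨π y.1, Subgroup.mem_map_of_mem π y.2⟩ = ⟨π y.1, Subgroup.mem_map_of_mem π y.2⟩ *
        ⟨π x.1, Subgroup.mem_map_of_mem π x.2⟩ := hR'.is_comm.comm _ _
    have h2 : π x.1 * π y.1 = π y.1 * π x.1 := congrArg Subtype.val h1
    show π (x * y * x⁻¹ * y⁻¹).1 = 1
    rw [Subgroup.coe_mul, Subgroup.coe_mul, Subgroup.coe_mul, Subgroup.coe_inv, Subgroup.coe_inv,
      map_mul, map_mul, map_mul, map_inv, map_inv, h2, mul_inv_cancel_right, mul_inv_cancel]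
  have hsq : (x * y * x⁻¹ * y⁻¹) ^ 2 = 1 := by
    obtain ⟨r, hr, hr'⟩ := Matrix.SpecialLinearGroup.mem_center_iff.mp hcent
    apply Subtype.ext
    rw [SubmonoidClass.coe_pow]
    apply Subtype.ext
    rw [Matrix.SpecialLinearGroup.coe_pow, ← hr', ← map_pow]
    rw [Fintype.card_fin] at hr
    rw [hr, map_one]
    rfl
  have hq := congrArg e hsq
  rw [map_pow, map_mul, map_mul, map_mul, map_inv, map_inv, map_one] at hq
  simp only [x, y, e.apply_symm_apply] at hq
  have hia : ∀ i : ZMod (2 * 2 ^ k), (QuaternionGroup.a i : QuaternionGroup (2 ^ k))⁻¹ = QuaternionGroup.a (-i) := fun _ => rfl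
  have hxi : ∀ i : ZMod (2 * 2 ^ k), (QuaternionGroup.xa i : QuaternionGroup (2 ^ k))⁻¹ = QuaternionGroup.xa (((2 ^ k : ℕ) : ZMod (2 * 2 ^ k)) + i) := fun _ => rfl
  simp only [QuaternionGroup.a_mul_xa, QuaternionGroup.xa_mul_a, QuaternionGroup.xa_mul_xa,
    hia, hxi, pow_two, QuaternionGroup.a_mul_a,
    QuaternionGroup.one_def, QuaternionGroup.a.injEq] at hq
  have hdvd := (ZMod.intCast_zmod_eq_zero_iff_dvd 4 (2 * 2 ^ k)).mp (by
    have : ((4 : ℤ) : ZMod (2 * 2 ^ k)) = 0 ∨ ((-4 : ℤ) : ZMod (2 * 2 ^ k)) = 0 := by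
      have h0 : ((2 * 2 ^ k : ℕ) : ZMod (2 * 2 ^ k)) = 0 := ZMod.natCast_self _
      push_cast at h0 hq
      exact Or.inl (by push_cast; linear_combination hq - 2 * h0)
    rcases this with h | h
    · exact h
    · push_cast at h ⊢; linear_combination -h)
  have hle := Int.le_of_dvd (by norm_num) hdvd
  have h4 : 4 ≤ 2 ^ k := le_trans (by norm_num) (Nat.pow_le_pow_right (by norm_num) hk)
  omega

/-- In a simple group with abelian Sylow 2-subgroup `S` of exponent 2 and order 8 some element of the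
normalizer acts on `S` with order 7 and no fixed point. -/
theorem exists_seven {G : Type u} [Group G] [Finite G] [IsSimpleGroup G] (hG : ¬ IsMulCommutative G)
    (S : Sylow 2 G) [hab : IsMulCommutative (S : Subgroup G)] (h8 : Nat.card (S : Subgroup G) = 8)
    (hexp : ∀ s ∈ (S : Subgroup G), s * s = 1) :
    ∃ n : G, n ∈ normalizer ((S : Subgroup G) : Set G) ∧
      (∀ s ∈ (S : Subgroup G), n ^ 7 * s * (n ^ 7)⁻¹ = s) ∧
      ∀ s ∈ (S : Subgroup G), n * s * n⁻¹ = s → s = 1 := by
  classical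
  have : Fact (Nat.Prime 2) := ⟨Nat.prime_two⟩
  have : Fact (Nat.Prime 7) := ⟨by norm_num⟩
  have hZ : center G = ⊥ := (inferInstance : (center G).Normal).eq_bot_or_eq_top.resolve_right fun h =>
    hG ⟨⟨fun a b => (mem_center_iff.mp (h ▸ mem_top b) a)⟩⟩
  set N := normalizer ((S : Subgroup G) : Set G)
  let X := {s : G // s ∈ (S : Subgroup G) ∧ s ≠ 1}
  have hX : Nat.card X = 7 := by
    have h : Nat.card X = ((S : Subgroup G) : Set G).ncard - ({1} : Set G).ncard := by
      rw [← Set.ncard_sdiff (Set.singleton_subset_iff.mpr (one_mem _)) (Set.toFinite _)]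
      exact Nat.card_coe_set_eq (((S : Subgroup G) : Set G) \ {1})
    rw [h, Set.ncard_singleton, ← Nat.card_coe_set_eq, SetLike.coe_sort_coe, h8]
  let act : MulAction N X :=
    { smul := fun n x => ⟨n.1 * x.1 * n.1⁻¹, (mem_normalizer_iff.mp n.2 x.1).mp x.2.1,
        fun h => x.2.2 (conj_eq_one_iff.mp h)⟩
      one_smul := fun x => Subtype.ext (by show (1 : G) * x.1 * (1 : G)⁻¹ = x.1; simp)
      mul_smul := fun a b x => Subtype.ext (by
        show (a.1 * b.1) * x.1 * (a.1 * b.1)⁻¹ = a.1 * (b.1 * x.1 * b.1⁻¹) * a.1⁻¹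
        simp [mul_assoc]) }
  have hsmul : ∀ (n : N) (x : X), (n • x).1 = n.1 * x.1 * n.1⁻¹ := fun _ _ => rfl
  have hodd : ∀ x : X, Odd (MulAction.orbit N x).ncard := by
    intro x
    rw [← MulAction.index_stabilizer]
    have hle : ((S : Subgroup G).subgroupOf N) ≤ MulAction.stabilizer N x := fun n hn => by
      rw [MulAction.mem_stabilizer_iff]
      apply Subtype.ext
      rw [hsmul, mul_inv_eq_iff_eq_mul]
      exact congrArg Subtype.val (hab.is_comm.comm (⟨n.1, hn⟩ : (S : Subgroup G)) ⟨x.1, x.2.1⟩)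
    have h2 : ¬ 2 ∣ ((S : Subgroup G).subgroupOf N).index := fun hd => S.not_dvd_index
      (hd.trans (relIndex_dvd_index_of_le le_normalizer))
    exact Nat.odd_iff.mpr (Nat.two_dvd_ne_zero.mp fun hd => h2 (hd.trans (index_dvd_of_le hle)))
  have hne1 : ∀ x : X, (MulAction.orbit N x).ncard ≠ 1 := by
    intro x hx
    obtain ⟨y, hy⟩ := Set.ncard_eq_one.mp hx
    have hfix : ∀ n ∈ N, n⁻¹ * x.1 * n = x.1 := by
      intro n hn
      have h1 : (⟨n, hn⟩ : N)⁻¹ • x = x := by
        have h2 : (⟨n, hn⟩ : N)⁻¹ • x ∈ MulAction.orbit N x := MulAction.mem_orbit _ _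
        have h3 : x ∈ MulAction.orbit N x := MulAction.mem_orbit_self _
        rw [hy, Set.mem_singleton_iff] at h2 h3
        rw [h2, ← h3]
      have h4 := congrArg Subtype.val h1
      rw [hsmul] at h4
      simpa using h4
    have hord : orderOf x.1 = 2 := orderOf_eq_prime (by rw [pow_two, hexp _ x.2.1]) x.2.2
    have hiso := Cfsg.Agent.S4593.isolated_of_fixed S x.2.1 hfix hord
    have hcore : Cfsg.pPrimeCore 2 G = ⊥ := by
      refine (inferInstance : (Cfsg.pPrimeCore 2 G).Normal).eq_bot_or_eq_top.resolve_right fun h => ?_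
      have hc := CfsgLib.PCore.pPrimeCore_coprime (p := 2) (G := G)
      rw [h, card_top, Nat.coprime_two_right] at hc
      exact (Nat.not_even_iff_odd.mpr hc) (even_iff_two_dvd.mpr
        (hord ▸ orderOf_dvd_natCard x.1))
    have hcen : x.1 ∈ center G := by
      rw [mem_center_iff]
      intro g
      have h := CfsgLib.Involutions.zstar G x.1 hiso g
      rw [hcore, mem_bot] at h
      exact mul_inv_eq_iff_eq_mul.mp (mul_inv_eq_one.mp h)
    rw [hZ, mem_bot] at hcen
    exact x.2.2 hcen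
  have htrans : ∀ x : X, (MulAction.orbit N x).ncard = 7 := by
    intro x
    have h3 : ∀ y : X, 3 ≤ (MulAction.orbit N y).ncard := fun y => by
      have h1 := hne1 y
      obtain ⟨j, hj⟩ := hodd y
      omega
    have hle : ∀ s : Set X, s.ncard ≤ 7 := fun s => by
      rw [← hX, ← Set.ncard_univ]
      exact Set.ncard_le_ncard (Set.subset_univ _) (Set.toFinite _)
    by_contra hne
    have hlt : (MulAction.orbit N x).ncard < 7 := lt_of_le_of_ne (hle _) hne
    obtain ⟨y, hy⟩ : ∃ y, y ∉ MulAction.orbit N x := by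
      by_contra! hall
      rw [show MulAction.orbit N x = Set.univ from Set.eq_univ_of_forall hall, Set.ncard_univ, hX] at hlt
      omega
    have hdisj : ∀ {a b : X}, a ∉ MulAction.orbit N b →
        Disjoint (MulAction.orbit N b) (MulAction.orbit N a) := fun {a b} h => by
      rw [Set.disjoint_left]
      intro c hc hc'
      exact h ((MulAction.orbit_eq_iff.mpr hc) ▸ (MulAction.orbit_eq_iff.mpr hc').symm ▸
        MulAction.mem_orbit_self a)
    have hxy := Set.ncard_union_eq (hdisj hy) (Set.toFinite _) (Set.toFinite _)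
    by_cases hfull : MulAction.orbit N x ∪ MulAction.orbit N y = Set.univ
    · rw [hfull, Set.ncard_univ, hX] at hxy
      obtain ⟨i, hi⟩ := hodd x
      obtain ⟨j, hj⟩ := hodd y
      omega
    · obtain ⟨w, hw⟩ := (Set.ne_univ_iff_exists_notMem _).mp hfull
      rw [Set.mem_union, not_or] at hw
      have hd : Disjoint (MulAction.orbit N x ∪ MulAction.orbit N y) (MulAction.orbit N w) :=
        Set.disjoint_union_left.mpr ⟨hdisj hw.1, hdisj hw.2⟩
      have h := Set.ncard_union_eq hd (Set.toFinite _) (Set.toFinite _)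
      have := hle ((MulAction.orbit N x ∪ MulAction.orbit N y) ∪ MulAction.orbit N w)
      have := h3 x
      have := h3 y
      have := h3 w
      omega
  obtain ⟨x₀⟩ : Nonempty X := (Nat.card_pos_iff.mp (by rw [hX]; norm_num)).1
  let φ := MulAction.toPermHom N X
  have h7 : 7 ∣ Nat.card φ.range := by
    rw [← htrans x₀, ← MulAction.index_stabilizer, ← index_ker]
    refine index_dvd_of_le fun n hn => ?_
    rw [MulAction.mem_stabilizer_iff]
    exact Equiv.ext_iff.mp (MonoidHom.mem_ker.mp hn) x₀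
  obtain ⟨⟨σ, n, rfl⟩, hσ⟩ := exists_prime_orderOf_dvd_card' (G := φ.range) 7 h7
  rw [← Subgroup.orderOf_coe] at hσ
  refine ⟨n.1, n.2, fun s hs => ?_, fun s hs hns => ?_⟩
  · rcases eq_or_ne s 1 with rfl | hs1
    · simp
    · have h := Equiv.ext_iff.mp (show φ (n ^ 7) = 1 by rw [map_pow, ← hσ, pow_orderOf_eq_one])
        ⟨s, hs, hs1⟩
      have h' : ((n ^ 7) • (⟨s, hs, hs1⟩ : X)).1 = s := congrArg Subtype.val h
      rwa [hsmul, SubmonoidClass.coe_pow] at h'
  · by_contra hs1
    cases nonempty_fintype X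
    have hc : (φ n).IsCycle := Equiv.Perm.isCycle_of_prime_order' (by rw [hσ]; norm_num)
      (by rw [hσ, ← Nat.card_eq_fintype_card, hX]; norm_num)
    have hsupp : (φ n).support = Finset.univ := by
      refine Finset.eq_univ_of_card _ ?_
      rw [← hc.orderOf, hσ, ← Nat.card_eq_fintype_card, hX]
    have hm : (⟨s, hs, hs1⟩ : X) ∈ (φ n).support := hsupp ▸ Finset.mem_univ _
    exact Equiv.Perm.mem_support.mp hm (Subtype.ext ((hsmul n _).trans hns))

/-- An alternating bimultiplicative form on a group of order 8 invariant under a map of order 7 is trivial. -/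
theorem form_trivial {S Z : Type*} [CommGroup S] [Finite S] [CommGroup Z] (h8 : Nat.card S = 8)
    (hexp : ∀ s : S, s * s = 1) (β : S → S → Z)
    (hl : ∀ x y w, β (x * y) w = β x w * β y w) (hr : ∀ w x y, β w (x * y) = β w x * β w y)
    (hd : ∀ x, β x x = 1) (α : S →* S) (h7 : ∀ s, α (α (α (α (α (α (α s)))))) = s)
    (hfix : ∀ s, α s = s → s = 1) (hinv : ∀ x y, β (α x) (α y) = β x y) : ∀ x y, β x y = 1 := by
  classical
  cases nonempty_fintype S
  obtain ⟨x, hx⟩ : ∃ x : S, x ≠ 1 := by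
    by_contra! h
    have : Subsingleton S := ⟨fun a b => (h a).trans (h b).symm⟩
    rw [Nat.card_of_subsingleton (1 : S)] at h8
    omega
  have hαi : Function.Injective α := fun a b hab => by rw [← h7 a, ← h7 b, hab]
  have hzz : ∀ s w : S, s * (s * w) = w := fun s w => by rw [← mul_assoc, hexp, one_mul]
  set a := α x with ha
  set b := α a with hb
  -- powers of the map without fixed points
  have hfix2 : ∀ s, α (α s) = s → s = 1 := fun s h => hfix s (by
    have h7' := h7 s
    rw [h, h, h] at h7'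
    exact h7')
  have hfix3 : ∀ s, α (α (α s)) = s → s = 1 := fun s h => hfix s (by
    have h7' := h7 s
    rw [h, h] at h7'
    exact h7')
  have hxa : a ≠ x := fun h => hx (hfix x h)
  have hxb : b ≠ x := fun h => hx (hfix2 x h)
  have hab : b ≠ a := fun h => hxa (hαi h)
  have ha1 : a ≠ 1 := fun h => hx (hαi (h.trans (map_one α).symm))
  have hb1 : b ≠ 1 := fun h => ha1 (hαi (h.trans (map_one α).symm))
  have hbxa : b ≠ x * a := by
    intro h
    refine hx (hfix3 x ?_)
    show α b = x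
    rw [h, map_mul, ← ha, ← hb, h, mul_comm x a, hzz]
  let f : Fin 2 × Fin 2 × Fin 2 → S := fun p => x ^ p.1.val * a ^ p.2.1.val * b ^ p.2.2.val
  have hne : ∀ p, p ≠ (0, 0, 0) → f p ≠ 1 := by
    intro p hp h
    obtain ⟨i, j, k⟩ := p
    have hinv' : ∀ s : S, s⁻¹ = s := fun s => inv_eq_of_mul_eq_one_left (hexp s)
    fin_cases i <;> fin_cases j <;> fin_cases k <;> simp [f] at h hp ⊢
    · exact hb1 h
    · exact ha1 h
    · exact hab (by rw [mul_eq_one_iff_eq_inv, hinv'] at h; exact h.symm)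
    · exact hx h
    · exact hxb (by rw [mul_eq_one_iff_eq_inv, hinv'] at h; exact h.symm)
    · exact hxa (by rw [mul_eq_one_iff_eq_inv, hinv'] at h; exact h.symm)
    · exact hbxa (by rw [mul_eq_one_iff_eq_inv, hinv'] at h; exact h.symm)
  have hfmul : ∀ p q, f (p + q) = f p * f q := by
    rintro ⟨i, j, k⟩ ⟨i', j', k'⟩
    have key : ∀ (s : S) (u v : Fin 2), s ^ (u + v).val = s ^ u.val * s ^ v.val := by
      intro s u v
      fin_cases u <;> fin_cases v <;> simp [hexp]
    show x ^ (i + i').val * a ^ (j + j').val * b ^ (k + k').val = _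
    rw [key, key, key]
    simp only [f, mul_comm, mul_left_comm, mul_assoc]
  have hfi : Function.Injective f := by
    intro p q hpq
    have hsum : p + q = (0, 0, 0) := by
      by_contra h
      exact hne _ h (by rw [hfmul, hpq, hexp])
    obtain ⟨i, j, k⟩ := p
    obtain ⟨i', j', k'⟩ := q
    simp only [Prod.mk_add_mk, Prod.mk.injEq] at hsum ⊢
    omega
  have hsurj : Function.Surjective f := by
    refine ((Fintype.bijective_iff_injective_and_card f).mpr ⟨hfi, ?_⟩).2
    rw [← Nat.card_eq_fintype_card (α := S), h8]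
    rfl
  have h1 : ∀ w, β 1 w = 1 := fun w => by have := hl 1 1 w; rwa [mul_one, left_eq_mul] at this
  have h1' : ∀ w, β w 1 = 1 := fun w => by have := hr w 1 1; rwa [mul_one, left_eq_mul] at this
  have hsym : ∀ u v, β v u = β u v := by
    intro u v
    have hsq : β u v * β u v = 1 := by rw [← hr, hexp, h1']
    have h := hd (u * v)
    rw [hl, hr, hr, hd, hd, one_mul, mul_one] at h
    rw [eq_inv_of_mul_eq_one_right h]
    exact inv_eq_of_mul_eq_one_left hsq
  have hsq : ∀ u v, β u v * β u v = 1 := fun u v => by rw [← hr, hexp, h1']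
  set c1 := β x a with hc1
  set c2 := β x b with hc2
  have hab' : β a b = c1 := hinv x a
  have hac : β a (α b) = c2 := hinv x b
  have hbc : β b (α b) = c1 := (hinv a b).trans hab'
  have hxα : α b = x * a ∨ α b = x * b := by
    obtain ⟨⟨i, j, k⟩, hp⟩ := hsurj (α b)
    have hinv' : ∀ s : S, s⁻¹ = s := fun s => inv_eq_of_mul_eq_one_left (hexp s)
    fin_cases i <;> fin_cases j <;> fin_cases k <;> simp [f] at hp
    · exact absurd (hαi (hp.symm.trans (map_one α).symm)) hb1
    · exact absurd (hfix b hp.symm) hb1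
    · exact absurd (hfix2 a hp.symm) ha1
    · exfalso
      have h : α a = x * α x := hαi (by
        rw [map_mul, ← ha, ← hb]; exact hp.symm)
      exact hbxa h
    · exact absurd (hfix3 x hp.symm) hx
    · exact Or.inr hp.symm
    · exact Or.inl hp.symm
    · exfalso
      refine hx (hfix x ?_)
      have h4 : α (α b) = x := by
        rw [← hp, map_mul, map_mul, ← ha, ← hb, ← hp]
        simp only [mul_comm, mul_left_comm, mul_assoc, hzz, hexp, mul_one]
      have h7' := h7 x
      rw [← ha, ← hb] at h7'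
      rw [h4, ← ha, ← hb] at h7'
      refine absurd h7' (fun h => ?_)
      exact hx (hfix3 x h)
  have hc : c1 = 1 ∧ c2 = 1 := by
    rcases hxα with h | h
    · rw [h, hr, hd, mul_one, hsym x a] at hac
      rw [h, hr, hsym x b, hsym a b, hab'] at hbc
      have h2 : c2 = 1 := by
        have := congrArg (· * c1) hbc
        simpa [mul_assoc, hsq] using this
      exact ⟨hac.trans h2, h2⟩
    · rw [h, hr, hd, mul_one, hsym x b] at hbc
      rw [h, hr, hsym x a, hab', hsq] at hac
      exact ⟨hbc.symm.trans hac.symm, hac.symm⟩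
  have hgen : ∀ u, β x u = 1 ∧ β a u = 1 ∧ β b u = 1 := by
    intro u
    obtain ⟨⟨i, j, k⟩, rfl⟩ := hsurj u
    fin_cases i <;> fin_cases j <;> fin_cases k <;>
      simp [f, hr, h1', hd, hsym x a, hsym x b, hsym a b, ← hc1, ← hc2, hab', hc.1, hc.2]
  intro u v
  obtain ⟨⟨i, j, k⟩, rfl⟩ := hsurj u
  fin_cases i <;> fin_cases j <;> fin_cases k <;>
    simp [f, hl, h1, (hgen v).1, (hgen v).2.1, (hgen v).2.2]

/-- A perfect central extension by a 2-group of a simple group with Sylow 2-subgroup elementary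
abelian of order 8 is trivial. -/
theorem extension_trivial {G : Type u} [Group G] [Finite G] [IsSimpleGroup G] (hG : ¬ IsMulCommutative G)
    (S : Sylow 2 G) [IsMulCommutative (S : Subgroup G)] (h8 : Nat.card (S : Subgroup G) = 8)
    (hexp : ∀ s ∈ (S : Subgroup G), s * s = 1)
    {L : Type*} [Group L] [Finite L] (Z : Subgroup L) [Z.Normal] (hperf : commutator L = ⊤)
    (hZc : Z ≤ center L) (hZ : IsPGroup 2 Z) (e : L ⧸ Z ≃* G) : Z = ⊥ := by
  classical
  have : Fact (Nat.Prime 2) := ⟨Nat.prime_two⟩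
  obtain ⟨n, hn, hn7, hnfix⟩ := exists_seven hG S h8 hexp
  let π : L →* G := e.toMonoidHom.comp (QuotientGroup.mk' Z)
  have hπ : Function.Surjective π := e.surjective.comp (QuotientGroup.mk'_surjective Z)
  have hker : π.ker = Z := by
    ext l
    rw [MonoidHom.mem_ker]
    show e (QuotientGroup.mk' Z l) = 1 ↔ _
    rw [map_eq_one_iff e e.injective, QuotientGroup.mk'_apply, QuotientGroup.eq_one_iff]
  let P₀ : Subgroup L := (S : Subgroup G).comap π
  have hP₀p : IsPGroup 2 P₀ := IsPGroup.comap_of_ker_isPGroup S.isPGroup' π (hker.symm ▸ hZ)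
  have hidx : ¬ 2 ∣ P₀.index := by
    rw [index_comap_of_surjective _ hπ]
    exact S.not_dvd_index
  let P : Sylow 2 L := hP₀p.toSylow hidx
  have hmemP : ∀ l, l ∈ (P : Subgroup L) ↔ π l ∈ (S : Subgroup G) := fun l => Iff.rfl
  -- the commutator form
  have hcc : ∀ {p q : L}, p ∈ P₀ → q ∈ P₀ → ⁅p, q⁆ ∈ Z := by
    intro p q hp hq
    rw [← hker, MonoidHom.mem_ker, map_commutatorElement, commutatorElement_eq_one_iff_mul_comm]
    exact congrArg Subtype.val (mul_comm' (⟨π p, hp⟩ : (S : Subgroup G)) ⟨π q, hq⟩)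
  choose sec hsec using fun s : (S : Subgroup G) => hπ s.1
  have hsecP : ∀ s, sec s ∈ P₀ := fun s => mem_comap.mpr ((hsec s).symm ▸ s.2)
  have hcongr : ∀ {p p' q : L}, π p = π p' → ⁅p, q⁆ = ⁅p', q⁆ ∧ ⁅q, p⁆ = ⁅q, p'⁆ := by
    intro p p' q h
    obtain ⟨z, hz, rfl⟩ : ∃ z ∈ Z, p' = p * z := ⟨p⁻¹ * p', by
      rw [← hker, MonoidHom.mem_ker, map_mul, map_inv, h, inv_mul_cancel], by group⟩
    have hzc : ∀ g, g * z = z * g := fun g => mem_center_iff.mp (hZc hz) g
    constructor
    · rw [commutatorElement_def, commutatorElement_def, mul_inv_rev, hzc p, mul_assoc z p q,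
        ← hzc (p * q), mul_assoc (p * q) z, mul_inv_cancel_left]
    · rw [commutatorElement_def, commutatorElement_def, mul_inv_rev]
      simp only [mul_assoc]
      rw [← mul_assoc z q⁻¹, ← hzc q⁻¹, mul_assoc q⁻¹ z, mul_inv_cancel_left]
  letI : CommGroup (S : Subgroup G) :=
    { (inferInstance : Group (S : Subgroup G)) with mul_comm := mul_comm' }
  letI : CommGroup Z :=
    { (inferInstance : Group Z) with
      mul_comm := fun a b => Subtype.ext (mem_center_iff.mp (hZc b.2) a.1) }
  let β : ↥(S : Subgroup G) → ↥(S : Subgroup G) → ↥Z := fun s t => ⟨⁅sec s, sec t⁆, hcc (hsecP s) (hsecP t)⟩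
  have hval : ∀ {p q : L} (hp : π p ∈ (S : Subgroup G)) (hq : π q ∈ (S : Subgroup G)),
      (β ⟨π p, hp⟩ ⟨π q, hq⟩).1 = ⁅p, q⁆ := fun {p q} hp hq =>
    ((hcongr (hsec ⟨π p, hp⟩)).1).trans (hcongr (hsec ⟨π q, hq⟩)).2
  have hvsec : ∀ s t : (S : Subgroup G), (β s t).1 = ⁅sec s, sec t⁆ := fun _ _ => rfl
  have hl : ∀ x y w, β (x * y) w = β x w * β y w := by
    intro x y w
    apply Subtype.ext
    have h : π (sec (x * y)) = π (sec x * sec y) := by rw [map_mul, hsec, hsec, hsec]; rfl
    rw [hvsec, (hcongr h).1, Subgroup.coe_mul, hvsec, hvsec]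
    have hc := mem_center_iff.mp (hZc (hcc (hsecP y) (hsecP w)))
    rw [commutatorElement_def, commutatorElement_def, commutatorElement_def, mul_inv_rev]
    have hc' := hc (sec x)
    rw [commutatorElement_def] at hc'
    calc sec x * sec y * sec w * ((sec y)⁻¹ * (sec x)⁻¹) * (sec w)⁻¹
        = sec x * (sec y * sec w * (sec y)⁻¹ * (sec w)⁻¹) * (sec w * (sec x)⁻¹ * (sec w)⁻¹) := by group
      _ = (sec y * sec w * (sec y)⁻¹ * (sec w)⁻¹) * (sec x * sec w * (sec x)⁻¹ * (sec w)⁻¹) := by
          rw [hc']; group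
      _ = _ := by
          have h2 := hc (sec x * sec w * (sec x)⁻¹ * (sec w)⁻¹)
          rw [commutatorElement_def] at h2
          exact h2.symm
  have hanti : ∀ x w, β w x = (β x w)⁻¹ := fun x w => Subtype.ext (by
    rw [Subgroup.coe_inv, hvsec, hvsec, commutatorElement_inv])
  have hr : ∀ w x y, β w (x * y) = β w x * β w y := by
    intro w x y
    rw [hanti, hl, mul_inv, ← hanti, ← hanti]
  have hd : ∀ x, β x x = 1 := fun x => Subtype.ext (commutatorElement_self _)
  obtain ⟨m, rfl⟩ := hπ n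
  let α : ↥(S : Subgroup G) →* ↥(S : Subgroup G) :=
    ((MulAut.conj (π m)).toMonoidHom.comp (S : Subgroup G).subtype).codRestrict _ fun s =>
      (mem_normalizer_iff.mp hn s.1).mp s.2
  have hα : ∀ s, (α s).1 = π m * s.1 * (π m)⁻¹ := fun _ => rfl
  have hinv : ∀ x y, β (α x) (α y) = β x y := by
    intro x y
    apply Subtype.ext
    have h1 : π (sec (α x)) = π (m * sec x * m⁻¹) := by rw [hsec, map_mul, map_mul, map_inv, hsec, hα]
    have h2 : π (sec (α y)) = π (m * sec y * m⁻¹) := by rw [hsec, map_mul, map_mul, map_inv, hsec, hα]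
    rw [hvsec, hvsec, (hcongr h1).1, (hcongr h2).2]
    have hc := mem_center_iff.mp (hZc (hcc (hsecP x) (hsecP y))) m
    calc ⁅m * sec x * m⁻¹, m * sec y * m⁻¹⁆ = m * ⁅sec x, sec y⁆ * m⁻¹ := by
          rw [commutatorElement_def, commutatorElement_def]; group
      _ = ⁅sec x, sec y⁆ := by rw [hc, mul_inv_cancel_right]
  have hfix : ∀ s, α s = s → s = 1 := fun s h =>
    Subtype.ext (hnfix s.1 s.2 ((hα s).symm.trans (congrArg Subtype.val h)))
  have h7 : ∀ s, α (α (α (α (α (α (α s)))))) = s := by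
    intro s
    apply Subtype.ext
    simp only [hα]
    calc _ = π m ^ 7 * s.1 * (π m ^ 7)⁻¹ := by simp only [pow_succ, pow_zero, one_mul, mul_inv_rev, mul_assoc]
      _ = s.1 := hn7 s.1 s.2
  have htriv := form_trivial h8 (fun s => Subtype.ext (hexp s.1 s.2)) β hl hr hd α h7 hfix hinv
  have hPab : IsMulCommutative (P : Subgroup L) := by
    refine ⟨⟨fun p q => Subtype.ext ?_⟩⟩
    have h := hval ((hmemP _).mp p.2) ((hmemP _).mp q.2)
    rw [htriv, Subgroup.coe_one] at h
    exact commutatorElement_eq_one_iff_mul_comm.mp h.symm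
  -- the transfer to `P` is trivial
  letI : CommGroup (P : Subgroup L) :=
    { (inferInstance : Group (P : Subgroup L)) with mul_comm := mul_comm' }
  let τ : L →* (P : Subgroup L) := MonoidHom.transfer (MonoidHom.id _)
  have hτ : ∀ l, τ l = 1 := by
    intro l
    have hle : commutator L ≤ τ.ker := Abelianization.commutator_subset_ker τ
    rw [hperf] at hle
    exact MonoidHom.mem_ker.mp (hle (mem_top l))
  rw [eq_bot_iff]
  intro z hz
  have hzc : ∀ g, g * z = z * g := fun g => mem_center_iff.mp (hZc hz) g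
  have hzP : z ∈ (P : Subgroup L) := by
    rw [hmemP, show π z = 1 from MonoidHom.mem_ker.mp (hker.symm ▸ hz)]
    exact one_mem _
  have key : ∀ (k : ℕ) (g₀ : L), g₀⁻¹ * z ^ k * g₀ ∈ (P : Subgroup L) → g₀⁻¹ * z ^ k * g₀ = z ^ k := by
    intro k g₀ _
    rw [mul_assoc, ← ((Commute.pow_right (hzc g₀) k).eq), inv_mul_cancel_left]
  have h := hτ z
  rw [show τ z = _ from MonoidHom.transfer_eq_pow (MonoidHom.id _) z key] at h
  have h' : z ^ (P : Subgroup L).index = 1 := congrArg Subtype.val h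
  obtain ⟨j, hj⟩ := IsPGroup.iff_orderOf.mp hZ ⟨z, hz⟩
  rw [← Subgroup.orderOf_coe] at hj
  have hd2 : orderOf z ∣ (P : Subgroup L).index := orderOf_dvd_of_pow_eq_one h'
  rcases j with _ | j
  · exact (mem_bot.mpr (orderOf_eq_one_iff.mp (by simpa using hj)))
  · exfalso
    apply hidx
    rw [hj] at hd2
    exact (dvd_pow_self 2 (Nat.succ_ne_zero j)).trans hd2

end CfsgLib.InvChar.EightSylow
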