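import Cfsg.Agent.Lib.InvChar.OrderSixtyFour
import Cfsg.Agent.Lib.TwoGroups.Semidihedral

/-!
# Order 64: an involution inverting a fixed-point-free automorphism of order 3
-/

set_option autoImplicit false

namespace CfsgLib.InvCharSixtyFour

variable {T : Type*} [Group T] [Finite T] (hT : Nat.card T = 64) (hna : ¬ ∀ a b : T, a * b = b * a)
  (ρ : MulAut T) (h3 : ∀ y, ρ (ρ (ρ y)) = y) (hfp : ∀ y, ρ y = y → y = 1)
  (x : MulAut T) (hx2 : ∀ y, x (x y) = y) (hxr : ∀ y, x (ρ y) = ρ (ρ (x y)))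

include h3 hfp in
/-- A coset of an invariant subgroup fixed by `ρ` is trivial. -/
theorem mem_of_inv_mul_mem (S : Subgroup T) (hS : ∀ y ∈ S, ρ y ∈ S) {w : T} (hw : w⁻¹ * ρ w ∈ S) :
    w ∈ S := by
  have key : ∀ u v : T, u⁻¹ * ρ u = v⁻¹ * ρ v → u = v := by
    intro u v h
    refine mul_inv_eq_one.1 (hfp _ ?_)
    rw [map_mul, map_inv]
    calc ρ u * (ρ v)⁻¹ = u * (u⁻¹ * ρ u) * (ρ v)⁻¹ := by group
      _ = u * (v⁻¹ * ρ v) * (ρ v)⁻¹ := by rw [h]
      _ = u * v⁻¹ := by group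
  let g : S → S := fun z => ⟨(z : T)⁻¹ * ρ z, mul_mem (inv_mem z.2) (hS z z.2)⟩
  have hg : Function.Injective g := fun u v h => Subtype.ext (key u v (congrArg Subtype.val h))
  obtain ⟨z, hz⟩ := Finite.surjective_of_injective hg ⟨_, hw⟩
  rw [← key z w (congrArg Subtype.val hz)]
  exact z.2

include hT hna h3 hfp hxr hx2

theorem fixed_central : ∃ c ∈ Subgroup.center T, c ≠ 1 ∧ x c = c := by
  have h4 := card_center hT hna ρ h3 hfp
  have : Nontrivial (Subgroup.center T) := Finite.one_lt_card_iff_nontrivial.1 (by omega)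
  obtain ⟨⟨z, hz⟩, hne⟩ := exists_ne (1 : Subgroup.center T)
  have hz1 : z ≠ 1 := fun e => hne (Subtype.ext e)
  have hρ := center_invariant ρ
  rcases four_cases ρ h3 hfp _ hρ h4 hz hz1 (center_invariant x z hz) with h | h | h | h
  · exact absurd (x.injective (h.trans (map_one x).symm)) hz1
  · exact ⟨z, hz, hz1, h⟩
  · refine ⟨ρ (ρ z), hρ _ (hρ z hz), fun e => hz1 ?_, ?_⟩
    · exact ρ.injective (ρ.injective (by rw [e, map_one, map_one]))
    · rw [hxr, hxr, h, h3]
  · refine ⟨ρ z, hρ z hz, fun e => hz1 (ρ.injective (by rw [e, map_one])), ?_⟩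
    rw [hxr, h, h3]

theorem center_prod {c : T} (hc : c ∈ Subgroup.center T) : ρ (ρ c) = c * ρ c ∧ c * ρ (ρ c) = ρ c := by
  have h := center_sq hT hna ρ h3 hfp (mul_mem hc (center_invariant ρ c hc))
  have h1 := (fpf_three ρ h3 hfp c).1
  have e : ρ (ρ c) = c * ρ c := by rw [eq_inv_of_mul_eq_one_right h1, inv_eq_of_mul_eq_one_right h]
  refine ⟨e, ?_⟩
  rw [e, ← mul_assoc, center_sq hT hna ρ h3 hfp hc, one_mul]

/-- Elements fixed modulo the centre have fixed lifts. -/
theorem fixed_lift {y : T} (hy : y⁻¹ * x y ∈ Subgroup.center T) :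
    ∃ z ∈ Subgroup.center T, x (y * z) = y * z := by
  obtain ⟨c, hc, hc1, hxc⟩ := fixed_central hT hna ρ h3 hfp x hx2 hxr
  have hsq := center_sq hT hna ρ h3 hfp hy
  have hw : x (y⁻¹ * x y) = y⁻¹ * x y := by
    rw [map_mul, map_inv, hx2]
    have h' : y⁻¹ * x y = (y⁻¹ * x y)⁻¹ := eq_inv_of_mul_eq_one_right hsq
    rw [mul_inv_rev, inv_inv] at h'
    exact h'.symm
  have hρc : ρ c ≠ c := fun e => hc1 (hfp c e)
  rcases four_cases ρ h3 hfp _ (center_invariant ρ) (card_center hT hna ρ h3 hfp) hc hc1 hy with h | h | h | h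
  · exact ⟨1, one_mem _, by rw [mul_one]; exact (inv_mul_eq_one.1 h).symm⟩
  · refine ⟨ρ c, center_invariant ρ c hc, ?_⟩
    rw [map_mul, inv_mul_eq_iff_eq_mul.1 h, hxr, hxc, mul_assoc,
      (center_prod hT hna ρ h3 hfp x hx2 hxr hc).2]
  all_goals
    rw [h] at hw
    simp only [hxr, hxc, h3] at hw
  · exact absurd (ρ.injective hw) hρc
  · exact absurd (ρ.injective hw).symm hρc

/-- A fixed element outside the centre. -/
theorem exists_fixed : ∃ a : T, a ∉ Subgroup.center T ∧ x a = a := by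
  obtain ⟨v, hv⟩ : ∃ v : T, v ∉ Subgroup.center T := by
    by_contra! h
    exact hna fun a b => (Subgroup.mem_center_iff.1 (h a) b).symm
  obtain ⟨a, ha, hax⟩ : ∃ a : T, a ∉ Subgroup.center T ∧ a⁻¹ * x a ∈ Subgroup.center T := by
    by_cases h : v⁻¹ * x v ∈ Subgroup.center T
    · exact ⟨v, hv, h⟩
    · refine ⟨v * x v, fun h' => h ?_, ?_⟩
      · have : v⁻¹ * x v = ((v ^ 2)⁻¹) * (v * x v) := by rw [pow_two]; group
        rw [this]; exact mul_mem (inv_mem (sq_mem_center hT hna ρ h3 hfp v)) h'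
      · have : (v * x v)⁻¹ * x (v * x v) = cm (x v)⁻¹ v⁻¹ := by
          rw [map_mul, hx2]; unfold cm; group
        rw [this]; exact cm_mem hT hna ρ h3 hfp _ _
  obtain ⟨z, hz, hzx⟩ := fixed_lift hT hna ρ h3 hfp x hx2 hxr hax
  exact ⟨a * z, fun h => ha ((mul_mem_cancel_right hz).1 h), hzx⟩

/-- Two fixed elements that do not commute. -/
theorem exists_fixed_pair : ∃ a b : T, x a = a ∧ x b = b ∧ cm a b ≠ 1 := by
  obtain ⟨a, ha, hxa⟩ := exists_fixed hT hna ρ h3 hfp x hx2 hxr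
  obtain ⟨hK, hKinv⟩ := span_card hT hna ρ h3 hfp (card_center hT hna ρ h3 hfp) ha
  set K := Subgroup.closure (insert a (insert (ρ a) (Subgroup.center T : Set T))) with hKdef
  have hZK : Subgroup.center T ≤ K := fun z hz =>
    Subgroup.subset_closure (Set.mem_insert_of_mem _ (Set.mem_insert_of_mem _ hz))
  have haK : a ∈ K := Subgroup.subset_closure (Set.mem_insert _ _)
  have hρa : ρ a ∉ Subgroup.center T := fun h => ha (by
    have := center_invariant ρ _ (center_invariant ρ _ h); rwa [h3] at this)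
  -- the elements of `K` fixed modulo the centre
  have hKfix : ∀ y ∈ K, y⁻¹ * x y ∈ Subgroup.center T →
      y ∈ Subgroup.center T ∨ a⁻¹ * y ∈ Subgroup.center T := by
    intro y hy hyx
    rcases span_four hT hna ρ h3 hfp ha hy with h | h | h | h
    · exact Or.inl h
    · exact Or.inr h
    all_goals exfalso
    · have h1 := center_invariant x _ h
      rw [map_mul, map_inv, hxr, hxa] at h1
      apply hρa
      apply mem_of_inv_mul_mem ρ h3 hfp _ (center_invariant ρ)
      have e : (ρ a)⁻¹ * ρ (ρ a) = (ρ a)⁻¹ * y * (y⁻¹ * x y) * ((ρ (ρ a))⁻¹ * x y)⁻¹ := by group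
      rw [e]; exact mul_mem (mul_mem h hyx) (inv_mem h1)
    · have h1 := center_invariant x _ h
      rw [map_mul, map_inv, hxr, hxr, hxa, h3] at h1
      apply hρa
      apply mem_of_inv_mul_mem ρ h3 hfp _ (center_invariant ρ)
      have e : (ρ a)⁻¹ * ρ (ρ a) = (ρ a)⁻¹ * x y * (y⁻¹ * x y)⁻¹ * ((ρ (ρ a))⁻¹ * y)⁻¹ := by group
      rw [e]; exact mul_mem (mul_mem h1 (inv_mem hyx)) (inv_mem h)
  obtain ⟨b, hb, hbx⟩ : ∃ b : T, b ∉ K ∧ b⁻¹ * x b ∈ Subgroup.center T := by
    by_contra! hc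
    have key : ∀ v : T, v ∉ K → a⁻¹ * (v * x v) ∈ Subgroup.center T := by
      intro v hv
      have hfix : (v * x v)⁻¹ * x (v * x v) ∈ Subgroup.center T := by
        have : (v * x v)⁻¹ * x (v * x v) = cm (x v)⁻¹ v⁻¹ := by rw [map_mul, hx2]; unfold cm; group
        rw [this]; exact cm_mem hT hna ρ h3 hfp _ _
      refine (hKfix _ (by_contra fun h => hc _ h hfix) hfix).resolve_left fun h => hc v hv ?_
      have : v⁻¹ * x v = ((v ^ 2)⁻¹) * (v * x v) := by rw [pow_two]; group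
      rw [this]; exact mul_mem (inv_mem (sq_mem_center hT hna ρ h3 hfp v)) h
    obtain ⟨v, -, hv⟩ : ∃ v : T, v ∈ (⊤ : Subgroup T) ∧ v ∉ K := by
      apply SetLike.exists_of_lt
      refine lt_top_iff_ne_top.2 fun e => ?_
      have hK' : Nat.card K = 16 := hK
      rw [e, Subgroup.card_top, hT] at hK'
      omega
    have hρv : ρ v ∉ K := fun h => hv (by
      have := hKinv _ (hKinv _ h); rwa [h3] at this)
    have k1 := hKinv _ (hKinv _ (hZK (key v hv)))
    have k2 : a⁻¹ * (ρ v * ρ (ρ (x v))) ∈ K := by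
      have := hZK (key _ hρv); rwa [hxr] at this
    have k3 : ρ v * (ρ (ρ v))⁻¹ ∈ K := by
      simp only [map_mul, map_inv] at k1
      have e : ρ v * (ρ (ρ v))⁻¹ =
          a * (a⁻¹ * (ρ v * ρ (ρ (x v)))) * ((ρ (ρ a))⁻¹ * (ρ (ρ v) * ρ (ρ (x v))))⁻¹ * (ρ (ρ a))⁻¹ := by
        group
      rw [e]
      exact mul_mem (mul_mem (mul_mem haK k2) (inv_mem k1)) (inv_mem (hKinv _ (hKinv _ haK)))
    apply hρv
    refine mem_of_inv_mul_mem ρ h3 hfp K hKinv ?_
    have e : (ρ v)⁻¹ * ρ (ρ v) = (ρ v * (ρ (ρ v))⁻¹)⁻¹ * cm (ρ v) (ρ (ρ v))⁻¹ := by unfold cm; group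
    rw [e]
    exact mul_mem (inv_mem k3) (hZK (cm_mem hT hna ρ h3 hfp _ _))
  obtain ⟨z, hz, hzx⟩ := fixed_lift hT hna ρ h3 hfp x hx2 hxr hbx
  refine ⟨a, b * z, hxa, hzx, fun h1 => ha ?_⟩
  have hb' : b * z ∉ K := fun h => hb ((mul_mem_cancel_right (hZK hz)).1 h)
  let M : Subgroup T :=
    { carrier := {y | cm a y = 1}
      one_mem' := by simp [cm]
      mul_mem' := fun {p q} hp hq => by
        show cm a (p * q) = 1
        rw [cm_mul_right hT hna ρ h3 hfp]
        rw [show cm a p = 1 from hp, show cm a q = 1 from hq, one_mul]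
      inv_mem' := fun {p} hp => by
        show cm a p⁻¹ = 1
        have := cm_mul_right hT hna ρ h3 hfp a p p⁻¹
        rw [show cm a p = 1 from hp, one_mul, mul_inv_cancel] at this
        rw [← this]; simp [cm] }
  have hMinv : ∀ y ∈ M, ρ y ∈ M := fun y hy => by
    show cm a (ρ y) = 1
    rw [(cm_equivariant hT hna ρ h3 hfp a y).1, show cm a y = 1 from hy, map_one, map_one]
  have hKM : K ≤ M := by
    refine (Subgroup.closure_le _).2 ?_
    intro y hy
    show cm a y = 1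
    rcases hy with rfl | rfl | hy
    · simp [cm]
    · unfold cm; rw [(fpf_three ρ h3 hfp a).2]; group
    · unfold cm; rw [Subgroup.mem_center_iff.1 hy a]; group
  have hlt : K < M := lt_of_le_not_ge hKM fun h => hb' (h h1)
  have hM : M = ⊤ := by
    have h16 : Nat.card K < Nat.card M := by
      refine lt_of_le_of_ne (Subgroup.card_le_of_le hKM) fun e => hlt.ne ?_
      exact Subgroup.eq_of_le_of_card_ge hKM e.ge
    have hK' : Nat.card K = 16 := hK
    rcases card_invariant hT ρ h3 hfp M hMinv with h | h | h | h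
    · omega
    · omega
    · omega
    · exact Subgroup.eq_top_of_card_eq _ (h.trans hT.symm)
  rw [Subgroup.mem_center_iff]
  intro g
  have hg' : g ∈ M := by rw [hM]; exact Subgroup.mem_top g
  have hg : cm a g = 1 := hg'
  rw [cm, mul_inv_eq_one, mul_inv_eq_iff_eq_mul] at hg
  exact hg.symm

omit hx2 in
/-- The fixed points of `x` have order 8. -/
theorem card_fixed {C : Subgroup T} (hC : ∀ y, y ∈ C ↔ x y = y)
    {a b : T} (ha : x a = a) (hb : x b = b) (hab : cm a b ≠ 1) : Nat.card C = 8 := by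
  have hinj : Function.Injective fun p : C × C => (p.1 : T) * ρ p.2 := by
    rintro ⟨p, q⟩ ⟨p', q'⟩ (h : (p : T) * ρ q = p' * ρ q')
    have h' : ρ ((q : T) * (q' : T)⁻¹) = (p : T)⁻¹ * p' := by
      rw [map_mul, map_inv, mul_inv_eq_iff_eq_mul, mul_assoc, ← h, inv_mul_cancel_left]
    have hfx : x (ρ ((q : T) * (q' : T)⁻¹)) = ρ ((q : T) * (q' : T)⁻¹) := by
      rw [h', map_mul, map_inv, (hC _).1 p.2, (hC _).1 p'.2]
    rw [hxr, map_mul, map_inv, (hC _).1 q.2, (hC _).1 q'.2] at hfx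
    have hq : (q : T) = q' := mul_inv_eq_one.1 (hfp _ (ρ.injective hfx))
    rw [hq] at h
    exact Prod.ext (Subtype.ext (mul_right_cancel h)) (Subtype.ext hq)
  have h64 := Nat.card_le_card_of_injective _ hinj
  rw [Nat.card_prod, hT] at h64
  have hle : Nat.card C ≤ 8 := by
    by_contra hc
    have := Nat.mul_le_mul (show 9 ≤ Nat.card C by omega) (show 9 ≤ Nat.card C by omega)
    omega
  obtain ⟨i, -, hi⟩ := (Nat.dvd_prime_pow Nat.prime_two).1
    (show Nat.card C ∣ 2 ^ 6 by have := Subgroup.card_subgroup_dvd_card C; rwa [hT] at this)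
  have hnc : ¬ IsMulCommutative C := fun h => hab (by
    have := congrArg Subtype.val (h.is_comm.comm (⟨a, (hC a).2 ha⟩ : C) ⟨b, (hC b).2 hb⟩)
    simp only [Subgroup.coe_mul] at this
    rw [cm, this]; group)
  have hi3 : i = 3 := by
    by_contra hne
    apply hnc
    have : Fact (Nat.Prime 2) := ⟨Nat.prime_two⟩
    have hi' : i ≤ 2 := by
      by_contra hgt
      have : 2 ^ 4 ≤ 2 ^ i := Nat.pow_le_pow_right (by norm_num) (by omega)
      omega
    interval_cases i
    · have : Subsingleton C := (Nat.card_eq_one_iff_unique.1 hi).1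
      exact ⟨⟨fun p q => Subsingleton.elim _ _⟩⟩
    · exact (isCyclic_of_prime_card (p := 2) (hi.trans (pow_one 2))).isMulCommutative
    · exact IsPGroup.isMulCommutative_of_card_eq_prime_sq hi
  rw [hi, hi3]; norm_num

omit hx2 hxr x in
/-- The unitriangular structure carried by a normalized pair. -/
theorem nonempty_uni_equiv {A B : T} (hA : A * A = 1) (hB : B * B = 1) (hc1 : cm A B ≠ 1)
    (F : Type*) [Field F] [Fintype F] [CharP F 2] (hF : Fintype.card F = 4) :
    Nonempty (CfsgLib.InvCharThree.Uni F ≃* T) := by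
  classical
  obtain ⟨ω, -, hω⟩ := Finset.exists_mem_notMem_of_card_lt_card
    (s := ({0, 1} : Finset F)) (t := Finset.univ) (by
      rw [Finset.card_univ, hF, Finset.card_pair zero_ne_one]; norm_num)
  simp only [Finset.mem_insert, Finset.mem_singleton, not_or] at hω
  have h2 : ∀ y : F, y + y = 0 := CharTwo.add_self_eq_zero
  have hne0 : ω + 1 ≠ 0 := fun h => hω.2 (by
    calc ω = ω + (1 + 1) := by rw [h2, add_zero]
      _ = (ω + 1) + 1 := by ring
      _ = 1 := by rw [h, zero_add])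
  have hne1 : ω + 1 ≠ 1 := fun h => hω.1 (add_eq_right.1 h)
  have hne2 : ω + 1 ≠ ω := fun h => one_ne_zero (add_eq_left.1 h)
  have hall : ∀ y : F, y = 0 ∨ y = 1 ∨ y = ω ∨ y = ω + 1 := by
    have hu : ({0, 1, ω, ω + 1} : Finset F) = Finset.univ := Finset.eq_univ_of_card _ (by
      rw [hF, Finset.card_insert_of_notMem, Finset.card_insert_of_notMem, Finset.card_pair hne2.symm]
      · simp [Ne.symm hω.2, hne1.symm]
      · simp [Ne.symm hω.1, hne0.symm])
    intro y
    simpa using (hu.symm ▸ Finset.mem_univ y : y ∈ ({0, 1, ω, ω + 1} : Finset F))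
  have hωω : ω * ω = ω + 1 := by
    rcases hall (ω * ω) with h | h | h | h
    · exact absurd (mul_self_eq_zero.1 h) hω.1
    · rcases mul_self_eq_one_iff.1 h with h | h
      · exact absurd h hω.2
      · exact absurd (h.trans (CharTwo.neg_eq 1)) hω.2
    · exact absurd (mul_left_cancel₀ hω.1 (h.trans (mul_one ω).symm)) hω.2
    · exact h
  have hω1 : ω * (ω + 1) = 1 := by
    calc ω * (ω + 1) = ω * ω + ω := by ring
      _ = (ω + ω) + 1 := by rw [hωω]; ring
      _ = 1 := by rw [h2, zero_add]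
  have hω1ω1 : (ω + 1) * (ω + 1) = ω := by
    calc (ω + 1) * (ω + 1) = ω * (ω + 1) + (ω + 1) := by ring
      _ = ω + (1 + 1) := by rw [hω1]; ring
      _ = ω := by rw [h2, add_zero]
  let f : T → T → T → F → T := fun P Q R y => if y = 0 then 1 else if y = 1 then P else if y = ω then Q else R
  have hf0 : ∀ P Q R, f P Q R 0 = 1 := fun P Q R => if_pos rfl
  have hf1 : ∀ P Q R, f P Q R 1 = P := fun P Q R => by simp [f]
  have hfω : ∀ P Q R, f P Q R ω = Q := fun P Q R => by simp [f, hω.1, hω.2]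
  have hfω1 : ∀ P Q R, f P Q R (ω + 1) = R := fun P Q R => by simp [f, hne0, hne1, hne2]
  have hfadd : ∀ P Q R : T, P * P = 1 → Q * Q = 1 → P * Q = Q * P → R = P * Q →
      ∀ y y' : F, f P Q R (y + y') = f P Q R y * f P Q R y' := by
    intro P Q R hP hQ hPQ hR
    have e1 : 1 + ω = ω + 1 := add_comm _ _
    have e2 : 1 + (ω + 1) = ω := by
      calc 1 + (ω + 1) = ω + (1 + 1) := by ring
        _ = ω := by rw [h2, add_zero]
    have e3 : ω + 1 + 1 = ω := by rw [add_comm, e2]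
    have e4 : ω + (ω + 1) = 1 := by rw [← add_assoc, h2, zero_add]
    have e5 : ω + 1 + ω = 1 := by rw [add_comm, e4]
    have p1 : P * (P * Q) = Q := by rw [← mul_assoc, hP, one_mul]
    have p2 : P * Q * P = Q := by rw [hPQ, mul_assoc, hP, mul_one]
    have p3 : Q * (P * Q) = P := by rw [hPQ, ← mul_assoc, hQ, one_mul]
    have p4 : P * Q * Q = P := by rw [mul_assoc, hQ, mul_one]
    have p5 : P * Q * (P * Q) = 1 := by rw [mul_assoc, p3, hP]
    intro y y'
    rcases hall y with rfl | rfl | h | h <;> (try rw [h])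
    · rw [zero_add, hf0, one_mul]
    all_goals rcases hall y' with rfl | rfl | h | h <;> (try rw [h]) <;>
      simp only [add_zero, e1, e2, e3, e4, e5, h2, hf0, hf1, hfω, hfω1, mul_one, hR, hP, hQ, ← hPQ, p1, p2, p3, p4, p5]
  have hz : cm A B ∈ Subgroup.center T := cm_mem hT hna ρ h3 hfp A B
  have hρ := center_invariant ρ
  -- `ρρ y = y * ρ y` for an involution `y`
  have hthird : ∀ y : T, y * y = 1 → ρ (ρ y) = y * ρ y := by
    intro y hy
    obtain ⟨h1, hc⟩ := fpf_three ρ h3 hfp y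
    have h2' : y * ρ y * (y * ρ y) = 1 := by
      rw [mul_assoc, ← mul_assoc (ρ y), ← hc, mul_assoc, ← map_mul, hy, map_one, mul_one, hy]
    rw [eq_inv_of_mul_eq_one_right h1, inv_eq_of_mul_eq_one_right h2']
  have hρρ2 : ∀ y : T, y * y = 1 → ρ y * ρ y = 1 ∧ ρ (ρ y) * ρ (ρ y) = 1 := fun y hy => by
    simp [← map_mul, hy]
  let α := f A (ρ A) (ρ (ρ A))
  let β := f B (ρ B) (ρ (ρ B))
  let γ := f (cm A B) (ρ (ρ (cm A B))) (ρ (cm A B))
  have hα : ∀ y y' : F, α (y + y') = α y * α y' := hfadd A (ρ A) (ρ (ρ A)) hA (hρρ2 A hA).1 (fpf_three ρ h3 hfp A).2 (hthird A hA)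
  have hβ : ∀ y y' : F, β (y + y') = β y * β y' := hfadd B (ρ B) (ρ (ρ B)) hB (hρρ2 B hB).1 (fpf_three ρ h3 hfp B).2 (hthird B hB)
  have hzz := center_sq hT hna ρ h3 hfp hz
  have hγ : ∀ y y' : F, γ (y + y') = γ y * γ y' := hfadd (cm A B) (ρ (ρ (cm A B))) (ρ (cm A B)) hzz (hρρ2 _ hzz).2
    (Subgroup.mem_center_iff.1 (hρ _ (hρ _ hz)) _) (by
      rw [hthird _ hzz, ← mul_assoc, hzz, one_mul])
  have hγc : ∀ y, γ y ∈ Subgroup.center T := fun y => by
    rcases hall y with rfl | rfl | h | h <;> (try rw [h]) <;> simp only [γ, hf0, hf1, hfω, hfω1]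
    · exact one_mem _
    · exact hz
    · exact hρ _ (hρ _ hz)
    · exact hρ _ hz
  obtain ⟨q1, q2, q3, q4⟩ := cm_equivariant hT hna ρ h3 hfp A B
  have hcm : ∀ u v : F, cm (α u) (β v) = γ (u * v) := by
    have q5 : cm A (ρ (ρ B)) = ρ (cm A B) := by
      rw [(cm_equivariant hT hna ρ h3 hfp A (ρ B)).1, q1, h3]
    have q6 : cm (ρ A) (ρ (ρ B)) = cm A B := by rw [← cm_map, q1, h3]
    have q7 : cm (ρ (ρ A)) (ρ B) = cm A B := by rw [← cm_map, q2, h3]
    have q8 : cm (ρ (ρ A)) (ρ (ρ B)) = ρ (ρ (cm A B)) := by rw [← cm_map, ← cm_map]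
    have e0 : ∀ w : T, cm 1 w = 1 ∧ cm w 1 = 1 := fun w => by simp [cm]
    intro u v
    rcases hall u with rfl | rfl | h | h <;> (try rw [h]) <;> rcases hall v with rfl | rfl | h | h <;>
      (try rw [h]) <;>
      simp only [α, β, γ, zero_mul, mul_zero, one_mul, mul_one, hωω, hω1, mul_comm (ω + 1) ω, hω1ω1,
        hf0, hf1, hfω, hfω1, e0, q1, q2, q3, q4, q5, q6, q7, q8]
  have h0 : α 0 = 1 ∧ β 0 = 1 ∧ γ 0 = 1 := ⟨hf0 _ _ _, hf0 _ _ _, hf0 _ _ _⟩
  let Φ : CfsgLib.InvCharThree.Uni F →* T :=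
    { toFun := fun p => α p.u * β p.v * γ p.w
      map_one' := by simp [h0]
      map_mul' := fun p q => by
        simp only [CfsgLib.InvCharThree.uni_mul_u, CfsgLib.InvCharThree.uni_mul_v, CfsgLib.InvCharThree.uni_mul_w]
        rw [hγ, hγ, hα, hβ]
        have hs : β p.v * α q.u = α q.u * β p.v * γ (p.v * q.u) := by
          have h : γ (p.v * q.u) = cm (β p.v) (α q.u) := by
            rw [cm_symm hT hna ρ h3 hfp (α q.u) (β p.v), hcm, mul_comm]
          rw [← Subgroup.mem_center_iff.1 (hγc _) _ |>.symm, h]; unfold cm; group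
        calc α p.u * α q.u * (β p.v * β q.v) * (γ p.w * γ q.w * γ (p.v * q.u))
            = α p.u * α q.u * β p.v * (β q.v * γ (p.v * q.u)) * (γ p.w * γ q.w) := by
              rw [← Subgroup.mem_center_iff.1 (hγc (p.v * q.u)) (γ p.w * γ q.w) |>.symm]; group
          _ = α p.u * α q.u * β p.v * (γ (p.v * q.u) * β q.v) * (γ p.w * γ q.w) := by
              rw [Subgroup.mem_center_iff.1 (hγc _) (β q.v)]
          _ = α p.u * (β p.v * α q.u) * β q.v * (γ p.w * γ q.w) := by rw [hs]; group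
          _ = α p.u * β p.v * α q.u * (β q.v * γ p.w) * γ q.w := by group
          _ = α p.u * β p.v * (α q.u * γ p.w) * β q.v * γ q.w := by
              rw [Subgroup.mem_center_iff.1 (hγc _) (β q.v)]; group
          _ = α p.u * β p.v * γ p.w * (α q.u * β q.v * γ q.w) := by
              rw [Subgroup.mem_center_iff.1 (hγc _) (α q.u)]; group }
  have hγ0 : ∀ y, γ y = 1 → y = 0 := by
    have n1 : ρ (cm A B) ≠ 1 := fun e => hc1 (ρ.injective (e.trans (map_one ρ).symm))
    have n2 : ρ (ρ (cm A B)) ≠ 1 := fun e => n1 (ρ.injective (e.trans (map_one ρ).symm))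
    intro y hy
    rcases hall y with rfl | rfl | h | h <;> (try rw [h] at hy ⊢) <;> simp only [γ, hf1, hfω, hfω1] at hy ⊢
    exacts [absurd hy hc1, absurd hy n2, absurd hy n1]
  have hΦ : Function.Injective Φ := by
    rw [injective_iff_map_eq_one]
    intro p (hp : α p.u * β p.v * γ p.w = 1)
    have hmem : α p.u * β p.v ∈ Subgroup.center T := by
      rw [eq_inv_of_mul_eq_one_left hp]; exact inv_mem (hγc _)
    have hcent : ∀ g, cm (α p.u * β p.v) g = 1 := fun g => by
      unfold cm; rw [← Subgroup.mem_center_iff.1 hmem g]; group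
    have hself : ∀ v, cm (β v) (β 1) = 1 := fun v => by
      unfold cm; rw [← hβ, add_comm, hβ]; group
    have hself' : ∀ u, cm (α u) (α 1) = 1 := fun u => by
      unfold cm; rw [← hα, add_comm, hα]; group
    have hu := hcent (β 1)
    rw [cm_mul_left hT hna ρ h3 hfp, hself, mul_one, hcm, mul_one] at hu
    have hv := hcent (α 1)
    rw [cm_mul_left hT hna ρ h3 hfp, hself', one_mul, cm_symm hT hna ρ h3 hfp (α 1), hcm, one_mul] at hv
    rw [hγ0 _ hu, hγ0 _ hv, h0.1, h0.2.1, one_mul, one_mul] at hp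
    exact CfsgLib.InvCharThree.Uni.ext (hγ0 _ hu) (hγ0 _ hv) (hγ0 _ hp)
  refine ⟨MulEquiv.ofBijective Φ ((Nat.bijective_iff_injective_and_card Φ).2 ⟨hΦ, ?_⟩)⟩
  rw [CfsgLib.InvCharThree.natCard_uni, hF, hT]; norm_num

/-- Structure theorem. -/
theorem structure_sixty_four (C : Subgroup T) (hC : ∀ y, y ∈ C ↔ x y = y)
    (F : Type*) [Field F] [Fintype F] [CharP F 2] (hF : Fintype.card F = 4) :
    Nonempty (CfsgLib.InvCharThree.Uni F ≃* T) ∧
      (Nonempty (C ≃* DihedralGroup 4) ∨ Nonempty (C ≃* QuaternionGroup 2)) := by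
  obtain ⟨a, b, ha, hb, hab⟩ := exists_fixed_pair hT hna ρ h3 hfp x hx2 hxr
  have hC8 := card_fixed hT hna ρ h3 hfp x hxr hC ha hb hab
  have hcc : cm a b ∈ Subgroup.center T := cm_mem hT hna ρ h3 hfp a b
  have hxc : x (cm a b) = cm a b := by rw [cm_map, ha, hb]
  have hsq : ∀ g : T, x g = g → g * g = 1 ∨ g * g = cm a b := by
    intro g hg
    have hgz : g * g ∈ Subgroup.center T := by
      rw [← pow_two]; exact sq_mem_center hT hna ρ h3 hfp g
    have hgx : x (g * g) = g * g := by rw [map_mul, hg]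
    rcases four_cases ρ h3 hfp _ (center_invariant ρ) (card_center hT hna ρ h3 hfp) hcc hab hgz with h | h | h | h
    · exact Or.inl h
    · exact Or.inr h
    all_goals
      rw [h] at hgx
      simp only [hxr, hxc, h3] at hgx
    · exact absurd (hfp _ (ρ.injective hgx)) hab
    · exact absurd (hfp _ (ρ.injective hgx).symm) hab
  have hcz := center_sq hT hna ρ h3 hfp hcc
  have hba : cm b a = cm a b := cm_symm hT hna ρ h3 hfp a b
  have hprod : a * b * (a * b) = a * a * (b * b) * cm a b := mul_self_mul hT hna ρ h3 hfp a b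
  have hself : ∀ g : T, cm g g = 1 := fun g => by unfold cm; group
  -- a rotation `X` and an inverting element `Y`
  have hCiso : ∀ X Y : T, x X = X → x Y = Y → X * X = cm a b → cm Y X = cm a b →
      (Y * Y = 1 → Nonempty (C ≃* DihedralGroup 4)) ∧
      (Y * Y = cm a b → Nonempty (C ≃* QuaternionGroup 2)) := by
    intro X Y hX hY hXX hYX
    have hX4 : X ^ (2 ^ 2) = 1 := by
      rw [show 2 ^ 2 = 2 * 2 from rfl, pow_mul, pow_two X, hXX, pow_two, hcz]
    have hord : orderOf X = 2 ^ (1 + 1) := orderOf_eq_prime_pow (by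
      rw [pow_one, pow_two, hXX]; exact hab) hX4
    have hinv : Y * X * Y⁻¹ = X⁻¹ := by
      have e : Y * X * Y⁻¹ = cm a b * X := by rw [← hYX]; unfold cm; group
      rw [e, eq_inv_iff_mul_eq_one, mul_assoc, hXX, hcz]
    have hnot : Y ∉ Subgroup.zpowers X := by
      intro h
      obtain ⟨k, rfl⟩ := Subgroup.mem_zpowers_iff.1 h
      apply hab
      rw [← hYX]; unfold cm; group
    let X' : C := ⟨X, (hC X).2 hX⟩
    let Y' : C := ⟨Y, (hC Y).2 hY⟩
    have hord' : orderOf X' = 4 := by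
      rw [← Subgroup.orderOf_coe]; exact hord
    have hinv' : Y' * X' * Y'⁻¹ = X'⁻¹ := Subtype.ext hinv
    have hnot' : Y' ∉ Subgroup.zpowers X' := by
      intro h
      obtain ⟨k, hk⟩ := Subgroup.mem_zpowers_iff.1 h
      exact hnot (Subgroup.mem_zpowers_iff.2 ⟨k, by simpa using congrArg Subtype.val hk⟩)
    constructor
    · intro hYY
      have hu : X' ^ 4 = 1 := by rw [← hord', pow_orderOf_eq_one]
      have hv : Y' * Y' = 1 := Subtype.ext hYY
      have hinj := CfsgLib.TwoGroups.SD.dihedralHom_injective X' Y' hu hv hinv' hord' hnot'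
      refine ⟨(MulEquiv.ofBijective _ ((Nat.bijective_iff_injective_and_card _).2 ⟨hinj, ?_⟩)).symm⟩
      rw [DihedralGroup.nat_card, hC8]
    · intro hYY
      have hu : X' ^ (2 * 2) = 1 := by
        rw [show 2 * 2 = 4 from rfl, ← hord', pow_orderOf_eq_one]
      have hv : Y' * Y' = X' ^ 2 := Subtype.ext (by
        show Y * Y = X ^ 2
        rw [hYY, pow_two, hXX])
      have hinj := CfsgLib.TwoGroups.SD.quaternionHom_injective X' Y' hu hv hinv' hord' hnot'
      refine ⟨(MulEquiv.ofBijective _ ((Nat.bijective_iff_injective_and_card _).2 ⟨hinj, ?_⟩)).symm⟩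
      rw [Nat.card_eq_fintype_card, QuaternionGroup.card, hC8]
  have hxab : x (a * b) = a * b := by rw [map_mul, ha, hb]
  rcases hsq a ha with hsa | hsa <;> rcases hsq b hb with hsb | hsb <;>
    rw [hsa, hsb] at hprod <;> simp only [one_mul, mul_one, hcz] at hprod
  · refine ⟨nonempty_uni_equiv hT hna ρ h3 hfp hsa hsb hab F hF, Or.inl ?_⟩
    refine (hCiso (a * b) a hxab ha hprod ?_).1 hsa
    rw [cm_mul_right hT hna ρ h3 hfp, hself, one_mul]
  · refine ⟨nonempty_uni_equiv hT hna ρ h3 hfp hsa hprod ?_ F hF, Or.inl ((hCiso b a hb ha hsb rfl).1 hsa)⟩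
    rwa [cm_mul_right hT hna ρ h3 hfp, hself, one_mul]
  · refine ⟨nonempty_uni_equiv hT hna ρ h3 hfp hprod hsb ?_ F hF, Or.inl ((hCiso a b ha hb hsa hba).1 hsb)⟩
    rwa [cm_mul_left hT hna ρ h3 hfp, hself, mul_one]
  · refine ⟨?_, Or.inr ((hCiso a b ha hb hsa hba).2 hsb)⟩
    obtain ⟨q1, q2, q3, q4⟩ := cm_equivariant hT hna ρ h3 hfp a b
    obtain ⟨e1, e2⟩ := center_prod hT hna ρ h3 hfp x hx2 hxr hcc
    have hρz := center_invariant ρ _ hcc
    have hρρz := center_invariant ρ _ hρz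
    have hA : ρ a * b * (ρ a * b) = 1 := by
      rw [mul_self_mul hT hna ρ h3 hfp, ← map_mul, hsa, hsb, q2,
        Subgroup.mem_center_iff.1 hcc (ρ (cm a b)), ← e1]
      exact center_sq hT hna ρ h3 hfp hρρz
    have hB : ρ (ρ a) * b * (ρ (ρ a) * b) = 1 := by
      rw [mul_self_mul hT hna ρ h3 hfp, ← map_mul, ← map_mul, hsa, hsb, q3,
        ← Subgroup.mem_center_iff.1 hρρz (cm a b), e2]
      exact center_sq hT hna ρ h3 hfp hρz
    refine nonempty_uni_equiv hT hna ρ h3 hfp hA hB ?_ F hF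
    have hcomm : cm (ρ a) (ρ (ρ a)) = 1 := by
      unfold cm; rw [(fpf_three ρ h3 hfp (ρ a)).2]; group
    rw [cm_mul_left hT hna ρ h3 hfp, cm_mul_right hT hna ρ h3 hfp, cm_mul_right hT hna ρ h3 hfp, hcomm,
      one_mul, q2, hself, mul_one, cm_symm hT hna ρ h3 hfp (ρ (ρ a)) b, q3, e1, mul_assoc,
      center_sq hT hna ρ h3 hfp hρz, mul_one]
    exact hab

end CfsgLib.InvCharSixtyFour
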