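import Cfsg.Agent.Lib.InvChar.AnisotropicSigma
import Cfsg.Agent.Lib.InvChar.SixtyFourInverting

/-!
# No `S₃` in the automorphism group of the Sylow 2-subgroup of `PSU₃(4)`
-/

set_option autoImplicit false

namespace CfsgLib.InvCharSixtyFour

open CfsgLib.InvCharThree

/-- The structural properties of a Sylow 2-subgroup of `PSU₃(q)` that are used. -/
structure HermLike (T : Type*) [Group T] (q : ℕ) : Prop where
  card : Nat.card T = q ^ 3
  card_center : Nat.card (Subgroup.center T) = q
  center_sq : ∀ z ∈ Subgroup.center T, z * z = 1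
  sq_mem : ∀ g : T, g * g ∈ Subgroup.center T
  sq_one : ∀ g : T, g * g = 1 → g ∈ Subgroup.center T
  cm_mem : ∀ g h : T, cm g h ∈ Subgroup.center T
  cm_onto : ∀ g : T, g ∉ Subgroup.center T → ∀ z ∈ Subgroup.center T, ∃ h, cm g h = z

theorem hermLike_of_equiv {T U : Type*} [Group T] [Group U] {q : ℕ} (e : U ≃* T) (h : HermLike U q) :
    HermLike T q := by
  have hc : ∀ u, e u ∈ Subgroup.center T ↔ u ∈ Subgroup.center U := fun u => by
    simp only [Subgroup.mem_center_iff, e.surjective.forall, ← map_mul, e.injective.eq_iff]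
  have hcm : ∀ u v, cm (e u) (e v) = e (cm u v) := fun u v => by simp [cm]
  refine ⟨by rw [← Nat.card_congr e.toEquiv, h.card], ?_, ?_, ?_, ?_, ?_, ?_⟩
  · rw [← h.card_center]
    exact Nat.card_congr ((e.toEquiv.subtypeEquiv (fun u => (hc u).symm)).symm)
  all_goals refine e.surjective.forall.2 fun u => ?_
  · intro hu; rw [← map_mul, h.center_sq u ((hc u).1 hu), map_one]
  · rw [← map_mul, hc]; exact h.sq_mem u
  · intro hu
    rw [← map_mul] at hu
    exact (hc u).2 (h.sq_one u (e.injective (hu.trans (map_one e).symm)))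
  · refine e.surjective.forall.2 fun v => ?_
    rw [hcm, hc]; exact h.cm_mem u v
  · intro hu
    refine e.surjective.forall.2 fun z hz => ?_
    obtain ⟨v, hv⟩ := h.cm_onto u (fun hh => hu ((hc u).2 hh)) z ((hc z).1 hz)
    exact ⟨e v, by rw [hcm, hv]⟩

section Herm

variable {F : Type*} [Field F] [Fintype F] {q : ℕ} (hF : Fintype.card F = q ^ 2) (he : Even q)

theorem hermLike_herm : letI := hermGroup hF he; HermLike (Herm F q) q := by
  let _ := hermGroup hF he
  classical
  have hq0 : q ≠ 0 := fun h => by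
    rw [h] at hF; exact (Fintype.card_ne_zero (α := F)) (by simpa using hF)
  have h2' : ∀ c : F, c + c = 0 := fun c => by
    have : (1 : F) + 1 = 0 := by
      obtain ⟨p, hp⟩ := CharP.exists F
      obtain ⟨n, hpp, hn⟩ := FiniteField.card F p
      have : p = 2 := by
        have h2 : 2 ∣ p ^ (n : ℕ) := by rw [← hn, hF, pow_two]; exact he.two_dvd.mul_right q
        exact ((Nat.prime_dvd_prime_iff_eq Nat.prime_two hpp).1 (Nat.prime_two.dvd_of_dvd_pow h2)).symm
      subst this
      exact CharTwo.add_self_eq_zero 1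
    calc c + c = c * (1 + 1) := by ring
      _ = 0 := by rw [this, mul_zero]
  have hcomm : ∀ x y : Herm F q, (cm x y).a = 0 ∧ (cm x y).b = x.a ^ q * y.a + y.a ^ q * x.a := by
    intro x y
    have hcm : cm x y = (x * y) * (y * x)⁻¹ := by unfold cm; group
    have hyx := (y * x).rel
    constructor
    · rw [hcm, herm_mul_a hF he, herm_inv_a hF he, herm_mul_a hF he, herm_mul_a hF he, add_comm y.a, h2']
    · rw [hcm, herm_mul_b hF he, herm_inv_b hF he, herm_inv_a hF he]
      have e : (y * x).a = (x * y).a := by rw [herm_mul_a hF he, herm_mul_a hF he, add_comm]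
      rw [e] at hyx ⊢
      rw [← pow_succ, ← hyx, add_assoc (x * y).b, add_comm ((y * x).b ^ q) _, add_assoc (y * x).b,
        h2', add_zero, herm_mul_b hF he, herm_mul_b hF he]
      calc x.b + y.b + x.a ^ q * y.a + (y.b + x.b + y.a ^ q * x.a)
          = (x.b + x.b) + (y.b + y.b) + (x.a ^ q * y.a + y.a ^ q * x.a) := by ring
        _ = _ := by rw [h2', h2', zero_add, zero_add]
  have hpow : ∀ u v : F, v ^ q * u = (u ^ q * v) ^ q := fun _ _ => by
    rw [mul_pow, ← pow_mul, ← pow_two, ← hF, FiniteField.pow_card, mul_comm]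
  have honto : ∀ x : Herm F q, x.a ≠ 0 → ∀ c : F, c ^ q = c → ∃ y : Herm F q, x.a ^ q * y.a + y.a ^ q * x.a = c := by
    intro x hx c hc
    have hpos : 0 < Nat.card {b : F // b + b ^ q = c} := by rw [card_trace_fibre hF he hc]; omega
    obtain ⟨⟨b, hb⟩⟩ := (Nat.card_pos_iff.1 hpos).1
    have hpos' : 0 < Nat.card {d : F // d + d ^ q = (b / x.a ^ q) ^ (q + 1)} := by
      rw [card_trace_fibre hF he (norm_fixed hF _)]; omega
    obtain ⟨⟨d, hd⟩⟩ := (Nat.card_pos_iff.1 hpos').1
    refine ⟨⟨b / x.a ^ q, d, hd⟩, ?_⟩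
    show x.a ^ q * (b / x.a ^ q) + (b / x.a ^ q) ^ q * x.a = c
    have hb' : x.a ^ q * (b / x.a ^ q) = b := by field_simp
    rw [hpow x.a (b / x.a ^ q), hb']
    exact hb
  have hcen : ∀ x : Herm F q, x ∈ Subgroup.center (Herm F q) ↔ x.a = 0 := by
    intro x
    rw [Subgroup.mem_center_iff]
    constructor
    · intro h
      by_contra hx
      obtain ⟨y, hy⟩ := honto x hx 1 (one_pow q)
      have : cm x y = 1 := by unfold cm; rw [← h y]; group
      have h' := (hcomm x y).2
      rw [this, herm_one_b hF he, hy] at h'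
      exact zero_ne_one h'
    · intro hx g
      refine Herm.ext ?_ ?_
      · rw [herm_mul_a hF he, herm_mul_a hF he, add_comm]
      · rw [herm_mul_b hF he, herm_mul_b hF he, hx, mul_zero, zero_pow hq0, zero_mul, add_comm g.b]
  refine ⟨natCard_herm hF he, ?_, ?_, ?_, ?_, ?_, ?_⟩
  · refine Eq.trans ?_ (card_trace_fibre hF he (c := (0 : F)) (zero_pow hq0))
    refine Nat.card_congr
      { toFun := fun x => ⟨x.1.b, by rw [x.1.rel, (hcen _).1 x.2, zero_pow (by omega)]⟩
        invFun := fun b => ⟨⟨0, b.1, by rw [b.2, zero_pow (by omega)]⟩, (hcen _).2 rfl⟩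
        left_inv := fun x => Subtype.ext (Herm.ext ((hcen _).1 x.2).symm rfl)
        right_inv := fun b => rfl }
  · intro z hz
    refine Herm.ext ?_ ?_
    · rw [herm_mul_a hF he, h2', herm_one_a hF he]
    · rw [herm_mul_b hF he, (hcen z).1 hz, mul_zero, add_zero, h2', herm_one_b hF he]
  · intro g
    rw [hcen, herm_mul_a hF he, h2']
  · intro g hg
    rw [hcen]
    have h := congrArg Herm.b hg
    rw [herm_mul_b hF he, h2', zero_add, herm_one_b hF he, ← pow_succ] at h
    exact eq_zero_of_pow_eq_zero h
  · intro g h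
    rw [hcen]; exact (hcomm g h).1
  · intro g hg z hz
    have hzr := z.rel
    rw [(hcen z).1 hz, zero_pow (by omega)] at hzr
    have hzf : z.b ^ q = z.b := by
      calc z.b ^ q = z.b + z.b ^ q + z.b := by
            rw [add_comm z.b, add_assoc, h2', add_zero]
        _ = z.b := by rw [hzr, zero_add]
    obtain ⟨y, hy⟩ := honto g (fun h => hg ((hcen g).2 h)) z.b hzf
    exact ⟨y, Herm.ext ((hcomm g y).1.trans ((hcen z).1 hz).symm) ((hcomm g y).2.trans hy)⟩

end Herm

/-- The automorphism group contains no copy of `S₃`. -/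
theorem no_inverted_three {T : Type*} [Group T] [Finite T] (h : HermLike T 4) (ρ x : MulAut T)
    (h3 : ∀ y, ρ (ρ (ρ y)) = y) (hne : ∃ y, ρ y ≠ y) (hx2 : ∀ y, x (x y) = y)
    (hxr : ∀ y, x (ρ y) = ρ (ρ (x y))) : False := by
  classical
  have hT : Nat.card T = 64 := by rw [h.card]; norm_num
  have hZmem := center_invariant ρ
  by_cases hfp : ∀ y, ρ y = y → y = 1
  · have hna : ¬ ∀ a b : T, a * b = b * a := by
      intro hab
      have e : Subgroup.center T = ⊤ := eq_top_iff.2 fun g _ => Subgroup.mem_center_iff.2 fun k => hab k g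
      have := h.card_center
      rw [e, Subgroup.card_top, hT] at this
      omega
    let F := GaloisField 2 2
    let : Fintype F := Fintype.ofFinite F
    have hF : Fintype.card F = 4 := by
      rw [← Nat.card_eq_fintype_card, GaloisField.card 2 2 (by norm_num)]; norm_num
    let C : Subgroup T := MonoidHom.eqLocus x.toMonoidHom (MonoidHom.id T)
    obtain ⟨⟨e⟩, -⟩ := structure_sixty_four hT hna ρ h3 hfp x hx2 hxr C (fun y => Iff.rfl) F hF
    let u : Uni F := ⟨1, 0, 0⟩
    have hu : u * u = 1 := by
      ext <;> simp [u, CharTwo.add_self_eq_zero]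
    have hc := Subgroup.mem_center_iff.1 (h.sq_one (e u) (by rw [← map_mul, hu, map_one])) (e ⟨0, 1, 0⟩)
    rw [← map_mul, ← map_mul, e.injective.eq_iff] at hc
    have := congrArg Uni.w hc
    simp [u] at this
  push Not at hfp
  obtain ⟨y, hy, hy1⟩ := hfp
  by_cases hZ : ∃ z ∈ Subgroup.center T, ρ z ≠ z
  · obtain ⟨z, hz, hρz⟩ := hZ
    have hin : ∀ w ∈ Subgroup.center T, ρ w = w → w = 1 := by
      intro w hw hwf
      by_contra hw1
      have h12 : ρ (ρ z) ≠ ρ z := fun e => hρz (ρ.injective e)
      have h02 : ρ (ρ z) ≠ z := fun e => hρz (by have := congrArg ρ e; rw [h3] at this; exact this.symm)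
      have hz1 : z ≠ 1 := fun e => hρz (by rw [e, map_one])
      have hρz1 : ρ z ≠ 1 := fun e => hz1 (ρ.injective (e.trans (map_one ρ).symm))
      have hρρz1 : ρ (ρ z) ≠ 1 := fun e => hρz1 (ρ.injective (e.trans (map_one ρ).symm))
      have hwz : ∀ v : T, ρ v ≠ v → w ≠ v := fun v hv e => hv (e ▸ hwf)
      have hsub : ({1, w, z, ρ z, ρ (ρ z)} : Finset T) ⊆ (Set.toFinite (Subgroup.center T : Set T)).toFinset := by
        intro v hv
        simp only [Finset.mem_insert, Finset.mem_singleton] at hv
        rw [Set.Finite.mem_toFinset]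
        rcases hv with rfl | rfl | rfl | rfl | rfl
        · exact one_mem _
        · exact hw
        · exact hz
        · exact hZmem _ hz
        · exact hZmem _ (hZmem _ hz)
      have h5 := Finset.card_le_card hsub
      rw [← Set.ncard_eq_toFinset_card, ← Nat.card_coe_set_eq] at h5
      have hcard : ({1, w, z, ρ z, ρ (ρ z)} : Finset T).card = 5 := by
        rw [Finset.card_insert_of_notMem, Finset.card_insert_of_notMem, Finset.card_insert_of_notMem,
          Finset.card_pair h12.symm]
        · simp [hρz.symm, h02.symm]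
        · simp [hwz z hρz, hwz _ h12, hwz (ρ (ρ z)) (fun e => h12 (ρ.injective e))]
        · simp [Ne.symm hw1, hz1.symm, hρz1.symm, hρρz1.symm]
      rw [hcard] at h5
      change 5 ≤ Nat.card (Subgroup.center T) at h5
      rw [h.card_center] at h5
      omega
    have hyy : y * y = 1 := hin _ (h.sq_mem y) (by rw [map_mul, hy])
    exact hy1 (hin y (h.sq_one y hyy) hy)
  push Not at hZ
  -- pass to the quotient by the centre
  let N := Subgroup.center T
  have h2N : ∀ g : T ⧸ N, g * g = 1 := fun g => by
    induction g using QuotientGroup.induction_on with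
    | _ g => rw [← QuotientGroup.mk_mul]; exact (QuotientGroup.eq_one_iff _).2 (h.sq_mem g)
  let _ : CommGroup (T ⧸ N) :=
    { (inferInstance : Group (T ⧸ N)) with
      mul_comm := fun a b => by
        have ha := inv_eq_of_mul_eq_one_right (h2N a)
        have hb := inv_eq_of_mul_eq_one_right (h2N b)
        have hab := inv_eq_of_mul_eq_one_right (h2N (a * b))
        rw [mul_inv_rev, ha, hb] at hab
        exact hab.symm }
  let _ : CommGroup N := { (inferInstance : Group N) with mul_comm := fun a b => Subtype.ext (Subgroup.mem_center_iff.1 b.2 a) }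
  have hcz : ∀ {z : T}, z ∈ N → ∀ g, cm g z = 1 ∧ cm z g = 1 := fun hz g => by
    have := Subgroup.mem_center_iff.1 hz g
    constructor <;> unfold cm
    · rw [this]; group
    · rw [← this]; group
  have hcmR : ∀ u v w : T, cm u (v * w) = cm u v * cm u w := fun u v w => by
    have h' := Subgroup.mem_center_iff.1 (h.cm_mem u w) v⁻¹
    calc cm u (v * w) = u * v * u⁻¹ * (cm u w * v⁻¹) := by unfold cm; group
      _ = u * v * u⁻¹ * (v⁻¹ * cm u w) := by rw [h']
      _ = cm u v * cm u w := by unfold cm; group
  have hcmL : ∀ u v w : T, cm (u * v) w = cm u w * cm v w := fun u v w => by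
    have h' := Subgroup.mem_center_iff.1 (h.cm_mem v w) u
    calc cm (u * v) w = u * cm v w * w * u⁻¹ * w⁻¹ := by unfold cm; group
      _ = cm v w * u * w * u⁻¹ * w⁻¹ := by rw [h']
      _ = cm v w * cm u w := by unfold cm; group
      _ = _ := Subgroup.mem_center_iff.1 (h.cm_mem u w) _
  have hsqmul : ∀ u v : T, u * v * (u * v) = u * u * (v * v) * cm u v := fun u v => by
    have hs : cm v u = cm u v := by
      have h' := h.center_sq _ (h.cm_mem u v)
      rw [mul_eq_one_iff_eq_inv] at h'
      rw [h']; unfold cm; group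
    have h' := Subgroup.mem_center_iff.1 (h.cm_mem v u) u
    calc u * v * (u * v) = u * cm v u * u * (v * v) := by unfold cm; group
      _ = cm v u * (u * u * (v * v)) := by rw [h']; group
      _ = u * u * (v * v) * cm u v := by rw [← Subgroup.mem_center_iff.1 (h.cm_mem v u), hs]
  have hout : ∀ g : T, ∃ z ∈ N, (QuotientGroup.mk g : T ⧸ N).out = g * z := fun g => by
    obtain ⟨z, hz⟩ := QuotientGroup.mk_out_eq_mul N g
    exact ⟨z, z.2, hz⟩
  let qf : T ⧸ N → N := fun u => ⟨u.out * u.out, h.sq_mem _⟩
  let bf : T ⧸ N → T ⧸ N → N := fun u v => ⟨cm u.out v.out, h.cm_mem _ _⟩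
  have hqf : ∀ g : T, (qf (QuotientGroup.mk g) : T) = g * g := fun g => by
    obtain ⟨z, hz, e⟩ := hout g
    show _ * _ = _
    rw [e, hsqmul, h.center_sq z hz, (hcz hz g).1, mul_one, mul_one]
  have hbf : ∀ g k : T, (bf (QuotientGroup.mk g) (QuotientGroup.mk k) : T) = cm g k := fun g k => by
    obtain ⟨z, hz, e⟩ := hout g
    obtain ⟨z', hz', e'⟩ := hout k
    show cm _ _ = _
    rw [e, e', hcmL, hcmR, (hcz hz _).2, (hcz hz' g).1, mul_one, mul_one]
  let q' : Additive (T ⧸ N) → Additive N := fun u => Additive.ofMul (qf u.toMul)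
  have hbR : ∀ u v w : T ⧸ N, bf u (v * w) = bf u v * bf u w := fun u v w => by
    induction u using QuotientGroup.induction_on with
    | _ u => induction v using QuotientGroup.induction_on with
      | _ v => induction w using QuotientGroup.induction_on with
        | _ w =>
          refine Subtype.ext ?_
          rw [Subgroup.coe_mul, ← QuotientGroup.mk_mul, hbf, hbf, hbf, hcmR]
  have hbL : ∀ u v w : T ⧸ N, bf (u * v) w = bf u w * bf v w := fun u v w => by
    induction u using QuotientGroup.induction_on with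
    | _ u => induction v using QuotientGroup.induction_on with
      | _ v => induction w using QuotientGroup.induction_on with
        | _ w =>
          refine Subtype.ext ?_
          rw [Subgroup.coe_mul, ← QuotientGroup.mk_mul, hbf, hbf, hbf, hcmL]
  let b' : Additive (T ⧸ N) →+ Additive (T ⧸ N) →+ Additive N :=
    AddMonoidHom.mk' (fun u => AddMonoidHom.mk' (fun v => Additive.ofMul (bf u.toMul v.toMul))
      (fun v w => congrArg Additive.ofMul (hbR u.toMul v.toMul w.toMul)))
      (fun u v => AddMonoidHom.ext fun w => congrArg Additive.ofMul (hbL u.toMul v.toMul w.toMul))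
  have hNmap : N.map ρ.toMonoidHom = N := le_antisymm
    (Subgroup.map_le_iff_le_comap.2 fun z hz => hZmem z hz)
    (fun z hz => ⟨z, hz, hZ z hz⟩)
  let ρ' : (T ⧸ N) ≃* (T ⧸ N) := QuotientGroup.congr N N ρ hNmap
  have hρ' : ∀ g : T, ρ' (QuotientGroup.mk g) = QuotientGroup.mk (ρ g) := fun g => rfl
  have hcardV : Nat.card (Additive (T ⧸ N)) = 16 := by
    rw [Nat.card_congr Additive.toMul]
    have h' := Subgroup.card_eq_card_quotient_mul_card_subgroup N
    rw [hT, h.card_center] at h'
    omega
  have hid : ∀ v, ρ'.toAdditive v = v := by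
    refine CfsgLib.InvCharSigma.eq_id_of_isometry (W := Additive N) hcardV
      (by rw [Nat.card_congr Additive.toMul]; exact h.card_center) (fun v => h2N v.toMul)
      (fun a => Subtype.ext (h.center_sq _ a.toMul.2)) q' b' ?_ ?_ ?_ ρ'.toAdditive ?_ ?_
    · intro u v
      refine congrArg Additive.ofMul (?_ : qf (u.toMul * v.toMul) = qf u.toMul * qf v.toMul * bf u.toMul v.toMul)
      generalize u.toMul = u
      generalize v.toMul = v
      induction u using QuotientGroup.induction_on with
      | _ u => induction v using QuotientGroup.induction_on with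
        | _ v =>
          refine Subtype.ext ?_
          rw [Subgroup.coe_mul, Subgroup.coe_mul, ← QuotientGroup.mk_mul, hqf, hqf, hqf, hbf, hsqmul]
    · intro v hv
      have hv' : qf v.toMul = 1 := hv
      show v.toMul = 1
      generalize v.toMul = v at hv'
      induction v using QuotientGroup.induction_on with
      | _ v =>
        refine (QuotientGroup.eq_one_iff _).2 (h.sq_one v ?_)
        rw [← hqf, hv', Subgroup.coe_one]
    · intro v hv a
      have hv' : v.toMul ≠ 1 := hv
      obtain ⟨k, hk⟩ : ∃ k : T ⧸ N, bf v.toMul k = a.toMul := by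
        generalize v.toMul = v at hv'
        induction v using QuotientGroup.induction_on with
        | _ v =>
          obtain ⟨k, hk⟩ := h.cm_onto v (fun hm => hv' ((QuotientGroup.eq_one_iff _).2 hm)) _ a.toMul.2
          exact ⟨QuotientGroup.mk k, Subtype.ext (by rw [hbf, hk])⟩
      exact ⟨Additive.ofMul k, congrArg Additive.ofMul hk⟩
    · intro v
      show ρ' (ρ' (ρ' v.toMul)) = v.toMul
      generalize v.toMul = v
      induction v using QuotientGroup.induction_on with
      | _ v => rw [hρ', hρ', hρ', h3]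
    · intro v
      refine congrArg Additive.ofMul (?_ : qf (ρ' v.toMul) = qf v.toMul)
      generalize v.toMul = v
      induction v using QuotientGroup.induction_on with
      | _ v =>
        refine Subtype.ext ?_
        rw [hρ', hqf, hqf, ← map_mul, hZ _ (h.sq_mem v)]
  obtain ⟨g, hg⟩ := hne
  apply hg
  have hgz : g⁻¹ * ρ g ∈ N := QuotientGroup.eq.1 (hid (Additive.ofMul (QuotientGroup.mk g))).symm
  obtain ⟨w, hw, hρg⟩ : ∃ w ∈ N, ρ g = g * w := ⟨_, hgz, (mul_inv_cancel_left g (ρ g)).symm⟩
  have e1 : ρ (ρ g) = g := by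
    rw [hρg, map_mul, hρg, hZ w hw, mul_assoc, h.center_sq w hw, mul_one]
  have e3 := h3 g
  rw [e1] at e3
  exact e3
end CfsgLib.InvCharSixtyFour
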