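import Mathlib
import Cfsg.Agent.Lib.Involutions.KleinBlock
import Cfsg.Agent.Lib.InvChar.InvolutionCount
import Cfsg.Agent.Lib.Characters.Generalized
import Cfsg.Agent.Lib.Characters.Values
import Cfsg.Agent.Lib.Characters.Counting
import Cfsg.Agent.Lib.Transfer.Basic
import Cfsg.Agent.Lib.KGV.Ito
import Cfsg.Agent.Lib.TwoGroups.Semidihedral
import Cfsg.Agent.S0942
import Cfsg.Agent.S0494

/-! Simple groups with an involution whose centralizer has a normal Klein four Sylow 2-subgroup. -/

set_option autoImplicit false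

namespace CfsgLib.InvChar.KleinCentralizer

open Subgroup Cfsg CfsgLib.Involutions
open scoped ComplexConjugate commutatorElement

universe u

/-! ### The 2-group lemma -/

theorem cases_of_mem_zpowers {A : Type*} [Group A] {w h : A} (hw : orderOf w = 2)
    (hh : h ∈ zpowers w) : h = 1 ∨ h = w := by
  obtain ⟨k, rfl⟩ := mem_zpowers_iff.1 hh
  rcases Int.even_or_odd k with ⟨j, rfl⟩ | ⟨j, rfl⟩
  · left
    rw [← two_mul, zpow_mul, show w ^ (2 : ℤ) = 1 by
      rw [show (2 : ℤ) = ((2 : ℕ) : ℤ) from rfl, zpow_natCast, ← hw, pow_orderOf_eq_one], one_zpow]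
  · right; rw [zpow_add, zpow_mul, show w ^ (2 : ℤ) = 1 by
      rw [show (2 : ℤ) = ((2 : ℕ) : ℤ) from rfl, zpow_natCast, ← hw, pow_orderOf_eq_one]]
    simp

theorem index_commutator_ge {S : Type*} [Group S] [Finite S] (hS : IsPGroup 2 S)
    (hnc : ¬ ∀ a b : S, a * b = b * a) (s : S) :
    commutator S ⊔ zpowers s ≠ ⊤ := by
  intro h
  haveI : Fact (Nat.Prime 2) := ⟨Nat.prime_two⟩
  haveI : Group.IsNilpotent S := hS.isNilpotent
  have hcoat : ∀ M : Subgroup S, IsCoatom M → commutator S ≤ M := by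
    intro M hM
    haveI : M.Normal := Subgroup.NormalizerCondition.normal_of_coatom M normalizerCondition_of_isNilpotent hM
    refine Subgroup.Normal.quotient_commutative_iff_commutator_le.1 ?_
    haveI : IsCyclic (S ⧸ M) := isCyclic_of_prime_card (p := 2) ?_
    · exact ⟨⟨fun a b => IsCyclic.commGroup.mul_comm a b⟩⟩
    · exact CfsgLib.TwoGroups.SD.index_of_isCoatom hS hM
  have hfr : commutator S ≤ frattini S := by
    rw [frattini, Order.radical]
    exact le_iInf₂ fun M hM => hcoat M hM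
  have htop : zpowers s = ⊤ := frattini_nongenerating (top_le_iff.1 (h.ge.trans
    (sup_le (hfr.trans le_sup_right) le_sup_left)))
  refine hnc fun a b => ?_
  have ha : a ∈ zpowers s := htop ▸ mem_top a
  have hb : b ∈ zpowers s := htop ▸ mem_top b
  obtain ⟨i, rfl⟩ := mem_zpowers_iff.1 ha
  obtain ⟨j, rfl⟩ := mem_zpowers_iff.1 hb
  exact ((Commute.refl s).zpow_zpow i j).eq

/-- In a nonabelian 2-group, a noncentral involution with centralizer of order at most 4 has as
conjugacy class a whole coset of the commutator subgroup, of index 4, which it inverts. -/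
theorem coset_class {S : Type*} [Group S] [Finite S] (hS : IsPGroup 2 S)
    (hnc : ¬ ∀ a b : S, a * b = b * a) {w : S}
    (hw : orderOf w = 2) (hwz : w ∉ center S)
    (h4 : Nat.card ↥(centralizer ({w} : Set S)) ≤ 4) :
    (commutator S).index = 4 ∧ Nat.card ↥(centralizer ({w} : Set S)) = 4 ∧
      (∀ d ∈ commutator S, IsConj w (w * d)) ∧
      (∀ v : S, IsConj w v → w⁻¹ * v ∈ commutator S) := by
  haveI : Fact (Nat.Prime 2) := ⟨Nat.prime_two⟩
  set D := commutator S with hD
  haveI : Nontrivial S := ⟨w, 1, ne_one_of_involution hw⟩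
  -- a central involution
  haveI : Nontrivial ↥(center S) := hS.center_nontrivial
  obtain ⟨k, hk⟩ := (hS.to_subgroup (center S)).exists_card_eq
  have hk0 : k ≠ 0 := by
    rintro rfl
    have := Finite.one_lt_card (α := ↥(center S))
    simp [hk] at this
  obtain ⟨z, hz⟩ := exists_prime_orderOf_dvd_card' 2 (G := ↥(center S))
    (by rw [hk]; exact dvd_pow_self 2 hk0)
  have hz' : orderOf (z : S) = 2 := by rw [Subgroup.orderOf_coe, hz]
  set C := centralizer ({w} : Set S) with hC
  have hwC : w ∈ C := mem_centralizer_singleton_iff.2 rfl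
  have hzC : (z : S) ∈ C := mem_centralizer_singleton_iff.2 (mem_center_iff.1 z.2 w).symm
  have hC4 : Nat.card ↥C = 4 := by
    obtain ⟨j, hj⟩ := (hS.to_subgroup C).exists_card_eq
    rcases j with _ | _ | _ | j
    · have := card_eq_one.1 (hj.trans (pow_zero 2))
      exact absurd (this ▸ hwC : w ∈ (⊥ : Subgroup S)) (fun h => ne_one_of_involution hw (mem_bot.1 h))
    · exfalso
      have hzw : zpowers w = C := eq_of_le_of_card_ge (zpowers_le.2 hwC)
        (by rw [Nat.card_zpowers, hw, hj, zero_add, pow_one])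
      have h1 : (z : S) ∈ zpowers w := hzw ▸ hzC
      rcases cases_of_mem_zpowers hw h1 with h2 | h2
      · exact ne_one_of_involution hz' h2
      · exact hwz (h2 ▸ z.2)
    · simpa using hj
    · exfalso
      rw [hj, show j + 1 + 1 + 1 = j + 3 by omega, pow_add] at h4
      have := Nat.one_le_two_pow (n := j)
      omega
  -- the conjugates lie in `w D`
  have hsub : ∀ v : S, IsConj w v → w⁻¹ * v ∈ D := by
    intro v hv
    obtain ⟨g, rfl⟩ := isConj_iff.1 hv
    have h1 : ⁅w⁻¹, g⁆ ∈ D := commutator_mem_commutator (mem_top _) (mem_top _)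
    rw [commutatorElement_def, inv_inv] at h1
    simpa [mul_assoc] using h1
  have hcls : Nat.card {v : S // IsConj w v} = C.index := by
    letI := Fintype.ofFinite S
    exact CfsgLib.Characters.card_isConj_eq_index w
  have hle : Nat.card {v : S // IsConj w v} ≤ Nat.card ↥D :=
    Nat.card_le_card_of_injective (fun v => (⟨w⁻¹ * v.1, hsub v.1 v.2⟩ : ↥D))
      fun a b hab => Subtype.ext (mul_left_cancel (congrArg Subtype.val hab))
  have hprod := C.card_mul_index
  have hprod2 := D.card_mul_index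
  have hidx : D.index ≤ 4 := by
    refine Nat.le_of_mul_le_mul_left ?_ (Nat.card_pos (α := ↥D))
    calc Nat.card ↥D * D.index = 4 * C.index := by rw [hprod2, ← hprod, hC4]
      _ ≤ Nat.card ↥D * 4 := by rw [mul_comm]; exact Nat.mul_le_mul_right 4 (hcls ▸ hle)
  have hidx4 : D.index = 4 := by
    obtain ⟨j, hj⟩ := hS.index D
    rcases j with _ | _ | _ | j
    · exact absurd (top_unique ((index_eq_one.1 (hj.trans (pow_zero 2))).ge.trans le_sup_left))
        (index_commutator_ge hS hnc 1)
    · exfalso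
      have hDtop : D ≠ ⊤ := fun h => by rw [h, index_top] at hj; norm_num at hj
      obtain ⟨s, hs⟩ : ∃ s : S, s ∉ D := by
        by_contra h
        push_neg at h
        exact hDtop (eq_top_iff' D |>.2 h)
      apply index_commutator_ge hS hnc s
      rw [← index_eq_one]
      have h1 := index_dvd_of_le (le_sup_left : D ≤ D ⊔ zpowers s)
      rw [hj, zero_add, pow_one] at h1
      rcases (Nat.dvd_prime Nat.prime_two).1 h1 with h2 | h2
      · exact h2
      · exfalso
        have : D = D ⊔ zpowers s := by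
          refine eq_of_le_of_card_ge le_sup_left ?_
          have h3 := (D ⊔ zpowers s).card_mul_index
          rw [h2] at h3
          rw [hj, zero_add, pow_one] at hprod2
          omega
        exact hs (this ▸ mem_sup_right (mem_zpowers s))
    · simpa using hj
    · exfalso
      rw [hj, show j + 1 + 1 + 1 = j + 3 by omega, pow_add] at hidx
      have := Nat.one_le_two_pow (n := j)
      omega
  refine ⟨hidx4, hC4, fun d hd => ?_, hsub⟩
  have hbij : Function.Bijective
      (fun v : {v : S // IsConj w v} => (⟨w⁻¹ * v.1, hsub v.1 v.2⟩ : ↥D)) := by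
    refine (Nat.bijective_iff_injective_and_card _).2
      ⟨fun a b hab => Subtype.ext (mul_left_cancel (congrArg Subtype.val hab)), ?_⟩
    rw [hidx4] at hprod2
    rw [hC4] at hprod
    rw [hcls]
    omega
  obtain ⟨v, hv⟩ := hbij.2 ⟨d, hd⟩
  have h1 : w⁻¹ * v.1 = d := congrArg Subtype.val hv
  rw [← h1, mul_inv_cancel_left]
  exact v.2

/-! ### The Sylow subgroup -/

variable {G : Type u} [Group G] [Finite G]

theorem isPGroup_conj_le {x : G} {S₀ : Subgroup G} (h2 : ∀ T : Subgroup G, IsPGroup 2 ↥T →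
    T ≤ centralizer ({x} : Set G) → T ≤ S₀) (g : G) {T : Subgroup G} (hT : IsPGroup 2 ↥T)
    (hTC : T ≤ centralizer ({g * x * g⁻¹} : Set G)) :
    T.map (MulAut.conj g⁻¹).toMonoidHom ≤ S₀ := by
  refine h2 _ (hT.map _) ?_
  rintro _ ⟨a, ha, rfl⟩
  have h := mem_centralizer_singleton_iff.1 (hTC ha)
  rw [mem_centralizer_singleton_iff]
  calc g⁻¹ * a * g⁻¹⁻¹ * x = g⁻¹ * (a * (g * x * g⁻¹)) * g := by group
    _ = x * (g⁻¹ * a * g⁻¹⁻¹) := by rw [h]; group

/-- Under the hypotheses the four group is a Sylow 2-subgroup of `G`. -/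
theorem sylow_eq (hnot : ∀ M : Subgroup G, M.Normal → M.index ≠ 2) {x : G} (hx : orderOf x = 2)
    {S₀ : Subgroup G} (hK : IsKleinFour ↥S₀) (hxS₀ : x ∈ S₀)
    (h2 : ∀ T : Subgroup G, IsPGroup 2 ↥T → T ≤ centralizer ({x} : Set G) → T ≤ S₀)
    (P : Sylow 2 G) (hP : S₀ ≤ (P : Subgroup G)) : (P : Subgroup G) = S₀ := by
  classical
  haveI : Fact (Nat.Prime 2) := ⟨Nat.prime_two⟩
  by_contra hne
  have hS₀4 : Nat.card ↥S₀ = 4 := hK.card_four
  have h8 : 8 ≤ Nat.card ↥(P : Subgroup G) := by
    obtain ⟨k, hk⟩ := P.isPGroup'.exists_card_eq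
    have h4le : 4 < Nat.card ↥(P : Subgroup G) := by
      rw [← hS₀4]
      exact lt_of_le_of_ne (Nat.le_of_dvd Nat.card_pos (card_dvd_of_le hP))
        fun h => hne (eq_of_le_of_card_ge hP h.ge).symm
    rw [hk] at h4le ⊢
    rcases k with _ | _ | _ | k
    · norm_num at h4le
    · norm_num at h4le
    · norm_num at h4le
    · rw [show k + 1 + 1 + 1 = k + 3 by omega, pow_add]
      have := Nat.one_le_two_pow (n := k)
      omega
  have hnc : ¬ ∀ a b : ↥(P : Subgroup G), a * b = b * a := by
    intro h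
    have h1 : (P : Subgroup G) ≤ centralizer ({x} : Set G) := fun a ha =>
      mem_centralizer_singleton_iff.2 (congrArg Subtype.val (h ⟨a, ha⟩ ⟨x, hP hxS₀⟩))
    have := card_dvd_of_le (h2 _ P.isPGroup' h1)
    have := Nat.le_of_dvd Nat.card_pos this
    omega
  have hS : IsPGroup 2 ↥(P : Subgroup G) := P.isPGroup'
  -- facts about `G`-conjugates of `x` in `↥(P : Subgroup G)`
  have hfacts : ∀ w : ↥(P : Subgroup G), IsConj x (w : G) → orderOf w = 2 ∧ w ∉ center ↥(P : Subgroup G) ∧
      Nat.card ↥(centralizer ({w} : Set ↥(P : Subgroup G))) ≤ 4 := by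
    intro w hw
    obtain ⟨g, hg⟩ := isConj_iff.1 hw
    have ho : orderOf w = 2 := by rw [← Subgroup.orderOf_coe, ← hg, orderOf_conj_eq, hx]
    have hcard : Nat.card ↥(centralizer ({w} : Set ↥(P : Subgroup G))) ≤ 4 := by
      have hle := isPGroup_conj_le h2 g (T := (centralizer ({w} : Set ↥(P : Subgroup G))).map (P : Subgroup G).subtype)
        ((hS.to_subgroup _).map _) (by
          rintro _ ⟨a, ha, rfl⟩
          rw [hg, mem_centralizer_singleton_iff]
          exact congrArg Subtype.val (mem_centralizer_singleton_iff.1 ha))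
      have := Nat.le_of_dvd Nat.card_pos (card_dvd_of_le hle)
      rwa [hS₀4, card_map_of_injective (MulEquiv.injective _),
        card_map_of_injective (P : Subgroup G).subtype_injective] at this
    refine ⟨ho, fun hc => ?_, hcard⟩
    have : centralizer ({w} : Set ↥(P : Subgroup G)) = ⊤ := eq_top_iff.2 fun a _ =>
      mem_centralizer_singleton_iff.2 (mem_center_iff.1 hc a)
    rw [this, card_top] at hcard
    omega
  set D := commutator ↥(P : Subgroup G) with hD
  obtain ⟨hx1, hx2, hx3⟩ := hfacts ⟨x, hP hxS₀⟩ (IsConj.refl x)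
  obtain ⟨hidx, -, hxall, hxsub⟩ := coset_class hS hnc hx1 hx2 hx3
  set x' : ↥(P : Subgroup G) := ⟨x, hP hxS₀⟩
  have hsq : ∀ w : ↥(P : Subgroup G), IsConj x (w : G) → ∀ d ∈ D, w * d * (w * d) = 1 := by
    intro w hw d hd
    obtain ⟨h1, h2', h3⟩ := hfacts w hw
    obtain ⟨-, -, hall, -⟩ := coset_class hS hnc h1 h2' h3
    exact mul_self_eq_one ((orderOf_eq_of_isConj (hall d hd)).trans h1 : orderOf (w * d) = 2)
  have hnotD : ∀ w : ↥(P : Subgroup G), IsConj x (w : G) → w ∉ D := by
    intro w hw hwD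
    obtain ⟨h1, h2', h3⟩ := hfacts w hw
    obtain ⟨-, -, hall, -⟩ := coset_class hS hnc h1 h2' h3
    have := orderOf_eq_of_isConj (hall w⁻¹ (inv_mem hwD))
    rw [mul_inv_cancel, orderOf_one, h1] at this
    exact absurd this (by norm_num)
  -- two conjugates in different cosets other than `x D` are impossible
  have hclash : ∀ w₁ w₂ : ↥(P : Subgroup G), IsConj x (w₁ : G) → IsConj x (w₂ : G) →
      x'⁻¹ * w₁ ∉ D → x'⁻¹ * w₂ ∉ D → w₁⁻¹ * w₂ ∈ D := by
    intro w₁ w₂ hw₁ hw₂ hn₁ hn₂
    by_contra hn₁₂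
    have hquot : ∀ q : ↥(P : Subgroup G) ⧸ D, q = 1 ∨ q = (x' : ↥(P : Subgroup G) ⧸ D) ∨ q = (w₁ : ↥(P : Subgroup G) ⧸ D) ∨ q = (w₂ : ↥(P : Subgroup G) ⧸ D) := by
      intro q
      have h4 : Nat.card (↥(P : Subgroup G) ⧸ D) = 4 := hidx
      letI := Fintype.ofFinite (↥(P : Subgroup G) ⧸ D)
      have hu : ({1, (x' : ↥(P : Subgroup G) ⧸ D), (w₁ : ↥(P : Subgroup G) ⧸ D), (w₂ : ↥(P : Subgroup G) ⧸ D)} : Finset (↥(P : Subgroup G) ⧸ D)) = Finset.univ := by
        refine Finset.eq_univ_of_card _ ?_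
        rw [← Nat.card_eq_fintype_card, h4]
        have n1 : ∀ w : ↥(P : Subgroup G), IsConj x (w : G) → (1 : ↥(P : Subgroup G) ⧸ D) ≠ (w : ↥(P : Subgroup G) ⧸ D) := fun w hw h =>
          hnotD w hw ((QuotientGroup.eq_one_iff w).1 h.symm)
        have n2 : (x' : ↥(P : Subgroup G) ⧸ D) ≠ (w₁ : ↥(P : Subgroup G) ⧸ D) := fun h => hn₁ (QuotientGroup.eq.1 h)
        have n3 : (x' : ↥(P : Subgroup G) ⧸ D) ≠ (w₂ : ↥(P : Subgroup G) ⧸ D) := fun h => hn₂ (QuotientGroup.eq.1 h)
        have n4 : (w₁ : ↥(P : Subgroup G) ⧸ D) ≠ (w₂ : ↥(P : Subgroup G) ⧸ D) := fun h => hn₁₂ (QuotientGroup.eq.1 h)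
        simp [n1 x' (IsConj.refl x), n1 w₁ hw₁, n1 w₂ hw₂, n2, n3, n4]
      have := Finset.mem_univ q
      rw [← hu] at this
      simpa using this
    have hxw : (x' * w₁ : ↥(P : Subgroup G)) * (w₂)⁻¹ ∈ D := by
      rcases hquot ((x' * w₁ : ↥(P : Subgroup G)) : ↥(P : Subgroup G) ⧸ D) with h | h | h | h
      · exfalso
        have := (QuotientGroup.eq_one_iff _).1 h
        rw [← inv_eq_self_of_involution hx1] at this
        exact hn₁ this
      · exfalso
        rw [QuotientGroup.mk_mul, mul_eq_left, QuotientGroup.eq_one_iff] at h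
        exact hnotD _ hw₁ h
      · exfalso
        rw [QuotientGroup.mk_mul, mul_eq_right, QuotientGroup.eq_one_iff] at h
        exact hnotD _ (IsConj.refl x) h
      · rw [← QuotientGroup.eq_one_iff, QuotientGroup.mk_mul, QuotientGroup.mk_inv, h, mul_inv_cancel]
    -- `x w₁` centralizes `D`, hence so does `w₂`
    have hcent : ∀ d ∈ D, x' * w₁ * d = d * (x' * w₁) := by
      intro d hd
      have e1 : w₁ * d * w₁⁻¹ = d⁻¹ := eq_inv_of_mul_eq_one_left (by
        rw [inv_eq_self_of_involution (hfacts w₁ hw₁).1]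
        simpa [mul_assoc] using hsq w₁ hw₁ d hd)
      have e2 : x' * d⁻¹ * x'⁻¹ = d⁻¹⁻¹ := eq_inv_of_mul_eq_one_left (by
        rw [inv_eq_self_of_involution hx1]
        simpa [mul_assoc] using hsq x' (IsConj.refl x) d⁻¹ (inv_mem hd))
      rw [inv_inv] at e2
      calc x' * w₁ * d = x' * (w₁ * d * w₁⁻¹) * x'⁻¹ * (x' * w₁) := by group
        _ = d * (x' * w₁) := by rw [e1, e2]
    set e := x' * w₁ * w₂⁻¹ with he
    have hcomm : ∀ d ∈ D, e * d = d * e := by
      intro d hd
      -- `e ∈ D` is inverted by `x'`, so `D` is abelian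
      have habel : ∀ a ∈ D, ∀ b ∈ D, a * b = b * a := by
        intro a ha b hb
        have inv : ∀ c ∈ D, x' * c * x'⁻¹ = c⁻¹ := fun c hc => eq_inv_of_mul_eq_one_left (by
          rw [inv_eq_self_of_involution hx1]
          simpa [mul_assoc] using hsq x' (IsConj.refl x) c hc)
        apply inv_injective
        rw [mul_inv_rev, mul_inv_rev, ← inv a ha, ← inv b hb]
        calc x' * b * x'⁻¹ * (x' * a * x'⁻¹) = x' * (b * a) * x'⁻¹ := by group
          _ = (b * a)⁻¹ := inv _ (mul_mem hb ha)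
          _ = x' * a * x'⁻¹ * (x' * b * x'⁻¹) := by rw [inv a ha, inv b hb, mul_inv_rev]
      exact habel e hxw d hd
    have hw₂c : ∀ d ∈ D, w₂ * d = d * w₂ := by
      intro d hd
      have : w₂ = e⁻¹ * (x' * w₁) := by rw [he]; group
      rw [this, mul_assoc, hcent d hd, ← mul_assoc, ← mul_assoc,
        show e⁻¹ * d = d * e⁻¹ from ((show Commute e d from hcomm d hd).inv_left).eq]
      group
    -- so `D` has exponent two and order two, and `↥(P : Subgroup G)` has exponent two
    obtain ⟨hw2o, hw2c, hw24⟩ := hfacts w₂ hw₂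
    obtain ⟨-, hw2C, -, -⟩ := coset_class hS hnc hw2o hw2c hw24
    have hD2 : ∀ d ∈ D, d * d = 1 := by
      intro d hd
      have := hsq w₂ hw₂ d hd
      rwa [mul_assoc, ← mul_assoc d w₂ d, ← hw₂c d hd, mul_assoc w₂ d d, ← mul_assoc,
        mul_self_eq_one hw2o, one_mul] at this
    have hall : ∀ s : ↥(P : Subgroup G), s * s = 1 := by
      intro s
      have hcase : ∀ w : ↥(P : Subgroup G), IsConj x (w : G) → (s : ↥(P : Subgroup G) ⧸ D) = (w : ↥(P : Subgroup G) ⧸ D) → s * s = 1 := by
        intro w hw h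
        have hd : w⁻¹ * s ∈ D := QuotientGroup.eq.1 h.symm
        have := hsq w hw _ hd
        rwa [mul_inv_cancel_left] at this
      rcases hquot (s : ↥(P : Subgroup G) ⧸ D) with h | h | h | h
      · exact hD2 s ((QuotientGroup.eq_one_iff s).1 h)
      · exact hcase _ (IsConj.refl x) h
      · exact hcase _ hw₁ h
      · exact hcase _ hw₂ h
    exact hnc fun a b => (Commute.eq (by
      have hi : ∀ s : ↥(P : Subgroup G), s⁻¹ = s := fun s => inv_eq_of_mul_eq_one_right (hall s)
      have := hi (a * b)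
      rw [mul_inv_rev, hi, hi] at this
      exact this.symm))
  -- a subgroup of index two free of conjugates of `x`
  obtain ⟨c, hcD, hcx, hfree⟩ : ∃ c : ↥(P : Subgroup G), c ∉ D ∧ x'⁻¹ * c ∉ D ∧
      ∀ w : ↥(P : Subgroup G), IsConj x (w : G) → c⁻¹ * w ∉ D := by
    obtain ⟨a, haD, hax⟩ : ∃ a : ↥(P : Subgroup G), a ∉ D ∧ x'⁻¹ * a ∉ D := by
      by_contra h
      push_neg at h
      apply index_commutator_ge hS hnc x'
      rw [eq_top_iff]
      intro s _
      by_cases hsD : s ∈ D
      · exact mem_sup_left hsD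
      · have := h s hsD
        rw [show s = x' * (x'⁻¹ * s) by group]
        exact mul_mem (mem_sup_right (mem_zpowers x')) (mem_sup_left this)
    by_cases hfa : ∀ w : ↥(P : Subgroup G), IsConj x (w : G) → a⁻¹ * w ∉ D
    · exact ⟨a, haD, hax, hfa⟩
    · push_neg at hfa
      obtain ⟨w₁, hw₁, hw₁a⟩ := hfa
      have hxD : x' ∉ D := hnotD x' (IsConj.refl x)
      refine ⟨x' * a, fun h => ?_, fun h => haD (by rwa [inv_mul_cancel_left] at h), fun w hw h => ?_⟩
      · rw [← inv_eq_self_of_involution hx1] at h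
        exact hax h
      · have hn : ((x' : ↥(P : Subgroup G) ⧸ D)) * (a : ↥(P : Subgroup G) ⧸ D) = (w : ↥(P : Subgroup G) ⧸ D) := by
          rw [← QuotientGroup.mk_mul]; exact QuotientGroup.eq.2 h
        have ha₁ : (a : ↥(P : Subgroup G) ⧸ D) = (w₁ : ↥(P : Subgroup G) ⧸ D) := QuotientGroup.eq.2 hw₁a
        have h1 : x'⁻¹ * w₁ ∉ D := fun h1 => hax (by
          rw [← QuotientGroup.eq] at h1 ⊢; rw [h1, ha₁])
        have h2' : x'⁻¹ * w ∉ D := fun h1 => haD (by
          rw [← QuotientGroup.eq] at h1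
          rw [← h1, mul_eq_left, QuotientGroup.eq_one_iff] at hn
          exact hn)
        have h3 := QuotientGroup.eq.2 (hclash w₁ w hw₁ hw h1 h2')
        rw [← ha₁, ← hn, right_eq_mul, QuotientGroup.eq_one_iff] at h3
        exact hxD h3
  have hc2 : c * c ∈ D := by
    by_contra hcc
    apply index_commutator_ge hS hnc c
    have hcard : 4 ≤ Nat.card ↥((zpowers c).map (QuotientGroup.mk' D)) := by
      rw [MonoidHom.map_zpowers, Nat.card_zpowers]
      have h4 : orderOf (QuotientGroup.mk' D c) ∣ 2 ^ 2 := by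
        rw [show (2 : ℕ) ^ 2 = D.index by rw [hidx]; rfl]
        exact orderOf_dvd_natCard _
      obtain ⟨j, hj, hj2⟩ := (Nat.dvd_prime_pow Nat.prime_two).1 h4
      have : ¬ (QuotientGroup.mk' D c) ^ 2 = 1 := by
        rw [← map_pow, QuotientGroup.mk'_apply, QuotientGroup.eq_one_iff, pow_two]; exact hcc
      interval_cases j
      · exact absurd (by rw [orderOf_eq_one_iff.1 hj2, one_pow]) this
      · exact absurd (orderOf_dvd_iff_pow_eq_one.1 (by rw [hj2]; norm_num)) this
      · rw [hj2]; norm_num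
    have htop : (zpowers c).map (QuotientGroup.mk' D) = ⊤ :=
      eq_top_of_le_card _ (by rw [← index_eq_card]; exact hidx.le.trans hcard)
    rw [← QuotientGroup.comap_map_mk', htop, comap_top]
  set Q : Subgroup ↥(P : Subgroup G) := D ⊔ zpowers c
  have hQ : ∀ q : ↥(P : Subgroup G), q ∈ Q → q ∈ D ∨ c⁻¹ * q ∈ D := by
    intro q hq
    rw [show Q = (zpowers (c : ↥(P : Subgroup G) ⧸ D)).comap (QuotientGroup.mk' D) by
      rw [← QuotientGroup.mk'_apply, ← MonoidHom.map_zpowers, QuotientGroup.comap_map_mk']] at hq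
    have ho : orderOf ((c : ↥(P : Subgroup G) ⧸ D)) = 2 := orderOf_eq_prime
      (by rw [pow_two, ← QuotientGroup.mk_mul, QuotientGroup.eq_one_iff]; exact hc2)
      (fun h => hcD ((QuotientGroup.eq_one_iff c).1 h))
    rcases cases_of_mem_zpowers ho (mem_comap.1 hq) with h | h
    · exact Or.inl ((QuotientGroup.eq_one_iff q).1 h)
    · exact Or.inr (QuotientGroup.eq.1 h.symm)
  have hxQ : x' ∉ Q := fun h => by
    rcases hQ x' h with h1 | h1
    · exact hnotD x' (IsConj.refl x) h1
    · exact hfree x' (IsConj.refl x) h1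
  have hQidx : Q.index = 2 := by
    have h1 := index_dvd_of_le (le_sup_left : D ≤ Q)
    rw [hidx, show (4 : ℕ) = 2 ^ 2 by norm_num, Nat.dvd_prime_pow Nat.prime_two] at h1
    obtain ⟨j, hj, hj2⟩ := h1
    interval_cases j
    · exact absurd ((index_eq_one.1 (hj2.trans (pow_zero 2))).ge (mem_top x')) hxQ
    · exact hj2.trans (pow_one 2)
    · exfalso
      have : D = Q := by
        refine eq_of_le_of_card_ge le_sup_left ?_
        have h3 := Q.card_mul_index
        have h4 := D.card_mul_index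
        rw [hidx] at h4
        rw [hj2] at h3
        omega
      exact hcD (this ▸ mem_sup_right (mem_zpowers c))
  obtain ⟨M, hMn, hM2, -⟩ := CfsgLib.Transfer.thompson_transfer P (Q.map (P : Subgroup G).subtype)
    (by rw [relIndex, subgroupOf, comap_map_eq_self_of_injective (P : Subgroup G).subtype_injective]
        exact hQidx)
    x (by rw [pow_two]; exact mul_self_eq_one hx) (by
      intro g hgP hgQ
      obtain ⟨q, hq, hqe⟩ := hgQ
      have hqc : IsConj x (q : G) := isConj_iff.2 ⟨g, hqe.symm⟩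
      rcases hQ q hq with h | h
      · exact hnotD q hqc h
      · exact hfree q hqc h)
  exact hnot M hMn hM2

/-! ### The counting argument -/

section Counting

open scoped Classical

variable {K : Type u} [Group K] [Fintype K]

/-- The sum of an irreducible character over the products of two elements of a class. -/
theorem sum_char_class_products (χ : IrrCharacter K) (g : K) :
    ∑ a ∈ Finset.univ.filter (IsConj g), ∑ b ∈ Finset.univ.filter (IsConj g), (χ : K → ℂ) (a * b) =
      ((Finset.univ.filter (IsConj g)).card : ℂ) ^ 2 * (χ : K → ℂ) g ^ 2 / (χ : K → ℂ) 1 := by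
  obtain ⟨_, n, ρ, hρ, rfl⟩ := χ
  haveI := hρ
  haveI := CfsgLib.Characters.nontrivial_of_irreducible ρ
  have hd : (Module.finrank ℂ (Fin n → ℂ) : ℂ) ≠ 0 := by exact_mod_cast Module.finrank_pos.ne'
  have hfun : CfsgLib.Characters.funEnd ρ (fun x => if IsConj g x then 1 else 0) =
      ∑ a ∈ Finset.univ.filter (IsConj g), ρ a := by
    rw [CfsgLib.Characters.funEnd, Finset.sum_filter]
    exact Finset.sum_congr rfl fun a _ => by split_ifs <;> simp
  have h := CfsgLib.Characters.funEnd_classSum ρ g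
  rw [hfun] at h
  have h2 := congrArg (fun T => LinearMap.trace ℂ (Fin n → ℂ) (T * T)) h
  simp only [Finset.sum_mul, Finset.mul_sum, ← map_mul, map_sum, smul_mul_smul_comm, one_mul,
    map_smul, LinearMap.trace_one, smul_eq_mul] at h2
  simp only [Nat.card_eq_fintype_card, Fintype.card_subtype] at h2
  dsimp only
  rw [Representation.char_one]
  simp only [Representation.character] at h2 ⊢
  rw [Finset.sum_comm, h2]
  field_simp

theorem sum_char_class_products' {q : K → ℂ} (hq : ∃ χ : IrrCharacter K, q = (χ : K → ℂ) ∨ q = -(χ : K → ℂ))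
    (g : K) : ∑ a ∈ Finset.univ.filter (IsConj g), ∑ b ∈ Finset.univ.filter (IsConj g), q (a * b) =
      ((Finset.univ.filter (IsConj g)).card : ℂ) ^ 2 * q g ^ 2 / q 1 := by
  obtain ⟨χ, rfl | rfl⟩ := hq
  · exact sum_char_class_products χ g
  · simp only [Pi.neg_apply, Finset.sum_neg_distrib, neg_sq, div_neg, sum_char_class_products χ g]

theorem three_recip {a b c : ℤ} (hsum : a + b + c = -1) (ha : 4 ∣ a - 1) (hb : 4 ∣ b - 1)
    (hc : 4 ∣ c - 1) (ha1 : a ≠ 1) (hb1 : b ≠ 1) (hc1 : c ≠ 1) :
    (1 : ℝ) / 3 ≤ 1 + 1 / (a : ℝ) + 1 / b + 1 / c := by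
  have hcase : ∀ x : ℤ, 4 ∣ x - 1 → x ≠ 1 → x ≤ -3 ∨ 5 ≤ x := fun x hx hx1 => by omega
  have hlow : ∀ x : ℤ, 4 ∣ x - 1 → x ≠ 1 → -(1 : ℝ) / 3 ≤ 1 / (x : ℝ) ∧ (5 ≤ x → 0 ≤ 1 / (x : ℝ)) := by
    intro x hx hx1
    refine ⟨?_, fun h => div_nonneg zero_le_one (by exact_mod_cast le_trans (by norm_num) h)⟩
    rcases hcase x hx hx1 with h | h
    · have h' : (x : ℝ) ≤ -3 := by exact_mod_cast h
      rw [le_div_iff_of_neg (by linarith)]
      linarith
    · have : (0 : ℝ) ≤ 1 / (x : ℝ) :=
        div_nonneg zero_le_one (by exact_mod_cast le_trans (by norm_num) h)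
      linarith
  obtain ⟨la, pa⟩ := hlow a ha ha1
  obtain ⟨lb, pb⟩ := hlow b hb hb1
  obtain ⟨lc, pc⟩ := hlow c hc hc1
  rcases hcase a ha ha1 with h1 | h1
  · rcases hcase b hb hb1 with h2 | h2
    · rcases hcase c hc hc1 with h3 | h3
      · omega
      · linarith [pc h3]
    · linarith [pb h2]
  · linarith [pa h1]

/-- In a group with Klein four Sylow 2-subgroups, one class of involutions, no nontrivial linear
character, and with exactly two involutions commuting properly with each involution among those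
whose product with it has even order, there are at most 24 involutions. -/
theorem card_involutions_le (V : Sylow 2 K) (hV : IsKleinFour ↥(V : Subgroup K))
    (hone : ∀ s t : K, orderOf s = 2 → orderOf t = 2 → IsConj s t)
    (hlin : ∀ f : K →* ℂˣ, f = 1)
    (hpair : ∀ s : K, orderOf s = 2 → ((invs K).filter fun s' => 2 ∣ orderOf (s * s')).card = 2) :
    (invs K).card ≤ 24 := by
  have hPC : PrincipalConstant.{u} := fun G _ _ M hM x hx y hy χ hχ =>
    Cfsg.Agent.S0942.result 2 M hM x ⟨1, by simp [hx]⟩ y hy χ hχ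
  obtain ⟨M, hM⟩ := CfsgLib.KGV.exists_isPModular 2 Nat.prime_two
  obtain ⟨F⟩ := exists_kleinFamily (K := K) V hV hPC hM hone
  obtain ⟨t, ht⟩ : ∃ t : K, orderOf t = 2 := by
    obtain ⟨⟨b, hb, hb1⟩⟩ := (Nat.card_pos_iff.mp
      (by rw [klein_card_involutions V hV]; norm_num : 0 < Nat.card {a : K // a ∈ V ∧ a ≠ 1})).1
    exact ⟨b, klein_orderOf V hV hb hb1⟩
  have hinvs : invs K = Finset.univ.filter (IsConj t) := by
    ext s
    simp only [mem_invs, Finset.mem_filter, Finset.mem_univ, true_and]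
    exact ⟨hone t s ht, fun h => (orderOf_eq_of_isConj h).trans ht⟩
  have hirr : ∀ i, ∃ χ : IrrCharacter K, F.q i = (χ : K → ℂ) ∨ F.q i = -(χ : K → ℂ) := fun i =>
    CfsgLib.Characters.eq_irr_or_neg_of_classInner_self_eq_one (F.q_gen i) (by simp [F.q_inner])
  have hint : ∀ i, ∃ d : ℤ, F.q i 1 = (d : ℂ) ∧ 4 ∣ d - 1 := by
    intro i
    obtain ⟨χ, hχ⟩ := hirr i
    obtain ⟨n, -, hn⟩ := CfsgLib.Characters.irr_exists_degree χ.2
    obtain ⟨d, hd⟩ : ∃ d : ℤ, F.q i 1 = (d : ℂ) := by
      rcases hχ with h | h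
      · exact ⟨n, by rw [h, hn]; simp⟩
      · exact ⟨-n, by rw [h, Pi.neg_apply, hn]; simp⟩
    refine ⟨d, hd, ?_⟩
    have hres : IsGeneralizedCharacter ↥(V : Subgroup K) (fun v => F.q i v) := by
      obtain ⟨a, b, ha, hb, hab⟩ := F.q_gen i
      refine ⟨fun v => a v, fun v => b v, ?_, ?_, funext fun v => congrFun hab v⟩
      · obtain ⟨m, ρ, rfl⟩ := ha
        exact ⟨m, ρ.comp (V : Subgroup K).subtype, rfl⟩
      · obtain ⟨m, ρ, rfl⟩ := hb
        exact ⟨m, ρ.comp (V : Subgroup K).subtype, rfl⟩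
    obtain ⟨z, hz⟩ := CfsgLib.Characters.classInner_generalized_int hres
      CfsgLib.Characters.isGeneralizedCharacter_one
    have hsum : ∑ v : ↥(V : Subgroup K), F.q i v = (d : ℂ) + 3 := by
      rw [← Finset.add_sum_erase _ _ (Finset.mem_univ (1 : ↥(V : Subgroup K)))]
      have hev : ∀ v ∈ Finset.univ.erase (1 : ↥(V : Subgroup K)), F.q i (v : K) = 1 := fun v hv =>
        F.q_even i (v : K) (by
          rw [klein_orderOf V hV v.2 (fun h => (Finset.mem_erase.1 hv).1 (Subtype.ext h))])
      rw [Finset.sum_congr rfl hev]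
      rw [Finset.sum_const, Finset.card_erase_of_mem (Finset.mem_univ _), Finset.card_univ,
        ← Nat.card_eq_fintype_card, hV.card_four, OneMemClass.coe_one, hd]
      norm_num
    rw [classInner, hV.card_four] at hz
    simp only [Pi.one_apply, map_one, mul_one, hsum] at hz
    have h4 : d + 3 = 4 * z := by
      have : (d : ℂ) + 3 = 4 * z := by rw [← hz]; push_cast; ring
      exact_mod_cast this
    omega
  choose d hd hd4 using hint
  have hd0 : d 0 = 1 := by exact_mod_cast (hd 0).symm.trans (F.q_zero 1)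
  have hne1 : ∀ i, i ≠ 0 → d i ≠ 1 := by
    intro i hi hdi
    have hqi : F.q i 1 = 1 := by rw [hd i, hdi]; simp
    obtain ⟨χ, h | h⟩ := hirr i
    · obtain ⟨f, hf⟩ := CfsgLib.Characters.exists_linearIrr_eq χ (by rw [← h, hqi])
      have hq : F.q i = F.q 0 := by
        rw [h, ← hf, hlin f]
        funext g
        rw [F.q_zero]
        simp [CfsgLib.Characters.linearIrr]
      have h00 := F.q_inner i 0
      rw [hq, F.q_inner, if_pos rfl, if_neg hi] at h00
      exact one_ne_zero h00
    · obtain ⟨n, hn0, hn⟩ := CfsgLib.Characters.irr_exists_degree χ.2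
      rw [h, Pi.neg_apply, hn] at hqi
      have := congrArg Complex.re hqi
      simp at this
      have : (0 : ℝ) < n := by exact_mod_cast hn0
      linarith
  have hsum1 : d 0 + d 1 + d 2 + d 3 = 0 := by
    have := F.q_sum 1 (by simp)
    simp only [hd, Fin.sum_univ_four] at this
    exact_mod_cast this
  -- the double count
  have hI : (0 : ℝ) < ((invs K).card : ℝ) := by
    exact_mod_cast Finset.card_pos.2 ⟨t, mem_invs.2 ht⟩
  have hkey : ((invs K).card : ℂ) ^ 2 * ∑ i, 1 / (d i : ℂ) = 8 * ((invs K).card : ℂ) := by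
    rw [Finset.mul_sum]
    calc ∑ i, ((invs K).card : ℂ) ^ 2 * (1 / (d i : ℂ))
        = ∑ i, ∑ a ∈ invs K, ∑ b ∈ invs K, F.q i (a * b) := by
          refine Finset.sum_congr rfl fun i _ => ?_
          rw [hinvs, sum_char_class_products' (hirr i) t, F.q_even i t (by rw [ht]), hd]
          ring
      _ = ∑ a ∈ invs K, ∑ b ∈ invs K, ∑ i, F.q i (a * b) := by
          rw [Finset.sum_comm]
          exact Finset.sum_congr rfl fun a _ => Finset.sum_comm
      _ = ∑ a ∈ invs K, ∑ b ∈ (invs K).filter (fun b => 2 ∣ orderOf (a * b)), (4 : ℂ) := by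
          refine Finset.sum_congr rfl fun a _ => ?_
          rw [Finset.sum_filter]
          refine Finset.sum_congr rfl fun b _ => ?_
          split_ifs with h
          · simp [F.q_even _ _ h]
          · exact F.q_sum _ (Nat.not_even_iff_odd.1 fun he => h he.two_dvd)
      _ = 8 * ((invs K).card : ℂ) := by
          rw [Finset.sum_congr rfl fun a ha => by
            rw [Finset.sum_const, hpair a (mem_invs.1 ha)]]
          rw [Finset.sum_const]
          simp only [nsmul_eq_mul]
          ring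
  have hkeyR : ((invs K).card : ℝ) ^ 2 * ∑ i, 1 / (d i : ℝ) = 8 * ((invs K).card : ℝ) := by
    have : (((invs K).card : ℝ) ^ 2 * ∑ i, 1 / (d i : ℝ) : ℂ) =
        ((8 * ((invs K).card : ℝ) : ℝ) : ℂ) := by push_cast; exact hkey
    exact_mod_cast this
  have hβ : (1 : ℝ) / 3 ≤ ∑ i, 1 / (d i : ℝ) := by
    rw [Fin.sum_univ_four, hd0]
    have := three_recip (a := d 1) (b := d 2) (c := d 3) (by omega) (hd4 1) (hd4 2) (hd4 3)
      (hne1 1 (by decide)) (hne1 2 (by decide)) (hne1 3 (by decide))
    simpa using this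
  have hle : ((invs K).card : ℝ) ≤ 24 := by
    have h1 : ((invs K).card : ℝ) * ∑ i, 1 / (d i : ℝ) = 8 := by
      refine mul_left_cancel₀ hI.ne' ?_
      rw [← mul_assoc, ← pow_two, hkeyR]
      ring
    nlinarith
  exact_mod_cast hle

end Counting

/-! ### The recognition theorem -/

theorem iso_alt_five [IsSimpleGroup G] {x : G} (hx : orderOf x = 2) (S₀ : Subgroup G)
    (hle : S₀ ≤ centralizer ({x} : Set G)) (hK : IsKleinFour ↥S₀)
    (hodd : ¬ 2 ∣ S₀.relIndex (centralizer ({x} : Set G)))
    (hn : (S₀.subgroupOf (centralizer ({x} : Set G))).Normal) :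
    Nonempty (G ≃* ↥(alternatingGroup (Fin 5))) := by
  classical
  letI := Fintype.ofFinite G
  haveI : Fact (Nat.Prime 2) := ⟨Nat.prime_two⟩
  have hS₀4 : Nat.card ↥S₀ = 4 := hK.card_four
  have hS₀p : IsPGroup 2 ↥S₀ := IsPGroup.of_card (n := 2) (by rw [hS₀4]; norm_num)
  set C := centralizer ({x} : Set G) with hC
  -- two-subgroups of the centralizer
  have h2 : ∀ T : Subgroup G, IsPGroup 2 ↥T → T ≤ C → T ≤ S₀ := by
    intro T hT hTC
    haveI := hn
    have hsup : IsPGroup 2 ↥(T.subgroupOf C ⊔ S₀.subgroupOf C) :=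
      hT.comap_subtype.to_sup_of_normal_right hS₀p.comap_subtype
    obtain ⟨k, hk⟩ := hsup.index ((S₀.subgroupOf C).subgroupOf (T.subgroupOf C ⊔ S₀.subgroupOf C))
    change (S₀.subgroupOf C).relIndex (T.subgroupOf C ⊔ S₀.subgroupOf C) = 2 ^ k at hk
    have hdvd : (S₀.subgroupOf C).relIndex (T.subgroupOf C ⊔ S₀.subgroupOf C) ∣
        (S₀.subgroupOf C).index := relIndex_dvd_index_of_normal _ _
    rcases k with _ | k
    · rw [pow_zero, relIndex_eq_one] at hk
      intro a ha
      exact (hk (mem_sup_left (show (⟨a, hTC ha⟩ : ↥C) ∈ T.subgroupOf C from ha)) : a ∈ S₀)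
    · exact absurd ((dvd_pow_self 2 k.succ_ne_zero).trans (hk ▸ hdvd)) hodd
  have hxC : x ∈ C := mem_centralizer_singleton_iff.2 rfl
  have hxS₀ : x ∈ S₀ := h2 (zpowers x) (isPGroup_two_zpowers hx) (zpowers_le.2 hxC) (mem_zpowers x)
  have h4G : 4 ∣ Nat.card G := hS₀4 ▸ S₀.card_subgroup_dvd_card
  have hnorm : ∀ N : Subgroup G, N.Normal → N = ⊥ ∨ N = ⊤ := fun N hN => hN.eq_bot_or_eq_top
  have hne4 : Nat.card G ≠ 4 := by
    intro h
    have hp : IsPGroup 2 G := IsPGroup.of_card (n := 2) (by rw [h]; norm_num)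
    haveI := hp.isNilpotent
    have hc : ∀ a b : G, a * b = b * a := IsSimpleGroup.comm_iff_isSolvable.2 inferInstance
    letI : CommGroup G := { ‹Group G› with mul_comm := hc }
    haveI : IsSimpleGroup G := ‹_›
    have := IsSimpleGroup.prime_card (α := G)
    rw [h] at this
    norm_num at this
  have hnot : ∀ M : Subgroup G, M.Normal → M.index ≠ 2 := by
    intro M hM h
    rcases hnorm M hM with rfl | rfl
    · rw [index_bot] at h; rw [h] at h4G; omega
    · rw [index_top] at h; omega
  obtain ⟨P, hP⟩ := hS₀p.exists_le_sylow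
  have hPeq := sylow_eq hnot hx hK hxS₀ h2 P hP
  have hPK : IsKleinFour ↥(P : Subgroup G) := by rw [hPeq]; exact hK
  have hnot_normal : ¬ (P : Subgroup G).Normal := by
    intro h
    rcases hnorm _ h with h1 | h1
    · have := hPK.card_four; rw [h1, card_bot] at this; omega
    · have := hPK.card_four; rw [h1, card_top] at this; exact hne4 this
  -- one class of involutions
  have hone : ∀ s t : G, orderOf s = 2 → orderOf t = 2 → IsConj s t := by
    rcases klein_dichotomy P hPK with h1 | ⟨h3, -⟩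
    · intro s t hs ht
      obtain ⟨hsub, -⟩ := Nat.card_eq_one_iff_unique.1 h1
      exact ConjClasses.mk_eq_mk_iff_isConj.1 (congrArg Subtype.val
        (hsub.elim ⟨ConjClasses.mk s, s, hs, rfl⟩ ⟨ConjClasses.mk t, t, ht, rfl⟩))
    · exfalso
      obtain ⟨N, hN, hc⟩ := (klein_three_iff P hPK).1 h3
      have h4 : N.index = 4 := by rw [hc.symm.index_eq_card, hPK.card_four]
      rcases hnorm N hN with rfl | rfl
      · rw [index_bot] at h4; exact hne4 h4
      · rw [index_top] at h4; omega
  have hQK : ∀ Q : Sylow 2 G, IsKleinFour ↥(Q : Subgroup G) := fun Q =>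
    ⟨by rw [Nat.card_congr (Q.equiv P).toEquiv]; exact hPK.card_four,
     by rw [Monoid.exponent_eq_of_mulEquiv (Q.equiv P)]; exact hPK.exponent_two⟩
  have hQC : ∀ Q : Sylow 2 G, ∀ s ∈ Q, (Q : Subgroup G) ≤ centralizer ({s} : Set G) := by
    intro Q s hs a ha
    exact mem_centralizer_singleton_iff.2
      (congrArg Subtype.val ((klein_comm Q (hQK Q)).is_comm.comm ⟨a, ha⟩ ⟨s, hs⟩))
  -- the Sylow subgroup of an involution
  have huniq : ∀ s : G, orderOf s = 2 → ∀ Q : Sylow 2 G, s ∈ Q → ∀ T : Subgroup G,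
      IsPGroup 2 ↥T → T ≤ centralizer ({s} : Set G) → T ≤ (Q : Subgroup G) := by
    intro s hs Q hsQ T hT hTC
    obtain ⟨g, rfl⟩ := isConj_iff.1 (hone x s hx hs)
    have hinj : Function.Injective (MulAut.conj g⁻¹).toMonoidHom := MulEquiv.injective _
    have h1 : (Q : Subgroup G).map (MulAut.conj g⁻¹).toMonoidHom = S₀ := by
      refine eq_of_le_of_card_ge (isPGroup_conj_le h2 g Q.isPGroup' (hQC Q _ hsQ)) ?_
      rw [card_map_of_injective hinj, hS₀4, (hQK Q).card_four]
    exact (map_le_map_iff_of_injective hinj).1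
      ((isPGroup_conj_le h2 g hT hTC).trans h1.ge)
  have hQeq : ∀ s : G, orderOf s = 2 → ∀ Q R : Sylow 2 G, s ∈ Q → s ∈ R → Q = R := by
    intro s hs Q R hQ hR
    exact Sylow.ext (le_antisymm (huniq s hs R hR _ Q.isPGroup' (hQC Q s hQ))
      (huniq s hs Q hQ _ R.isPGroup' (hQC R s hR)))
  have hex : ∀ s : G, orderOf s = 2 → ∃ Q : Sylow 2 G, s ∈ Q := fun s hs => by
    obtain ⟨Q, hQ⟩ := (isPGroup_two_zpowers hs).exists_le_sylow
    exact ⟨Q, hQ (mem_zpowers s)⟩
  -- the pairs
  have hpair : ∀ s : G, orderOf s = 2 →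
      ((invs G).filter fun s' => 2 ∣ orderOf (s * s')).card = 2 := by
    intro s hs
    obtain ⟨Q, hsQ⟩ := hex s hs
    have hset : ((invs G).filter fun s' => 2 ∣ orderOf (s * s')) =
        (Finset.univ.filter fun a => a ∈ Q ∧ a ≠ 1).erase s := by
      ext s'
      simp only [Finset.mem_filter, mem_invs, Finset.mem_erase, Finset.mem_univ, true_and]
      constructor
      · rintro ⟨hs', hev⟩
        refine ⟨fun h => ?_, ?_, ne_one_of_involution hs'⟩
        · subst h
          rw [mul_self_eq_one hs, orderOf_one] at hev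
          omega
        obtain ⟨m, hm⟩ := hev
        set g := s * s' with hg
        have hm0 : m ≠ 0 := by rintro rfl; exact (orderOf_pos g).ne' (by simpa using hm)
        have ht : orderOf (g ^ m) = 2 := by
          rw [orderOf_pow' _ hm0, hm, Nat.gcd_eq_right (dvd_mul_left m 2),
            Nat.mul_div_cancel _ (Nat.pos_of_ne_zero hm0)]
        set t := g ^ m with htdef
        have hgt : g * t = t * g := ((Commute.refl g).pow_right m).eq
        have hst : s * t = t * s := by
          have h1 : s * g * s⁻¹ = g⁻¹ := by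
            rw [hg, mul_inv_rev, inv_eq_self_of_involution hs, inv_eq_self_of_involution hs',
              ← mul_assoc, mul_self_eq_one hs, one_mul]
          have h2' : s * t * s⁻¹ = t := by
            rw [htdef, ← conj_pow, h1, inv_pow]
            exact inv_eq_self_of_involution ht
          exact mul_inv_eq_iff_eq_mul.1 h2'
        obtain ⟨R, htR⟩ := hex t ht
        have hsR : s ∈ R := huniq t ht R htR _ (isPGroup_two_zpowers hs)
          (zpowers_le.2 (mem_centralizer_singleton_iff.2 hst)) (mem_zpowers s)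
        have hs'C : s' ∈ centralizer ({t} : Set G) := by
          have : s' = s⁻¹ * g := by rw [hg, inv_mul_cancel_left]
          rw [this]
          exact mul_mem (inv_mem (mem_centralizer_singleton_iff.2 hst))
            (mem_centralizer_singleton_iff.2 hgt)
        have hs'R : s' ∈ R := huniq t ht R htR _ (isPGroup_two_zpowers hs')
          (zpowers_le.2 hs'C) (mem_zpowers s')
        exact hQeq s hs R Q hsR hsQ ▸ hs'R
      · rintro ⟨hne, hmem, hne1⟩
        refine ⟨klein_orderOf Q (hQK Q) hmem hne1, ?_⟩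
        rw [klein_orderOf Q (hQK Q) ((Q : Subgroup G).mul_mem hsQ hmem) fun h =>
          hne ((inv_eq_of_mul_eq_one_right h).symm.trans (inv_eq_self_of_involution hs))]
    rw [hset, Finset.card_erase_of_mem (by simp [hsQ, ne_one_of_involution hs]),
      ← Fintype.card_subtype, ← Nat.card_eq_fintype_card, klein_card_involutions Q (hQK Q)]
  have hlin : ∀ f : G →* ℂˣ, f = 1 := by
    intro f
    rcases hnorm f.ker inferInstance with h | h
    · exfalso
      have hc : ∀ a b : G, a * b = b * a := fun a b =>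
        (MonoidHom.ker_eq_bot_iff f).1 h (by rw [map_mul, map_mul, mul_comm])
      exact hnot_normal ⟨fun a ha g => by rwa [hc g a, mul_inv_cancel_right]⟩
    · exact MonoidHom.ker_eq_top_iff.1 h
  have h24 := card_involutions_le P hPK hone hlin hpair
  -- Sylow subgroups and involutions
  have h3n : (invs G).card = 3 * Nat.card (Sylow 2 G) := by
    have e : (invs G).card = Nat.card (Σ Q : Sylow 2 G, {a : G // a ∈ Q ∧ a ≠ 1}) := by
      rw [invs, ← Fintype.card_subtype, ← Nat.card_eq_fintype_card]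
      refine (Nat.card_eq_of_bijective
        (fun y : Σ Q : Sylow 2 G, {a : G // a ∈ Q ∧ a ≠ 1} =>
          (⟨y.2.1, klein_orderOf y.1 (hQK y.1) y.2.2.1 y.2.2.2⟩ : {t : G // orderOf t = 2}))
        ⟨?_, ?_⟩).symm
      · rintro ⟨Q, a, ha⟩ ⟨R, b, hb⟩ h
        obtain rfl : a = b := congrArg Subtype.val h
        obtain rfl := hQeq a (klein_orderOf Q (hQK Q) ha.1 ha.2) Q R ha.1 hb.1
        rfl
      · rintro ⟨a, ha⟩
        obtain ⟨Q, hQ⟩ := hex a ha
        exact ⟨⟨Q, a, hQ, ne_one_of_involution ha⟩, rfl⟩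
    rw [e, Nat.card_sigma, Finset.sum_congr rfl fun Q _ => klein_card_involutions Q (hQK Q),
      Finset.sum_const, Finset.card_univ, Nat.card_eq_fintype_card, smul_eq_mul, mul_comm]
  -- `P` acts semiregularly on the other Sylow subgroups
  have hmod : Nat.card (Sylow 2 G) % 4 = 1 := by
    have hb := MulAction.sum_card_fixedBy_eq_card_orbits_mul_card_group ↥(P : Subgroup G) (Sylow 2 G)
    have hfix : ∀ v : ↥(P : Subgroup G), v ≠ 1 →
        Fintype.card (MulAction.fixedBy (Sylow 2 G) v) = 1 := by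
      intro v hv
      rw [Fintype.card_eq_one_iff]
      refine ⟨⟨P, ?_⟩, ?_⟩
      · exact Sylow.smul_eq_iff_mem_normalizer.2 (le_normalizer v.2)
      · rintro ⟨Q, hQ⟩
        have hvn : (v : G) ∈ normalizer ((Q : Subgroup G) : Set G) :=
          Sylow.smul_eq_iff_mem_normalizer.1 hQ
        have hv2 : orderOf (v : G) = 2 := klein_orderOf P hPK v.2 fun h => hv (Subtype.ext h)
        have hsup := (isPGroup_two_zpowers hv2).to_sup_of_normal_right' Q.isPGroup'
          (zpowers_le.2 hvn)
        have hvQ : (v : G) ∈ Q :=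
          (Q.is_maximal' hsup le_sup_right).le (mem_sup_left (mem_zpowers (v : G)))
        exact Subtype.ext (hQeq v hv2 Q P hvQ v.2)
    rw [← Finset.add_sum_erase _ _ (Finset.mem_univ (1 : ↥(P : Subgroup G))),
      Finset.sum_congr rfl fun v hv => hfix v (Finset.mem_erase.1 hv).1, Finset.sum_const,
      Finset.card_erase_of_mem (Finset.mem_univ _), Finset.card_univ, ← Nat.card_eq_fintype_card,
      ← Nat.card_eq_fintype_card, ← Nat.card_eq_fintype_card, hPK.card_four] at hb
    have hfix1 : Nat.card (MulAction.fixedBy (Sylow 2 G) (1 : ↥(P : Subgroup G))) =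
        Nat.card (Sylow 2 G) := by
      rw [MulAction.fixedBy_one_eq_univ, Nat.card_univ]
    rw [hfix1] at hb
    simp only [smul_eq_mul] at hb
    omega
  have hn5 : Nat.card (Sylow 2 G) = 5 := by
    have hle1 : Nat.card (Sylow 2 G) ≠ 1 := by
      intro h1
      haveI : Subsingleton (Sylow 2 G) := (Nat.card_eq_one_iff_unique.1 h1).1
      exact hnot_normal (normalizer_eq_top_iff.1 (eq_top_iff.2 fun g _ =>
        Sylow.smul_eq_iff_mem_normalizer.1 (Subsingleton.elim _ _)))
    omega
  -- the order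
  have hI : (invs G).card = C.index := by
    rw [invs, ← Fintype.card_subtype, ← Nat.card_eq_fintype_card,
      ← CfsgLib.Characters.card_isConj_eq_index x]
    exact Nat.card_congr (Equiv.subtypeEquivRight fun t =>
      ⟨hone x t hx, fun h => (orderOf_eq_of_isConj h).trans hx⟩)
  have hcardC : Nat.card ↥C = 4 * S₀.relIndex C := by
    rw [relIndex, ← (S₀.subgroupOf C).card_mul_index,
      Nat.card_congr (subgroupOfEquivOfLe hle).toEquiv, hS₀4]
  have hinj : Function.Injective (MulAction.toPermHom G (Sylow 2 G)) := by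
    rw [← MonoidHom.ker_eq_bot_iff]
    refine (hnorm _ inferInstance).resolve_right fun h => hnot_normal ?_
    refine normalizer_eq_top_iff.1 (eq_top_iff.2 fun g _ => Sylow.smul_eq_iff_mem_normalizer.1 ?_)
    have hg : g ∈ (MulAction.toPermHom G (Sylow 2 G)).ker := h ▸ mem_top g
    exact congrArg (fun σ : Equiv.Perm (Sylow 2 G) => σ P) (MonoidHom.mem_ker.1 hg)
  have h120 : Nat.card G ∣ 120 := by
    have := card_dvd_of_injective _ hinj
    rwa [Nat.card_perm, hn5] at this
  have hG : Nat.card G = 60 := by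
    have h := C.card_mul_index
    rw [← hI, h3n, hn5, hcardC] at h
    rw [← h] at h120 ⊢
    have hu : S₀.relIndex C ∣ 2 := by
      have h' : 60 * S₀.relIndex C ∣ 60 * 2 := by
        rw [show 60 * S₀.relIndex C = 4 * S₀.relIndex C * (3 * 5) by ring]
        exact h120
      exact Nat.dvd_of_mul_dvd_mul_left (by norm_num) h'
    rcases (Nat.dvd_prime Nat.prime_two).1 hu with h1 | h1
    · rw [h1]
    · rw [h1] at hodd; exact absurd dvd_rfl hodd
  exact Cfsg.Agent.S0494.result hG

end CfsgLib.InvChar.KleinCentralizer
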