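import Cfsg.Agent.Lib.KnownSimple.AEight.Main
import Cfsg.Agent.Lib.KnownSimple.GLFourTwo
import Cfsg.Agent.Lib.InvChar.SmallSolvable
import Cfsg.Agent.Lib.PCore.Basic
import Cfsg.Agent.Lib.Characters.Burnside

/-!
# Nonsolvable subgroups of `A₈` without normal 2-subgroups
-/

set_option autoImplicit false

namespace CfsgLib.InvCharRankFour

open CfsgLib.KnownSimple.AEight (Good IsListed fiveCycle orderOf_fiveCycle sevenCycle orderOf_sevenCycle)

local notation "S8" => Equiv.Perm (Fin 8)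

theorem isSolvable_of_dvd_two_three {G : Type*} [Group G] [Finite G] {i j : ℕ} (h : Nat.card G ∣ 2 ^ i * 3 ^ j) :
    Group.IsSolvable G := by
  obtain ⟨a, b, ha, hb, hab⟩ := exists_dvd_and_dvd_of_dvd_mul h
  obtain ⟨a', -, rfl⟩ := (Nat.dvd_prime_pow Nat.prime_two).1 ha
  obtain ⟨b', -, rfl⟩ := (Nat.dvd_prime_pow Nat.prime_three).1 hb
  exact CfsgLib.Burnside.isSolvable_of_card_eq Nat.prime_two Nat.prime_three a' b' hab

theorem isSolvable_of_dvd_thirty {G : Type*} [Group G] [Finite G] {z : G} (hz : ∀ g, g * z = z * g)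
    {p k : ℕ} (hp : p.Prime) (ho : orderOf z = p) (hk : k ∣ 6) (h : Nat.card G ∣ p * k) : Group.IsSolvable G := by
  have hn : (Subgroup.zpowers z).Normal := ⟨fun n hn g => by
    obtain ⟨i, rfl⟩ := Subgroup.mem_zpowers_iff.1 hn
    have : Commute g (z ^ i) := Commute.zpow_right (hz g) i
    rw [this.eq, mul_inv_cancel_right]
    exact Subgroup.zpow_mem_zpowers z i⟩
  have hq : Nat.card (G ⧸ Subgroup.zpowers z) ∣ 2 ^ 1 * 3 ^ 1 := by
    refine (Nat.dvd_of_mul_dvd_mul_left hp.pos (?_ : p * _ ∣ p * k)).trans (hk.trans (by norm_num))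
    have e := Subgroup.card_eq_card_quotient_mul_card_subgroup (Subgroup.zpowers z)
    rw [Nat.card_zpowers, ho, mul_comm] at e
    exact e ▸ h
  have := isSolvable_of_dvd_two_three hq
  exact Group.isSolvable_of_ker_le_range (Subgroup.zpowers z).subtype
    (QuotientGroup.mk' (Subgroup.zpowers z)) (by simp)

theorem cycleType_five {σ : S8} (h : orderOf σ = 5) : σ.cycleType = {5} :=
  CfsgLib.KnownSimple.AEight.cycleType_of_orderOf (by norm_num) le_rfl h

theorem card_centralizer_five {σ : S8} (h : orderOf σ = 5) :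
    Nat.card (Subgroup.centralizer ({σ} : Set S8)) = 5 * 6 := by
  rw [Equiv.Perm.nat_card_centralizer, cycleType_five h]
  decide

theorem card_centralizer_seven {σ : S8} (h : orderOf σ = 7) :
    Nat.card (Subgroup.centralizer ({σ} : Set S8)) = 7 := by
  rw [Equiv.Perm.nat_card_centralizer,
    CfsgLib.KnownSimple.AEight.cycleType_of_orderOf (by norm_num) (by norm_num) h]
  decide

theorem isSolvable_centralizer {σ : S8} (h : orderOf σ = 5 ∨ orderOf σ = 7) :
    Group.IsSolvable (Subgroup.centralizer ({σ} : Set S8)) := by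
  have hmem : σ ∈ Subgroup.centralizer ({σ} : Set S8) := Subgroup.mem_centralizer_singleton_iff.2 rfl
  have hz : ∀ g : Subgroup.centralizer ({σ} : Set S8), g * ⟨σ, hmem⟩ = ⟨σ, hmem⟩ * g := fun g =>
    Subtype.ext (Subgroup.mem_centralizer_singleton_iff.1 g.2)
  rcases h with h | h
  · exact isSolvable_of_dvd_thirty hz (p := 5) (k := 6) (by norm_num) (by rw [← Subgroup.orderOf_coe]; exact h)
      dvd_rfl (card_centralizer_five h).dvd
  · exact isSolvable_of_dvd_thirty hz (p := 7) (k := 1) (by norm_num) (by rw [← Subgroup.orderOf_coe]; exact h)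
      (one_dvd _) (card_centralizer_seven h).dvd

theorem card_eq_of_isPGroup {H : Subgroup S8} (hle : H ≤ alternatingGroup (Fin 8)) {p : ℕ} (hp : p.Prime)
    (N : Subgroup H) (hN : IsPGroup p N) (hne : N ≠ ⊥) :
    p = 2 ∨ (p = 3 ∧ Nat.card N ∣ 9) ∨ ((p = 5 ∨ p = 7) ∧ Nat.card N = p) := by
  have : Fact p.Prime := ⟨hp⟩
  obtain ⟨k, hk⟩ := IsPGroup.iff_card.1 hN
  have hd : Nat.card N ∣ 2 ^ 6 * 3 ^ 2 * 5 * 7 := by
    have := ((Subgroup.card_subgroup_dvd_card N).trans (Subgroup.card_dvd_of_le hle))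
    rwa [CfsgLib.KnownSimple.AEight.card_alt_eight] at this
  have hk0 : k ≠ 0 := fun h => hne (Subgroup.card_eq_one.1 (by rw [hk, h, pow_zero]))
  rw [hk] at hd ⊢
  have hpd : p ∣ 2 ^ 6 * 3 ^ 2 * 5 * 7 := (dvd_pow_self p hk0).trans hd
  rcases (Nat.Prime.dvd_mul hp).1 hpd with h | h
  swap
  · rw [Nat.prime_dvd_prime_iff_eq hp (by norm_num)] at h
    subst h
    refine Or.inr (Or.inr ⟨Or.inr rfl, ?_⟩)
    have h1 : 7 ^ k ∣ 7 :=
      (Nat.Coprime.pow_left k (by norm_num : Nat.Coprime 7 (2 ^ 6 * 3 ^ 2 * 5))).dvd_of_dvd_mul_left hd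
    exact ((Nat.dvd_prime (by norm_num)).1 h1).resolve_left (Nat.one_lt_pow hk0 (by norm_num)).ne'
  rcases (Nat.Prime.dvd_mul hp).1 h with h | h
  swap
  · rw [Nat.prime_dvd_prime_iff_eq hp (by norm_num)] at h
    subst h
    refine Or.inr (Or.inr ⟨Or.inl rfl, ?_⟩)
    have h1 : 5 ^ k ∣ 5 := by
      refine (Nat.Coprime.pow_left k (by norm_num : Nat.Coprime 5 (2 ^ 6 * 3 ^ 2 * 7))).dvd_of_dvd_mul_left ?_
      exact hd.trans (by norm_num)
    exact ((Nat.dvd_prime (by norm_num)).1 h1).resolve_left (Nat.one_lt_pow hk0 (by norm_num)).ne'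
  rcases (Nat.Prime.dvd_mul hp).1 h with h | h
  · exact Or.inl ((Nat.prime_dvd_prime_iff_eq hp Nat.prime_two).1 (hp.dvd_of_dvd_pow h))
  · have := (Nat.prime_dvd_prime_iff_eq hp Nat.prime_three).1 (hp.dvd_of_dvd_pow h)
    subst this
    refine Or.inr (Or.inl ⟨rfl, ?_⟩)
    exact (Nat.Coprime.pow_left k (by norm_num : Nat.Coprime 3 (2 ^ 6 * 5 * 7))).dvd_of_dvd_mul_left
      (hd.trans (by norm_num))

theorem exists_order_five_or_seven {H : Subgroup S8} (hle : H ≤ alternatingGroup (Fin 8))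
    (hns : ¬ Group.IsSolvable H) : ∃ σ : H, orderOf σ = 5 ∨ orderOf σ = 7 := by
  have : Fact (Nat.Prime 5) := ⟨by norm_num⟩
  have : Fact (Nat.Prime 7) := ⟨by norm_num⟩
  by_cases h5 : 5 ∣ Nat.card H
  · obtain ⟨σ, h⟩ := exists_prime_orderOf_dvd_card' 5 h5
    exact ⟨σ, Or.inl h⟩
  by_cases h7 : 7 ∣ Nat.card H
  · obtain ⟨σ, h⟩ := exists_prime_orderOf_dvd_card' 7 h7
    exact ⟨σ, Or.inr h⟩
  refine absurd (isSolvable_of_dvd_two_three (i := 6) (j := 2) ?_) hns
  have h : Nat.card H ∣ 2 ^ 6 * 3 ^ 2 * (5 * 7) := by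
    have := Subgroup.card_dvd_of_le hle
    rwa [CfsgLib.KnownSimple.AEight.card_alt_eight] at this
  exact (Nat.Coprime.mul_right ((Nat.Prime.coprime_iff_not_dvd (by norm_num)).2 h5).symm
    ((Nat.Prime.coprime_iff_not_dvd (by norm_num)).2 h7).symm).dvd_of_dvd_mul_right h

/-- An element of order `p` normalizing a normal 3-subgroup of order at most 9 centralizes it. -/
theorem commute_of_order {H : Type*} [Group H] [Finite H] {N : Subgroup H} [N.Normal] {p : ℕ}
    (hp : p = 5 ∨ p = 7) {σ : H} (hσ : orderOf σ = p) (hN : Nat.card N ∣ 9) :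
    ∀ z ∈ N, σ * z = z * σ := by
  classical
  have hpp : p.Prime := by rcases hp with rfl | rfl <;> norm_num
  have : Fact p.Prime := ⟨hpp⟩
  let P := Subgroup.zpowers σ
  let act : P →* MulAut N := MulAut.conjNormal.comp P.subtype
  let _ : MulAction P N := MulAction.compHom N act
  have hsm : ∀ (g : P) (z : N), ((g • z : N) : H) = (g : H) * z * (g : H)⁻¹ := fun g z =>
    MulAut.conjNormal_apply (g : H) z
  have hP : IsPGroup p P := IsPGroup.of_card (n := 1) (by rw [Nat.card_zpowers, hσ, pow_one])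
  have hmod := hP.card_modEq_card_fixedPoints N
  let Fx : Subgroup N :=
    { carrier := {z | ∀ g : P, g • z = z}
      one_mem' := fun g => map_one (act g)
      mul_mem' := fun {a b} ha hb g => (map_mul (act g) a b).trans (congrArg₂ (· * ·) (ha g) (hb g))
      inv_mem' := fun {a} ha g => (map_inv (act g) a).trans (congrArg (·⁻¹) (ha g)) }
  have hFx : Nat.card (MulAction.fixedPoints P N) = Nat.card Fx := rfl
  rw [hFx] at hmod
  have hd := (Subgroup.card_subgroup_dvd_card Fx).trans hN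
  have htop : Fx = ⊤ := by
    apply Subgroup.eq_top_of_card_eq
    have h1 : Nat.card Fx ∣ Nat.card N := Subgroup.card_subgroup_dvd_card Fx
    have hmem : Nat.card N ∈ ({1, 3, 9} : Finset ℕ) := by
      rw [show ({1, 3, 9} : Finset ℕ) = Nat.divisors 9 by decide, Nat.mem_divisors]
      exact ⟨hN, by norm_num⟩
    have hmem' : Nat.card Fx ∈ ({1, 3, 9} : Finset ℕ) := by
      rw [show ({1, 3, 9} : Finset ℕ) = Nat.divisors 9 by decide, Nat.mem_divisors]
      exact ⟨hd, by norm_num⟩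
    simp only [Finset.mem_insert, Finset.mem_singleton] at hmem hmem'
    unfold Nat.ModEq at hmod
    rcases hp with rfl | rfl <;> omega
  intro z hz
  have h := htop.ge (Subgroup.mem_top (⟨z, hz⟩ : N)) ⟨σ, Subgroup.mem_zpowers σ⟩
  have h' := congrArg Subtype.val h
  rw [hsm] at h'
  exact mul_inv_eq_iff_eq_mul.1 h'

theorem isSolvable_of_le_centralizer {H : Subgroup S8} {σ : S8} (h : orderOf σ = 5 ∨ orderOf σ = 7)
    (K : Subgroup H) (hK : ∀ g ∈ K, (g : S8) * σ = σ * g) : Group.IsSolvable K := by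
  have := isSolvable_centralizer h
  refine Group.isSolvable_of_isSolvable_injective (f := MonoidHom.mk'
    (fun g : K => (⟨(g : S8), Subgroup.mem_centralizer_singleton_iff.2 (hK g g.2)⟩ : Subgroup.centralizer ({σ} : Set S8)))
    fun a b => rfl) fun a b hab => ?_
  exact Subtype.ext (Subtype.ext (congrArg (fun x : Subgroup.centralizer ({σ} : Set S8) => (x : S8)) hab))

/-- Nonsolvable subgroups of `A₈` with trivial 2-core. -/
theorem subgroup_cases {H : Subgroup S8} (hle : H ≤ alternatingGroup (Fin 8)) (hns : ¬ Group.IsSolvable H)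
    (h2 : Cfsg.pCore 2 H = ⊥) :
    IsListed H ∨ (Nat.card (Cfsg.pCore 3 H) = 3 ∧
      ∃ R : Subgroup (Equiv.Perm (Fin 5)), ¬ Group.IsSolvable R ∧ Nonempty (H ⧸ Cfsg.pCore 3 H ≃* R)) := by
  classical
  have hne : H ≠ ⊥ := by
    rintro rfl
    exact hns inferInstance
  by_cases hgood : ∀ p : ℕ, p.Prime → ∀ N : Subgroup H, N.Normal → IsPGroup p N → N = ⊥
  · exact Or.inl (CfsgLib.KnownSimple.AEight.Good.isListed ⟨hle, hne, hgood⟩)
  right
  push Not at hgood
  obtain ⟨p, hp, N, hN, hpN, hN1⟩ := hgood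
  rcases card_eq_of_isPGroup hle hp N hpN hN1 with rfl | ⟨rfl, h9⟩ | ⟨hp5, hcard⟩
  · exact absurd (le_bot_iff.1 (h2 ▸ CfsgLib.PCore.le_pCore hN hpN)) hN1
  swap
  · exfalso
    have hcp : Nat.card N = p := hcard
    have : Fact p.Prime := ⟨hp⟩
    have hcyc : IsCyclic N := isCyclic_of_prime_card hcp
    obtain ⟨z, hz⟩ := exists_prime_orderOf_dvd_card' p (G := N) hcp.symm.dvd
    have hzo : orderOf (((z : H) : S8)) = p := by rw [Subgroup.orderOf_coe, Subgroup.orderOf_coe]; exact hz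
    have hsol : Group.IsSolvable (MulAut.conjNormal : H →* MulAut N).ker := by
      refine isSolvable_of_le_centralizer (σ := ((z : H) : S8)) (by rcases hp5 with rfl | rfl <;> tauto) _ fun g hg => ?_
      have h := congrArg (fun φ : MulAut N => ((φ z : N) : H)) (MonoidHom.mem_ker.1 hg)
      simp only [MulAut.conjNormal_apply, MulAut.one_apply] at h
      exact congrArg Subtype.val (mul_inv_eq_iff_eq_mul.1 h)
    have hab : ∀ φ ψ : MulAut N, φ * ψ = ψ * φ := fun φ ψ => (IsCyclic.mulAutMulEquiv N).injective (by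
      rw [map_mul, map_mul, mul_comm])
    have : Group.IsSolvable (MulAut N) := Group.isSolvable_of_comm hab
    exact hns (Group.isSolvable_of_ker_le_range (MulAut.conjNormal : H →* MulAut N).ker.subtype
      MulAut.conjNormal (Subgroup.range_subtype _).ge)
  have : Fact (Nat.Prime 3) := ⟨Nat.prime_three⟩
  set O := Cfsg.pCore 3 H with hO
  have hOn : O.Normal := Cfsg.pCore_normal 3 H
  have hOp : IsPGroup 3 O := CfsgLib.PCore.pCore_isPGroup
  have hO1 : O ≠ ⊥ := fun h => hN1 (le_bot_iff.1 (h ▸ CfsgLib.PCore.le_pCore hN hpN))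
  have hO9 : Nat.card O ∣ 9 := by
    rcases card_eq_of_isPGroup hle Nat.prime_three O hOp hO1 with h | ⟨-, h⟩ | ⟨h, -⟩
    · omega
    · exact h
    · omega
  obtain ⟨σ, hσ⟩ := exists_order_five_or_seven hle hns
  have hcomm : ∀ z ∈ O, σ * z = z * σ := commute_of_order (p := orderOf σ) (by omega) rfl hO9
  have hdC : Nat.card O ∣ Nat.card (Subgroup.centralizer ({(σ : S8)} : Set S8)) := by
    refine Subgroup.card_dvd_of_injective (MonoidHom.mk' (fun z : O =>
      (⟨((z : H) : S8), Subgroup.mem_centralizer_singleton_iff.2 (congrArg Subtype.val (hcomm z z.2)).symm⟩ :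
        Subgroup.centralizer ({(σ : S8)} : Set S8))) fun a b => rfl) fun a b hab => ?_
    exact Subtype.ext (Subtype.ext (congrArg (fun x : Subgroup.centralizer ({(σ : S8)} : Set S8) => (x : S8)) hab))
  have hσ' : orderOf (σ : S8) = 5 ∨ orderOf (σ : S8) = 7 := by rw [Subgroup.orderOf_coe]; exact hσ
  have hσ5 : orderOf (σ : S8) = 5 := by
    refine hσ'.resolve_right fun h7 => hO1 (Subgroup.card_eq_one.1 ?_)
    rw [card_centralizer_seven h7] at hdC
    exact Nat.eq_one_of_dvd_coprimes (by norm_num : Nat.Coprime 9 7) hO9 hdC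
  have hO3 : Nat.card O = 3 := by
    rw [card_centralizer_five hσ5] at hdC
    have h3 : Nat.card O ∣ 3 := by have := Nat.dvd_gcd hdC hO9; exact this.trans (by decide)
    exact ((Nat.dvd_prime Nat.prime_three).1 h3).resolve_left fun h => hO1 (Subgroup.card_eq_one.1 h)
  refine ⟨hO3, ?_⟩
  obtain ⟨z, hz⟩ := exists_prime_orderOf_dvd_card' 3 (G := O) hO3.symm.dvd
  set w : S8 := ((z : H) : S8) with hw
  have hwo : orderOf w = 3 := by rw [hw, Subgroup.orderOf_coe, Subgroup.orderOf_coe]; exact hz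
  have hwC : (σ : S8) ∈ Subgroup.centralizer ({w} : Set S8) :=
    Subgroup.mem_centralizer_singleton_iff.2 (congrArg Subtype.val (hcomm z z.2))
  have hw3 : w.support.card = 3 := by
    obtain ⟨n, hn⟩ := Equiv.Perm.cycleType_prime_order (hwo.symm ▸ Nat.prime_three : (orderOf w).Prime)
    rw [hwo] at hn
    have hsum := w.sum_cycleType
    have hle8 : w.support.card ≤ 8 := (Finset.card_le_univ _).trans (by simp)
    rw [hn, Multiset.sum_replicate, smul_eq_mul] at hsum
    rcases (show n = 0 ∨ n = 1 by omega) with rfl | rfl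
    · omega
    · exfalso
      have h5 : 5 ∣ Nat.card (Subgroup.centralizer ({w} : Set S8)) := by
        have := orderOf_dvd_natCard (⟨(σ : S8), hwC⟩ : Subgroup.centralizer ({w} : Set S8))
        rwa [← Subgroup.orderOf_coe, hσ5] at this
      rw [Equiv.Perm.nat_card_centralizer, hn] at h5
      revert h5
      decide
  have hOz : ∀ y ∈ O, ∃ k : ℕ, (y : H) = (z : H) ^ k := by
    intro y hy
    have h := Subgroup.eq_top_of_card_eq (Subgroup.zpowers z) (by rw [Nat.card_zpowers, hz, hO3])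
    obtain ⟨k, hk⟩ := mem_powers_iff_mem_zpowers.2 (h ▸ Subgroup.mem_top (⟨y, hy⟩ : O) : (⟨y, hy⟩ : O) ∈ Subgroup.zpowers z)
    exact ⟨k, (congrArg Subtype.val hk).symm⟩
  set T := w.support with hT
  have hTinv : ∀ (h : H) (i : Fin 8), (h : S8) i ∈ T ↔ i ∈ T := by
    have key : ∀ (h : H), ∀ i ∈ T, (h : S8) i ∈ T := by
      intro h i hi
      obtain ⟨k, hk⟩ := hOz (h * (z : H) * h⁻¹) (hOn.conj_mem z z.2 h)
      have hk' : (h : S8) * w * (h : S8)⁻¹ = w ^ k := congrArg Subtype.val hk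
      have hm : (h : S8) i ∈ ((h : S8) * w * (h : S8)⁻¹).support := by
        rw [Equiv.Perm.support_conj]
        exact Finset.mem_map.2 ⟨i, hi, rfl⟩
      rw [hk'] at hm
      exact Equiv.Perm.support_pow_le w k hm
    intro h i
    refine ⟨fun hi => ?_, key h i⟩
    have := key h⁻¹ _ hi
    simpa using this
  let ρ : H →* Equiv.Perm {i : Fin 8 // i ∉ T} := MonoidHom.mk'
    (fun h => (h : S8).subtypePerm fun i => not_congr (hTinv h i)) (fun a b => rfl)
  have hker3 : Nat.card ρ.ker ≤ 3 := by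
    let f : ρ.ker →* Equiv.Perm {i : Fin 8 // i ∈ T} := MonoidHom.mk'
      (fun h => ((h : H) : S8).subtypePerm fun i => hTinv h i) (fun a b => rfl)
    have hfix : ∀ (h : ρ.ker) (i : Fin 8), i ∉ T → ((h : H) : S8) i = i := fun h i hi =>
      congrArg Subtype.val (Equiv.ext_iff.1 (MonoidHom.mem_ker.1 h.2) ⟨i, hi⟩)
    have hmov : ∀ (h : ρ.ker) (i : Fin 8), ((h : H) : S8) i ≠ i → i ∈ T := fun h i hi =>
      by_contra fun hn => hi (hfix h i hn)
    have hf : Function.Injective f := fun a b hab => by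
      apply Subtype.ext; apply Subtype.ext
      rw [← Equiv.Perm.ofSubtype_subtypePerm (fun i => hTinv a i) (hmov a),
        ← Equiv.Perm.ofSubtype_subtypePerm (fun i => hTinv b i) (hmov b)]
      exact congrArg Equiv.Perm.ofSubtype hab
    have hcT : Fintype.card {i : Fin 8 // i ∈ T} = 3 := by rw [Fintype.card_coe]; exact hw3
    have : Nontrivial {i : Fin 8 // i ∈ T} := Fintype.one_lt_card_iff_nontrivial.1 (by omega)
    have hA : Nat.card (alternatingGroup {i : Fin 8 // i ∈ T}) = 3 := by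
      rw [nat_card_alternatingGroup, Nat.card_eq_fintype_card, hcT]; rfl
    rw [← hA]
    refine Nat.card_le_card_of_injective (fun h => (⟨f h, ?_⟩ : alternatingGroup {i : Fin 8 // i ∈ T}))
      fun a b hab => hf (congrArg Subtype.val hab)
    rw [Equiv.Perm.mem_alternatingGroup, ← Equiv.Perm.sign_ofSubtype]
    show Equiv.Perm.sign (Equiv.Perm.ofSubtype (((h : H) : S8).subtypePerm fun i => hTinv h i)) = 1
    rw [Equiv.Perm.ofSubtype_subtypePerm _ (hmov h)]
    exact Equiv.Perm.mem_alternatingGroup.1 (hle (h : H).2)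
  have hOker : O ≤ ρ.ker := fun y hy => by
    obtain ⟨k, rfl⟩ := hOz y hy
    refine MonoidHom.mem_ker.2 (Equiv.ext fun i => Subtype.ext ?_)
    have hi : (w ^ k) i.1 = i.1 := Equiv.Perm.notMem_support.1 fun hm => i.2 (Equiv.Perm.support_pow_le w k hm)
    exact hi
  have hkerO : ρ.ker = O := (Subgroup.eq_of_le_of_card_ge hOker (by rw [hO3]; exact hker3)).symm
  have h5 : Fintype.card {i : Fin 8 // i ∉ T} = 5 := by
    rw [Fintype.card_subtype_compl, Fintype.card_coe, Fintype.card_fin, hw3]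
  let e5 : Equiv.Perm {i : Fin 8 // i ∉ T} ≃* Equiv.Perm (Fin 5) := (Fintype.equivFinOfCardEq h5).permCongrHom
  let f5 : H →* Equiv.Perm (Fin 5) := e5.toMonoidHom.comp ρ
  have hker5 : f5.ker = O := by
    rw [← hkerO]; ext y
    simp [f5, MonoidHom.mem_ker]
  refine ⟨f5.range, fun h => hns ?_, ⟨(QuotientGroup.quotientMulEquivOfEq hker5.symm).trans
    (QuotientGroup.quotientKerEquivRange f5)⟩⟩
  have hOs : Group.IsSolvable O := CfsgLib.InvCharSmall.isSolvable_of_forall_orderOf 3 hOp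
  exact Group.isSolvable_of_ker_le_range O.subtype f5.rangeRestrict (by
    rw [MonoidHom.ker_rangeRestrict, hker5, Subgroup.range_subtype])

/-- Nonsolvable subgroups of `S₅`. -/
theorem subgroup_perm_five (R : Subgroup (Equiv.Perm (Fin 5))) (hR : ¬ Group.IsSolvable R) :
    Nonempty (R ≃* alternatingGroup (Fin 5)) ∨ Nonempty (R ≃* Equiv.Perm (Fin 5)) := by
  classical
  suffices alternatingGroup (Fin 5) ≤ R by
    rcases CfsgLib.KnownSimple.AEight.eq_alt_or_top this with h | h
    · exact Or.inl ⟨MulEquiv.subgroupCongr h⟩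
    · exact Or.inr ⟨(MulEquiv.subgroupCongr h).trans Subgroup.topEquiv⟩
  set A := alternatingGroup (Fin 5) with hA
  have hA60 : Nat.card A = 60 := by
    rw [hA, nat_card_alternatingGroup, Nat.card_eq_fintype_card, Fintype.card_fin]; decide
  have hsimp : IsSimpleGroup A := alternatingGroup.isSimpleGroup_five
  set K := R.subgroupOf A with hK
  have hKns : ¬ Group.IsSolvable K := fun h => hR (Group.isSolvable_of_ker_le_range
    ((Subgroup.inclusion (inf_le_left : R ⊓ A ≤ R)).comp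
      (MonoidHom.mk' (fun k : K => (⟨(k : A), k.2, (k : A).2⟩ : (R ⊓ A : Subgroup (Equiv.Perm (Fin 5))))) fun a b => rfl))
    ((Equiv.Perm.sign : Equiv.Perm (Fin 5) →* ℤˣ).comp R.subtype) (fun r hr =>
      ⟨⟨⟨r, Equiv.Perm.mem_alternatingGroup.2 hr⟩, r.2⟩, rfl⟩))
  suffices K = ⊤ by
    intro a ha
    exact (this ▸ Subgroup.mem_top (⟨a, ha⟩ : A) : (⟨a, ha⟩ : A) ∈ K)
  by_contra hne
  have hidx : K.index ≠ 2 := by
    intro h
    rcases hsimp.eq_bot_or_eq_top_of_normal K (Subgroup.normal_of_index_eq_two h) with h' | h'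
    · rw [h'] at hKns; exact hKns inferInstance
    · exact hne h'
  have h1 : K.index ≠ 1 := fun h => hne (Subgroup.index_eq_one.1 h)
  have hmul : Nat.card K * K.index = 60 := by rw [Subgroup.card_mul_index, hA60]
  have hmem : Nat.card K ∈ Nat.divisors 60 := Nat.mem_divisors.2 ⟨Dvd.intro _ hmul, by norm_num⟩
  have hcases : Nat.card K ∣ 2 ^ 2 * 3 ∨ ∃ p, p.Prime ∧ ∃ a b, Nat.card K = p ^ a * 5 ^ b := by
    have hd : Nat.divisors 60 = {1, 2, 3, 4, 5, 6, 10, 12, 15, 20, 30, 60} := by decide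
    rw [hd] at hmem
    simp only [Finset.mem_insert, Finset.mem_singleton] at hmem
    rcases hmem with h | h | h | h | h | h | h | h | h | h | h | h <;> rw [h] at hmul ⊢
    all_goals first
      | omega
      | (left; decide)
      | (refine Or.inr ⟨2, Nat.prime_two, 0, 1, ?_⟩; decide)
      | (refine Or.inr ⟨2, Nat.prime_two, 1, 1, ?_⟩; decide)
      | (refine Or.inr ⟨2, Nat.prime_two, 2, 1, ?_⟩; decide)
      | (refine Or.inr ⟨3, Nat.prime_three, 1, 1, ?_⟩; decide)
  rcases hcases with h | ⟨p, hp, a, b, h⟩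
  · exact hKns (isSolvable_of_dvd_two_three (i := 2) (j := 1) (by simpa using h))
  · exact hKns (CfsgLib.Burnside.isSolvable_of_card_eq hp (by norm_num) a b h)

theorem units_eq_one (u : (ZMod 2)ˣ) : u = 1 := by
  revert u; decide

/-- `GL₃(2) = PSL₃(2)`. -/
noncomputable def glThreeEquivPSL :
    GL (Fin 3) (ZMod 2) ≃* Matrix.ProjectiveSpecialLinearGroup (Fin 3) (ZMod 2) :=
  let ι : Matrix.SpecialLinearGroup (Fin 3) (ZMod 2) →* GL (Fin 3) (ZMod 2) := Matrix.SpecialLinearGroup.toGL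
  (MulEquiv.ofBijective ι ⟨Matrix.SpecialLinearGroup.toGL_injective, fun g => ⟨⟨g.val, by
      rw [← Matrix.GeneralLinearGroup.val_det_apply, units_eq_one (Matrix.GeneralLinearGroup.det g), Units.val_one]⟩,
      Units.ext rfl⟩⟩).symm.trans
    (QuotientGroup.quotientBot.symm.trans (QuotientGroup.quotientMulEquivOfEq (by
      symm
      rw [eq_bot_iff]
      intro z hz
      obtain ⟨r, hr, hz'⟩ := Matrix.SpecialLinearGroup.mem_center_iff.1 hz
      rw [Subgroup.mem_bot]
      refine Subtype.ext ?_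
      have hr1 : r = 1 :=
        (by decide : ∀ r : ZMod 2, r ^ Fintype.card (Fin 3) = 1 → r = 1) r hr
      rw [← hz', hr1, map_one]
      rfl)))

end CfsgLib.InvCharRankFour
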