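import Cfsg.Agent.Lib.InvChar.HermNoSymThree
import Cfsg.Agent.Lib.PCore.Basic
import Cfsg.Prelude.Def_Transfer

/-!
# The automorphism group of the Sylow 2-subgroup of `SU₃(q)`, `q` a power of two
-/

set_option autoImplicit false
set_option linter.unusedSectionVars false

namespace CfsgLib.InvCharHermAut

open CfsgLib.InvCharThree CfsgLib.ClassicalGroups

variable {F : Type*} [Field F] [Fintype F] {q : ℕ}
  [hh : Fact (Fintype.card F = q ^ 2)] [hev : Fact (Even q)]

omit hh hev in
instance instFiniteHerm : Finite (Herm F q) := Finite.of_equiv _ hermEquiv.symm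

include hh hev

noncomputable local instance hermInst : Group (Herm F q) := hermGroup hh.out hev.out

theorem add_self' (a : F) : a + a = 0 := by
  rw [← two_mul, two_eq_zero hh.out hev.out, zero_mul]

theorem two_le_q : 2 ≤ q := herm_two_le hh.out

theorem q_ne_zero : q ≠ 0 := by have := two_le_q (F := F) (q := q); omega

theorem pow_q_add (a b : F) : (a + b) ^ q = a ^ q + b ^ q := by
  simp only [← hermConj_apply hh.out, map_add]

theorem pow_q_q (a : F) : (a ^ q) ^ q = a := hermConj_conj hh.out a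

theorem zero_pow_q : (0 : F) ^ q = 0 := zero_pow (q_ne_zero (F := F))

variable (F q) in
/-- The fixed field of the conjugation, additively. -/
def fx : AddSubgroup F where
  carrier := {x | x ^ q = x}
  zero_mem' := zero_pow_q
  add_mem' := fun {x y} (hx : x ^ q = x) (hy : y ^ q = y) => show (x + y) ^ q = x + y by
    rw [pow_q_add, hx, hy]
  neg_mem' := fun {x} (hx : x ^ q = x) => show (-x) ^ q = -x by
    rw [neg_eq_of_add_eq_zero_left (add_self' (q := q) x), hx]

theorem mem_fx {x : F} : x ∈ fx F q ↔ x ^ q = x := Iff.rfl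

theorem trace_mem (a : F) : a + a ^ q ∈ fx F q := by
  rw [mem_fx, pow_q_add, pow_q_q, add_comm]

theorem trace_eq_zero {a : F} : a + a ^ q = 0 ↔ a ∈ fx F q := by
  rw [mem_fx]
  constructor
  · intro h
    calc a ^ q = a + (a + a ^ q) := by rw [← add_assoc, add_self' (q := q), zero_add]
      _ = a := by rw [h, add_zero]
  · intro h; rw [h, add_self' (q := q)]

theorem card_fx : Nat.card (fx F q) = q := by
  refine Eq.trans ?_ (card_trace_fibre hh.out hev.out (c := (0 : F)) zero_pow_q)
  exact Nat.card_congr (Equiv.subtypeEquivRight fun x => trace_eq_zero.symm)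

theorem exists_not_fixed : ∃ ω : F, ω ∉ fx F q := by
  by_contra! h
  have e : fx F q = ⊤ := eq_top_iff.2 fun x _ => h x
  have := card_fx (F := F) (q := q)
  rw [e, AddSubgroup.card_top, Nat.card_eq_fintype_card, hh.out, pow_two] at this
  have := two_le_q (F := F) (q := q)
  nlinarith

/-- Fixed elements are squares of fixed elements. -/
theorem fx_sqrt {c : F} (hc : c ∈ fx F q) : ∃ r ∈ fx F q, r * r = c := by
  obtain ⟨k, hk⟩ := hev.out
  refine ⟨c ^ k, ?_, ?_⟩
  · rw [mem_fx, ← pow_mul, mul_comm, pow_mul, mem_fx.1 hc]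
  · rw [← pow_add, ← hk, mem_fx.1 hc]

theorem fixed_norm {r : F} (hr : r ∈ fx F q) : r ^ (q + 1) = r * r := by
  rw [pow_succ, mem_fx.1 hr]

/-- A bijective additive map transforming the norm is semilinear. -/
theorem semilinear_of_norm (L : F →+ F) (hL : Function.Bijective L) (ψ : F → F)
    (hψ : ∀ x ∈ fx F q, ∀ y ∈ fx F q, ψ (x + y) = ψ x + ψ y)
    (hN : ∀ a, L a ^ (q + 1) = ψ (a ^ (q + 1))) :
    ∃ (c : Fˣ) (σ : F ≃+* F), ∀ a, L a = c * σ a := by
  obtain ⟨ω, hω⟩ := exists_not_fixed (F := F) (q := q)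
  -- the norm form polarizes to the trace form
  have hpol : ∀ a b : F, (a + b) ^ (q + 1) = a ^ (q + 1) + b ^ (q + 1) + (a ^ q * b + b ^ q * a) := by
    intro a b; rw [pow_succ, pow_succ, pow_succ, pow_q_add]; ring
  have hψ0 : ψ 0 = 0 := by
    have h := hN 0
    rwa [map_zero, zero_pow (Nat.succ_ne_zero q), eq_comm] at h
  have htr : ∀ a b : F, a ^ q * b + b ^ q * a ∈ fx F q := by
    intro a b; rw [mem_fx, pow_q_add, mul_pow, mul_pow, pow_q_q, pow_q_q]; ring
  have hnm : ∀ a : F, a ^ (q + 1) ∈ fx F q := fun a => norm_fixed hh.out a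
  have hT : ∀ a b, L a ^ q * L b + L b ^ q * L a = ψ (a ^ q * b + b ^ q * a) := by
    intro a b
    have h := hpol (L a) (L b)
    rw [← map_add, hN, hN, hN, hpol a b, hψ _ (add_mem (hnm a) (hnm b)) _ (htr a b),
      hψ _ (hnm a) _ (hnm b)] at h
    exact (add_left_cancel h).symm
  have hc0 : L 1 ≠ 0 := fun h => one_ne_zero (hL.1 (h.trans (map_zero L).symm))
  let M : F →+ F := (AddMonoidHom.mulLeft (L 1)⁻¹).comp L
  have hM : ∀ a, M a = (L 1)⁻¹ * L a := fun _ => rfl
  have hM1 : M 1 = 1 := inv_mul_cancel₀ hc0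
  have hMinj : ∀ a b, M a = M b → a = b := fun a b h => hL.1 (mul_left_cancel₀ (inv_ne_zero hc0) h)
  have hMT0 : ∀ a b, a ^ q * b + b ^ q * a = 0 → M a ^ q * M b + M b ^ q * M a = 0 := by
    intro a b h
    have h' : L a ^ q * L b + L b ^ q * L a = 0 := by rw [hT, h, hψ0]
    calc M a ^ q * M b + M b ^ q * M a
        = ((L 1)⁻¹ ^ q * (L 1)⁻¹) * (L a ^ q * L b + L b ^ q * L a) := by
          simp only [hM, mul_pow]; ring
      _ = 0 := by rw [h', mul_zero]
  have hratio : ∀ x ∈ fx F q, ∀ a, a ≠ 0 → ∃ f ∈ fx F q, M (x * a) = f * M a := by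
    intro x hx a ha
    have hMa : M a ≠ 0 := fun h => ha (hMinj a 0 (h.trans (map_zero M).symm))
    refine ⟨M (x * a) / M a, ?_, (div_mul_cancel₀ _ hMa).symm⟩
    have h := hMT0 (x * a) a (by
      rw [mul_pow, mem_fx.1 hx, mul_assoc, mul_left_comm (a ^ q) x a, add_self' (q := q)])
    rw [mem_fx, div_pow, div_eq_div_iff (pow_ne_zero _ hMa) hMa]
    calc M (x * a) ^ q * M a = M (x * a) ^ q * M a + (M (x * a) ^ q * M a + M a ^ q * M (x * a)) := by
          rw [h, add_zero]
      _ = M (x * a) * M a ^ q := by rw [← add_assoc, add_self' (q := q), zero_add, mul_comm]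
  have hg : ∀ x ∈ fx F q, M x ∈ fx F q := by
    intro x hx
    obtain ⟨f, hf, he⟩ := hratio x hx 1 one_ne_zero
    rw [mul_one, hM1, mul_one] at he
    rwa [he]
  have hout : ∀ a, a ∉ fx F q → M a ∉ fx F q := by
    intro a ha hma
    let G : fx F q → fx F q := fun x => ⟨M x, hg x x.2⟩
    have hG : Function.Injective G := fun x y h => Subtype.ext (hMinj _ _ (congrArg Subtype.val h))
    obtain ⟨x, hx⟩ := Finite.surjective_of_injective hG ⟨M a, hma⟩
    exact ha (hMinj _ _ (congrArg Subtype.val hx) ▸ x.2)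
  have hindep : ∀ u ∈ fx F q, ∀ v ∈ fx F q, ∀ z : F, z ∉ fx F q → u + v * z = 0 → v = 0 := by
    intro u hu v hv z hz h
    by_contra hv0
    apply hz
    have e : z = u / v := by
      rw [add_eq_zero_iff_eq_neg, eq_comm, neg_eq_iff_eq_neg,
        neg_eq_of_add_eq_zero_left (add_self' (q := q) u)] at h
      rw [← h, mul_div_cancel_left₀ _ hv0]
    rw [e, mem_fx, div_pow, mem_fx.1 hu, mem_fx.1 hv]
  -- semilinearity off the fixed field
  have hlin : ∀ x ∈ fx F q, ∀ a, a ∉ fx F q → M (x * a) = M x * M a := by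
    intro x hx a ha
    have ha0 : a ≠ 0 := fun h => ha (h ▸ zero_mem _)
    have ha1 : (1 : F) + a ≠ 0 := fun h => ha (by
      rw [add_eq_zero_iff_eq_neg, neg_eq_of_add_eq_zero_left (add_self' (q := q) a)] at h
      rw [← h]; exact one_pow q)
    obtain ⟨f, hf, he⟩ := hratio x hx a ha0
    obtain ⟨f', hf', he'⟩ := hratio x hx (1 + a) ha1
    rw [mul_add, mul_one, map_add, map_add, hM1, he] at he'
    have h0 : (M x + f') + (f + f') * M a = 0 := by
      calc (M x + f') + (f + f') * M a = (M x + f * M a) + f' * (1 + M a) := by ring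
        _ = 0 := by rw [he', add_self' (q := q)]
    have hff := hindep _ (add_mem (hg x hx) hf') _ (add_mem hf hf') _ (hout a ha) h0
    rw [hff, zero_mul, add_zero] at h0
    have e : M x = f := by linear_combination h0 - hff
    rw [he, e]
  have hmulfx : ∀ x ∈ fx F q, ∀ y ∈ fx F q, x * y ∈ fx F q := fun x hx y hy => by
    rw [mem_fx, mul_pow, mem_fx.1 hx, mem_fx.1 hy]
  have hgmul : ∀ x ∈ fx F q, ∀ y ∈ fx F q, M (x * y) = M x * M y := by
    intro x hx y hy
    by_cases hy0 : y = 0
    · rw [hy0, mul_zero, map_zero, mul_zero]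
    have hyω : y * ω ∉ fx F q := fun h => hω (by
      have h1 : (y * ω) ^ q = y * ω := h
      rw [mul_pow, mem_fx.1 hy] at h1
      exact mem_fx.2 (mul_left_cancel₀ hy0 h1))
    have hω0 : M ω ≠ 0 := fun h => hout ω hω (h ▸ zero_mem _)
    refine mul_right_cancel₀ hω0 ?_
    rw [← hlin _ (hmulfx x hx y hy) ω hω, mul_assoc, mul_assoc, hlin x hx _ hyω, hlin y hy ω hω]
  have hgψ : ∀ x ∈ fx F q, (L 1)⁻¹ ^ (q + 1) * ψ x = M x := by
    intro x hx
    obtain ⟨r, hr, rfl⟩ := fx_sqrt hx
    rw [hgmul r hr r hr, ← fixed_norm hr, ← hN, ← mul_pow, ← hM, fixed_norm (hg r hr)]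
  have h2 : ∀ z : F, z + z = 0 := add_self' (q := q)
  have hquad : ∀ z : F, z * z = (z + z ^ q) * z + z ^ (q + 1) := fun z => by
    rw [pow_succ, add_mul, add_assoc, h2, add_zero]
  set t := ω + ω ^ q with ht
  set m := ω ^ (q + 1) with hm
  have hω' : M ω * M ω = M t * M ω + M m := by
    rw [hquad (M ω)]
    congr 1
    · congr 1
      rw [← hgψ t (trace_mem ω)]
      have h := hT 1 ω
      rw [one_pow, one_mul, mul_one, ← ht] at h
      rw [← h, hM, pow_succ, mul_pow]
      have hu : (L 1)⁻¹ ^ q * L 1 ^ q = 1 := by rw [← mul_pow, inv_mul_cancel₀ hc0, one_pow]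
      have hu1 : (L 1)⁻¹ * L 1 = 1 := inv_mul_cancel₀ hc0
      generalize (L 1)⁻¹ ^ q = u at *
      generalize (L 1)⁻¹ = v at *
      linear_combination -(v * L ω) * hu - (u * L ω ^ q) * hu1
    · rw [← hgψ m (hnm ω), ← hN, ← mul_pow, ← hM]
  have ht0 : t ≠ 0 := fun h => hω (trace_eq_zero.1 h)
  have hdec : ∀ a : F, ∃ x ∈ fx F q, ∃ y ∈ fx F q, a = x + y * ω := by
    intro a
    have hy : (a + a ^ q) / t ∈ fx F q := by
      rw [mem_fx, div_pow, mem_fx.1 (trace_mem a), mem_fx.1 (trace_mem ω)]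
    refine ⟨a + (a + a ^ q) / t * ω, ?_, _, hy, by rw [add_assoc, h2, add_zero]⟩
    rw [← trace_eq_zero, pow_q_add, mul_pow, mem_fx.1 hy]
    calc a + (a + a ^ q) / t * ω + (a ^ q + (a + a ^ q) / t * ω ^ q)
        = (a + a ^ q) + (a + a ^ q) / t * t := by rw [ht]; ring
      _ = 0 := by rw [div_mul_cancel₀ _ ht0, h2]
  have hMlin : ∀ x ∈ fx F q, ∀ y ∈ fx F q, M (x + y * ω) = M x + M y * M ω := fun x hx y hy => by
    rw [map_add, hlin y hy ω hω]
  have hMmul : ∀ a b, M (a * b) = M a * M b := by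
    intro a b
    obtain ⟨x, hx, y, hy, rfl⟩ := hdec a
    obtain ⟨z, hz, w, hw, rfl⟩ := hdec b
    have hsq : ω * ω = t * ω + m := hquad ω
    have e : (x + y * ω) * (z + w * ω) = (x * z + y * w * m) + (x * w + y * z + y * w * t) * ω := by
      calc (x + y * ω) * (z + w * ω) = x * z + (x * w + y * z) * ω + y * w * (ω * ω) := by ring
        _ = _ := by rw [hsq]; ring
    have hyw := hmulfx y hy w hw
    rw [e, hMlin _ (add_mem (hmulfx x hx z hz) (hmulfx _ hyw m (hnm ω))) _
      (add_mem (add_mem (hmulfx x hx w hw) (hmulfx y hy z hz)) (hmulfx _ hyw t (trace_mem ω))),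
      hMlin x hx y hy, hMlin z hz w hw, map_add, map_add, map_add, hgmul _ hyw m (hnm ω),
      hgmul _ hyw t (trace_mem ω), hgmul x hx z hz, hgmul x hx w hw, hgmul y hy z hz, hgmul y hy w hw]
    calc M x * M z + M y * M w * M m + (M x * M w + M y * M z + M y * M w * M t) * M ω
        = M x * M z + (M x * M w + M y * M z) * M ω + M y * M w * (M t * M ω + M m) := by ring
      _ = (M x + M y * M ω) * (M z + M w * M ω) := by rw [← hω']; ring
  let σh : F →+* F :=
    { toFun := M, map_one' := hM1, map_mul' := hMmul, map_zero' := map_zero M, map_add' := map_add M }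
  refine ⟨Units.mk0 (L 1) hc0, RingEquiv.ofBijective σh ⟨fun a b h => hMinj a b h,
    Finite.surjective_of_injective fun a b h => hMinj a b h⟩, fun a => ?_⟩
  show L a = L 1 * M a
  rw [hM, ← mul_assoc, mul_inv_cancel₀ hc0, one_mul]

/-! ### The representation on `Herm / centre` -/

theorem mem_center_iff' (x : Herm F q) : x ∈ Subgroup.center (Herm F q) ↔ x.a = 0 := by
  have hlike := CfsgLib.InvCharSixtyFour.hermLike_herm (F := F) hh.out hev.out
  constructor
  · intro h
    have h1 := congrArg Herm.b (hlike.center_sq x h)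
    rw [herm_mul_b hh.out hev.out, herm_one_b hh.out hev.out, add_self' (q := q), zero_add, ← pow_succ] at h1
    exact eq_zero_of_pow_eq_zero h1
  · intro hx
    rw [Subgroup.mem_center_iff]
    intro g
    refine Herm.ext ?_ ?_
    · rw [herm_mul_a hh.out hev.out, herm_mul_a hh.out hev.out, add_comm]
    · rw [herm_mul_b hh.out hev.out, herm_mul_b hh.out hev.out, hx, mul_zero, zero_pow_q, zero_mul,
        add_comm g.b]

theorem lift_exists (a : F) : ∃ x : Herm F q, x.a = a := by
  have hpos : 0 < Nat.card {b : F // b + b ^ q = a ^ (q + 1)} := by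
    rw [card_trace_fibre hh.out hev.out (norm_fixed hh.out a)]
    exact Nat.pos_of_ne_zero (q_ne_zero (F := F))
  obtain ⟨⟨b, hb⟩⟩ := (Nat.card_pos_iff.1 hpos).1
  exact ⟨⟨a, b, hb⟩, rfl⟩

/-- A lift. -/
noncomputable def lift (a : F) : Herm F q := (lift_exists a).choose

theorem lift_a (a : F) : (lift (q := q) a).a = a := (lift_exists a).choose_spec

theorem a_congr (φ : MulAut (Herm F q)) {x y : Herm F q} (h : x.a = y.a) : (φ x).a = (φ y).a := by
  have hc : x⁻¹ * y ∈ Subgroup.center (Herm F q) := by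
    rw [mem_center_iff', herm_mul_a hh.out hev.out, herm_inv_a hh.out hev.out, h, add_self' (q := q)]
  have hc' := CfsgLib.InvCharSixtyFour.center_invariant φ _ hc
  rw [mem_center_iff', map_mul, map_inv, herm_mul_a hh.out hev.out, herm_inv_a hh.out hev.out,
    add_eq_zero_iff_eq_neg, neg_eq_of_add_eq_zero_left (add_self' (q := q) _)] at hc'
  exact hc'

/-- The action on `Herm / centre ≅ F`. -/
noncomputable def act (φ : MulAut (Herm F q)) (a : F) : F := (φ (lift a)).a

theorem act_apply (φ : MulAut (Herm F q)) (x : Herm F q) : (φ x).a = act φ x.a :=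
  a_congr φ (lift_a x.a).symm

/-- The representation as permutations of `F`. -/
noncomputable def res : MulAut (Herm F q) →* Equiv.Perm F :=
  MonoidHom.mk' (fun φ =>
    { toFun := act φ
      invFun := act φ.symm
      left_inv := fun a => by
        show act φ.symm (φ (lift a)).a = a
        rw [← act_apply, MulEquiv.symm_apply_apply, lift_a]
      right_inv := fun a => by
        show act φ (φ.symm (lift a)).a = a
        rw [← act_apply, MulEquiv.apply_symm_apply, lift_a] })
    (fun φ ψ => Equiv.ext fun a => by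
      show ((φ * ψ) (lift a)).a = act φ (ψ (lift a)).a
      rw [MulAut.mul_apply, act_apply])

theorem res_apply (φ : MulAut (Herm F q)) (a : F) : res φ a = act φ a := rfl

theorem act_add (φ : MulAut (Herm F q)) (a b : F) : act φ (a + b) = act φ a + act φ b := by
  have h := act_apply φ (lift a * lift b)
  rw [herm_mul_a hh.out hev.out, lift_a, lift_a, map_mul, herm_mul_a hh.out hev.out] at h
  exact h.symm

/-- Central elements as elements of the fixed field. -/
def zel (c : fx F q) : Herm F q := ⟨0, c, by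
  rw [zero_pow (Nat.succ_ne_zero q)]; exact trace_eq_zero.2 c.2⟩

theorem sq_eq (x : Herm F q) : x * x = zel ⟨x.a ^ (q + 1), norm_fixed hh.out x.a⟩ := by
  refine Herm.ext ?_ ?_
  · rw [herm_mul_a hh.out hev.out]; exact add_self' (q := q) x.a
  · rw [herm_mul_b hh.out hev.out, add_self' (q := q), zero_add, ← pow_succ]; rfl

theorem zel_mul (c d : fx F q) : zel c * zel d = zel (c + d) := by
  refine Herm.ext ?_ ?_
  · rw [herm_mul_a hh.out hev.out]; exact add_zero (0 : F)
  · rw [herm_mul_b hh.out hev.out]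
    show (c : F) + d + (0 : F) ^ q * 0 = (c : F) + d
    rw [mul_zero, add_zero]

theorem exists_semilinear (φ : MulAut (Herm F q)) :
    ∃ (c : Fˣ) (σ : F ≃+* F), ∀ a, res φ a = c * σ a := by
  classical
  let ψ : F → F := fun x => if h : x ∈ fx F q then (φ (zel ⟨x, h⟩)).b else 0
  refine semilinear_of_norm (q := q) (AddMonoidHom.mk' (act φ) (act_add φ)) (res φ).bijective ψ ?_ ?_
  · intro x hx y hy
    simp only [ψ, dif_pos hx, dif_pos hy, dif_pos (add_mem hx hy)]
    have e : zel (⟨x + y, add_mem hx hy⟩ : fx F q) = zel ⟨x, hx⟩ * zel ⟨y, hy⟩ :=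
      (zel_mul (⟨x, hx⟩ : fx F q) ⟨y, hy⟩).symm
    have hz : (φ (zel ⟨y, hy⟩)).a = 0 := (mem_center_iff' _).1
      (CfsgLib.InvCharSixtyFour.center_invariant φ _ ((mem_center_iff' _).2 rfl))
    rw [e, map_mul, herm_mul_b hh.out hev.out, hz, mul_zero, add_zero]
  · intro a
    have e := congrArg Herm.b (congrArg φ (sq_eq (lift (q := q) a)))
    rw [map_mul, sq_eq] at e
    simp only [lift_a] at e
    have hm : a ^ (q + 1) ∈ fx F q := norm_fixed hh.out a
    simp only [ψ, dif_pos hm]
    exact e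

/-- The automorphism given by a scalar and a field automorphism. -/
def semiAut (c : Fˣ) (σ : F ≃+* F) : MulAut (Herm F q) where
  toFun x := ⟨c * σ x.a, (c : F) ^ (q + 1) * σ x.b, by
    rw [mul_pow, mul_pow, norm_fixed hh.out, ← mul_add, ← map_pow, ← map_add, x.rel, map_pow]⟩
  invFun x := ⟨σ.symm ((c : F)⁻¹ * x.a), σ.symm (((c : F)⁻¹) ^ (q + 1) * x.b), by
    rw [← map_pow, ← map_add, mul_pow, norm_fixed hh.out, ← mul_add, x.rel, ← mul_pow, map_pow]⟩
  left_inv x := Herm.ext (by simp) (by simp [← mul_assoc, ← mul_pow])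
  right_inv x := Herm.ext (by simp) (by simp [← mul_assoc, ← mul_pow])
  map_mul' x y := by
    refine Herm.ext ?_ ?_
    · show (c : F) * σ (x * y).a = c * σ x.a + c * σ y.a
      rw [herm_mul_a hh.out hev.out, map_add, mul_add]
    · show (c : F) ^ (q + 1) * σ (x * y).b = (c : F) ^ (q + 1) * σ x.b + (c : F) ^ (q + 1) * σ y.b +
        ((c : F) * σ x.a) ^ q * (c * σ y.a)
      rw [herm_mul_b hh.out hev.out, map_add, map_add, map_mul, map_pow, mul_pow, pow_succ]
      ring

theorem res_semiAut (c : Fˣ) (σ : F ≃+* F) (a : F) :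
    res (semiAut (q := q) c σ) a = c * σ a := by
  show (c : F) * σ (lift (q := q) a).a = c * σ a
  rw [lift_a]

theorem card_aut_field {n : ℕ} (hn : q = 2 ^ n) : Nat.card (F ≃+* F) = 2 * n := by
  obtain ⟨p, hp⟩ := CharP.exists F
  have h2 : (2 : F) = 0 := two_eq_zero hh.out hev.out
  have hp2 : p = 2 := by
    obtain ⟨k, hpp, -⟩ := FiniteField.card F p
    have hd : p ∣ 2 := (CharP.cast_eq_zero_iff F p 2).1 (by exact_mod_cast h2)
    exact (Nat.prime_dvd_prime_iff_eq hpp Nat.prime_two).1 hd
  subst hp2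
  let _ : Algebra (ZMod 2) F := ZMod.algebra F 2
  let e : (F ≃+* F) ≃ (F ≃ₐ[ZMod 2] F) :=
    { toFun := fun σ => AlgEquiv.ofRingEquiv (f := σ) (fun z => by
        exact RingHom.congr_fun (RingHom.ext_zmod ((σ : F →+* F).comp (algebraMap (ZMod 2) F))
          (algebraMap (ZMod 2) F)) z)
      invFun := fun σ => σ.toRingEquiv
      left_inv := fun σ => by ext; rfl
      right_inv := fun σ => by ext; rfl }
  rw [Nat.card_congr e, IsGalois.card_aut_eq_finrank]
  have h := Module.natCard_eq_pow_finrank (K := ZMod 2) (V := F)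
  rw [Nat.card_eq_fintype_card, hh.out, Nat.card_zmod, hn, ← pow_mul, mul_comm] at h
  exact (Nat.pow_right_injective (le_refl 2) h).symm

theorem card_range {n : ℕ} (hn : q = 2 ^ n) :
    Nat.card (res (F := F) (q := q)).range = 2 * n * (q ^ 2 - 1) := by
  classical
  rw [← card_aut_field (F := F) hn, ← hh.out, ← Fintype.card_units, ← Nat.card_eq_fintype_card (α := Fˣ),
    ← Nat.card_prod]
  refine Nat.card_congr (Equiv.ofBijective
    (fun p => ⟨res (semiAut (q := q) p.2 p.1), MonoidHom.mem_range.2 ⟨_, rfl⟩⟩) ⟨?_, ?_⟩).symm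
  · rintro ⟨σ, c⟩ ⟨τ, d⟩ h
    have h' : ∀ a, (c : F) * σ a = d * τ a := fun a => by
      rw [← res_semiAut (q := q), ← res_semiAut (q := q)]
      exact Equiv.congr_fun (congrArg Subtype.val h) a
    have hcd : c = d := Units.ext (by simpa using h' 1)
    subst hcd
    exact Prod.ext (RingEquiv.ext fun a => mul_left_cancel₀ c.ne_zero (h' a)) rfl
  · rintro ⟨g, φ, rfl⟩
    obtain ⟨c, σ, h⟩ := exists_semilinear φ
    exact ⟨(σ, c), Subtype.ext (Equiv.ext fun a => by rw [res_semiAut, h])⟩

/-! ### The kernel -/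

/-- The central automorphism of a hom into the fixed field. -/
def centralAut (f : F →+ fx F q) : MulAut (Herm F q) where
  toFun x := ⟨x.a, x.b + f x.a, by
    rw [pow_q_add, mem_fx.1 (f x.a).2, add_add_add_comm, add_self' (q := q), add_zero, x.rel]⟩
  invFun x := ⟨x.a, x.b + f x.a, by
    rw [pow_q_add, mem_fx.1 (f x.a).2, add_add_add_comm, add_self' (q := q), add_zero, x.rel]⟩
  left_inv x := Herm.ext rfl (by
    show x.b + (f x.a : F) + (f x.a : F) = x.b
    rw [add_assoc, add_self' (q := q), add_zero])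
  right_inv x := Herm.ext rfl (by
    show x.b + (f x.a : F) + (f x.a : F) = x.b
    rw [add_assoc, add_self' (q := q), add_zero])
  map_mul' x y := by
    refine Herm.ext (herm_mul_a hh.out hev.out x y) ?_
    show (x * y).b + (f (x * y).a : F) = x.b + (f x.a : F) + (y.b + (f y.a : F)) + x.a ^ q * y.a
    rw [herm_mul_a hh.out hev.out, herm_mul_b hh.out hev.out, map_add, AddSubgroup.coe_add]
    ring

theorem centralAut_mul (f g : F →+ fx F q) :
    centralAut f * centralAut g = centralAut (g + f) := by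
  refine MulEquiv.ext fun x => Herm.ext rfl ?_
  show x.b + (g x.a : F) + (f x.a : F) = x.b + (((g + f) x.a : fx F q) : F)
  rw [AddMonoidHom.add_apply, AddSubgroup.coe_add, add_assoc]

theorem centralAut_mem (f : F →+ fx F q) : centralAut f ∈ (res (F := F) (q := q)).ker :=
  Equiv.ext fun a => lift_a a

theorem mem_ker_eq {φ : MulAut (Herm F q)} (hφ : φ ∈ (res (F := F) (q := q)).ker) :
    ∃ f : F →+ fx F q, centralAut f = φ := by
  have ha : ∀ x : Herm F q, (φ x).a = x.a := fun x => by
    rw [act_apply, ← res_apply, MonoidHom.mem_ker.1 hφ, Equiv.Perm.one_apply]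
  -- the centre is pointwise fixed
  have hz : ∀ c : fx F q, φ (zel c) = zel c := by
    intro c
    obtain ⟨r, hr, hrc⟩ := fx_sqrt c.2
    have e : (zel c : Herm F q) = lift r * lift r := by
      rw [sq_eq]
      congr 1
      refine Subtype.ext ?_
      show (c : F) = (lift (q := q) r).a ^ (q + 1)
      rw [lift_a, fixed_norm hr, hrc]
    rw [e, map_mul, sq_eq, sq_eq]
    congr 1
    exact Subtype.ext (by rw [ha])
  have hmem : ∀ x : Herm F q, x.b + (φ x).b ∈ fx F q := fun x => by
    rw [← trace_eq_zero, pow_q_add, add_add_add_comm, (φ x).rel, x.rel, ha, add_self' (q := q)]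
  have hind : ∀ x : Herm F q, x.b + (φ x).b = (lift (q := q) x.a).b + (φ (lift x.a)).b := by
    intro x
    set l : Herm F q := lift x.a with hl
    have hla : l.a = x.a := lift_a x.a
    have hc : l.b + x.b ∈ fx F q := by
      rw [← trace_eq_zero, pow_q_add, add_add_add_comm, x.rel, l.rel, hla, add_self' (q := q)]
    have hx : x = l * zel ⟨l.b + x.b, hc⟩ := by
      refine Herm.ext ?_ ?_
      · rw [herm_mul_a hh.out hev.out, hla]; exact (add_zero x.a).symm
      · rw [herm_mul_b hh.out hev.out]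
        show x.b = l.b + (l.b + x.b) + l.a ^ q * 0
        rw [← add_assoc, add_self' (q := q), zero_add, mul_zero, add_zero]
    conv_lhs => rw [hx, map_mul, hz, herm_mul_b hh.out hev.out, herm_mul_b hh.out hev.out, ha]
    show l.b + (l.b + x.b) + l.a ^ q * 0 + ((φ l).b + (l.b + x.b) + l.a ^ q * 0) = _
    rw [mul_zero, add_zero, add_zero, ← add_assoc (l.b), add_self' (q := q), zero_add]
    calc x.b + ((φ l).b + (l.b + x.b)) = (x.b + x.b) + (l.b + (φ l).b) := by ring
      _ = l.b + (φ l).b := by rw [add_self' (q := q), zero_add]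
  refine ⟨AddMonoidHom.mk' (fun a => ⟨(lift (q := q) a).b + (φ (lift a)).b, hmem _⟩) (fun a b => ?_), ?_⟩
  · refine Subtype.ext ?_
    have h := hind (lift a * lift b)
    rw [herm_mul_a hh.out hev.out, lift_a, lift_a] at h
    show (lift (q := q) (a + b)).b + (φ (lift (a + b))).b = _
    rw [← h, map_mul, herm_mul_b hh.out hev.out, herm_mul_b hh.out hev.out, ha, ha, AddSubgroup.coe_add]
    generalize (lift (q := q) a).a ^ q * (lift (q := q) b).a = w
    calc _ = ((lift (q := q) a).b + (φ (lift a)).b) + ((lift (q := q) b).b + (φ (lift b)).b) + (w + w) := by ring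
      _ = _ := by rw [add_self' (q := q), add_zero]
  · refine MulEquiv.ext fun x => Herm.ext (ha x).symm ?_
    show x.b + ((lift (q := q) x.a).b + (φ (lift x.a)).b) = (φ x).b
    rw [← hind, ← add_assoc, add_self' (q := q), zero_add]

theorem card_ker {n : ℕ} (hn : q = 2 ^ n) :
    Nat.card (res (F := F) (q := q)).ker = q ^ (2 * n) := by
  classical
  have h1 : Nat.card (F →+ fx F q) = Nat.card (res (F := F) (q := q)).ker := by
    refine Nat.card_congr (Equiv.ofBijective (fun f => ⟨centralAut f, centralAut_mem f⟩) ⟨?_, ?_⟩)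
    · intro f g h
      refine AddMonoidHom.ext fun a => Subtype.ext ?_
      have := congrArg Herm.b (DFunLike.congr_fun (congrArg Subtype.val h) (lift (q := q) a))
      have e : ∀ k : F →+ fx F q, (centralAut k (lift a)).b = (lift (q := q) a).b + (k a : F) := fun k => by
        show (lift (q := q) a).b + (k (lift (q := q) a).a : F) = _
        rw [lift_a]
      rw [e, e] at this
      exact add_left_cancel this
    · rintro ⟨φ, hφ⟩
      obtain ⟨f, rfl⟩ := mem_ker_eq hφ
      exact ⟨f, rfl⟩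
  rw [← h1]
  let _ : Module (ZMod 2) F := AddCommGroup.zmodModule (fun x => by
    rw [two_nsmul]; exact add_self' (q := q) x)
  let _ : Module (ZMod 2) (fx F q) := AddCommGroup.zmodModule (fun x => by
    rw [two_nsmul]; exact Subtype.ext (add_self' (q := q) (x : F)))
  let b := Module.finBasis (ZMod 2) F
  have hrank : Module.finrank (ZMod 2) F = 2 * n := by
    have h := Module.natCard_eq_pow_finrank (K := ZMod 2) (V := F)
    rw [Nat.card_eq_fintype_card, hh.out, Nat.card_zmod, hn, ← pow_mul, mul_comm] at h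
    exact (Nat.pow_right_injective (le_refl 2) h).symm
  rw [Nat.card_congr ((AddMonoidHom.toZModLinearMapEquiv 2).toEquiv.trans (b.constr ℕ).symm.toEquiv),
    Nat.card_fun, Nat.card_fin, card_fx, hrank]

theorem ker_elementary : Cfsg.IsElementaryAbelian 2 (res (F := F) (q := q)).ker := by
  constructor
  · refine ⟨⟨fun a b => Subtype.ext ?_⟩⟩
    obtain ⟨f, hf⟩ := mem_ker_eq a.2
    obtain ⟨g, hg⟩ := mem_ker_eq b.2
    show (a : MulAut (Herm F q)) * b = b * a
    rw [← hf, ← hg, centralAut_mul, centralAut_mul, add_comm]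
  · intro a ha
    obtain ⟨f, rfl⟩ := mem_ker_eq ha
    rw [pow_two, centralAut_mul]
    refine MulEquiv.ext fun x => Herm.ext rfl ?_
    show x.b + (((f + f) x.a : fx F q) : F) = x.b
    rw [AddMonoidHom.add_apply, AddSubgroup.coe_add, add_self' (q := q), add_zero]

theorem pCore_eq_ker : Cfsg.pCore 2 (MulAut (Herm F q)) = (res (F := F) (q := q)).ker := by
  classical
  have := Fintype.ofFinite (Herm F q)
  refine le_antisymm ?_ (CfsgLib.PCore.le_pCore inferInstance fun g => ⟨1, ?_⟩)
  swap
  · refine Subtype.ext ?_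
    rw [SubmonoidClass.coe_pow, pow_one]
    exact (ker_elementary (F := F) (q := q)).2 (g : MulAut (Herm F q)) g.2
  intro φ hφ
  have : Finite (MulAut (Herm F q)) := Finite.of_injective _ DFunLike.coe_injective
  have hP : IsPGroup 2 (Cfsg.pCore 2 (MulAut (Herm F q))) := CfsgLib.PCore.pCore_isPGroup
  have hodd : Odd (Fintype.card Fˣ) := by
    rw [Fintype.card_units, hh.out]
    exact Nat.Even.sub_odd (Nat.one_le_pow _ _ (Nat.pos_of_ne_zero (q_ne_zero (F := F))))
      (hev.out.pow_of_ne_zero two_ne_zero) odd_one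
  have hscal : ∀ ψ ∈ Cfsg.pCore 2 (MulAut (Herm F q)), ∀ d : Fˣ, (∀ a, res ψ a = d * a) → d = 1 := by
    intro ψ hψ d hd
    obtain ⟨k, hk⟩ := hP ⟨ψ, hψ⟩
    have hk' : ψ ^ 2 ^ k = 1 := congrArg Subtype.val hk
    have hpow : ∀ j : ℕ, ∀ a, (res ψ ^ j) a = ((d ^ j : Fˣ) : F) * a := by
      intro j
      induction j with
      | zero => intro a; simp
      | succ j ih => intro a; rw [pow_succ, Equiv.Perm.mul_apply, hd, ih, pow_succ, Units.val_mul, mul_assoc]
    have h1 : d ^ 2 ^ k = 1 := Units.ext (by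
      have := hpow (2 ^ k) 1
      rw [← map_pow, hk', MonoidHom.map_one, Equiv.Perm.one_apply, mul_one] at this
      simpa using this.symm)
    have hdvd : orderOf d ∣ Nat.gcd (2 ^ k) (Fintype.card Fˣ) :=
      Nat.dvd_gcd (orderOf_dvd_of_pow_eq_one h1) orderOf_dvd_card
    rw [(Nat.coprime_two_left.2 hodd).pow_left k, Nat.dvd_one, orderOf_eq_one_iff] at hdvd
    exact hdvd
  obtain ⟨c, σ, hcσ⟩ := exists_semilinear φ
  have hσ : ∀ d : F, σ d = d := by
    intro d
    by_cases hd0 : d = 0
    · rw [hd0, map_zero]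
    let u := Units.mk0 d hd0
    let s : MulAut (Herm F q) := semiAut u (RingEquiv.refl F)
    have hn : φ * (s * φ⁻¹ * s⁻¹) ∈ Cfsg.pCore 2 (MulAut (Herm F q)) :=
      mul_mem hφ ((Cfsg.pCore_normal 2 _).conj_mem _ (inv_mem hφ) s)
    let e : Fˣ := Units.mk0 (σ d / d) (div_ne_zero ((map_ne_zero σ).2 hd0) hd0)
    have hres : ∀ a, res (φ * (s * φ⁻¹ * s⁻¹)) a = e * a := by
      intro a
      have hs : ∀ b, res s b = d * b := fun b => res_semiAut u _ b
      have hsi : res s⁻¹ a = a / d := by
        apply (res s).injective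
        rw [map_inv, Equiv.Perm.inv_def, Equiv.apply_symm_apply, hs, mul_div_cancel₀ _ hd0]
      set w := res φ⁻¹ (a / d) with hw
      have hw' : res φ w = a / d := by rw [hw, map_inv, Equiv.Perm.inv_def, Equiv.apply_symm_apply]
      rw [map_mul, map_mul, map_mul, Equiv.Perm.mul_apply, Equiv.Perm.mul_apply, Equiv.Perm.mul_apply,
        hsi, hs, hcσ, map_mul, mul_left_comm, ← hcσ, ← hw, hw']
      show σ d * (a / d) = σ d / d * a
      ring
    have := congrArg Units.val (hscal _ hn e hres)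
    exact (div_eq_one_iff_eq hd0).1 this
  have hc : c = 1 := hscal φ hφ c (fun a => by rw [hcσ, hσ])
  exact Equiv.ext fun a => by rw [hcσ, hσ, hc, Units.val_one, one_mul, Equiv.Perm.one_apply]

end CfsgLib.InvCharHermAut
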