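import Mathlib
import Cfsg.Prelude.Def_Transfer
import Cfsg.Agent.Lib.Involutions.Basic

/-! Normal closures of involutions whose conjugates are forced to commute. -/

set_option autoImplicit false

namespace CfsgLib.InvChar

open Subgroup CfsgLib.Involutions

variable {G : Type*} [Group G]

theorem closure_isMulCommutative_of_commute (S : Set G) (h : ∀ a ∈ S, ∀ b ∈ S, Commute a b) :
    IsMulCommutative ↥(closure S) := by
  have h1 : closure S ≤ centralizer (closure S : Set G) := by
    rw [le_centralizer_iff]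
    refine (closure_le _).2 fun b hb => ?_
    intro a ha
    induction ha using closure_induction with
    | mem a ha => exact h a ha b hb
    | one => simp
    | mul a c _ _ iha ihc => exact (Commute.mul_left iha ihc).eq
    | inv a _ iha => exact (Commute.inv_left iha).eq
  exact ⟨⟨fun a b => Subtype.ext (h1 b.2 a a.2)⟩⟩

/-- Every conjugate of `y` commutes with every other one if a suitable involution hypothesis holds. -/
theorem conjugates_commute [Finite G] {x y : G} (hx : orderOf x = 2) (hy : orderOf y = 2)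
    (hnc : ¬ IsConj x y)
    (hstar : ∀ u : G, orderOf u = 2 → Commute u x → ∀ g : G, Commute (g * y * g⁻¹) u →
      Commute (g * y * g⁻¹) y) :
    ∀ a b : G, IsConj y a → IsConj y b → Commute a b := by
  have h1 : ∀ g : G, Commute (g * y * g⁻¹) y := by
    intro g
    have hy' : orderOf (g * y * g⁻¹) = 2 := by rw [orderOf_conj_eq, hy]
    obtain ⟨u, hu, hux, huy⟩ := exists_common_involution hx hy'
      (fun h => hnc (h.trans (isConj_iff.2 ⟨g, rfl⟩ : IsConj y (g * y * g⁻¹)).symm))
    exact hstar u hu hux g huy.symm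
  intro a b ha hb
  obtain ⟨g, rfl⟩ := isConj_iff.1 ha
  obtain ⟨h, rfl⟩ := isConj_iff.1 hb
  have h2 := Commute.map (h1 (h⁻¹ * g)) (MulAut.conj h).toMonoidHom
  simpa [MulAut.conj_apply, mul_assoc] using h2

theorem elementaryAbelian_normalClosure {y : G} (hy : orderOf y = 2)
    (h : ∀ a b : G, IsConj y a → IsConj y b → Commute a b) :
    Cfsg.IsElementaryAbelian 2 (normalClosure ({y} : Set G)) := by
  have hS : ∀ a ∈ Group.conjugatesOfSet ({y} : Set G), IsConj y a := by
    intro a ha
    obtain ⟨b, rfl, hb⟩ := Group.mem_conjugatesOfSet_iff.1 ha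
    exact hb
  have hc : IsMulCommutative ↥(normalClosure ({y} : Set G)) :=
    closure_isMulCommutative_of_commute _ fun a ha b hb => h a b (hS a ha) (hS b hb)
  refine ⟨hc, fun a ha => ?_⟩
  have hcomm : ∀ a b, a ∈ normalClosure ({y} : Set G) → b ∈ normalClosure ({y} : Set G) →
      Commute a b := fun a b ha hb => congrArg Subtype.val (hc.is_comm.comm ⟨a, ha⟩ ⟨b, hb⟩)
  induction ha using closure_induction with
  | mem a ha => rw [← orderOf_eq_of_isConj (hS a ha) |>.trans hy, pow_orderOf_eq_one]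
  | one => simp
  | mul a b ha' hb' iha ihb => rw [(hcomm a b ha' hb').mul_pow, iha, ihb, one_mul]
  | inv a _ iha => rw [inv_pow, iha, inv_one]

theorem normalClosure_ne_top_of_commute {x y : G} (hx : orderOf x = 2)
    (hy : orderOf y = 2) (hnc : ¬ IsConj x y)
    (h : ∀ a b : G, IsConj y a → IsConj y b → Commute a b) :
    normalClosure ({y} : Set G) ≠ ⊤ := by
  intro htop
  have hel := elementaryAbelian_normalClosure hy h
  rw [htop] at hel
  have hcomm : ∀ a b : G, Commute a b := fun a b =>
    congrArg Subtype.val (hel.1.is_comm.comm ⟨a, mem_top a⟩ ⟨b, mem_top b⟩)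
  have hle : normalClosure ({y} : Set G) ≤ zpowers y := by
    refine (closure_le _).2 fun a ha => ?_
    obtain ⟨b, rfl, hb⟩ := Group.mem_conjugatesOfSet_iff.1 ha
    obtain ⟨g, rfl⟩ := isConj_iff.1 hb
    rw [(hcomm g b).eq, mul_inv_cancel_right]
    exact mem_zpowers b
  obtain ⟨k, hk⟩ := mem_zpowers_iff.1 (hle (htop ▸ mem_top x))
  rw [← zpow_mod_orderOf, hy] at hk
  rcases Int.emod_two_eq_zero_or_one k with h0 | h0
  · rw [show k % ((2 : ℕ) : ℤ) = 0 by exact_mod_cast h0, zpow_zero] at hk
    exact ne_one_of_involution hx hk.symm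
  · rw [show k % ((2 : ℕ) : ℤ) = 1 by exact_mod_cast h0, zpow_one] at hk
    subst hk
    exact hnc (IsConj.refl _)

/-- An involution acting on an elementary abelian normal 2-subgroup with at most `k` fixed points
bounds its order by `k * k`. -/
theorem card_le_sq_of_fixed [Finite G] (V : Subgroup G) [hV : V.Normal]
    (hel : Cfsg.IsElementaryAbelian 2 V) {x : G} (hx : orderOf x = 2) {k : ℕ}
    (hk : Nat.card ↥(V ⊓ centralizer ({x} : Set G)) ≤ k) : Nat.card ↥V ≤ k * k := by
  have hcomm : ∀ a b, a ∈ V → b ∈ V → a * b = b * a := fun a b ha hb =>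
    congrArg Subtype.val (hel.1.is_comm.comm ⟨a, ha⟩ ⟨b, hb⟩)
  let f : ↥V →* ↥V := MonoidHom.mk' (fun v => ⟨(v : G) * (x * v * x⁻¹), V.mul_mem v.2 (hV.conj_mem _ v.2 x)⟩)
    (by
      intro v w
      apply Subtype.ext
      change (v : G) * w * (x * (v * w) * x⁻¹) = v * (x * v * x⁻¹) * (w * (x * w * x⁻¹))
      rw [← conj_mul]
      exact (show Commute (w : G) (x * v * x⁻¹) from
        hcomm w _ w.2 (hV.conj_mem _ v.2 x)).mul_mul_mul_comm _ _)
  have hsq : ∀ v : G, v ∈ V → v⁻¹ = v := fun v hv =>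
    inv_eq_of_mul_eq_one_right (by rw [← pow_two]; exact hel.2 v hv)
  have hker : f.ker.map V.subtype ≤ V ⊓ centralizer ({x} : Set G) := by
    rintro _ ⟨v, hv, rfl⟩
    refine ⟨v.2, mem_centralizer_singleton_iff.2 ?_⟩
    have h1 : (v : G) * (x * v * x⁻¹) = 1 := congrArg Subtype.val hv
    have h2 : x * (v : G) * x⁻¹ = v := (eq_inv_of_mul_eq_one_right h1).trans (hsq v v.2)
    exact (mul_inv_eq_iff_eq_mul.1 h2).symm
  have hrange : f.range.map V.subtype ≤ V ⊓ centralizer ({x} : Set G) := by
    rintro _ ⟨_, ⟨v, rfl⟩, rfl⟩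
    refine ⟨SetLike.coe_mem _, mem_centralizer_singleton_iff.2 ?_⟩
    have h3 : x * ((v : G) * (x * v * x⁻¹)) * x⁻¹ = v * (x * v * x⁻¹) := by
      rw [← conj_mul, hcomm _ _ v.2 (hV.conj_mem _ v.2 x)]
      congr 1
      calc x * (x * (v : G) * x⁻¹) * x⁻¹ = (x * x) * v * (x * x)⁻¹ := by group
        _ = v := by rw [mul_self_eq_one hx]; simp
    exact (mul_inv_eq_iff_eq_mul.1 h3).symm
  have h1 := Subgroup.card_le_of_le hker
  have h2 := Subgroup.card_le_of_le hrange
  rw [Subgroup.card_map_of_injective V.subtype_injective] at h1 h2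
  rw [Subgroup.card_eq_card_quotient_mul_card_subgroup f.ker,
    Nat.card_congr (QuotientGroup.quotientKerEquivRange f).toEquiv]
  exact Nat.mul_le_mul (h2.trans hk) (h1.trans hk)

end CfsgLib.InvChar
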