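import Mathlib
import Cfsg.Agent.Lib.InvChar.AltSixInvolution

/-!
Injective endomorphisms of the alternating groups of degree 5 and 6 that fix a point stabilizer,
respectively a subgroup of order 24, pointwise.
-/

set_option autoImplicit false

namespace CfsgLib.InvChar.AltRigid

open Equiv

/-! ### Degree five -/

/-- The first double transposition. -/
def u5 : Perm (Fin 5) := swap 0 1 * swap 2 3
/-- The second double transposition. -/
def v5 : Perm (Fin 5) := swap 0 2 * swap 1 3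
/-- A 3-cycle fixing the last point. -/
def c5 : Perm (Fin 5) := swap 1 2 * swap 2 3
/-- A 3-cycle moving the last point. -/
def g5 : Perm (Fin 5) := swap 0 1 * swap 1 4

theorem data5 :
    (Perm.sign u5 = 1 ∧ Perm.sign v5 = 1 ∧ Perm.sign c5 = 1 ∧ Perm.sign g5 = 1) ∧
    (g5 ^ 3 = 1 ∧ (u5 * g5) ^ 2 = 1 ∧ (v5 * g5) ^ 5 = 1 ∧ (c5 * g5) ^ 5 = 1 ∧
      (c5 * c5 * g5) ^ 5 = 1 ∧ (u5 * c5 * g5) ^ 2 = 1) := by
  decide +kernel

theorem unique5 : ∀ y : Perm (Fin 5), y ^ 3 = 1 → (u5 * y) ^ 2 = 1 → (v5 * y) ^ 5 = 1 →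
    (c5 * y) ^ 5 = 1 → (c5 * c5 * y) ^ 5 = 1 → (u5 * c5 * y) ^ 2 = 1 →
    Perm.sign y = 1 → y = g5 := by
  decide +kernel

theorem normalizer5 : ∀ σ : Perm (Fin 5), σ ^ 3 = 1 → σ ≠ 1 →
    (σ * u5 = u5 * σ ∨ σ * u5 = v5 * σ ∨ σ * u5 = u5 * v5 * σ) →
    (σ * v5 = u5 * σ ∨ σ * v5 = v5 * σ ∨ σ * v5 = u5 * v5 * σ) →
    c5 = σ ∨ c5 = σ * σ ∨ c5 = u5 * σ ∨ c5 = u5 * (σ * σ) ∨ c5 = v5 * σ ∨ c5 = v5 * (σ * σ) ∨
      c5 = u5 * v5 * σ ∨ c5 = u5 * v5 * (σ * σ) := by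
  decide +kernel

theorem generate5_data :
    orderOf (⟨g5, data5.1.2.2.2⟩ : ↥(alternatingGroup (Fin 5))) = 3 ∧
    u5 * u5 = 1 ∧ v5 * v5 = 1 ∧ u5 * v5 = v5 * u5 ∧ g5 4 ≠ 4 ∧ u5 4 = 4 ∧ v5 4 = 4 ∧ c5 4 = 4 := by
  refine ⟨orderOf_eq_prime (Subtype.ext data5.2.1) ?_, ?_⟩
  · intro h
    have := congrArg Subtype.val h
    revert this
    decide +kernel
  · decide +kernel

/-! ### Degree six -/

/-- The 3-cycle in the first subgroup. -/
def c1 : Perm (Fin 6) := swap 1 2 * swap 2 3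
/-- The element of order 3 in the second subgroup. -/
def c2 : Perm (Fin 6) := swap 0 2 * swap 2 4 * (swap 1 3 * swap 3 5)
/-- Centralizes the first subgroup. -/
def tau1 : Perm (Fin 6) := swap 4 5
/-- Centralizes the second subgroup. -/
def tau2 : Perm (Fin 6) := swap 0 1 * swap 2 3 * swap 4 5

open AltSix

theorem signs6 : Perm.sign dt = 1 ∧ Perm.sign rot = 1 ∧ Perm.sign refl = 1 ∧ Perm.sign c1 = 1 ∧
    Perm.sign c2 = 1 ∧ Perm.sign tau1 = -1 ∧ Perm.sign tau2 = -1 := by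
  decide +kernel

theorem tau_data :
    tau1 * tau1 = 1 ∧ tau2 * tau2 = 1 ∧
    tau1 * rot = rot * tau1 ∧ tau1 * refl = refl * tau1 ∧ tau1 * c1 = c1 * tau1 ∧
    tau2 * rot = rot * tau2 ∧ tau2 * refl = refl * tau2 ∧ tau2 * c2 = c2 * tau2 ∧
    dt = rot * rot ∧ rot ^ 4 = 1 ∧ c1 ^ 3 = 1 ∧ c2 ^ 3 = 1 ∧
    (rot ^ 3 * c2) ^ 2 = 1 ∧ (c1 * (refl * dt) * (c1 * c1) * c2) ^ 5 = 1 ∧
    (rot * c1) ^ 2 = 1 ∧ (refl * dt * c1) ^ 2 = 1 := by
  decide +kernel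

theorem unique_one : ∀ y : Perm (Fin 6), y ^ 3 = 1 → (rot ^ 3 * y) ^ 2 = 1 →
    (c1 * (refl * dt) * (c1 * c1) * y) ^ 5 = 1 → Perm.sign y = 1 →
    y = c2 ∨ y = tau1 * c2 * tau1 := by
  decide +kernel

theorem unique_two : ∀ y : Perm (Fin 6), y ^ 3 = 1 → (rot * y) ^ 2 = 1 →
    (refl * dt * y) ^ 2 = 1 → Perm.sign y = 1 → y = c1 ∨ y = tau2 * c1 * tau2 := by
  decide +kernel

theorem closed_contains : ∀ σ : Perm (Fin 6), σ ^ 3 = 1 → σ ≠ 1 → Perm.sign σ = 1 →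
    (∃ (a : DihedralGroup 4) (i : Fin 3), σ * rot = dihFun a * σ ^ i.val) →
    (∃ (a : DihedralGroup 4) (i : Fin 3), σ * refl = dihFun a * σ ^ i.val) →
    (∃ (a : DihedralGroup 4) (i : Fin 3), c1 = dihFun a * σ ^ i.val) ∨
      ∃ (a : DihedralGroup 4) (i : Fin 3), c2 = dihFun a * σ ^ i.val := by
  decide +kernel

/-! ### Consequences -/

/-- The elements as members of the alternating group of degree 5. -/
abbrev A5 := ↥(alternatingGroup (Fin 5))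

/-- The elements as members of the alternating group of degree 6. -/
abbrev A6 := ↥(alternatingGroup (Fin 6))

theorem eq_top_five {H : Subgroup A5} (hu : (⟨u5, data5.1.1⟩ : A5) ∈ H)
    (hv : (⟨v5, data5.1.2.1⟩ : A5) ∈ H) (hg : (⟨g5, data5.1.2.2.2⟩ : A5) ∈ H) : H = ⊤ := by
  have : IsSimpleGroup A5 := alternatingGroup.isSimpleGroup (by simp)
  have h3 : 3 ∣ Nat.card H := generate5_data.1 ▸ H.orderOf_dvd_natCard hg
  have h2 : 2 ∣ Nat.card H := by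
    refine dvd_trans (dvd_of_eq (orderOf_eq_prime (Subtype.ext ?_) ?_).symm) (H.orderOf_dvd_natCard hu)
    · show u5 ^ 2 = 1
      rw [pow_two]; exact generate5_data.2.1
    · intro h
      have := congrArg Subtype.val h
      revert this
      decide +kernel
  have : Fact (Nat.Prime 5) := ⟨by norm_num⟩
  have h5 : 5 ∣ Nat.card H := by
    refine dvd_trans (dvd_of_eq (orderOf_eq_prime (Subtype.ext ?_) ?_).symm)
      (H.orderOf_dvd_natCard (H.mul_mem hv hg))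
    · exact data5.2.2.2.1
    · intro h
      have := congrArg Subtype.val h
      revert this
      decide +kernel
  have hcard : Nat.card A5 = 60 := by
    rw [nat_card_alternatingGroup, Nat.card_fin]
    rfl
  have h30 : 30 ∣ Nat.card H :=
    Nat.Coprime.mul_dvd_of_dvd_of_dvd (by norm_num : Nat.Coprime 6 5)
      (Nat.Coprime.mul_dvd_of_dvd_of_dvd (by norm_num : Nat.Coprime 2 3) h2 h3) h5
  have hmul := H.card_mul_index
  rw [hcard] at hmul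
  have hi : H.index = 1 ∨ H.index = 2 := by
    obtain ⟨k, hk⟩ := h30
    rw [hk, Nat.mul_assoc] at hmul
    have : k * H.index = 2 := by omega
    exact (Nat.dvd_prime Nat.prime_two).mp (Dvd.intro_left k this)
  rcases hi with hi | hi
  · exact Subgroup.index_eq_one.mp hi
  · rcases (Subgroup.normal_of_index_eq_two hi).eq_bot_or_eq_top with h | h
    · rw [h, Subgroup.index_bot, hcard] at hi
      omega
    · exact h

theorem rigid_five (ψ : A5 →* A5) (hu : ψ ⟨u5, data5.1.1⟩ = ⟨u5, data5.1.1⟩)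
    (hv : ψ ⟨v5, data5.1.2.1⟩ = ⟨v5, data5.1.2.1⟩) (hc : ψ ⟨c5, data5.1.2.2.1⟩ = ⟨c5, data5.1.2.2.1⟩) :
    ∀ x, ψ x = x := by
  let y : A5 := ψ ⟨g5, data5.1.2.2.2⟩
  have hrel : ∀ (x : A5) (n : ℕ), ψ x = x → ((x : Perm (Fin 5)) * g5) ^ n = 1 →
      ((x : Perm (Fin 5)) * y.1) ^ n = 1 := by
    intro x n hx h
    have h1 : (x * ⟨g5, data5.1.2.2.2⟩ : A5) ^ n = 1 := Subtype.ext h
    have h2 := congrArg ψ h1
    rw [map_pow, map_mul, hx, map_one] at h2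
    exact congrArg Subtype.val h2
  obtain ⟨-, h3, hr1, hr2, hr3, hr4, hr5⟩ := data5
  have hcc : ψ (⟨c5, data5.1.2.2.1⟩ * ⟨c5, data5.1.2.2.1⟩) =
      ⟨c5, data5.1.2.2.1⟩ * ⟨c5, data5.1.2.2.1⟩ := by rw [map_mul, hc]
  have huc : ψ (⟨u5, data5.1.1⟩ * ⟨c5, data5.1.2.2.1⟩) =
      ⟨u5, data5.1.1⟩ * ⟨c5, data5.1.2.2.1⟩ := by rw [map_mul, hu, hc]
  have hy3 : y.1 ^ 3 = 1 := by
    have h2 := congrArg ψ (Subtype.ext h3 : (⟨g5, data5.1.2.2.2⟩ : A5) ^ 3 = 1)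
    rw [map_pow, map_one] at h2
    exact congrArg Subtype.val h2
  have hyg : y.1 = g5 := unique5 y.1 hy3 (hrel _ 2 hu hr1) (hrel _ 5 hv hr2) (hrel _ 5 hc hr3)
    (hrel _ 5 hcc hr4) (hrel _ 2 huc hr5) y.2
  have htop := eq_top_five (H := ψ.eqLocus (MonoidHom.id A5)) hu hv (Subtype.ext hyg)
  intro x
  exact (htop ▸ Subgroup.mem_top x : x ∈ ψ.eqLocus (MonoidHom.id A5))

theorem eq_top_six {H : Subgroup A6} (hr : (⟨rot, signs6.2.1⟩ : A6) ∈ H)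
    (hf : (⟨refl, signs6.2.2.1⟩ : A6) ∈ H) (h1 : (⟨c1, signs6.2.2.2.1⟩ : A6) ∈ H)
    (h2 : (⟨c2, signs6.2.2.2.2.1⟩ : A6) ∈ H) : H = ⊤ := by
  have : IsSimpleGroup A6 := alternatingGroup.isSimpleGroup (by simp)
  have hdih : ∀ a, (⟨dihFun a, (dihFun_mem a).1⟩ : A6) ∈ H := by
    rintro (i | i)
    · exact (Subtype.ext rfl : (⟨rot, signs6.2.1⟩ : A6) ^ i.val =
        ⟨dihFun (.r i), (dihFun_mem _).1⟩) ▸ pow_mem hr _
    · exact (Subtype.ext rfl : (⟨refl, signs6.2.2.1⟩ : A6) * ⟨rot, signs6.2.1⟩ ^ i.val =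
        ⟨dihFun (.sr i), (dihFun_mem _).1⟩) ▸ mul_mem hf (pow_mem hr _)
  let f : DihedralGroup 4 →* H := MonoidHom.mk' (fun a => ⟨⟨dihFun a, (dihFun_mem a).1⟩, hdih a⟩)
    fun a b => Subtype.ext (Subtype.ext (dihFun_mul a b))
  have h8 : 8 ∣ Nat.card H := by
    have hf' : Function.Injective f := fun a b h =>
      dihFun_injective (congrArg (fun q : H => q.1.1) h)
    have := Subgroup.card_dvd_of_injective f hf'
    rwa [DihedralGroup.nat_card] at this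
  have h3 : 3 ∣ Nat.card H := by
    refine dvd_trans (dvd_of_eq (orderOf_eq_prime (Subtype.ext ?_) ?_).symm) (H.orderOf_dvd_natCard h1)
    · exact tau_data.2.2.2.2.2.2.2.2.2.2.1
    · intro h
      have := congrArg Subtype.val h
      revert this
      decide +kernel
  let x5 : A6 := ⟨c1, signs6.2.2.2.1⟩ * (⟨refl, signs6.2.2.1⟩ * (⟨rot, signs6.2.1⟩ * ⟨rot, signs6.2.1⟩)) *
    (⟨c1, signs6.2.2.2.1⟩ * ⟨c1, signs6.2.2.2.1⟩) * ⟨c2, signs6.2.2.2.2.1⟩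
  have : Fact (Nat.Prime 5) := ⟨by norm_num⟩
  have h5 : 5 ∣ Nat.card H := by
    refine dvd_trans (dvd_of_eq (orderOf_eq_prime (x := x5) (Subtype.ext ?_) ?_).symm)
      (H.orderOf_dvd_natCard (mul_mem (mul_mem (mul_mem h1 (mul_mem hf (mul_mem hr hr)))
        (mul_mem h1 h1)) h2))
    · show (c1 * (AltSix.refl * (rot * rot)) * (c1 * c1) * c2) ^ 5 = 1
      decide +kernel
    · intro h
      have := congrArg Subtype.val h
      revert this
      decide +kernel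
  have hcard : Nat.card A6 = 360 := by
    rw [nat_card_alternatingGroup, Nat.card_fin]
    rfl
  have h120 : 120 ∣ Nat.card H :=
    Nat.Coprime.mul_dvd_of_dvd_of_dvd (by norm_num : Nat.Coprime 24 5)
      (Nat.Coprime.mul_dvd_of_dvd_of_dvd (by norm_num : Nat.Coprime 8 3) h8 h3) h5
  have hmul := H.card_mul_index
  rw [hcard] at hmul
  obtain ⟨k, hk⟩ := h120
  rw [hk, Nat.mul_assoc] at hmul
  have hk3 : k * H.index = 3 := by omega
  rcases (Nat.dvd_prime Nat.prime_three).mp (Dvd.intro_left k hk3) with hi | hi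
  · exact Subgroup.index_eq_one.mp hi
  · exfalso
    rcases H.normalCore_normal.eq_bot_or_eq_top with h | h
    · have hinj := Subgroup.card_dvd_of_injective (MulAction.toPermHom A6 (A6 ⧸ H))
        ((MonoidHom.ker_eq_bot_iff _).mp (by rw [← Subgroup.normalCore_eq_ker, h]))
      rw [hcard, Nat.card_perm, ← Subgroup.index_eq_card, hi] at hinj
      exact absurd (Nat.le_of_dvd (by decide) hinj) (by decide)
    · have := top_le_iff.mp (h ▸ H.normalCore_le)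
      rw [this, Subgroup.index_top] at hi
      omega

theorem rigid_six (ψ : A6 →* A6) (hr : ψ ⟨rot, signs6.2.1⟩ = ⟨rot, signs6.2.1⟩)
    (hf : ψ ⟨refl, signs6.2.2.1⟩ = ⟨refl, signs6.2.2.1⟩)
    (hc : ψ ⟨c1, signs6.2.2.2.1⟩ = ⟨c1, signs6.2.2.2.1⟩ ∨
      ψ ⟨c2, signs6.2.2.2.2.1⟩ = ⟨c2, signs6.2.2.2.2.1⟩) :
    (∀ x, ψ x = x) ∨ (∀ x, (ψ x).1 = tau1 * x.1 * tau1) ∨ (∀ x, (ψ x).1 = tau2 * x.1 * tau2) := by
  obtain ⟨ht1, ht2, r1, f1, k1, r2, f2, k2, hdt, -, h31, h32, rel1, rel2, rel3, rel4⟩ := tau_data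
  have hrel : ∀ (x g : A6) (n : ℕ), ψ x = x → (x.1 * g.1) ^ n = 1 →
      (x.1 * (ψ g).1) ^ n = 1 := by
    intro x g n hx h
    have h2 := congrArg ψ (Subtype.ext h : (x * g) ^ n = 1)
    rw [map_pow, map_mul, hx, map_one] at h2
    exact congrArg Subtype.val h2
  have hpow : ∀ g : A6, g.1 ^ 3 = 1 → (ψ g).1 ^ 3 = 1 := fun g h => by
    have h2 := congrArg ψ (Subtype.ext h : g ^ 3 = 1)
    rw [map_pow, map_one] at h2
    exact congrArg Subtype.val h2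
  -- conjugation by an odd involution commuting with the fixed elements
  have hconj : ∀ τ : Perm (Fin 6), τ * τ = 1 → τ * rot = rot * τ → τ * refl = refl * τ →
      (ψ ⟨c1, signs6.2.2.2.1⟩).1 = τ * c1 * τ → (ψ ⟨c2, signs6.2.2.2.2.1⟩).1 = τ * c2 * τ →
      ∀ x, (ψ x).1 = τ * x.1 * τ := by
    intro τ hτ tr tf e1 e2
    have hfix : ∀ {x : Perm (Fin 6)}, τ * x = x * τ → τ * x * τ = x := fun hx => by
      rw [hx, mul_assoc, hτ, mul_one]
    have hinv : τ⁻¹ = τ := inv_eq_of_mul_eq_one_left hτ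
    let φ : A6 →* Perm (Fin 6) := (MulAut.conj τ).toMonoidHom.comp (alternatingGroup (Fin 6)).subtype
    have hφ : ∀ x, φ x = τ * x.1 * τ := fun x => by
      show τ * x.1 * τ⁻¹ = _
      rw [hinv]
    have htop := eq_top_six (H := ((alternatingGroup (Fin 6)).subtype.comp ψ).eqLocus φ)
      (show (ψ _).1 = φ _ by rw [hr, hφ, hfix tr])
      (show (ψ _).1 = φ _ by rw [hf, hφ, hfix tf])
      (show (ψ _).1 = φ _ by rw [e1, hφ])
      (show (ψ _).1 = φ _ by rw [e2, hφ])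
    intro x
    rw [← hφ]
    exact (htop ▸ Subgroup.mem_top x : x ∈ ((alternatingGroup (Fin 6)).subtype.comp ψ).eqLocus φ)
  have hid : ψ ⟨c1, signs6.2.2.2.1⟩ = ⟨c1, signs6.2.2.2.1⟩ →
      ψ ⟨c2, signs6.2.2.2.2.1⟩ = ⟨c2, signs6.2.2.2.2.1⟩ → ∀ x, ψ x = x := by
    intro e1 e2 x
    have htop := eq_top_six (H := ψ.eqLocus (MonoidHom.id A6)) hr hf e1 e2
    exact (htop ▸ Subgroup.mem_top x : x ∈ ψ.eqLocus (MonoidHom.id A6))
  rcases hc with hc | hc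
  · let x2 : A6 := ⟨c1, signs6.2.2.2.1⟩ * (⟨refl, signs6.2.2.1⟩ * (⟨rot, signs6.2.1⟩ * ⟨rot, signs6.2.1⟩)) *
      (⟨c1, signs6.2.2.2.1⟩ * ⟨c1, signs6.2.2.2.1⟩)
    have hx2 : ψ x2 = x2 := by
      show ψ (_ * (_ * (_ * _)) * (_ * _)) = _
      rw [map_mul, map_mul, map_mul, map_mul, map_mul, hr, hf, hc]
    have hx2v : x2.1 = c1 * (refl * dt) * (c1 * c1) := by rw [hdt]; rfl
    have hr3 : ((⟨rot, signs6.2.1⟩ : A6) ^ 3).1 = rot ^ 3 := SubmonoidClass.coe_pow _ _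
    have hy1 : (rot ^ 3 * (ψ ⟨c2, signs6.2.2.2.2.1⟩).1) ^ 2 = 1 := by
      have := hrel (⟨rot, signs6.2.1⟩ ^ 3) ⟨c2, signs6.2.2.2.2.1⟩ 2 (by rw [map_pow, hr])
        (by rw [hr3]; exact rel1)
      rwa [hr3] at this
    have hy2 : (c1 * (refl * dt) * (c1 * c1) * (ψ ⟨c2, signs6.2.2.2.2.1⟩).1) ^ 5 = 1 := by
      have := hrel x2 ⟨c2, signs6.2.2.2.2.1⟩ 5 hx2 (by rw [hx2v]; exact rel2)
      rwa [hx2v] at this
    rcases unique_one (ψ ⟨c2, signs6.2.2.2.2.1⟩).1 (hpow _ h32)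
      hy1 hy2
      (ψ _).2 with h | h
    · exact Or.inl (hid hc (Subtype.ext h))
    · refine Or.inr (Or.inl (hconj tau1 ht1 r1 f1 ?_ h))
      rw [hc]
      exact (by rw [k1, mul_assoc, ht1, mul_one] : tau1 * c1 * tau1 = c1).symm
  · let x4 : A6 := ⟨refl, signs6.2.2.1⟩ * (⟨rot, signs6.2.1⟩ * ⟨rot, signs6.2.1⟩)
    have hx4 : ψ x4 = x4 := by
      show ψ (_ * (_ * _)) = _
      rw [map_mul, map_mul, hr, hf]
    have hx4v : x4.1 = refl * dt := by rw [hdt]; rfl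
    rcases unique_two (ψ ⟨c1, signs6.2.2.2.1⟩).1 (hpow _ h31)
      (hrel ⟨rot, signs6.2.1⟩ ⟨c1, signs6.2.2.2.1⟩ 2 hr rel3)
      (by have := hrel x4 ⟨c1, signs6.2.2.2.1⟩ 2 hx4 (by rw [hx4v]; exact rel4)
          rwa [hx4v] at this)
      (ψ _).2 with h | h
    · exact Or.inl (hid (Subtype.ext h) hc)
    · refine Or.inr (Or.inr (hconj tau2 ht2 r2 f2 h ?_))
      rw [hc]
      exact (by rw [k2, mul_assoc, ht2, mul_one] : tau2 * c2 * tau2 = c2).symm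

end CfsgLib.InvChar.AltRigid
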