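import Mathlib
import Cfsg.Agent.S3278
import Cfsg.Agent.S0497
import Cfsg.Agent.Lib.InvChar.AltFiveSixRigid
import Cfsg.Agent.Lib.Involutions.Transfer
import Cfsg.Agent.Lib.PCore.Basic

/-!
Pieces of the recognition of the symmetric group of degree 6 by the centralizer of an involution:
odd groups with a fixed-point-free four group, groups with a self-centralizing four group, the
extension of the simple group of order 360, and the impossibility of the one of order 168.
-/

set_option autoImplicit false

namespace CfsgLib.InvChar.SymSix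

open Subgroup

variable {G : Type*} [Group G]

theorem odd_pow_two_eq_one {X : Type*} [Group X] [Finite X] (hX : Odd (Nat.card X)) {y : X}
    (hy : y * y = 1) : y = 1 := by
  have h1 : orderOf y ∣ Nat.gcd 2 (Nat.card X) :=
    Nat.dvd_gcd (orderOf_dvd_of_pow_eq_one (by rw [pow_two, hy])) (orderOf_dvd_natCard y)
  have h2 : Nat.gcd 2 (Nat.card X) = 1 := Nat.coprime_two_left.mpr hX
  rw [h2, Nat.dvd_one] at h1
  exact orderOf_eq_one_iff.mp h1

/-- A fixed-point-free involution inverts a group of odd order. -/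
theorem inverts_of_fpf [Finite G] {X : Subgroup G} (hX : Odd (Nat.card X)) {u : G} (hu : u * u = 1)
    (hn : ∀ x ∈ X, u * x * u ∈ X) (hf : ∀ x ∈ X, u * x = x * u → x = 1) :
    ∀ x ∈ X, u * x * u = x⁻¹ := by
  let φ : X → X := fun x => ⟨x.1⁻¹ * (u * x.1 * u), X.mul_mem (X.inv_mem x.2) (hn _ x.2)⟩
  have hφ : Function.Injective φ := by
    intro a b hab
    have h : a.1⁻¹ * (u * a.1 * u) = b.1⁻¹ * (u * b.1 * u) := congrArg Subtype.val hab
    have h1 : u * (b.1 * a.1⁻¹) = (b.1 * a.1⁻¹) * u := by
      have h2 : b.1 * a.1⁻¹ = u * b.1 * u * (u * a.1 * u)⁻¹ := by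
        rw [eq_mul_inv_iff_mul_eq, mul_assoc, h, mul_inv_cancel_left]
      have hui : u⁻¹ = u := inv_eq_of_mul_eq_one_left hu
      have h3 : u * b.1 * u * (u * a.1 * u)⁻¹ = u * (b.1 * a.1⁻¹) * u := by
        rw [mul_inv_rev, mul_inv_rev, hui]
        simp only [mul_assoc]
        rw [← mul_assoc u u, hu, one_mul]
      have h4 := h2.trans h3
      calc u * (b.1 * a.1⁻¹) = u * (b.1 * a.1⁻¹) * (u * u) := by rw [hu, mul_one]
        _ = (u * (b.1 * a.1⁻¹) * u) * u := by rw [← mul_assoc]
        _ = (b.1 * a.1⁻¹) * u := by rw [← h4]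
    exact (Subtype.ext (mul_inv_eq_one.mp (hf _ (X.mul_mem b.2 (X.inv_mem a.2)) h1))).symm
  have hsurj : Function.Surjective φ := Finite.injective_iff_surjective.mp hφ
  intro x hx
  obtain ⟨a, ha⟩ := hsurj ⟨x, hx⟩
  have h : a.1⁻¹ * (u * a.1 * u) = x := congrArg Subtype.val ha
  have hui : u⁻¹ = u := inv_eq_of_mul_eq_one_left hu
  rw [← h]
  have huu : ∀ b : G, u * (u * b) = b := fun b => by rw [← mul_assoc, hu, one_mul]
  simp [mul_assoc, hui, hu]

/-- A four group acting fixed-point-freely on a group of odd order: that group is trivial. -/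
theorem eq_bot_of_four_fpf [Finite G] {X : Subgroup G} (hX : Odd (Nat.card X)) {u v : G}
    (hu : u * u = 1) (hv : v * v = 1) (huv : u * v = v * u)
    (hun : ∀ x ∈ X, u * x * u ∈ X) (hvn : ∀ x ∈ X, v * x * v ∈ X)
    (hfu : ∀ x ∈ X, u * x = x * u → x = 1) (hfv : ∀ x ∈ X, v * x = x * v → x = 1)
    (hfuv : ∀ x ∈ X, u * v * x = x * (u * v) → x = 1) : X = ⊥ := by
  rw [eq_bot_iff]
  intro x hx
  have h1 := inverts_of_fpf hX hu hun hfu
  have h2 := inverts_of_fpf hX hv hvn hfv
  have h3 : u * v * x * (v * u) = x := by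
    have h4 : u * (v * x * v) * u = x := by rw [h2 x hx, h1 _ (X.inv_mem hx), inv_inv]
    simpa only [mul_assoc] using h4
  refine hfuv x hx ?_
  calc u * v * x = u * v * x * ((v * u) * (u * v)) := by
        rw [show (v * u) * (u * v) = v * (u * u) * v by simp only [mul_assoc], hu, mul_one, hv,
          mul_one]
    _ = (u * v * x * (v * u)) * (u * v) := by rw [← mul_assoc]
    _ = x * (u * v) := by rw [h3]

/-- Groups with a self-centralizing four group, no odd core and no larger Sylow 2-subgroup. -/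
theorem klein_case {L : Type*} [Group L] [Finite L] (z w c : L) (hz : orderOf z = 2)
    (hw : orderOf w = 2) (hzw : z ≠ w) (hcom : z * w = w * z)
    (hC : ∀ x, x * z = z * x → x = 1 ∨ x = z ∨ x = w ∨ x = z * w)
    (hc3 : c ^ 3 = 1) (hcz : c * z * c⁻¹ = w) (hcw : c * w * c⁻¹ = z * w)
    (h8 : ¬ 8 ∣ Nat.card L) (hodd : ∀ X : Subgroup L, X.Normal → Odd (Nat.card X) → X = ⊥)
    (ψ : L →* L) (hψi : Function.Injective ψ) (hψz : ψ z = z) (hψw : ψ w = w) (hψc : ψ c = c) :
    Nat.card L = 12 ∨ ∀ x, ψ x = x := by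
  classical
  have : Fact (Nat.Prime 2) := ⟨Nat.prime_two⟩
  have hz2 : z * z = 1 := by rw [← pow_two, ← hz, pow_orderOf_eq_one]
  have hw2 : w * w = 1 := by rw [← pow_two, ← hw, pow_orderOf_eq_one]
  have hz1 : z ≠ 1 := fun h => by rw [h, orderOf_one] at hz; omega
  have hw1 : w ≠ 1 := fun h => by rw [h, orderOf_one] at hw; omega
  let V : Subgroup L :=
    { carrier := {x | x = 1 ∨ x = z ∨ x = w ∨ x = z * w}
      one_mem' := Or.inl rfl
      mul_mem' := by
        intro a b ha hb
        have hzz : ∀ y, z * (z * y) = y := fun y => by rw [← mul_assoc, hz2, one_mul]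
        have hww : ∀ y, w * (w * y) = y := fun y => by rw [← mul_assoc, hw2, one_mul]
        have hwz : ∀ y, w * (z * y) = z * (w * y) := fun y => by
          rw [← mul_assoc, ← hcom, mul_assoc]
        simp only [Set.mem_ofPred_eq] at ha hb ⊢
        rcases ha with rfl | rfl | rfl | rfl <;> rcases hb with rfl | rfl | rfl | rfl <;>
          simp [mul_assoc, hz2, hw2, hzz, hww, hwz, ← hcom]
      inv_mem' := by
        intro a ha
        simp only [Set.mem_ofPred_eq] at ha ⊢
        rcases ha with rfl | rfl | rfl | rfl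
        · simp
        · exact Or.inr (Or.inl (inv_eq_of_mul_eq_one_left hz2))
        · exact Or.inr (Or.inr (Or.inl (inv_eq_of_mul_eq_one_left hw2)))
        · refine Or.inr (Or.inr (Or.inr ?_))
          rw [mul_inv_rev, inv_eq_of_mul_eq_one_left hz2, inv_eq_of_mul_eq_one_left hw2, hcom] }
  have hzV : z ∈ V := Or.inr (Or.inl rfl)
  have hwV : w ∈ V := Or.inr (Or.inr (Or.inl rfl))
  have hzw' : z * w ≠ 1 := fun h => hzw (mul_right_cancel (h.trans hw2.symm))
  have hV4 : Nat.card V = 4 := by
    have hset : (V : Set L) = ↑({1, z, w, z * w} : Finset L) := by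
      ext x; simp [V]
    rw [← SetLike.coe_sort_coe, hset, Nat.card_coe_set_eq, Set.ncard_coe_finset]
    rw [Finset.card_insert_of_notMem, Finset.card_insert_of_notMem, Finset.card_pair]
    · intro h; exact hz1 (by simpa using h.symm)
    · simp only [Finset.mem_insert, Finset.mem_singleton, not_or]
      exact ⟨hzw, fun h => hw1 (by simpa using h.symm)⟩
    · simp only [Finset.mem_insert, Finset.mem_singleton, not_or]
      exact ⟨Ne.symm hz1, Ne.symm hw1, Ne.symm hzw'⟩
  -- the conjugates of `z` in `V`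
  have hcinj : ∀ {a b : L}, c * a * c⁻¹ = c * b * c⁻¹ → a = b :=
    fun h => mul_left_cancel (mul_right_cancel h)
  have hccw : c * (z * w) * c⁻¹ = z := by
    rw [← conj_mul, hcz, hcw, ← mul_assoc, ← hcom, mul_assoc, hw2, mul_one]
  have hpow : ∀ v ∈ V, v ≠ 1 → ∃ i : ℕ, i < 3 ∧ c ^ i * z * (c ^ i)⁻¹ = v := by
    intro v hv hv1
    rcases hv with rfl | rfl | rfl | rfl
    · exact absurd rfl hv1
    · exact ⟨0, by norm_num, by simp⟩
    · exact ⟨1, by norm_num, by rw [pow_one, hcz]⟩
    · refine ⟨2, by norm_num, ?_⟩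
      rw [pow_two, mul_inv_rev, ← hcw, ← hcz]
      simp only [mul_assoc]
  have hCv : ∀ v ∈ V, v ≠ 1 → ∀ x, x * v = v * x → x ∈ V := by
    intro v hv hv1 x hx
    obtain ⟨i, -, rfl⟩ := hpow v hv hv1
    have h1 : ((c ^ i)⁻¹ * x * c ^ i) * z = z * ((c ^ i)⁻¹ * x * c ^ i) := by
      have := congrArg (fun y => (c ^ i)⁻¹ * y * c ^ i) hx
      simpa [mul_assoc] using this
    have h2 : (c ^ i)⁻¹ * x * c ^ i ∈ V := hC _ h1
    have hVc : ∀ y ∈ V, c * y * c⁻¹ ∈ V := by
      rintro y (rfl | rfl | rfl | rfl)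
      · simp [V.one_mem]
      · rw [hcz]; exact hwV
      · rw [hcw]; exact V.mul_mem hzV hwV
      · rw [hccw]; exact hzV
    have hVci : ∀ (j : ℕ), ∀ y ∈ V, c ^ j * y * (c ^ j)⁻¹ ∈ V := by
      intro j
      induction j with
      | zero => intro y hy; simpa using hy
      | succ j ih =>
        intro y hy
        rw [pow_succ', mul_inv_rev]
        have := hVc _ (ih y hy)
        simpa only [mul_assoc] using this
    have h3 := hVci i _ h2
    simpa [mul_assoc] using h3
  -- every element normalizing `V` is fixed by `ψ`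
  have hfixV : ∀ v ∈ V, ψ v = v := by
    rintro v (rfl | rfl | rfl | rfl)
    exacts [map_one ψ, hψz, hψw, by rw [map_mul, hψz, hψw]]
  have hnorm : ∀ g, g * z * g⁻¹ ∈ V → ψ g = g ∧ ∃ i < 3, ∃ v ∈ V, g = c ^ i * v := by
    intro g hg
    have hg1 : g * z * g⁻¹ ≠ 1 := fun h => hz1 (conj_eq_one_iff.mp h)
    obtain ⟨i, hi, he⟩ := hpow _ hg hg1
    have h1 : (c ^ i)⁻¹ * g ∈ V := by
      refine hC _ ?_
      have := congrArg (fun y => (c ^ i)⁻¹ * y * g) he
      simpa [mul_assoc] using this.symm
    have he : g = c ^ i * ((c ^ i)⁻¹ * g) := (mul_inv_cancel_left _ _).symm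
    refine ⟨?_, i, hi, _, h1, he⟩
    rw [he, map_mul, map_pow, hψc, hfixV _ h1]
  have h4L : 4 ∣ Nat.card L := hV4 ▸ V.card_subgroup_dvd_card
  have hfac : ∀ {n : ℕ}, 2 ^ n ∣ Nat.card L → n ≤ 2 := fun {n} hn => by
    by_contra hlt
    exact h8 ((Nat.pow_dvd_pow 2 (by omega : 3 ≤ n)).trans hn)
  let N : Subgroup L := Subgroup.normalClosure {z}
  have hzN : z ∈ N := Subgroup.subset_normalClosure rfl
  have hwN : w ∈ N := hcz ▸ (Subgroup.normalClosure_normal).conj_mem z hzN c
  have hVN : V ≤ N := by
    rintro x (rfl | rfl | rfl | rfl)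
    exacts [N.one_mem, hzN, hwN, N.mul_mem hzN hwN]
  by_cases hNc : ∀ x ∈ N, x * z = z * x
  · left
    have hNV : N ≤ V := fun x hx => hC x (hNc x hx)
    refine le_antisymm ?_ ?_
    · have hall : ∀ g : L, ∃ i : Fin 3, ∃ v : V, c ^ i.val * v.1 = g := by
        intro g
        obtain ⟨-, i, hi, v, hv, he⟩ :=
          hnorm g (hNV ((Subgroup.normalClosure_normal).conj_mem z hzN g))
        exact ⟨⟨i, hi⟩, ⟨v, hv⟩, he.symm⟩
      have := Nat.card_le_card_of_surjective (fun p : Fin 3 × V => c ^ p.1.val * p.2.1) fun g => by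
        obtain ⟨i, v, he⟩ := hall g
        exact ⟨(i, v), he⟩
      rwa [Nat.card_prod, Nat.card_fin, hV4] at this
    · have hc1 : c ≠ 1 := fun h => hzw (by rw [← hcz, h]; simp)
      have h3 : 3 ∣ Nat.card L := by
        have : Fact (Nat.Prime 3) := ⟨Nat.prime_three⟩
        exact orderOf_eq_prime hc3 hc1 ▸ orderOf_dvd_natCard c
      exact Nat.le_of_dvd Nat.card_pos
        (Nat.Coprime.mul_dvd_of_dvd_of_dvd (by norm_num : Nat.Coprime 4 3) h4L h3)
  · right
    simp only [not_forall] at hNc
    obtain ⟨x₀, hx₀, hx₀z⟩ := hNc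
    have hNn : N.Normal := Subgroup.normalClosure_normal
    have hzn : (⟨z, hzN⟩ : N) ≠ 1 := fun h => hz1 (congrArg Subtype.val h)
    have hNnt : Nontrivial N := ⟨⟨⟨z, hzN⟩, 1, hzn⟩⟩
    -- a Sylow 2-subgroup of `N`
    let VN : Subgroup N := V.subgroupOf N
    have hVN4 : Nat.card VN = 4 :=
      (Nat.card_congr (Subgroup.subgroupOfEquivOfLe hVN).toEquiv).trans hV4
    obtain ⟨P, hP⟩ := (IsPGroup.of_card (p := 2) (n := 2) (G := VN) (by rw [hVN4]; norm_num)).exists_le_sylow
    have hPV : VN = (P : Subgroup N) := by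
      refine Subgroup.eq_of_le_of_card_ge hP ?_
      obtain ⟨n, hn⟩ := IsPGroup.iff_card.mp P.isPGroup'
      rw [hVN4, hn]
      have := hfac (hn ▸ (P : Subgroup N).card_subgroup_dvd_card.trans N.card_subgroup_dvd_card)
      exact (Nat.pow_le_pow_right (by norm_num) this).trans (by norm_num)
    have hoddN : ∀ Q : Subgroup N, Q.Normal → Odd (Nat.card Q) → Q = ⊥ := by
      intro Q hQ hQo
      -- the subgroup generated by all normal odd subgroups is characteristic
      have hcop : (Nat.card Q).Coprime 2 := Nat.coprime_two_right.mpr hQo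
      have hle : Q ≤ Cfsg.oddCore N :=
        CfsgLib.PCore.le_pPrimeCore hQ hcop
      have hoc : ((Cfsg.oddCore N).map N.subtype) = ⊥ := by
        refine hodd _ ?_ ?_
        · have : (Cfsg.oddCore N).Characteristic := inferInstance
          infer_instance
        · rw [Subgroup.card_subtype]
          exact Nat.coprime_two_right.mp (CfsgLib.PCore.pPrimeCore_coprime)
      rw [Subgroup.map_eq_bot_iff_of_injective _ N.subtype_injective] at hoc
      exact le_bot_iff.mp (hoc ▸ hle)
    have hsimple : IsSimpleGroup N := by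
      refine ⟨fun M hM => ?_⟩
      by_contra! hh
      obtain ⟨hMbot, hMtop⟩ := hh
      -- an involution of `V` in `M`
      have heven : 2 ∣ Nat.card M := by
        by_contra hn
        exact hMbot (hoddN M hM (Nat.odd_iff.mpr (by omega)))
      obtain ⟨⟨m, hmM⟩, hm⟩ := exists_prime_orderOf_dvd_card' 2 heven
      rw [← Subgroup.orderOf_coe] at hm
      obtain ⟨Q, hQ⟩ := (IsPGroup.of_card (p := 2) (n := 1) (G := Subgroup.zpowers m)
        (by rw [Nat.card_zpowers, hm, pow_one])).exists_le_sylow
      obtain ⟨g, hg⟩ := MulAction.exists_smul_eq N Q P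
      have hvP : g * m * g⁻¹ ∈ VN := by
        rw [hPV, ← hg, Sylow.coe_subgroup_smul]
        exact Subgroup.mem_map_of_mem _ (hQ (Subgroup.mem_zpowers m))
      have hvM : g * m * g⁻¹ ∈ M := hM.conj_mem m hmM g
      set v := g * m * g⁻¹ with hv
      have hvo : orderOf v = 2 := by
        rw [hv, orderOf_eq_prime_iff]
        rw [orderOf_eq_prime_iff] at hm
        exact ⟨by rw [conj_pow, hm.1, mul_one, mul_inv_cancel],
          fun h => hm.2 (conj_eq_one_iff.mp h)⟩
      have hv1 : (v : L) ≠ 1 := fun h => by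
        rw [show v = 1 from Subtype.ext h, orderOf_one] at hvo
        omega
      by_cases h4M : 4 ∣ Nat.card M
      · -- `M` contains a Sylow 2-subgroup, hence all conjugates of `z`
        refine hMtop ?_
        obtain ⟨R⟩ : Nonempty (Sylow 2 M) := inferInstance
        let R' : Subgroup N := (R : Subgroup M).map M.subtype
        have hR'4 : 4 ≤ Nat.card R' := by
          rw [Subgroup.card_subtype, R.card_eq_multiplicity]
          have : 2 ≤ (Nat.card M).factorization 2 :=
            (Nat.Prime.pow_dvd_iff_le_factorization Nat.prime_two Nat.card_pos.ne').mp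
              (show 2 ^ 2 ∣ _ by simpa using h4M)
          exact le_trans (by norm_num) (Nat.pow_le_pow_right (by norm_num) this)
        obtain ⟨R'', hR''⟩ := (R.isPGroup'.map M.subtype : IsPGroup 2 R').exists_le_sylow
        have hR''4 : Nat.card (R'' : Subgroup N) = 4 := by
          rw [← hVN4, hPV, R''.card_eq_multiplicity, P.card_eq_multiplicity]
        have hRM : (R'' : Subgroup N) ≤ M := by
          rw [← Subgroup.eq_of_le_of_card_ge hR'' (hR''4.trans_le hR'4)]
          exact Subgroup.map_subtype_le _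
        have hinvM : ∀ n : N, orderOf n = 2 → n ∈ M := by
          intro n hn
          obtain ⟨Q', hQ'⟩ := (IsPGroup.of_card (p := 2) (n := 1) (G := Subgroup.zpowers n)
            (by rw [Nat.card_zpowers, hn, pow_one])).exists_le_sylow
          obtain ⟨g', hg'⟩ := MulAction.exists_smul_eq N Q' R''
          have : g' * n * g'⁻¹ ∈ (R'' : Subgroup N) := by
            rw [← hg', Sylow.coe_subgroup_smul]
            exact Subgroup.mem_map_of_mem _ (hQ' (Subgroup.mem_zpowers n))
          have h2 := hM.conj_mem _ (hRM this) g'⁻¹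
          simpa [mul_assoc] using h2
        have hle : N ≤ M.map N.subtype := by
          show Subgroup.closure (Group.conjugatesOfSet {z}) ≤ _
          rw [Subgroup.closure_le]
          intro y hy
          obtain ⟨a, ha, hay⟩ := Group.mem_conjugatesOfSet_iff.mp hy
          rw [Set.mem_singleton_iff] at ha
          subst ha
          obtain ⟨k, rfl⟩ := isConj_iff.mp hay
          have hyN : k * a * k⁻¹ ∈ N := hNn.conj_mem a hzN k
          refine ⟨⟨_, hyN⟩, hinvM _ ?_, rfl⟩
          rw [← Subgroup.orderOf_coe]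
          show orderOf (k * a * k⁻¹) = 2
          rw [← MulAut.conj_apply, MulEquiv.orderOf_eq, hz]
        rw [eq_top_iff]
        intro n _
        obtain ⟨y, hy, he⟩ := hle n.2
        exact Subtype.ext he ▸ hy
      · -- `M` has twice odd order
        obtain ⟨k, hk⟩ := heven
        have hko : Odd k := by
          rcases Nat.even_or_odd k with ⟨j, hj⟩ | ho
          · exact absurd ⟨j, by omega⟩ h4M
          · exact ho
        obtain ⟨Q, hQ⟩ := CfsgLib.Involutions.exists_index_two_of_card_eq_two_mul_odd hko hk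
        have hQn : Q.Normal := Subgroup.normal_of_index_eq_two hQ
        have hQcard : Nat.card Q = k := by
          have := Q.card_mul_index
          rw [hQ, hk] at this
          omega
        have hQle : Q ≤ Cfsg.oddCore M :=
          CfsgLib.PCore.le_pPrimeCore hQn (Nat.coprime_two_right.mpr (hQcard ▸ hko))
        have hQbot : Q = ⊥ := by
          have h1 := hoddN ((Cfsg.oddCore M).map M.subtype) (by
              have : (Cfsg.oddCore M).Characteristic := inferInstance
              infer_instance)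
            (by rw [Subgroup.card_subtype]; exact Nat.coprime_two_right.mp (CfsgLib.PCore.pPrimeCore_coprime))
          rw [Subgroup.map_eq_bot_iff_of_injective _ M.subtype_injective] at h1
          exact le_bot_iff.mp (h1 ▸ hQle)
        rw [hQbot, Subgroup.index_bot] at hQ
        have hM2 : ∀ y ∈ M, y = 1 ∨ y = v := by
          intro y hy
          by_contra! hne
          cases nonempty_fintype M
          have h3 := Finset.card_le_univ ({⟨y, hy⟩, 1, ⟨v, hvM⟩} : Finset M)
          rw [Finset.card_insert_of_notMem, Finset.card_pair, ← Nat.card_eq_fintype_card, hQ] at h3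
          · omega
          · intro h
            have h' : v = 1 := (congrArg Subtype.val h).symm
            exact hv1 (by rw [h']; rfl)
          · rw [Finset.mem_insert, Finset.mem_singleton]
            rintro (h | h)
            exacts [hne.1 (congrArg Subtype.val h), hne.2 (congrArg Subtype.val h)]
        have hcent : ∀ n : N, n * v = v * n := by
          intro n
          rcases hM2 _ (hM.conj_mem v hvM n) with h | h
          · exact absurd (congrArg Subtype.val (conj_eq_one_iff.mp h)) hv1
          · exact mul_inv_eq_iff_eq_mul.mp h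
        have hxV := hCv v.1 hvP hv1 x₀ (congrArg Subtype.val (hcent ⟨x₀, hx₀⟩))
        apply hx₀z
        rcases hxV with rfl | rfl | rfl | rfl
        · simp
        · rfl
        · exact hcom.symm
        · rw [mul_assoc, ← hcom]
    -- `N` is alternating of degree five
    have hVsq : ∀ v : VN, v ^ 2 = 1 := by
      intro v
      apply Subtype.ext
      apply Subtype.ext
      show (v.1.1) ^ 2 = 1
      rw [pow_two]
      rcases v.2 with h | h | h | h <;> simp only [Subgroup.coe_subtype] at h <;> rw [h]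
      · rw [one_mul]
      · exact hz2
      · exact hw2
      · rw [mul_assoc, ← mul_assoc w, ← hcom, mul_assoc z w w, hw2, mul_one, hz2]
    have hzVN : (⟨z, hzN⟩ : N) ∈ VN := hzV
    have hK : IsKleinFour VN := by
      refine ⟨hVN4, ?_⟩
      have hd : Monoid.exponent VN ∣ 2 := Monoid.exponent_dvd_of_forall_pow_eq_one hVsq
      rcases (Nat.dvd_prime Nat.prime_two).mp hd with h | h
      · have := Monoid.pow_exponent_eq_one (⟨_, hzVN⟩ : VN)
        rw [h, pow_one] at this
        exact absurd (congrArg Subtype.val this) hzn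
      · exact h
    have hzNo : orderOf (⟨z, hzN⟩ : N) = 2 := by rw [← Subgroup.orderOf_coe]; exact hz
    have hVle : VN ≤ Subgroup.centralizer ({⟨z, hzN⟩} : Set N) := by
      intro v hv
      rw [Subgroup.mem_centralizer_singleton_iff]
      apply Subtype.ext
      show v.1 * z = z * v.1
      rcases hv with h | h | h | h <;> simp only [Subgroup.coe_subtype] at h <;> rw [h]
      · simp
      · exact hcom.symm
      · rw [mul_assoc, ← hcom]
    have hVge : Subgroup.centralizer ({⟨z, hzN⟩} : Set N) ≤ VN := fun v hv =>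
      hC v.1 (congrArg Subtype.val (Subgroup.mem_centralizer_singleton_iff.mp hv))
    have hrel : VN.relIndex (Subgroup.centralizer ({⟨z, hzN⟩} : Set N)) = 1 :=
      Subgroup.relIndex_eq_one.mpr hVge
    obtain ⟨e⟩ := Cfsg.Agent.S3278.result (⟨z, hzN⟩ : N) hzNo VN hVle hK
      (by rw [hrel]; norm_num)
      (by
        rw [Subgroup.subgroupOf_eq_top.mpr hVge]
        infer_instance)
    -- the four group of `A₅` containing `u5` and `v5`, moved to `V`
    open AltRigid in
    obtain ⟨U, hUu, hUv⟩ : ∃ U : Sylow 2 A5, (⟨u5, data5.1.1⟩ : A5) ∈ (U : Subgroup A5) ∧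
        (⟨v5, data5.1.2.1⟩ : A5) ∈ (U : Subgroup A5) := by
      let u : A5 := ⟨u5, data5.1.1⟩
      let v : A5 := ⟨v5, data5.1.2.1⟩
      have hu2 : u * u = 1 := Subtype.ext generate5_data.2.1
      have hv2 : v * v = 1 := Subtype.ext generate5_data.2.2.1
      have huv : u * v = v * u := Subtype.ext generate5_data.2.2.2.1
      have hu2' : IsPGroup 2 (Subgroup.zpowers u) := fun a => ⟨1, by
        obtain ⟨k, hk⟩ := Subgroup.mem_zpowers_iff.mp a.2
        apply Subtype.ext
        rw [Subgroup.coe_pow, ← hk, pow_one, pow_two, ← (Commute.refl u).mul_zpow, hu2, one_zpow]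
        rfl⟩
      have hv2' : IsPGroup 2 (Subgroup.zpowers v) := fun a => ⟨1, by
        obtain ⟨k, hk⟩ := Subgroup.mem_zpowers_iff.mp a.2
        apply Subtype.ext
        rw [Subgroup.coe_pow, ← hk, pow_one, pow_two, ← (Commute.refl v).mul_zpow, hv2, one_zpow]
        rfl⟩
      have hle : Subgroup.zpowers u ≤ Subgroup.normalizer (Subgroup.zpowers v : Set A5) := by
        refine le_trans ?_ (Subgroup.centralizer_le_normalizer _)
        rw [Subgroup.zpowers_le, Subgroup.mem_centralizer_iff]
        intro y hy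
        obtain ⟨k, rfl⟩ := Subgroup.mem_zpowers_iff.mp hy
        exact (Commute.zpow_right (show Commute u v from huv) k).eq.symm
      obtain ⟨U, hU⟩ := (hu2'.to_sup_of_normal_right' hv2' hle).exists_le_sylow
      exact ⟨U, hU (Subgroup.mem_sup_left (Subgroup.mem_zpowers u)),
        hU (Subgroup.mem_sup_right (Subgroup.mem_zpowers v))⟩
    obtain ⟨k, hk⟩ := MulAction.exists_smul_eq N (U.mapSurjective (f := e.symm.toMonoidHom) e.symm.surjective) P
    let f : AltRigid.A5 →* N := (MulAut.conj k).toMonoidHom.comp e.symm.toMonoidHom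
    have hfi : Function.Injective f := (MulAut.conj k).injective.comp e.symm.injective
    have hfs : Function.Surjective f := (MulAut.conj k).surjective.comp e.symm.surjective
    have hfV : ∀ x ∈ (U : Subgroup AltRigid.A5), (f x).1 ∈ V := by
      intro x hx
      have h1 : f x ∈ (P : Subgroup N) := by
        rw [← hk, Sylow.coe_subgroup_smul]
        exact Subgroup.mem_map_of_mem _ (Subgroup.mem_map_of_mem _ hx)
      rw [← hPV] at h1
      exact h1
    have hψN : ∀ x ∈ N, ψ x ∈ N := by
      have hle : N ≤ N.comap ψ := by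
        show Subgroup.closure (Group.conjugatesOfSet {z}) ≤ _
        rw [Subgroup.closure_le]
        intro y hy
        obtain ⟨a, ha, hay⟩ := Group.mem_conjugatesOfSet_iff.mp hy
        rw [Set.mem_singleton_iff] at ha
        subst ha
        obtain ⟨g, rfl⟩ := isConj_iff.mp hay
        show ψ (g * a * g⁻¹) ∈ N
        rw [map_mul, map_mul, map_inv, hψz]
        exact hNn.conj_mem a hzN _
      exact hle
    let ψN : N →* N := (ψ.comp N.subtype).codRestrict N (fun x => hψN x.1 x.2)
    have hψNi : ∀ x, (ψN x).1 = ψ x.1 := fun _ => rfl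
    let eN : AltRigid.A5 ≃* N := MulEquiv.ofBijective f ⟨hfi, hfs⟩
    let ψ5 : AltRigid.A5 →* AltRigid.A5 := eN.symm.toMonoidHom.comp (ψN.comp eN.toMonoidHom)
    have hfix : ∀ x, ψ (f x).1 = (f x).1 → ψ5 x = x := fun x hx => by
      apply eN.injective
      show eN (eN.symm (ψN (f x))) = f x
      rw [eN.apply_symm_apply]
      exact Subtype.ext hx
    open AltRigid in
    have hall : ∀ x, ψ5 x = x := by
      let u : A5 := ⟨u5, data5.1.1⟩
      let v : A5 := ⟨v5, data5.1.2.1⟩
      let g : A5 := ⟨c5, data5.1.2.2.1⟩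
      refine rigid_five ψ5 (hfix _ (hfixV _ (hfV _ hUu))) (hfix _ (hfixV _ (hfV _ hUv))) (hfix _ ?_)
      -- `g` sends the involutions of `U` into `U`
      have hgU : ∀ y : A5, (y.1 = u5 ∨ y.1 = v5 ∨ y.1 = u5 * v5) →
          g * y * g⁻¹ ∈ (U : Subgroup A5) := by
        have hdata : ∀ σ : Equiv.Perm (Fin 5), (σ = u5 ∨ σ = v5 ∨ σ = u5 * v5) →
            c5 * σ * c5⁻¹ = u5 ∨ c5 * σ * c5⁻¹ = v5 ∨ c5 * σ * c5⁻¹ = u5 * v5 := by
          decide +kernel
        intro y hy
        rcases hdata y.1 hy with h | h | h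
        · exact (Subtype.ext h : g * y * g⁻¹ = u) ▸ hUu
        · exact (Subtype.ext h : g * y * g⁻¹ = v) ▸ hUv
        · exact (Subtype.ext h : g * y * g⁻¹ = u * v) ▸ mul_mem hUu hUv
      -- `z` is the image of one of them
      have hsub : ∀ v' ∈ V, v' ≠ 1 → ∃ y : A5,
          (y.1 = u5 ∨ y.1 = v5 ∨ y.1 = u5 * v5) ∧ (f y).1 = v' := by
        intro v' hv' hv'1
        have hcases := fun x hx => (hfV x hx)
        obtain ⟨y, hy⟩ := hfs ⟨v', hVN hv'⟩
        have hyU : y ∈ (U : Subgroup A5) := by
          have h1 : f y ∈ (P : Subgroup N) := by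
            rw [hy, ← hPV]
            exact hv'
          rw [← hk, Sylow.coe_subgroup_smul] at h1
          obtain ⟨y1, hy1, he1⟩ := h1
          obtain ⟨y2, hy2, rfl⟩ := hy1
          exact hfi he1 ▸ hy2
        have hU4 : Nat.card (U : Subgroup A5) = 4 := by
          rw [U.card_eq_multiplicity, Nat.card_congr eN.toEquiv, ← P.card_eq_multiplicity, ← hPV,
            hVN4]
        by_contra! hne
        classical
        have h5 := Finset.card_le_univ
          ({⟨1, one_mem _⟩, ⟨u, hUu⟩, ⟨v, hUv⟩, ⟨u * v, mul_mem hUu hUv⟩, ⟨y, hyU⟩} :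
            Finset (U : Subgroup A5))
        have hy' : (f y).1 = v' := by rw [hy]
        have n1 : y ≠ 1 := fun h => hv'1 (by rw [← hy', h, map_one]; rfl)
        have n2 : y ≠ u := fun h => hne y (Or.inl (congrArg Subtype.val h)) hy'
        have n3 : y ≠ v := fun h => hne y (Or.inr (Or.inl (congrArg Subtype.val h))) hy'
        have n4 : y ≠ u * v := fun h => hne y (Or.inr (Or.inr (congrArg Subtype.val h))) hy'
        have d : (u5 ≠ 1 ∧ v5 ≠ 1 ∧ u5 * v5 ≠ 1 ∧ u5 ≠ v5 ∧ u5 ≠ u5 * v5 ∧ v5 ≠ u5 * v5) := by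
          decide +kernel
        rw [← Nat.card_eq_fintype_card, hU4, Finset.card_insert_of_notMem,
          Finset.card_insert_of_notMem, Finset.card_insert_of_notMem, Finset.card_pair] at h5
        · omega
        · intro h; exact n4 (congrArg Subtype.val h).symm
        · simp only [Finset.mem_insert, Finset.mem_singleton, Subtype.mk.injEq, not_or]
          exact ⟨fun h => d.2.2.2.2.2 (congrArg Subtype.val h), Ne.symm n3⟩
        · simp only [Finset.mem_insert, Finset.mem_singleton, Subtype.mk.injEq, not_or]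
          exact ⟨fun h => d.2.2.2.1 (congrArg Subtype.val h),
            fun h => d.2.2.2.2.1 (congrArg Subtype.val h), Ne.symm n2⟩
        · simp only [Finset.mem_insert, Finset.mem_singleton, Subtype.mk.injEq, not_or]
          exact ⟨fun h => d.1 (congrArg Subtype.val h).symm, fun h => d.2.1 (congrArg Subtype.val h).symm,
            fun h => d.2.2.1 (congrArg Subtype.val h).symm, Ne.symm n1⟩
      obtain ⟨y, hy, hyz⟩ := hsub z hzV hz1
      refine (hnorm _ ?_).1
      have h1 := hfV _ (hgU y hy)
      rw [map_mul, map_mul, map_inv, Subgroup.coe_mul, Subgroup.coe_mul, Subgroup.coe_inv, hyz] at h1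
      exact h1
    have hψNall : ∀ n ∈ N, ψ n = n := by
      intro n hn
      obtain ⟨x, hx⟩ := hfs ⟨n, hn⟩
      have h1 := congrArg eN (hall x)
      have h2 : ψN (f x) = f x := by
        rw [show eN (ψ5 x) = eN (eN.symm (ψN (f x))) from rfl, eN.apply_symm_apply] at h1
        exact h1
      rw [hx] at h2
      exact congrArg Subtype.val h2
    intro x
    have hcent : ∀ n ∈ N, x⁻¹ * ψ x * n = n * (x⁻¹ * ψ x) := by
      intro n hn
      have h1 := hψNall _ (hNn.conj_mem n hn x)
      rw [map_mul, map_mul, hψNall n hn, map_inv] at h1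
      have h2 := congrArg (fun y => x⁻¹ * y * ψ x) h1
      simpa [mul_assoc] using h2
    have hV := hC (x⁻¹ * ψ x) (hcent z hzN)
    obtain hd | hd | hd | hd := hV
    · exact (inv_mul_eq_one.mp hd).symm
    all_goals
      exfalso
      apply hx₀z
      have hx0 := hcent x₀ hx₀
      rw [hd] at hx0
    · exact hx0.symm
    · have := hCv w hwV hw1 x₀ hx0.symm
      rcases this with rfl | rfl | rfl | rfl
      · simp
      · rfl
      · exact hcom.symm
      · rw [mul_assoc, ← hcom]
    · have := hCv _ (V.mul_mem hzV hwV) hzw' x₀ hx0.symm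
      rcases this with rfl | rfl | rfl | rfl
      · simp
      · rfl
      · exact hcom.symm
      · rw [mul_assoc, ← hcom]

/-- An extension of the alternating group of degree 6 by conjugation with an odd involution. -/
theorem equiv_perm_six [Finite G] (H : Subgroup G) (hi : H.index = 2) (t : G) (ht : t * t = 1) (htH : t ∉ H)
    (e : H ≃* ↥(alternatingGroup (Fin 6))) (τ : Equiv.Perm (Fin 6)) (hτ : τ * τ = 1)
    (hτo : Equiv.Perm.sign τ = -1)
    (hconj : ∀ (h : H) (h' : H), (h' : G) = t * h * t → (e h').1 = τ * (e h).1 * τ) :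
    Nonempty (G ≃* Equiv.Perm (Fin 6)) := by
  classical
  have hHn : H.Normal := Subgroup.normal_of_index_eq_two hi
  have hmul := fun {a b : G} => Subgroup.mul_mem_iff_of_index_two hi (a := a) (b := b)
  have hgt : ∀ {g : G}, g ∉ H → g * t ∈ H := fun hg => hmul.mpr (iff_of_false hg htH)
  have hcj : ∀ h : H, t * h.1 * t ∈ H := fun h => by
    have := hHn.conj_mem h.1 h.2 t
    rwa [inv_eq_of_mul_eq_one_left ht] at this
  let F : G → Equiv.Perm (Fin 6) := fun g =>
    if hg : g ∈ H then (e ⟨g, hg⟩).1 else (e ⟨g * t, hgt hg⟩).1 * τ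
  have hFin : ∀ (g : G) (hg : g ∈ H), F g = (e ⟨g, hg⟩).1 := fun g hg => dif_pos hg
  have hFout : ∀ (g : G) (hg : g ∉ H), F g = (e ⟨g * t, hgt hg⟩).1 * τ := fun g hg => dif_neg hg
  have hev : ∀ h : H, (e h).1 ∈ alternatingGroup (Fin 6) := fun h => (e h).2
  have hmulF : ∀ a b, F (a * b) = F a * F b := by
    intro a b
    by_cases ha : a ∈ H <;> by_cases hb : b ∈ H
    · rw [hFin a ha, hFin b hb, hFin _ (H.mul_mem ha hb), ← Subgroup.coe_mul, ← map_mul]
      rfl
    · have hab : a * b ∉ H := fun h => hb ((H.mul_mem_cancel_left ha).mp h)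
      rw [hFin a ha, hFout b hb, hFout _ hab, ← mul_assoc, ← Subgroup.coe_mul, ← map_mul]
      congr 3
      apply Subtype.ext
      show a * b * t = a * (b * t)
      rw [mul_assoc]
    · have hab : a * b ∉ H := fun h => ha ((H.mul_mem_cancel_right hb).mp h)
      rw [hFout a ha, hFin b hb, hFout _ hab]
      have h1 := hconj ⟨b, hb⟩ ⟨t * b * t, hcj ⟨b, hb⟩⟩ rfl
      have h2 : (⟨a * b * t, hgt hab⟩ : H) = ⟨a * t, hgt ha⟩ * ⟨t * b * t, hcj ⟨b, hb⟩⟩ := by
        apply Subtype.ext
        show a * b * t = a * t * (t * b * t)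
        rw [← mul_assoc, ← mul_assoc, mul_assoc a t t, ht, mul_one]
      rw [h2, map_mul, Subgroup.coe_mul, h1]
      simp only [mul_assoc, hτ, mul_one]
    · have hab : a * b ∈ H := hmul.mpr (iff_of_false ha hb)
      rw [hFout a ha, hFout b hb, hFin _ hab]
      have h1 := hconj ⟨b * t, hgt hb⟩ ⟨t * (b * t) * t, hcj ⟨b * t, hgt hb⟩⟩ rfl
      have h2 : (⟨a * b, hab⟩ : H) = ⟨a * t, hgt ha⟩ * ⟨t * (b * t) * t, hcj ⟨b * t, hgt hb⟩⟩ := by
        apply Subtype.ext
        show a * b = a * t * (t * (b * t) * t)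
        rw [← mul_assoc, ← mul_assoc, mul_assoc a t t, ht, mul_one, ← mul_assoc, mul_assoc (a * b) t t,
          ht, mul_one]
      rw [h2, map_mul, Subgroup.coe_mul, h1]
      simp only [mul_assoc]
  let φ : G →* Equiv.Perm (Fin 6) := MonoidHom.mk' F hmulF
  have hinj : Function.Injective φ := by
    rw [injective_iff_map_eq_one]
    intro g hg
    by_cases hgH : g ∈ H
    · have h : (e ⟨g, hgH⟩).1 = 1 := (hFin g hgH).symm.trans hg
      have h' : e ⟨g, hgH⟩ = 1 := Subtype.ext h
      rw [map_eq_one_iff _ e.injective] at h'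
      exact congrArg Subtype.val h'
    · exfalso
      have h : (e ⟨g * t, hgt hgH⟩).1 * τ = 1 := (hFout g hgH).symm.trans hg
      have h' := congrArg Equiv.Perm.sign h
      rw [map_mul, Equiv.Perm.mem_alternatingGroup.mp (hev _), hτo, map_one, one_mul] at h'
      exact absurd h' (by decide)
  have hcard : Nat.card G = Nat.card (Equiv.Perm (Fin 6)) := by
    rw [← H.card_mul_index, hi, Nat.card_congr e.toEquiv, Nat.card_perm, Nat.card_fin,
      nat_card_alternatingGroup, Nat.card_fin]
    rfl
  exact ⟨MulEquiv.ofBijective φ ((Nat.bijective_iff_injective_and_card φ).mpr ⟨hinj, hcard⟩)⟩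

/-- No group of order 336 with a simple subgroup of order 168 has an involution outside it with
centralizer of order 48. -/
theorem not_card_168 [Finite G] (H : Subgroup G) (hi : H.index = 2) (hH : Nat.card H = 168)
    (hs : IsSimpleGroup H) (t : G) (ht : orderOf t = 2) (htH : t ∉ H)
    (hC : Nat.card (Subgroup.centralizer ({t} : Set G)) = 48)
    (hCc : ∀ k ∈ Subgroup.center G, k = 1 ∨ k = t) : False := by
  classical
  have hG : Nat.card G = 336 := by rw [← H.card_mul_index, hH, hi]
  let φ := MulAction.toPermHom (ConjAct G) (MulAction.orbit (ConjAct G) t)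
  let X := MulAction.orbit (ConjAct G) t
  have hX : Nat.card X = 7 := by
    have h1 := MulAction.index_stabilizer (ConjAct G) t
    have h2 := (MulAction.stabilizer (ConjAct G) t).card_mul_index
    rw [show Nat.card (ConjAct G) = Nat.card G from rfl, hG,
      show Nat.card (MulAction.stabilizer (ConjAct G) t) = 48 from ?_, h1] at h2
    · show Nat.card (X : Type _) = 7
      rw [Nat.card_coe_set_eq]
      simp only [X]
      omega
    · rw [← hC]
      refine Nat.card_congr ?_
      exact ConjAct.ofConjAct.toEquiv.subtypeEquiv fun g => by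
        rw [MulAction.mem_stabilizer_iff, ConjAct.smul_def]
        show _ ↔ ConjAct.ofConjAct g ∈ _
        rw [Subgroup.mem_centralizer_singleton_iff, mul_inv_eq_iff_eq_mul]
  let ψ : G →* Equiv.Perm X := φ.comp ConjAct.toConjAct.toMonoidHom
  have hψap : ∀ (g : G) (x : X), (ψ g x).1 = g * x.1 * g⁻¹ := fun g x => by
    show (ConjAct.toConjAct g • x.1) = _
    rw [ConjAct.smul_def, ConjAct.ofConjAct_toConjAct]
  have hker : ψ.ker = ⊥ := by
    rw [eq_bot_iff]
    intro k hk
    have hHk : H ⊓ ψ.ker = ⊥ := by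
      have := Subgroup.normal_of_index_eq_two hi
      rcases (inferInstance : (ψ.ker.subgroupOf H).Normal).eq_bot_or_eq_top with h | h
      · rw [eq_bot_iff]
        intro x hx
        have : (⟨x, hx.1⟩ : H) ∈ ψ.ker.subgroupOf H := hx.2
        rw [h, Subgroup.mem_bot] at this
        exact congrArg Subtype.val this
      · exfalso
        -- then `t` is centralized by `H`
        have hle : H ≤ Subgroup.centralizer ({t} : Set G) := fun x hx => by
          have hxk : x ∈ ψ.ker := (h ▸ Subgroup.mem_top (⟨x, hx⟩ : H) : _ ∈ ψ.ker.subgroupOf H)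
          have := hψap x ⟨t, MulAction.mem_orbit_self t⟩
          rw [MonoidHom.mem_ker.mp hxk] at this
          exact Subgroup.mem_centralizer_singleton_iff.mpr (eq_mul_inv_iff_mul_eq.mp this).symm
        have := Subgroup.card_le_of_le hle
        omega
    have hkc : k ∈ Subgroup.center G := by
      rw [Subgroup.mem_center_iff]
      intro g
      have hn := Subgroup.normal_of_index_eq_two hi
      have hmem : g * k * g⁻¹ * k⁻¹ ∈ H ⊓ ψ.ker := by
        refine ⟨?_, ψ.ker.mul_mem ((inferInstance : ψ.ker.Normal).conj_mem k hk g) (inv_mem hk)⟩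
        have hm := fun {a b : G} => Subgroup.mul_mem_iff_of_index_two hi (a := a) (b := b)
        show g * k * g⁻¹ * k⁻¹ ∈ H
        rw [hm, hm, hm, inv_mem_iff, inv_mem_iff]
        tauto
      rw [hHk, Subgroup.mem_bot] at hmem
      exact mul_inv_eq_iff_eq_mul.mp (mul_inv_eq_one.mp hmem)
    rcases hCc k hkc with rfl | rfl
    · exact one_mem _
    · exfalso
      have hall : Subgroup.centralizer ({k} : Set G) = ⊤ := by
        rw [eq_top_iff]
        intro g _
        exact Subgroup.mem_centralizer_singleton_iff.mpr (Subgroup.mem_center_iff.mp hkc g)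
      rw [hall, Subgroup.card_top] at hC
      omega
  have hψi : Function.Injective ψ := (MonoidHom.ker_eq_bot_iff ψ).mp hker
  have hW : Nat.card ψ.range = 336 := by
    rw [← hG]
    exact (Nat.card_congr (MonoidHom.ofInjective hψi).toEquiv).symm
  have : Fintype X := Fintype.ofFinite _
  have hX' : Fintype.card X = 7 := by rw [← Nat.card_eq_fintype_card, hX]
  have : Fact (Nat.Prime 7) := ⟨by norm_num⟩
  have : Fact (Nat.Prime 2) := ⟨Nat.prime_two⟩
  obtain ⟨⟨σ, hσW⟩, hσ⟩ := exists_prime_orderOf_dvd_card' (G := ψ.range) 7 (by rw [hW]; norm_num)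
  rw [← Subgroup.orderOf_coe] at hσ
  have hσc : σ.IsCycle := Equiv.Perm.isCycle_of_prime_order' (by rw [hσ]; norm_num)
    (by rw [hσ, hX']; norm_num)
  have hσs : σ.support = Finset.univ := by
    refine Finset.eq_univ_of_card _ ?_
    rw [← hσc.orderOf, hX', hσ]
  have hperm : Nat.card (Equiv.Perm X) = 5040 := by
    rw [Nat.card_perm, hX]
    rfl
  have hnoswap : ∀ τ ∈ ψ.range, ¬ τ.IsSwap := by
    intro τ hτ hsw
    have htop := Equiv.Perm.closure_prime_cycle_swap (hX' ▸ (by norm_num : Nat.Prime 7)) hσc hσs hsw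
    have hle : Subgroup.closure ({σ, τ} : Set (Equiv.Perm X)) ≤ ψ.range := by
      rw [Subgroup.closure_le]
      rintro y (rfl | rfl)
      exacts [hσW, hτ]
    rw [htop, top_le_iff] at hle
    rw [hle, Subgroup.card_top, hperm] at hW
    omega
  have hidx : ψ.range.index = 15 := by
    have := ψ.range.card_mul_index
    rw [hW, hperm] at this
    omega
  obtain ⟨a, b, hab⟩ := Fintype.exists_pair_of_one_lt_card (α := X) (by rw [hX']; norm_num)
  have hp : IsPGroup 2 (Subgroup.zpowers (Equiv.swap a b)) := IsPGroup.of_card (n := 1) (by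
    rw [Nat.card_zpowers, pow_one]
    exact Equiv.Perm.IsSwap.orderOf ⟨a, b, hab, rfl⟩)
  have hnd : ¬ 2 ∣ Nat.card (Equiv.Perm X ⧸ ψ.range) := by
    rw [← Subgroup.index_eq_card, hidx]
    norm_num
  obtain ⟨q, hq⟩ := hp.nonempty_fixed_point_of_prime_not_dvd_card (Equiv.Perm X ⧸ ψ.range) hnd
  obtain ⟨g, rfl⟩ := QuotientGroup.mk_surjective q
  have h1 := hq ⟨_, Subgroup.mem_zpowers _⟩
  have h2 : g⁻¹ * Equiv.swap a b * g ∈ ψ.range := by
    have h3 : ((Equiv.swap a b * g : Equiv.Perm X) : Equiv.Perm X ⧸ ψ.range) = g := h1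
    have := QuotientGroup.eq.mp h3.symm
    rwa [← mul_assoc] at this
  refine hnoswap _ h2 ⟨g⁻¹ a, g⁻¹ b, g⁻¹.injective.ne hab, ?_⟩
  ext x
  simp only [Equiv.Perm.mul_apply, Equiv.swap_apply_def]
  split_ifs with ha hb ha' hb' <;> simp_all [Equiv.Perm.inv_def, Equiv.eq_symm_apply, Equiv.symm_apply_eq]

end CfsgLib.InvChar.SymSix
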