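import Cfsg.Agent.Lib.InvChar.Conj
import Mathlib.GroupTheory.SpecificGroups.Cyclic
import Mathlib.Tactic.LinearCombination
import Mathlib.RingTheory.Coprime.Lemmas
import Mathlib.Data.Set.Finite.Lemmas

set_option autoImplicit false

/-!
Finite non-abelian 2-groups with a single involution: a cyclic subgroup of index two, all outside
elements squaring to the involution and inverting it.
-/

namespace CfsgLib.InvChar

variable {Q : Type*} [Group Q] [Finite Q]

/-- An abelian subgroup of a 2-group with one involution is cyclic. -/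
theorem exists_zpowers_eq_of_commute (hQ : IsPGroup 2 Q) (h1 : ∀ u v : Q, orderOf u = 2 → orderOf v = 2 → u = v)
    (A : Subgroup Q) (hA : ∀ u ∈ A, ∀ v ∈ A, Commute u v) : ∃ a, A = Subgroup.zpowers a := by
  obtain ⟨f, hfA, hfmax⟩ := Set.exists_max_image (A : Set Q) orderOf (Set.toFinite _) ⟨1, A.one_mem⟩
  refine ⟨f, le_antisymm ?_ (Subgroup.zpowers_le.2 hfA)⟩
  have hsq : ∀ w ∈ A, w ^ 2 ∈ Subgroup.zpowers f → w ∈ Subgroup.zpowers f := by
    intro w hw hw2
    by_contra hwn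
    obtain ⟨j, hj⟩ := Subgroup.mem_zpowers_iff.1 hw2
    obtain ⟨m, hm⟩ := IsPGroup.iff_orderOf.1 hQ f
    obtain ⟨l, hl⟩ := IsPGroup.iff_orderOf.1 hQ w
    have hlm : l ≤ m := (Nat.pow_le_pow_iff_right (by norm_num : 1 < 2)).1 (hl ▸ hm ▸ hfmax w hw)
    have hm0 : m ≠ 0 := by
      rintro rfl
      obtain rfl : l = 0 := by omega
      rw [pow_zero, orderOf_eq_one_iff] at hl
      exact hwn (hl ▸ one_mem _)
    have ht : orderOf (f ^ (2 ^ (m - 1))) = 2 := by
      rw [orderOf_pow, hm, Nat.gcd_eq_right (Nat.pow_dvd_pow 2 (Nat.sub_le _ _)), Nat.pow_div (Nat.sub_le _ _) two_pos,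
        show m - (m - 1) = 1 by omega, pow_one]
    rcases Int.even_or_odd' j with ⟨c, rfl | rfl⟩
    · set s := w * (f ^ c)⁻¹ with hs
      have hs2 : s ^ 2 = 1 := by
        rw [hs, (hA w hw _ (A.inv_mem (A.zpow_mem hfA c))).mul_pow, ← hj, inv_pow, ← zpow_natCast (f ^ c),
          ← zpow_mul, mul_comm c, Nat.cast_ofNat, mul_inv_cancel]
      have hs1 : s ≠ 1 := fun h => hwn (by
        rw [mul_inv_eq_one.1 h]; exact Subgroup.zpow_mem _ (Subgroup.mem_zpowers f) c)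
      have := h1 s _ (orderOf_eq_prime (hp := ⟨Nat.prime_two⟩) hs2 hs1) ht
      exact hwn (by
        rw [mul_inv_eq_iff_eq_mul.1 this]
        exact mul_mem (pow_mem (Subgroup.mem_zpowers f) _) (zpow_mem (Subgroup.mem_zpowers f) c))
    · have hpow : f ^ ((2 * c + 1) * (2 ^ (m - 1) : ℕ)) = 1 := by
        rw [zpow_mul, hj, zpow_natCast, ← pow_mul, ← pow_succ', show m - 1 + 1 = m by omega,
          ← orderOf_dvd_iff_pow_eq_one, hl]
        exact Nat.pow_dvd_pow 2 hlm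
      have hd := orderOf_dvd_iff_zpow_eq_one.2 hpow
      rw [hm] at hd
      obtain ⟨m', rfl⟩ : ∃ m', m = m' + 1 := ⟨m - 1, by omega⟩
      simp only [Nat.add_sub_cancel, pow_succ] at hd
      push_cast at hd
      have hd' : (2 : ℤ) ∣ 2 * c + 1 :=
        Int.dvd_of_mul_dvd_mul_left (a := (2 : ℤ) ^ m') (pow_ne_zero _ two_ne_zero) (by rwa [mul_comm ((2 : ℤ) ^ m') (2 * c + 1)])
      omega
  intro u hu
  obtain ⟨k, hk⟩ := IsPGroup.iff_orderOf.1 hQ u
  have : ∀ i : ℕ, ∀ y ∈ A, y ^ (2 ^ i) ∈ Subgroup.zpowers f → y ∈ Subgroup.zpowers f := by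
    intro i
    induction i with
    | zero => intro y _ h; simpa using h
    | succ i ih =>
      intro y hy h
      rw [pow_succ, pow_mul] at h
      exact ih y hy (hsq _ (A.pow_mem hy _) h)
  exact this k u hu (by rw [← hk, pow_orderOf_eq_one]; exact one_mem _)

/-- An element outside a self-centralizing cyclic normal subgroup whose square lies inside it
inverts the subgroup and squares to the involution. -/
theorem inverts_of_sq_mem (h1 : ∀ u v : Q, orderOf u = 2 → orderOf v = 2 → u = v) {a y : Q} {m : ℕ}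
    (ha : orderOf a = 2 ^ m) (hnorm : (Subgroup.zpowers a).Normal)
    (hcent : ∀ g, Commute g a → g ∈ Subgroup.zpowers a) (hy : y ∉ Subgroup.zpowers a)
    (hy2 : y ^ 2 ∈ Subgroup.zpowers a) :
    2 ≤ m ∧ y * a * y⁻¹ = a⁻¹ ∧ y ^ 2 = a ^ (2 ^ (m - 1)) := by
  obtain ⟨r, hr⟩ := Subgroup.mem_zpowers_iff.1 (hnorm.conj_mem a (Subgroup.mem_zpowers a) y)
  obtain ⟨s, hs⟩ := Subgroup.mem_zpowers_iff.1 hy2
  have hk : ∀ k : ℤ, y * a ^ k * y⁻¹ = a ^ (r * k) := fun k => by rw [← conj_zpow, ← hr, ← zpow_mul]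
  have hz : ∀ k : ℤ, a ^ k = 1 ↔ (2 : ℤ) ^ m ∣ k := fun k => by
    rw [← orderOf_dvd_iff_zpow_eq_one, ha]; simp
  have hzz : ∀ k l : ℤ, a ^ k = a ^ l ↔ (2 : ℤ) ^ m ∣ k - l := fun k l => by
    rw [← hz, zpow_sub, mul_inv_eq_one]
  have hr1 : ¬ (2 : ℤ) ^ m ∣ r - 1 := fun h => hy (hcent y (by
    rw [← hzz, hr, zpow_one] at h
    exact mul_inv_eq_iff_eq_mul.1 h))
  have hm1 : m ≠ 0 := by rintro rfl; simp at hr1
  -- fixed exponent, involutive exponent
  have hfix : (2 : ℤ) ^ m ∣ r * s - s := by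
    rw [← hzz, ← hk, hs, pow_two]; simp [mul_assoc]
  have hrr : (2 : ℤ) ^ m ∣ r * r - 1 := by
    rw [← hzz, ← hk, hr, zpow_one]
    have hc : Commute (y ^ 2) a := by rw [← hs]; exact (Commute.refl a).zpow_left s
    calc y * (y * a * y⁻¹) * y⁻¹ = y ^ 2 * a * (y ^ 2)⁻¹ := by simp [pow_two, mul_assoc]
      _ = a := by rw [hc.eq, mul_inv_cancel_right]
  have hnoinv : ∀ k : ℤ, ¬ (2 : ℤ) ^ m ∣ k * (1 + r) + s := by
    intro k hd
    have hsq : (a ^ k * y) ^ 2 = 1 := by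
      calc (a ^ k * y) ^ 2 = a ^ k * (y * a ^ k * y⁻¹) * y ^ 2 := by simp [pow_two, mul_assoc]
        _ = 1 := by rw [hk, ← hs, ← zpow_add, ← zpow_add, hz]; convert hd using 1; ring
    have hne : a ^ k * y ≠ 1 := fun h => hy (by
      rw [eq_inv_of_mul_eq_one_right h]; exact inv_mem (zpow_mem (Subgroup.mem_zpowers a) k))
    obtain ⟨m', rfl⟩ : ∃ m', m = m' + 1 := ⟨m - 1, by omega⟩
    have ht : orderOf (a ^ (2 ^ m')) = 2 := by
      rw [orderOf_pow, ha, Nat.gcd_eq_right (Nat.pow_dvd_pow 2 (by omega)), Nat.pow_div (by omega) two_pos]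
      simp
    have := h1 _ _ (orderOf_eq_prime (hp := ⟨Nat.prime_two⟩) hsq hne) ht
    exact hy (by
      rw [eq_inv_mul_iff_mul_eq.2 this]
      exact mul_mem (inv_mem (zpow_mem (Subgroup.mem_zpowers a) k)) (pow_mem (Subgroup.mem_zpowers a) _))
  obtain ⟨m', rfl⟩ : ∃ m', m = m' + 1 := ⟨m - 1, by omega⟩
  rw [pow_succ] at hfix hrr hr1
  have hcop : ∀ w : ℤ, Odd w → IsCoprime ((2 : ℤ) ^ m') w := fun w hw => by
    obtain ⟨c, rfl⟩ := hw
    exact IsCoprime.pow_left ⟨-c, 1, by ring⟩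
  have hodd : Odd r := by
    rw [← Int.not_even_iff_odd]
    rintro ⟨c, rfl⟩
    obtain ⟨e, he⟩ := dvd_trans (dvd_mul_left (2 : ℤ) _) hrr
    have h9 : 2 * (c * (c + c) - e) = 1 := by linear_combination he
    exact absurd (Dvd.intro _ h9 : (2 : ℤ) ∣ 1) (by decide)
  by_cases hneg : (2 : ℤ) ^ m' * 2 ∣ r + 1
  · have hinv : y * a * y⁻¹ = a⁻¹ := by
      rw [← hr, ← zpow_neg_one, hzz, pow_succ]
      simpa using hneg
    have hm2 : m' ≠ 0 := by
      rintro rfl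
      apply hr1
      obtain ⟨c, rfl⟩ := hodd
      exact ⟨c, by ring⟩
    refine ⟨by omega, hinv, ?_⟩
    have h2s : (2 : ℤ) ^ m' ∣ s := by
      have h3 : (2 : ℤ) ^ m' * 2 ∣ s * 2 := by
        have h4 := dvd_sub (dvd_mul_of_dvd_left hneg s) hfix
        rwa [show s * 2 = (r + 1) * s - (r * s - s) by ring]
      exact (mul_dvd_mul_iff_right two_ne_zero).1 h3
    obtain ⟨t, ht⟩ := h2s
    rw [Nat.add_sub_cancel, ← hs, ← zpow_natCast, hzz, ht]
    have htodd : Odd t := by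
      rw [← Int.not_even_iff_odd]
      rintro ⟨c, rfl⟩
      refine hnoinv 0 ?_
      rw [pow_succ, ht]
      exact ⟨c, by ring⟩
    obtain ⟨c, rfl⟩ := htodd
    rw [pow_succ]
    push_cast
    exact ⟨c, by ring⟩
  · exfalso
    by_cases h4 : (4 : ℤ) ∣ r + 1
    · obtain ⟨w, hw⟩ : ∃ w, r - 1 = 2 * w := by obtain ⟨c, hc⟩ := hodd; exact ⟨c, by omega⟩
      have hwodd : Odd w := by rw [Int.odd_iff]; omega
      have hv : (2 : ℤ) ^ m' ∣ r + 1 := by
        have h5 : (2 : ℤ) ^ m' * 2 ∣ (w * (r + 1)) * 2 := by convert hrr using 1; linear_combination -(r + 1) * hw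
        exact (hcop w hwodd).dvd_of_dvd_mul_left ((mul_dvd_mul_iff_right two_ne_zero).1 h5)
      obtain ⟨v, hv⟩ := hv
      have hvodd : Odd v := by
        rw [← Int.not_even_iff_odd]
        rintro ⟨c, rfl⟩
        exact hneg ⟨c, by rw [hv]; ring⟩
      have hs' : (2 : ℤ) ^ m' ∣ s := by
        have h5 : (2 : ℤ) ^ m' * 2 ∣ (w * s) * 2 := by convert hfix using 1; linear_combination -s * hw
        exact (hcop w hwodd).dvd_of_dvd_mul_left ((mul_dvd_mul_iff_right two_ne_zero).1 h5)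
      obtain ⟨t, ht⟩ := hs'
      obtain ⟨c, rfl⟩ := hvodd
      exact hnoinv t ⟨t * (c + 1), by rw [pow_succ, ht]; linear_combination t * hv⟩
    · obtain ⟨u, hu⟩ : ∃ u, r + 1 = 2 * u := by obtain ⟨c, hc⟩ := hodd; exact ⟨c + 1, by omega⟩
      have huodd : Odd u := by rw [Int.odd_iff]; omega
      have heven : ∃ s', s = 2 * s' := by
        rcases Int.even_or_odd' s with ⟨c, rfl | rfl⟩
        · exact ⟨c, rfl⟩
        · exfalso
          apply hr1
          have hco : IsCoprime ((2 : ℤ) ^ m' * 2) (2 * c + 1) := by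
            rw [← pow_succ]; exact IsCoprime.pow_left ⟨-c, 1, by ring⟩
          refine hco.dvd_of_dvd_mul_right ?_
          rwa [show (r - 1) * (2 * c + 1) = r * (2 * c + 1) - (2 * c + 1) by ring]
      obtain ⟨s', rfl⟩ := heven
      obtain ⟨α, β, hαβ⟩ := hcop u huodd
      exact hnoinv (-s' * β) ⟨s' * α, by
        rw [pow_succ]; linear_combination (-(s' * β)) * hu - 2 * s' * hαβ⟩

/-- A non-abelian 2-group with one involution `a ^ 2 ^ (m - 1)` has a cyclic subgroup of index two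
inverted by, and containing the squares of, all outside elements. -/
theorem exists_cyclic_index_two (hQ : IsPGroup 2 Q) (hnc : ¬ IsMulCommutative Q)
    (h1 : ∀ u v : Q, orderOf u = 2 → orderOf v = 2 → u = v) :
    ∃ (a : Q) (m : ℕ), 2 ≤ m ∧ orderOf a = 2 ^ m ∧ (Subgroup.zpowers a).index = 2 ∧
      ∀ y, y ∉ Subgroup.zpowers a → y * a * y⁻¹ = a⁻¹ ∧ y ^ 2 = a ^ (2 ^ (m - 1)) := by
  have : Fact (Nat.Prime 2) := ⟨Nat.prime_two⟩
  obtain ⟨A, -, hmax⟩ := Finite.exists_le_maximal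
    (p := fun H : Subgroup Q => H.Normal ∧ ∀ u ∈ H, ∀ v ∈ H, Commute u v) (a := (⊥ : Subgroup Q))
    ⟨inferInstance, fun u hu v _ => by rw [Subgroup.mem_bot.1 hu]; exact Commute.one_left v⟩
  obtain ⟨hAn, hAc⟩ := hmax.1
  obtain ⟨a, ha'⟩ := exists_zpowers_eq_of_commute hQ h1 A hAc
  obtain ⟨m, ha⟩ := IsPGroup.iff_orderOf.1 hQ a
  -- `A` is self-centralising
  have hcent : ∀ g, Commute g a → g ∈ A := by
    intro g hg
    by_contra hgA
    have hgC : g ∈ Subgroup.centralizer (A : Set Q) := by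
      intro u hu
      rw [SetLike.mem_coe, ha'] at hu
      obtain ⟨i, rfl⟩ := Subgroup.mem_zpowers_iff.1 hu
      exact (hg.zpow_right i).symm.eq
    have hne : (Subgroup.centralizer (A : Set Q)).map (QuotientGroup.mk' A) ≠ ⊥ := by
      intro h
      have hgm : (QuotientGroup.mk' A) g ∈ (⊥ : Subgroup (Q ⧸ A)) := h ▸ Subgroup.mem_map_of_mem _ hgC
      exact hgA ((QuotientGroup.eq_one_iff g).1 (Subgroup.mem_bot.1 hgm))
    have : ((Subgroup.centralizer (A : Set Q)).map (QuotientGroup.mk' A)).Normal :=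
      Subgroup.Normal.map inferInstance _ (QuotientGroup.mk'_surjective A)
    obtain ⟨x, ⟨c, hcC, rfl⟩, hx1, hxz⟩ := exists_ne_one_mem_center (hQ.to_quotient A) _ hne
    set N := (Subgroup.zpowers ((QuotientGroup.mk' A) c)).comap (QuotientGroup.mk' A) with hN
    have hNn : (Subgroup.zpowers ((QuotientGroup.mk' A) c)).Normal := by
      refine ⟨fun z hz g' => ?_⟩
      obtain ⟨i, rfl⟩ := Subgroup.mem_zpowers_iff.1 hz
      rw [Subgroup.mem_center_iff.1 ((Subgroup.center (Q ⧸ A)).zpow_mem hxz i) g', mul_inv_cancel_right]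
      exact hz
    have hNc : ∀ u ∈ N, ∃ i : ℤ, ∃ b ∈ A, u = b * c ^ i := by
      intro u hu
      obtain ⟨i, hi⟩ := Subgroup.mem_zpowers_iff.1 hu
      refine ⟨i, u * (c ^ i)⁻¹, (QuotientGroup.eq_one_iff _).1 ?_, by simp⟩
      show (QuotientGroup.mk' A) (u * (c ^ i)⁻¹) = 1
      rw [map_mul, map_inv, map_zpow, hi, mul_inv_cancel]
    have hle : A ≤ N := fun u hu => by
      rw [hN, Subgroup.mem_comap]
      show (u : Q ⧸ A) ∈ _
      rw [(QuotientGroup.eq_one_iff u).2 hu]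
      exact one_mem _
    have hNN : N.Normal ∧ ∀ u ∈ N, ∀ v ∈ N, Commute u v := by
      refine ⟨hNn.comap _, fun u hu v hv => ?_⟩
      obtain ⟨i, b, hb, rfl⟩ := hNc u hu
      obtain ⟨j, d, hd, rfl⟩ := hNc v hv
      have hcb : Commute b c := hcC b hb
      have hcd : Commute d c := hcC d hd
      exact ((hAc b hb d hd).mul_right (hcb.zpow_right j)).mul_left
        ((hcd.zpow_right i).symm.mul_right ((Commute.refl c).zpow_zpow i j))
    exact hx1 ((QuotientGroup.eq_one_iff c).2 (hmax.2 hNN hle (Subgroup.mem_zpowers _)))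
  rw [ha'] at hcent hAn
  have key := fun y hy hy2 => inverts_of_sq_mem h1 ha hAn hcent (y := y) hy hy2
  -- every square lies in `A`
  have hsq : ∀ g, g ^ 2 ∈ Subgroup.zpowers a := by
    intro g
    by_contra hg
    have hgA : g ∉ Subgroup.zpowers a := fun h => hg (pow_mem h 2)
    have hP : ∃ i : ℕ, (g ^ 2) ^ 2 ^ i ∈ Subgroup.zpowers a := by
      obtain ⟨k, hk⟩ := IsPGroup.iff_orderOf.1 hQ (g ^ 2)
      exact ⟨k, by rw [← hk, pow_orderOf_eq_one]; exact one_mem _⟩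
    classical
    set i := Nat.find hP with hi
    have hi0 : i ≠ 0 := fun h => hg (by simpa [← hi, h] using Nat.find_spec hP)
    obtain ⟨j, hj⟩ : ∃ j, i = j + 1 := ⟨i - 1, by omega⟩
    have hn : (g ^ 2) ^ 2 ^ j ∉ Subgroup.zpowers a := Nat.find_min hP (by omega)
    have hy : ((g ^ 2) ^ 2 ^ j) ^ 2 ∈ Subgroup.zpowers a := by
      rw [← pow_mul, ← pow_succ, ← hj]; exact Nat.find_spec hP
    obtain ⟨hm, hinv, -⟩ := key _ hn hy
    set z := g ^ 2 ^ j with hz
    have hz2 : z ^ 2 = (g ^ 2) ^ 2 ^ j := by rw [hz, ← pow_mul, ← pow_mul, mul_comm]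
    obtain ⟨r, hr⟩ := Subgroup.mem_zpowers_iff.1 (hAn.conj_mem a (Subgroup.mem_zpowers a) z)
    have : a ^ (r * r + 1) = 1 := by
      have h2 : z * (z * a * z⁻¹) * z⁻¹ = a⁻¹ := by rw [← hinv, ← hz2]; simp [pow_two, mul_assoc]
      rw [← hr, ← conj_zpow, ← hr, ← zpow_mul] at h2
      rw [zpow_add, h2, zpow_one, inv_mul_cancel]
    have h4 : (4 : ℤ) ∣ r * r + 1 := by
      refine dvd_trans ?_ (orderOf_dvd_iff_zpow_eq_one.2 this)
      rw [ha]
      obtain ⟨m', rfl⟩ : ∃ m', m = m' + 2 := ⟨m - 2, by omega⟩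
      exact ⟨2 ^ m', by push_cast; ring⟩
    obtain ⟨e, he⟩ := h4
    rcases Int.even_or_odd' r with ⟨c, rfl | rfl⟩ <;> ring_nf at he <;> omega
  obtain ⟨y₀, hy₀⟩ : ∃ y, y ∉ Subgroup.zpowers a := by
    by_contra h
    push Not at h
    refine hnc ⟨⟨fun u v => ?_⟩⟩
    obtain ⟨i, rfl⟩ := Subgroup.mem_zpowers_iff.1 (h u)
    obtain ⟨j, rfl⟩ := Subgroup.mem_zpowers_iff.1 (h v)
    rw [← zpow_add, ← zpow_add, add_comm]
  refine ⟨a, m, (key y₀ hy₀ (hsq y₀)).1, ha, Subgroup.index_eq_two_iff.2 ⟨y₀, fun b => ?_⟩,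
    fun y hy => (key y hy (hsq y)).2⟩
  by_cases hb : b ∈ Subgroup.zpowers a
  · exact Or.inr ⟨hb, fun h => hy₀ ((Subgroup.mul_mem_cancel_left _ hb).1 h)⟩
  · refine Or.inl ⟨hcent _ ?_, hb⟩
    have h2 := (key y₀ hy₀ (hsq y₀)).2.1
    have h3 := (key b hb (hsq b)).2.1
    refine mul_inv_eq_iff_eq_mul.1 ?_
    calc b * y₀ * a * (b * y₀)⁻¹ = b * (y₀ * a * y₀⁻¹) * b⁻¹ := by simp [mul_assoc]
      _ = b * a⁻¹ * b⁻¹ := by rw [h2]
      _ = (b * a * b⁻¹)⁻¹ := by simp [mul_assoc]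
      _ = a := by rw [h3, inv_inv]

end CfsgLib.InvChar
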