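import Cfsg.Agent.Lib.Schur.SLTwo
import Mathlib.FieldTheory.Finite.Basic

set_option autoImplicit false

/-!
Abstract properties of `SL₂(q)`, `q` odd, packaged for subgroups isomorphic to it.
-/

namespace CfsgLib.InvChar

open Matrix

variable {F : Type*} [Field F]

abbrev sl2Mk (a b c d : F) (h : a * d - b * c = 1) : SpecialLinearGroup (Fin 2) F :=
  ⟨!![a, b; c, d], by rw [det_fin_two_of]; exact h⟩

theorem sl2_entries (g : SpecialLinearGroup (Fin 2) F) :
    ∃ (a b c d : F) (h : a * d - b * c = 1), g = sl2Mk a b c d h := by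
  obtain ⟨A, hA⟩ := g
  refine ⟨A 0 0, A 0 1, A 1 0, A 1 1, ?_, Subtype.ext (Matrix.eta_fin_two A)⟩
  rw [← det_fin_two]; exact hA

theorem sl2_mul {a b c d a' b' c' d' : F} (h : a * d - b * c = 1) (h' : a' * d' - b' * c' = 1) :
    sl2Mk a b c d h * sl2Mk a' b' c' d' h' =
      sl2Mk (a * a' + b * c') (a * b' + b * d') (c * a' + d * c') (c * b' + d * d')
        (by linear_combination (a' * d' - b' * c') * h + h') := by
  refine Subtype.ext ?_
  show (!![a, b; c, d] : Matrix (Fin 2) (Fin 2) F) * !![a', b'; c', d'] = _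
  exact Matrix.mul_fin_two ..

theorem sl2_ext_iff {a b c d a' b' c' d' : F} (h : a * d - b * c = 1) (h' : a' * d' - b' * c' = 1) :
    sl2Mk a b c d h = sl2Mk a' b' c' d' h' ↔ a = a' ∧ b = b' ∧ c = c' ∧ d = d' := by
  constructor
  · intro he
    have := congrArg Subtype.val he
    exact ⟨congrFun (congrFun this 0) 0, congrFun (congrFun this 0) 1,
      congrFun (congrFun this 1) 0, congrFun (congrFun this 1) 1⟩
  · rintro ⟨rfl, rfl, rfl, rfl⟩; rfl

theorem sl2_one : (1 : SpecialLinearGroup (Fin 2) F) = sl2Mk 1 0 0 1 (by ring) :=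
  Subtype.ext (Matrix.one_fin_two)

theorem sl2_neg_one : (-1 : SpecialLinearGroup (Fin 2) F) = sl2Mk (-1) 0 0 (-1) (by ring) := by
  refine Subtype.ext ?_
  show -(1 : Matrix (Fin 2) (Fin 2) F) = !![-1, 0; 0, -1]
  rw [Matrix.one_fin_two]
  simp

theorem sl2_neg {a b c d : F} (h : a * d - b * c = 1) :
    -sl2Mk a b c d h = sl2Mk (-a) (-b) (-c) (-d) (by linear_combination h) := by
  refine Subtype.ext ?_
  show -(!![a, b; c, d] : Matrix (Fin 2) (Fin 2) F) = !![-a, -b; -c, -d]
  simp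

theorem eq_neg_one_of_sq (h2 : (2 : F) ≠ 0) {g : SpecialLinearGroup (Fin 2) F} (hg : g ≠ 1)
    (hgg : g * g = 1) : g = -1 := by
  obtain ⟨a, b, c, d, h, rfl⟩ := sl2_entries g
  rw [sl2_mul, sl2_one, sl2_ext_iff] at hgg
  obtain ⟨h00, h01, h10, h11⟩ := hgg
  have had : a + d ≠ 0 := fun h0 => h2 (by
    have hd : d = -a := by linear_combination h0
    subst hd; linear_combination -h00 - h)
  have hb : b = 0 := (mul_eq_zero.1 (by linear_combination h01 : b * (a + d) = 0)).resolve_right had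
  have hc : c = 0 := (mul_eq_zero.1 (by linear_combination h10 : c * (a + d) = 0)).resolve_right had
  subst hb hc
  have hda : d = a := by
    have ha : a ≠ 0 := by rintro rfl; simp at h
    exact mul_left_cancel₀ ha (by linear_combination h - h00)
  subst hda
  rcases mul_self_eq_one_iff.1 (by linear_combination h : d * d = 1) with rfl | rfl
  · exact absurd (by rw [sl2_one]) hg
  · rw [sl2_neg_one]

/-- Any two elements with square `-1` are conjugate. -/
theorem exists_conj_std [Fintype F] (h2 : (2 : F) ≠ 0) {g : SpecialLinearGroup (Fin 2) F}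
    (hg : g * g = -1) :
    ∃ P, P⁻¹ * g * P = sl2Mk (0 : F) (-1) 1 0 (by ring) := by
  obtain ⟨a, b, c, d, h, rfl⟩ := sl2_entries g
  rw [sl2_mul, sl2_neg_one, sl2_ext_iff] at hg
  obtain ⟨h00, h01, h10, h11⟩ := hg
  have htr : (a + d) * (a + d) = 0 := by linear_combination h00 + h11 + 2 * h
  obtain rfl : d = -a := by linear_combination mul_self_eq_zero.1 htr
  obtain ⟨x, y, hxy⟩ : ∃ x y : F, c * x ^ 2 + -2 * a * x * y - b * y ^ 2 = 1 := by
    by_cases hc : c = 0
    · subst hc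
      have ha : a ≠ 0 := by rintro rfl; simp at h
      refine ⟨(1 + b) / (-2 * a), 1, ?_⟩
      field_simp
      ring
    · obtain ⟨p, hp⟩ := CharP.exists F
      haveI : NeZero p := NeZero.of_pos (CharP.char_is_prime F p).pos
      obtain ⟨u, w, huw⟩ := FiniteField.exists_root_sum_quadratic (R := F)
        (f := Polynomial.X ^ 2) (g := Polynomial.X ^ 2 - Polynomial.C c)
        (by simp) (by compute_degree!) (FiniteField.odd_card_of_char_ne_two (by
          intro h0
          exact h2 (by exact_mod_cast (h0 ▸ ringChar.Nat.cast_ringChar : ((2 : ℕ) : F) = 0))))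
      simp only [Polynomial.eval_pow, Polynomial.eval_X, Polynomial.eval_sub, Polynomial.eval_C] at huw
      refine ⟨(u + a * w) / c, w, ?_⟩
      field_simp
      linear_combination huw + w ^ 2 * h
  have hP : x * (c * x + -a * y) - (a * x + b * y) * y = 1 := by linear_combination hxy
  refine ⟨sl2Mk x (a * x + b * y) y (c * x + -a * y) hP, ?_⟩
  rw [mul_assoc, inv_mul_eq_iff_eq_mul, sl2_mul, sl2_mul, sl2_ext_iff]
  refine ⟨by ring, ?_, by ring, ?_⟩
  · linear_combination -x * h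
  · linear_combination -y * h

theorem commute_coords {a b c d a' b' c' d' : F} (h : a * d - b * c = 1) (h' : a' * d' - b' * c' = 1) :
    Commute (sl2Mk a b c d h) (sl2Mk a' b' c' d' h') ↔
      b * c' = b' * c ∧ (a - d) * b' = (a' - d') * b ∧ (a - d) * c' = (a' - d') * c := by
  rw [commute_iff_eq, sl2_mul, sl2_mul, sl2_ext_iff]
  constructor
  · rintro ⟨e1, e2, e3, e4⟩
    exact ⟨by linear_combination e1, by linear_combination e2, by linear_combination -e3⟩
  · rintro ⟨e1, e2, e3⟩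
    exact ⟨by linear_combination e1, by linear_combination e2, by linear_combination -e3, by linear_combination -e1⟩

theorem transv_upper (t : F) : (1 : F) * 1 - t * 0 = 1 := by ring
theorem transv_lower (t : F) : (1 : F) * 1 - 0 * t = 1 := by ring

theorem eq_one_or_of_offdiag {a b c d : F} (h : a * d - b * c = 1) (hb : b = 0) (hc : c = 0) (had : a = d) :
    sl2Mk a b c d h = 1 ∨ sl2Mk a b c d h = -1 := by
  subst hb hc had
  rcases mul_self_eq_one_iff.1 (by linear_combination h : a * a = 1) with rfl | rfl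
  · exact Or.inl sl2_one.symm
  · exact Or.inr sl2_neg_one.symm

/-- An element whose commutator with every element is `±1` is central. -/
theorem central_of_mod (h2 : (2 : F) ≠ 0) {g : SpecialLinearGroup (Fin 2) F}
    (hg : ∀ t, g * t * g⁻¹ * t⁻¹ = 1 ∨ g * t * g⁻¹ * t⁻¹ = -1) : g = 1 ∨ g = -1 := by
  obtain ⟨a, b, c, d, h, rfl⟩ := sl2_entries g
  have key : ∀ (t : SpecialLinearGroup (Fin 2) F) (x y z w : F) (h' : x * w - y * z = 1),
      t = sl2Mk x y z w h' → x + w = 2 → Commute (sl2Mk a b c d h) t := by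
    intro t x y z w h' ht htr
    rcases hg t with h1 | h1
    · rw [mul_inv_eq_one, mul_inv_eq_iff_eq_mul] at h1
      exact h1
    · exfalso
      rw [mul_inv_eq_iff_eq_mul, mul_inv_eq_iff_eq_mul, ht, neg_mul, one_mul, neg_mul, sl2_mul, sl2_mul,
        sl2_neg, sl2_ext_iff] at h1
      obtain ⟨e1, e2, e3, e4⟩ := h1
      -- the trace of `t` would equal its negative
      refine h2 (mul_self_eq_zero.1 (by
        linear_combination d * e1 + a * e4 - c * e2 - b * e3 - 2 * (x + w) * h - 2 * htr))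
  have hu := (commute_coords h (transv_upper 1)).1 (key _ 1 1 0 1 (transv_upper 1) rfl (by norm_num))
  have hl := (commute_coords h (transv_lower 1)).1 (key _ 1 0 1 1 (transv_lower 1) rfl (by norm_num))
  exact eq_one_or_of_offdiag h (by linear_combination hl.1) (by linear_combination -hu.1)
    (by linear_combination hu.2.1)

/-- An element commuting with all of its conjugates is central. -/
theorem central_of_commute_conj (h2 : (2 : F) ≠ 0) {g : SpecialLinearGroup (Fin 2) F}
    (hg : ∀ t, Commute g (t * g * t⁻¹)) : g = 1 ∨ g = -1 := by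
  obtain ⟨a, b, c, d, h, rfl⟩ := sl2_entries g
  have up : ∀ t : F, ∃ h', sl2Mk (1 : F) t 0 1 (transv_upper t) * sl2Mk a b c d h *
      (sl2Mk (1 : F) t 0 1 (transv_upper t))⁻¹ = sl2Mk (a + t * c) (b + t * (d - a) - t * t * c) c (d - t * c) h' := by
    intro t
    refine ⟨by linear_combination h, ?_⟩
    rw [mul_inv_eq_iff_eq_mul, sl2_mul, sl2_mul, sl2_ext_iff]
    exact ⟨by ring, by ring, by ring, by ring⟩
  have low : ∀ t : F, ∃ h', sl2Mk (1 : F) 0 t 1 (transv_lower t) * sl2Mk a b c d h *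
      (sl2Mk (1 : F) 0 t 1 (transv_lower t))⁻¹ = sl2Mk (a - t * b) b (c + t * (a - d) - t * t * b) (d + t * b) h' := by
    intro t
    refine ⟨by linear_combination h, ?_⟩
    rw [mul_inv_eq_iff_eq_mul, sl2_mul, sl2_mul, sl2_ext_iff]
    exact ⟨by ring, by ring, by ring, by ring⟩
  have hc : c = 0 := by
    obtain ⟨_, e1⟩ := up 1
    obtain ⟨_, e2⟩ := up (-1)
    have c1 := ((commute_coords h _).1 (e1 ▸ hg _)).1
    have c2 := ((commute_coords h _).1 (e2 ▸ hg _)).1
    have : c * c * 2 = 0 := by linear_combination c1 + c2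
    exact mul_self_eq_zero.1 ((mul_eq_zero.1 this).resolve_right h2)
  have hb : b = 0 := by
    obtain ⟨_, e1⟩ := low 1
    obtain ⟨_, e2⟩ := low (-1)
    have c1 := ((commute_coords h _).1 (e1 ▸ hg _)).1
    have c2 := ((commute_coords h _).1 (e2 ▸ hg _)).1
    have : b * b * 2 = 0 := by linear_combination -c1 - c2
    exact mul_self_eq_zero.1 ((mul_eq_zero.1 this).resolve_right h2)
  obtain ⟨_, e1⟩ := up 1
  have c2 := ((commute_coords h _).1 (e1 ▸ hg _)).2.1
  subst hc hb
  have had : (a - d) * (a - d) = 0 := by linear_combination -c2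
  exact eq_one_or_of_offdiag h rfl rfl (by linear_combination mul_self_eq_zero.1 had)

/-- The centralizer of a non-central element is commutative. -/
theorem commute_of_common (h2 : (2 : F) ≠ 0) {x g k : SpecialLinearGroup (Fin 2) F} (hx : x ≠ 1)
    (hx' : x ≠ -1) (hg : Commute x g) (hk : Commute x k) : Commute g k := by
  obtain ⟨a, b, c, d, h, rfl⟩ := sl2_entries x
  obtain ⟨a', b', c', d', h', rfl⟩ := sl2_entries g
  obtain ⟨a'', b'', c'', d'', h'', rfl⟩ := sl2_entries k
  rw [commute_coords] at hg hk ⊢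
  obtain ⟨g1, g2, g3⟩ := hg
  obtain ⟨k1, k2, k3⟩ := hk
  by_cases hb : b = 0
  · by_cases hc : c = 0
    · by_cases had : a - d = 0
      · exact ((eq_one_or_of_offdiag h hb hc (sub_eq_zero.1 had)).elim hx hx').elim
      · subst hb hc
        simp only [zero_mul, mul_zero, mul_eq_zero, had, false_or] at g2 g3 k2 k3
        subst g2 g3 k2 k3
        simp
    · subst hb
      have hb' : b' = 0 := (mul_eq_zero.1 (by linear_combination -g1 : b' * c = 0)).resolve_right hc
      have hb'' : b'' = 0 := (mul_eq_zero.1 (by linear_combination -k1 : b'' * c = 0)).resolve_right hc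
      subst hb' hb''
      refine ⟨by ring, by ring, mul_left_cancel₀ hc ?_⟩
      linear_combination -c'' * g3 + c' * k3
  · have h1 : b' * c'' = b'' * c' := mul_left_cancel₀ hb (by linear_combination b' * k1 - b'' * g1)
    refine ⟨h1, mul_left_cancel₀ hb ?_, mul_left_cancel₀ hb ?_⟩
    · linear_combination b' * k2 - b'' * g2
    · linear_combination c' * k2 - c'' * g2 + (a - d) * h1

theorem neg_one_ne_one (h2 : (2 : F) ≠ 0) : (-1 : SpecialLinearGroup (Fin 2) F) ≠ 1 := by
  rw [sl2_neg_one, sl2_one, Ne, sl2_ext_iff]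
  rintro ⟨h, -⟩
  exact h2 (by linear_combination -h)

theorem two_ne_zero_of_odd [Fintype F] (hF : Odd (Fintype.card F)) : (2 : F) ≠ 0 :=
  Ring.two_ne_zero fun h => by
    have := FiniteField.even_card_of_char_two h
    rw [Nat.odd_iff] at hF
    omega

/-- A subgroup with the properties of `SL₂(q)`, `q` odd, with involution `j`. -/
structure IsSL2Like {G : Type*} [Group G] (L : Subgroup G) (j : G) : Prop where
  jmem : j ∈ L
  inv_eq : ∀ x ∈ L, x * x = 1 → x = 1 ∨ x = j
  sqrt : ∃ x ∈ L, x * x = j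
  conj : ∀ x ∈ L, ∀ y ∈ L, x * x = j → y * y = j → ∃ g ∈ L, g * x * g⁻¹ = y
  mod_central : ∀ x ∈ L, (∀ t ∈ L, x * t * x⁻¹ * t⁻¹ = 1 ∨ x * t * x⁻¹ * t⁻¹ = j) → x = 1 ∨ x = j
  conj_central : ∀ x ∈ L, (∀ t ∈ L, Commute x (t * x * t⁻¹)) → x = 1 ∨ x = j
  cent : ∀ x ∈ L, x ≠ 1 → x ≠ j → ∀ g ∈ L, ∀ k ∈ L, Commute x g → Commute x k → Commute g k

theorem IsSL2Like.of_mulEquiv [Fintype F] {G : Type*} [Group G] {L : Subgroup G}
    (hF : Odd (Fintype.card F)) (e : ↥L ≃* SpecialLinearGroup (Fin 2) F) {j : G} (hj : j ∈ L)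
    (hj1 : j ≠ 1) (hjj : j * j = 1) : IsSL2Like L j := by
  have h2 := two_ne_zero_of_odd hF
  have hej : e ⟨j, hj⟩ = -1 := by
    refine eq_neg_one_of_sq h2 ?_ ?_
    · rw [Ne, MulEquiv.map_eq_one_iff]
      exact fun h => hj1 (congrArg Subtype.val h)
    · rw [← map_mul, MulEquiv.map_eq_one_iff]
      exact Subtype.ext hjj
  have hor : ∀ (x : G) (hx : x ∈ L), (e ⟨x, hx⟩ = 1 ∨ e ⟨x, hx⟩ = -1) → x = 1 ∨ x = j := by
    intro x hx h
    rcases h with h | h
    · exact Or.inl (congrArg Subtype.val ((MulEquiv.map_eq_one_iff e).1 h))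
    · exact Or.inr (congrArg Subtype.val (e.injective (h.trans hej.symm)))
  have hsq : ∀ (x : G) (hx : x ∈ L), x * x = j → e ⟨x, hx⟩ * e ⟨x, hx⟩ = -1 := by
    intro x hx h
    rw [← map_mul, ← hej]
    exact congrArg e (Subtype.ext h)
  refine ⟨hj, ?_, ?_, ?_, ?_, ?_, ?_⟩
  · intro x hx h
    refine hor x hx ?_
    by_cases h1 : e ⟨x, hx⟩ = 1
    · exact Or.inl h1
    · refine Or.inr (eq_neg_one_of_sq h2 h1 ?_)
      rw [← map_mul, MulEquiv.map_eq_one_iff]
      exact Subtype.ext h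
  · have hs : sl2Mk (0 : F) (-1) 1 0 (by ring) * sl2Mk (0 : F) (-1) 1 0 (by ring) = -1 := by
      rw [sl2_mul, sl2_neg_one, sl2_ext_iff]
      refine ⟨?_, ?_, ?_, ?_⟩ <;> ring
    refine ⟨_, (e.symm (sl2Mk (0 : F) (-1) 1 0 (by ring))).2, ?_⟩
    have := congrArg (fun z => ((e.symm z : ↥L) : G)) hs
    simpa [← hej] using this
  · intro x hx y hy hxj hyj
    obtain ⟨P, hP⟩ := exists_conj_std h2 (hsq x hx hxj)
    obtain ⟨Q, hQ⟩ := exists_conj_std h2 (hsq y hy hyj)
    have hgy : Q * P⁻¹ * e ⟨x, hx⟩ * (Q * P⁻¹)⁻¹ = e ⟨y, hy⟩ := by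
      calc Q * P⁻¹ * e ⟨x, hx⟩ * (Q * P⁻¹)⁻¹ = Q * (P⁻¹ * e ⟨x, hx⟩ * P) * Q⁻¹ := by simp [mul_assoc]
        _ = e ⟨y, hy⟩ := by rw [hP, ← hQ]; simp [mul_assoc]
    refine ⟨_, (e.symm (Q * P⁻¹)).2, ?_⟩
    have := congrArg (fun z => ((e.symm z : ↥L) : G)) hgy
    simpa using this
  · intro x hx h
    refine hor x hx (central_of_mod h2 fun t => ?_)
    have h1 := h _ (e.symm t).2
    have h3 : e ⟨x, hx⟩ * t * (e ⟨x, hx⟩)⁻¹ * t⁻¹ = e (⟨x, hx⟩ * e.symm t * ⟨x, hx⟩⁻¹ * (e.symm t)⁻¹) := by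
      simp
    rw [h3]
    rcases h1 with h1 | h1
    · left; rw [MulEquiv.map_eq_one_iff]; exact Subtype.ext h1
    · right; rw [← hej]; exact congrArg e (Subtype.ext h1)
  · intro x hx h
    refine hor x hx (central_of_commute_conj h2 fun t => ?_)
    have h1 : Commute (⟨x, hx⟩ : ↥L) (e.symm t * ⟨x, hx⟩ * (e.symm t)⁻¹) :=
      Subtype.ext (h _ (e.symm t).2)
    simpa using h1.map e.toMonoidHom
  · intro x hx hx1 hxj g hg k hk hxg hxk
    have h := commute_of_common h2 (x := e ⟨x, hx⟩) (g := e ⟨g, hg⟩) (k := e ⟨k, hk⟩) ?_ ?_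
      ((show Commute (⟨x, hx⟩ : ↥L) ⟨g, hg⟩ from Subtype.ext hxg).map e.toMonoidHom)
      ((show Commute (⟨x, hx⟩ : ↥L) ⟨k, hk⟩ from Subtype.ext hxk).map e.toMonoidHom)
    · have := h.map e.symm.toMonoidHom
      show g * k = k * g
      simpa using congrArg Subtype.val this.eq
    · rw [Ne, MulEquiv.map_eq_one_iff]
      exact fun h => hx1 (congrArg Subtype.val h)
    · rw [← hej]
      exact fun h => hxj (congrArg Subtype.val (e.injective h))

theorem card_eq_of_natCard_slTwo_eq {K : Type*} [Field K] [Fintype F] [Fintype K]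
    (h : Nat.card (SpecialLinearGroup (Fin 2) F) = Nat.card (SpecialLinearGroup (Fin 2) K)) :
    Fintype.card F = Fintype.card K := by
  rw [CfsgLib.Schur.natCard_slTwo, CfsgLib.Schur.natCard_slTwo] at h
  have hq := Fintype.one_lt_card (α := F)
  have hr := Fintype.one_lt_card (α := K)
  by_contra hne
  rcases Nat.lt_or_gt_of_ne hne with hlt | hlt
  · exact absurd h (Nat.ne_of_lt (Nat.mul_lt_mul'' hlt (Nat.mul_lt_mul'' (by omega) (by omega))))
  · exact absurd h.symm (Nat.ne_of_lt (Nat.mul_lt_mul'' hlt (Nat.mul_lt_mul'' (by omega) (by omega))))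

end CfsgLib.InvChar

namespace CfsgLib.InvChar

open scoped Pointwise

/-- Elements of the join of two elementwise commuting subgroups are products. -/
theorem mem_sup_of_commute {G : Type*} [Group G] {L₁ L₂ : Subgroup G}
    (hc : ∀ x ∈ L₁, ∀ y ∈ L₂, x * y = y * x) {z : G} (hz : z ∈ L₁ ⊔ L₂) :
    ∃ x ∈ L₁, ∃ y ∈ L₂, x * y = z := by
  have hL : L₁ ≤ Subgroup.normalizer (L₂ : Set G) :=
    (show L₁ ≤ Subgroup.centralizer (L₂ : Set G) from fun x hx y hy => (hc x hx y hy).symm).trans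
      (Subgroup.centralizer_le_normalizer _)
  have : z ∈ ((L₁ : Set G) * (L₂ : Set G) : Set G) := by
    rw [← Subgroup.coe_mul_of_left_le_normalizer_right L₁ L₂ hL]; exact hz
  exact this

end CfsgLib.InvChar
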