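import Mathlib

/-!
A group of order 512 with an abelian normal subgroup of order 64 on which the outer elements have
small fixed-point sets: maximal subgroups have small centre and that subgroup is the unique one.
-/

set_option autoImplicit false

namespace CfsgLib.InvChar.AbelianSixtyFour

variable {S : Type*} [Group S] [Finite S]

/-- The hypotheses. -/
structure Hyp (A : Subgroup S) : Prop where
  card : Nat.card S = 512
  cardA : Nat.card A = 64
  normal : A.Normal
  comm : ∀ a ∈ A, ∀ b ∈ A, a * b = b * a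
  fix_one : ∀ x, x ∉ A → Nat.card (A ⊓ Subgroup.centralizer {x} : Subgroup S) ≤ 16
  fix_two : ∀ x y, x ∉ A → y ∉ A → x⁻¹ * y ∉ A →
    Nat.card (A ⊓ Subgroup.centralizer {x, y} : Subgroup S) ≤ 8
  fix_all : Nat.card (A ⊓ Subgroup.center S : Subgroup S) ≤ 4

variable {A : Subgroup S} (h : Hyp A)

include h

theorem index_A : A.index = 8 := by
  have := A.card_mul_index
  rw [h.cardA, h.card] at this
  omega

theorem eq_top_of_join {B : Subgroup S} (hB : 8 * Nat.card (B ⊓ A : Subgroup S) ≤ Nat.card B) :
    B ⊔ A = ⊤ := by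
  have := h.normal
  have hsup := Subgroup.sup_eq_closure_mul B A
  refine Subgroup.eq_top_of_le_card _ ?_
  rw [h.card]
  have hk : Nat.card (A ⊔ B : Subgroup S) * Nat.card (B ⊓ A : Subgroup S) = 64 * Nat.card B := by
    have h1 : A.relIndex B = A.relIndex (A ⊔ B) := by
      rw [Subgroup.relIndex_sup_left]
    have h2 := Subgroup.card_mul_index (A.subgroupOf B)
    have h3 := Subgroup.card_mul_index (A.subgroupOf (A ⊔ B))
    rw [Nat.card_congr (Subgroup.subgroupOfEquivOfLe (le_sup_left : A ≤ A ⊔ B)).toEquiv, h.cardA] at h3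
    have h4 : Nat.card (A.subgroupOf B) = Nat.card (B ⊓ A : Subgroup S) := by
      rw [← Subgroup.inf_subgroupOf_left,
        Nat.card_congr (Subgroup.subgroupOfEquivOfLe inf_le_left).toEquiv]
    rw [h4] at h2
    change _ * A.relIndex B = _ at h2
    change _ * A.relIndex (A ⊔ B) = _ at h3
    rw [← h3, ← h2, h1]
    ring
  have hpos : 0 < Nat.card (B ⊓ A : Subgroup S) := Nat.card_pos
  rw [sup_comm] at hk
  nlinarith

/-- The centralizer of `A` is `A`. -/
theorem mem_A_of_commute {z : S} (hz : ∀ a ∈ A, a * z = z * a) : z ∈ A := by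
  by_contra hn
  have h1 := h.fix_one z hn
  have h2 : A ⊓ Subgroup.centralizer {z} = A := by
    refine inf_eq_left.mpr fun a ha => Subgroup.mem_centralizer_singleton_iff.mpr ?_
    exact hz a ha
  rw [h2, h.cardA] at h1
  omega

theorem card_le_two_cosets {M : Subgroup S} {x : S} (hM : ∀ y ∈ M, y ∈ A ∨ x⁻¹ * y ∈ A) :
    Nat.card M ≤ 2 * Nat.card A := by
  classical
  let f : M → Bool × A := fun y =>
    if hy : y.1 ∈ A then (false, ⟨y.1, hy⟩) else (true, ⟨x⁻¹ * y.1, (hM y.1 y.2).resolve_left hy⟩)
  have hf : Function.Injective f := by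
    intro a b hab
    simp only [f] at hab
    split_ifs at hab with ha hb <;>
      simp only [Prod.mk.injEq, reduceCtorEq, false_and, true_and, Subtype.mk.injEq] at hab
    · exact Subtype.ext hab
    · exact Subtype.ext (mul_left_cancel hab)
  have := Nat.card_le_card_of_injective f hf
  rwa [Nat.card_prod, Nat.card_eq_fintype_card (α := Bool), Fintype.card_bool] at this

theorem coatom_center {M : Subgroup S} (hM : IsCoatom M) :
    Nat.card (Subgroup.center M) ≤ 8 := by
  have : Fact (Nat.Prime 2) := ⟨Nat.prime_two⟩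
  have hS : IsPGroup 2 S := IsPGroup.of_card (n := 9) (by rw [h.card]; norm_num)
  have hnil : Group.IsNilpotent S := hS.isNilpotent
  have hMn : M.Normal := Subgroup.NormalizerCondition.normal_of_coatom M Group.normalizerCondition_of_isNilpotent hM
  have hidx : M.index = 2 := by
    obtain ⟨k, hk⟩ := hS.index M
    have hq : IsPGroup 2 (S ⧸ M) := hS.to_quotient M
    by_contra hne
    have hk2 : 2 ≤ k := by
      rcases k with _ | _ | k
      · exact absurd (Subgroup.index_eq_one.mp (by rw [hk]; rfl)) hM.1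
      · exact absurd (by rw [hk]; rfl) hne
      · omega
    obtain ⟨g, hg⟩ := exists_prime_orderOf_dvd_card' (G := S ⧸ M) 2
      (by rw [← Subgroup.index_eq_card, hk]; exact dvd_pow_self 2 (by omega))
    have hlt : M < (Subgroup.zpowers g).comap (QuotientGroup.mk' M) := by
      rw [lt_iff_le_and_ne]
      refine ⟨fun m hm => ?_, fun he => ?_⟩
      · rw [Subgroup.mem_comap, QuotientGroup.mk'_apply, (QuotientGroup.eq_one_iff m).mpr hm]
        exact one_mem _
      · obtain ⟨m, rfl⟩ := QuotientGroup.mk'_surjective M g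
        have hm : m ∈ M := he ▸ Subgroup.mem_zpowers _
        rw [QuotientGroup.mk'_apply, (QuotientGroup.eq_one_iff m).mpr hm, orderOf_one] at hg
        omega
    have htop := hM.2 _ hlt
    have h1 := congrArg Subgroup.index htop
    rw [Subgroup.index_comap_of_surjective _ (QuotientGroup.mk'_surjective M),
      Subgroup.index_top] at h1
    have h2 := (Subgroup.zpowers g).card_mul_index
    rw [h1, mul_one, Nat.card_zpowers, hg, ← Subgroup.index_eq_card, hk] at h2
    have h3 : 2 ^ 2 ≤ 2 ^ k := Nat.pow_le_pow_right (by norm_num) hk2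
    omega
  have hcardM : Nat.card M = 256 := by
    have := M.card_mul_index
    rw [hidx, h.card] at this
    omega
  have hZle : ∀ {T : Subgroup S}, (∀ z : M, z ∈ Subgroup.center M → (z : S) ∈ T) →
      Nat.card (Subgroup.center M) ≤ Nat.card T := fun {T} hT =>
    Nat.card_le_card_of_injective (fun z : Subgroup.center M => (⟨z.1.1, hT z.1 z.2⟩ : T))
      (fun a b hab => Subtype.ext (Subtype.ext (Subtype.mk.inj hab)))
  have hcm : ∀ z : M, z ∈ Subgroup.center M → ∀ m ∈ M, m * (z : S) = (z : S) * m :=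
    fun z hz m hm => congrArg Subtype.val (Subgroup.mem_center_iff.mp hz ⟨m, hm⟩)
  by_cases hA : A ≤ M
  · obtain ⟨x, hxM, hxA⟩ : ∃ x ∈ M, x ∉ A := by
      by_contra! hh
      have := Subgroup.card_le_of_le (fun y hy => hh y hy : M ≤ A)
      rw [h.cardA, hcardM] at this
      omega
    obtain ⟨y, hyM, hyA, hxy⟩ : ∃ y ∈ M, y ∉ A ∧ x⁻¹ * y ∉ A := by
      by_contra! hh
      have := card_le_two_cosets h (x := x) (M := M) fun y hy =>
        (em (y ∈ A)).imp_right fun hn => hh y hy hn
      rw [h.cardA, hcardM] at this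
      omega
    refine le_trans (hZle fun z hz => ?_) (h.fix_two x y hxA hyA hxy)
    refine Subgroup.mem_inf.mpr ⟨mem_A_of_commute h fun a ha => hcm z hz a (hA ha), ?_⟩
    rw [Subgroup.mem_centralizer_iff]
    rintro g (rfl | rfl)
    exacts [hcm z hz _ hxM, hcm z hz _ hyM]
  · have hjoin : M ⊔ A = ⊤ := hM.2 _ (left_lt_sup.mpr hA)
    have hMA : 32 ≤ Nat.card (M ⊓ A : Subgroup S) := by
      have h1 := Subgroup.card_mul_index (M.subgroupOf A)
      change _ * M.relIndex A = _ at h1
      rw [← Subgroup.inf_subgroupOf_right,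
        Nat.card_congr (Subgroup.subgroupOfEquivOfLe inf_le_right).toEquiv, h.cardA] at h1
      have h2 : M.relIndex A ∣ 2 := hidx ▸ Subgroup.relIndex_dvd_index_of_normal M A
      have := Nat.le_of_dvd (by norm_num) h2
      nlinarith
    refine le_trans (hZle fun z hz => ?_) (h.fix_all.trans (by norm_num))
    have hzA : (z : S) ∈ A := by
      by_contra hn
      have h1 := h.fix_one _ hn
      have h2 : M ⊓ A ≤ A ⊓ Subgroup.centralizer {(z : S)} := fun a ha =>
        Subgroup.mem_inf.mpr ⟨ha.2, Subgroup.mem_centralizer_singleton_iff.mpr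
          (hcm z hz a ha.1)⟩
      have := (Subgroup.card_le_of_le h2).trans h1
      omega
    refine Subgroup.mem_inf.mpr ⟨hzA, ?_⟩
    have hle : M ⊔ A ≤ Subgroup.centralizer {(z : S)} := sup_le
      (fun m hm => Subgroup.mem_centralizer_singleton_iff.mpr (hcm z hz m hm))
      (fun a ha => Subgroup.mem_centralizer_singleton_iff.mpr (h.comm a ha _ hzA))
    rw [Subgroup.mem_center_iff]
    intro s
    exact Subgroup.mem_centralizer_singleton_iff.mp (hle (hjoin ▸ Subgroup.mem_top s))

theorem unique {B : Subgroup S} (hB : IsMulCommutative B) (hB64 : Nat.card B = 64) : B = A := by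
  by_contra hne
  have hcomm : ∀ a ∈ B, ∀ b ∈ B, a * b = b * a := fun a ha b hb =>
    congrArg Subtype.val (hB.is_comm.comm (⟨a, ha⟩ : B) ⟨b, hb⟩)
  obtain ⟨x, hxB, hxA⟩ : ∃ x ∈ B, x ∉ A := by
    by_contra! hh
    exact hne (Subgroup.eq_of_le_of_card_ge (fun y hy => hh y hy) (by rw [hB64, h.cardA]))
  have hfix : ∀ g ∈ B, B ⊓ A ≤ A ⊓ Subgroup.centralizer {g} := fun g hg a ha =>
    Subgroup.mem_inf.mpr ⟨ha.2, Subgroup.mem_centralizer_singleton_iff.mpr (hcomm a ha.1 g hg)⟩
  by_cases htwo : ∀ y ∈ B, y ∈ A ∨ x⁻¹ * y ∈ A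
  · have h16 := (Subgroup.card_le_of_le (hfix x hxB)).trans (h.fix_one x hxA)
    classical
    let f : B → Bool × (B ⊓ A : Subgroup S) := fun y =>
      if hy : y.1 ∈ A then (false, ⟨y.1, y.2, hy⟩)
      else (true, ⟨x⁻¹ * y.1, B.mul_mem (B.inv_mem hxB) y.2, (htwo y.1 y.2).resolve_left hy⟩)
    have hf : Function.Injective f := by
      intro a b hab
      simp only [f] at hab
      split_ifs at hab with ha hb <;>
        simp only [Prod.mk.injEq, reduceCtorEq, false_and, true_and] at hab
      · exact Subtype.ext (Subtype.ext_iff.mp hab :)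
      · exact Subtype.ext (mul_left_cancel (Subtype.ext_iff.mp hab :))
    have := Nat.card_le_card_of_injective f hf
    rw [Nat.card_prod, Nat.card_eq_fintype_card (α := Bool), Fintype.card_bool, hB64] at this
    omega
  · simp only [not_forall, not_or] at htwo
    obtain ⟨y, hyB, hyA, hxy⟩ := htwo
    have h8 : Nat.card (B ⊓ A : Subgroup S) ≤ 8 := by
      refine (Subgroup.card_le_of_le ?_).trans (h.fix_two x y hxA hyA hxy)
      refine fun a ha => Subgroup.mem_inf.mpr ⟨ha.2, ?_⟩
      rw [Subgroup.mem_centralizer_iff]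
      rintro g (rfl | rfl)
      exacts [hcomm g hxB a ha.1, hcomm g hyB a ha.1]
    have hjoin := eq_top_of_join h (B := B) (by omega)
    have h4 : Nat.card (B ⊓ A : Subgroup S) ≤ 4 := by
      refine (Subgroup.card_le_of_le ?_).trans h.fix_all
      refine fun a ha => Subgroup.mem_inf.mpr ⟨ha.2, Subgroup.mem_center_iff.mpr fun s => ?_⟩
      have hle : B ⊔ A ≤ Subgroup.centralizer {a} := sup_le
        (fun g hg => Subgroup.mem_centralizer_singleton_iff.mpr (hcomm g hg a ha.1))
        (fun g hg => Subgroup.mem_centralizer_singleton_iff.mpr (h.comm g hg a ha.2))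
      exact Subgroup.mem_centralizer_singleton_iff.mp (hle (hjoin ▸ Subgroup.mem_top s))
    have := h.normal
    have h1 := Subgroup.card_mul_index (A.subgroupOf B)
    change _ * A.relIndex B = _ at h1
    rw [← Subgroup.inf_subgroupOf_left,
      Nat.card_congr (Subgroup.subgroupOfEquivOfLe inf_le_left).toEquiv, hB64] at h1
    have h2 : A.relIndex B ≤ 8 :=
      Nat.le_of_dvd (by norm_num) (index_A h ▸ Subgroup.relIndex_dvd_index_of_normal A B)
    nlinarith

end CfsgLib.InvChar.AbelianSixtyFour
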