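import Cfsg.Agent.Lib.InvChar.SmallSolvable

/-!
# Isometry groups of anisotropic quadratic maps into a four-group are solvable

`V` is a finite group of exponent 2, `Q` has order 4 and exponent 2, `q (u * v) = q u * q v * b u v`
with `b` multiplicative in the second variable and `q v ≠ 1` for `v ≠ 1`. A group acting faithfully
on `V` by automorphisms fixing `q` is solvable.
-/

namespace CfsgLib.InvCharQuad

open scoped Classical

section fixed

variable {G V : Type*} [Group G] [CommGroup V] [Finite V] [MulDistribMulAction G V] [FaithfulSMul G V]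

/-- If a subgroup of index at most 4 is fixed pointwise, the acting group is solvable. -/
theorem isSolvable_of_fixed_subgroup (W : Subgroup V) (hW : ∀ (g : G), ∀ w ∈ W, g • w = w)
    (hidx : W.index ≤ 4) : Group.IsSolvable G := by
  let act : G → (V ⧸ W) → (V ⧸ W) := fun g => Quotient.map' (fun v => g • v) fun a b h => by
    rw [QuotientGroup.leftRel_apply] at h ⊢
    rw [← smul_inv', ← smul_mul', hW g _ h]; exact h
  have hact : ∀ (g : G) (v : V), act g (QuotientGroup.mk v) = QuotientGroup.mk (g • v) := fun _ _ => rfl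
  let f : G →* Equiv.Perm (V ⧸ W) :=
    { toFun := fun g =>
        { toFun := act g
          invFun := act g⁻¹
          left_inv := fun x => by induction x using QuotientGroup.induction_on with | _ v => rw [hact, hact, inv_smul_smul]
          right_inv := fun x => by induction x using QuotientGroup.induction_on with | _ v => rw [hact, hact, smul_inv_smul] }
      map_one' := by
        refine Equiv.ext fun x => ?_
        induction x using QuotientGroup.induction_on with | _ v => exact (hact 1 v).trans (congrArg _ (one_smul G v))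
      map_mul' := fun g h => by
        refine Equiv.ext fun x => ?_
        induction x using QuotientGroup.induction_on with | _ v => exact (hact (g * h) v).trans ((congrArg _ (mul_smul g h v)).trans ((hact g _).symm.trans (congrArg (act g) (hact h v).symm))) }
  have : Group.IsSolvable (Equiv.Perm (V ⧸ W)) :=
    CfsgLib.InvCharSmall.isSolvable_perm_of_card_le_four hidx
  have : Group.IsSolvable f.ker := by
    apply Group.isSolvable_of_comm
    intro g h
    apply Subtype.ext
    apply FaithfulSMul.eq_of_smul_eq_smul (α := V)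
    intro v
    have hd : ∀ g : f.ker, ∀ v : V, v⁻¹ * ((g : G) • v) ∈ W := by
      intro g v
      have := congrArg (fun e : Equiv.Perm (V ⧸ W) => e (QuotientGroup.mk v)) g.2
      have h' : (QuotientGroup.mk ((g : G) • v) : V ⧸ W) = QuotientGroup.mk v := this
      exact QuotientGroup.eq.1 h'.symm
    have e : ∀ g h : f.ker, ((g : G) * h) • v = v * (v⁻¹ * ((g : G) • v)) * (v⁻¹ * ((h : G) • v)) := by
      intro g h
      rw [mul_smul]
      conv_lhs => rw [show ((h : G) • v) = v * (v⁻¹ * ((h : G) • v)) by group]
      rw [smul_mul', hW _ _ (hd h v)]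
      group
    show ((g : G) * h) • v = ((h : G) * g) • v
    rw [e, e, mul_right_comm]
  exact Group.isSolvable_of_ker_le_range f.ker.subtype f (by simp)

/-- If `G` fixes each point of `T`, with the subgroup it generates of index at most 4. -/
theorem isSolvable_of_fixed_set (T : Set V) (hT : ∀ (g : G), ∀ t ∈ T, g • t = t)
    (hidx : (Subgroup.closure T).index ≤ 4) : Group.IsSolvable G := by
  refine isSolvable_of_fixed_subgroup (Subgroup.closure T) (fun g w hw => ?_) hidx
  exact Subgroup.closure_induction (p := fun w _ => g • w = w) (fun t ht => hT g t ht) (smul_one g)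
    (fun a b _ _ ha hb => by rw [smul_mul', ha, hb]) (fun a _ ha => by rw [smul_inv', ha]) hw

/-- An invariant subset, whose pointwise stabiliser is solvable and whose permutation image is solvable. -/
theorem isSolvable_of_invariant (T : Finset V) (hT : ∀ (g : G), ∀ t ∈ T, g • t ∈ T)
    (hidx : (Subgroup.closure (T : Set V)).index ≤ 4)
    (himg : ∀ f : G →* Equiv.Perm {x // x ∈ T}, (∀ g t, ((f g t : {x // x ∈ T}) : V) = g • (t : V)) → Group.IsSolvable f.range) :
    Group.IsSolvable G := by
  let f : G →* Equiv.Perm {x // x ∈ T} :=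
    { toFun := fun g =>
        { toFun := fun t => ⟨g • (t : V), hT g t t.2⟩
          invFun := fun t => ⟨g⁻¹ • (t : V), hT _ t t.2⟩
          left_inv := fun t => by simp
          right_inv := fun t => by simp }
      map_one' := by ext; simp
      map_mul' := fun g h => by ext; simp [mul_smul] }
  have := himg f fun _ _ => rfl
  have : Group.IsSolvable f.ker := by
    have : FaithfulSMul f.ker V := ⟨fun h => Subtype.ext (FaithfulSMul.eq_of_smul_eq_smul fun v => h v)⟩
    refine isSolvable_of_fixed_set (T : Set V) (fun g t ht => ?_) hidx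
    exact congrArg (fun e : Equiv.Perm {x // x ∈ T} => ((e ⟨t, ht⟩ : {x // x ∈ T}) : V)) g.2
  exact Group.isSolvable_of_ker_le_range f.ker.subtype f.rangeRestrict (by simp)

end fixed

section quadratic

variable {V Q : Type*} [CommGroup V] [CommGroup Q] [Fintype V] [Fintype Q]

/-- The sign character with kernel `{1, a}`. -/
noncomputable def chr (a c : Q) : ℤ := if c = 1 ∨ c = a then 1 else -1

theorem chr_mul (hQ : Fintype.card Q = 4) (hQ2 : ∀ c : Q, c * c = 1) {a : Q} (ha : a ≠ 1) (c d : Q) :
    chr a (c * d) = chr a c * chr a d := by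
  have key : ∀ c d : Q, c ≠ 1 → c ≠ a → d ≠ 1 → d ≠ a → c * d = 1 ∨ c * d = a := by
    intro c d hc1 hca hd1 hda
    by_contra! h
    have hcd : c ≠ d := fun e => h.1 (by rw [e]; exact hQ2 d)
    have hd' : d ≠ c * a := fun e => h.2 (by rw [e, ← mul_assoc, hQ2, one_mul])
    have : ({1, a, c, d, c * a} : Finset Q).card ≤ 4 := (Finset.card_le_univ _).trans hQ.le
    have h5 : c * a ≠ c := by simpa using ha
    have h6 : c * a ≠ a := by simpa using hc1
    have h7 : c * a ≠ 1 := fun e => hca (by rw [← mul_left_inj a, e, hQ2])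
    rw [Finset.card_insert_of_notMem, Finset.card_insert_of_notMem, Finset.card_insert_of_notMem,
      Finset.card_insert_of_notMem, Finset.card_singleton] at this
    · omega
    · simpa using hd'
    · simp [hcd, Ne.symm h5]
    · simp [Ne.symm hca, Ne.symm hda, Ne.symm h6]
    · simp [Ne.symm ha, Ne.symm hc1, Ne.symm hd1, Ne.symm h7]
  have step : ∀ c d : Q, (c = 1 ∨ c = a) → d ≠ 1 → d ≠ a → ¬ (c * d = 1 ∨ c * d = a) := by
    rintro c d (rfl | rfl) hd1 hda
    · simp [hd1, hda]
    · rintro (h | h)
      · exact hda (by rw [← mul_left_cancel_iff (a := c), h, hQ2])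
      · exact hd1 (by simpa using h)
  unfold chr
  by_cases hc : c = 1 ∨ c = a <;> by_cases hd : d = 1 ∨ d = a
  · rcases hc with rfl | rfl <;> rcases hd with rfl | rfl <;> simp [hQ2, ha]
  · push Not at hd
    rw [if_neg (step c d hc hd.1 hd.2), if_pos hc, if_neg (by tauto)]; norm_num
  · push Not at hc
    rw [mul_comm c d, if_neg (step d c hd hc.1 hc.2), if_neg (by tauto), if_pos hd]; norm_num
  · push Not at hc hd
    rw [if_pos (key c d hc.1 hc.2 hd.1 hd.2), if_neg (by tauto), if_neg (by tauto)]; norm_num

theorem chr_one (a : Q) : chr a 1 = 1 := by simp [chr]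

theorem chr_sq (a c : Q) : chr a c * chr a c = 1 := by unfold chr; split_ifs <;> norm_num

/-- A multiplicative sign function on a subgroup sums to its order or to zero. -/
theorem sum_char_subgroup (R : Subgroup V) (χ : V → ℤ) (hmul : ∀ u ∈ R, ∀ w ∈ R, χ (u * w) = χ u * χ w)
    (hval : ∀ u, χ u = 1 ∨ χ u = -1) :
    ∑ w ∈ Finset.univ.filter (· ∈ R), χ w = (Nat.card R : ℤ) ∨ ∑ w ∈ Finset.univ.filter (· ∈ R), χ w = 0 := by
  by_cases h : ∀ w ∈ R, χ w = 1
  · left
    rw [Finset.sum_congr rfl (g := fun _ => (1 : ℤ)) (fun w hw => h w (Finset.mem_filter.1 hw).2), Nat.card_eq_fintype_card]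
    simp [Fintype.card_subtype]
  · right
    push Not at h
    obtain ⟨u, hu, hχu⟩ := h
    have hu' : χ u = -1 := (hval u).resolve_left hχu
    have e : ∑ w ∈ Finset.univ.filter (· ∈ R), χ w = ∑ w ∈ Finset.univ.filter (· ∈ R), χ u * χ w := by
      refine Finset.sum_bij' (fun w _ => u⁻¹ * w) (fun w _ => u * w) ?_ ?_ ?_ ?_ ?_
      · intro w hw; simp at hw ⊢; exact R.mul_mem (R.inv_mem hu) hw
      · intro w hw; simp at hw ⊢; exact R.mul_mem hu hw
      · intro w _; simp
      · intro w _; simp
      · intro w hw
        simp at hw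
        rw [← hmul u hu _ (R.mul_mem (R.inv_mem hu) hw), mul_inv_cancel_left]
    rw [← Finset.mul_sum, hu'] at e
    linarith

variable (q : V → Q) (b : V → V → Q)

/-- Gauss sum of the form attached to `a`. -/
noncomputable def gsum (a : Q) : ℤ := ∑ v : V, chr a (q v)

variable (hQ : Fintype.card Q = 4) (hQ2 : ∀ c : Q, c * c = 1)
  (hqb : ∀ u v, q (u * v) = q u * q v * b u v) (hb : ∀ u v w, b u (v * w) = b u v * b u w)

include hQ hQ2 hqb hb in
theorem gsum_sq {a : Q} (ha : a ≠ 1) : gsum q a * gsum q a = 0 ∨
    ∃ R : Subgroup V, gsum q a * gsum q a = (Fintype.card V : ℤ) * Nat.card R := by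
  have hbsymm : ∀ u v, b u v = b v u := by
    intro u v
    have h1 := hqb u v
    rw [mul_comm u v, hqb v u, mul_comm (q v) (q u)] at h1
    exact (mul_left_cancel h1).symm
  have hb1 : ∀ u, b u 1 = 1 := fun u => by
    have := hb u 1 1; rwa [one_mul, left_eq_mul] at this
  have hb2 : ∀ u v w, b (u * v) w = b u w * b v w := fun u v w => by
    rw [hbsymm, hb, hbsymm w u, hbsymm w v]
  let R : Subgroup V :=
    { carrier := {w | ∀ u, chr a (b u w) = 1}
      one_mem' := fun u => by rw [hb1, chr_one]
      mul_mem' := fun {x y} hx hy u => by rw [hb, chr_mul hQ hQ2 ha, hx u, hy u, one_mul]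
      inv_mem' := fun {x} hx u => by
        have := hb u x x⁻¹
        rw [mul_inv_cancel, hb1] at this
        have h2 : b u x⁻¹ = b u x := by
          rw [← mul_left_cancel_iff (a := b u x), ← this, hQ2]
        rw [h2]; exact hx u }
  have hsum : gsum q a * gsum q a = ∑ w : V, chr a (q w) * ∑ u : V, chr a (b u w) := by
    unfold gsum
    rw [Finset.sum_mul]
    simp_rw [Finset.mul_sum]
    rw [Finset.sum_comm (f := fun w u => chr a (q w) * chr a (b u w))]
    refine Finset.sum_congr rfl fun u _ => ?_
    rw [← Equiv.sum_comp (Equiv.mulLeft u) (fun w => chr a (q u) * chr a (q w))]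
    refine Finset.sum_congr rfl fun w _ => ?_
    rw [Equiv.coe_mulLeft, hqb, chr_mul hQ hQ2 ha, chr_mul hQ hQ2 ha]
    linear_combination (chr a (q w) * chr a (b u w)) * chr_sq a (q u)
  have hinner : ∀ w, ∑ u : V, chr a (b u w) = if w ∈ R then (Fintype.card V : ℤ) else 0 := by
    intro w
    by_cases hw : w ∈ R
    · rw [if_pos hw, Finset.sum_congr rfl (g := fun _ => (1 : ℤ)) (fun u _ => hw u)]; simp
    · rw [if_neg hw]
      obtain ⟨u₀, hu₀⟩ : ∃ u₀, chr a (b u₀ w) ≠ 1 := by
        by_contra! h; exact hw h
      have hu' : chr a (b u₀ w) = -1 := by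
        unfold chr at hu₀ ⊢; split_ifs at hu₀ ⊢ <;> simp_all
      have e : ∑ u : V, chr a (b u w) = ∑ u : V, chr a (b u₀ w) * chr a (b u w) := by
        rw [← Equiv.sum_comp (Equiv.mulLeft u₀) (fun u => chr a (b u w))]
        exact Finset.sum_congr rfl fun u _ => by rw [Equiv.coe_mulLeft, hb2, chr_mul hQ hQ2 ha]
      rw [← Finset.mul_sum, hu'] at e
      linarith
  rw [hsum]
  simp_rw [hinner, mul_ite, mul_zero]
  rw [← Finset.sum_filter, ← Finset.sum_mul]
  rcases sum_char_subgroup R (fun w => chr a (q w))
    (fun u hu w hw => by rw [hqb, chr_mul hQ hQ2 ha, chr_mul hQ hQ2 ha, hw u, mul_one])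
    (fun u => by unfold chr; split_ifs <;> simp) with h | h
  · exact Or.inr ⟨R, by rw [h]; ring⟩
  · exact Or.inl (by rw [h, zero_mul])

/-- The fibre of `a`. -/
noncomputable def fib (a : Q) : Finset V := Finset.univ.filter fun v => q v = a

theorem gsum_eq (hq : ∀ v, q v = 1 ↔ v = 1) {a : Q} (ha : a ≠ 1) :
    gsum q a = 2 * (fib q a).card + 2 - Fintype.card V := by
  unfold gsum chr fib
  rw [Finset.sum_ite]
  have h1 : Finset.univ.filter (fun v => q v = 1 ∨ q v = a) = insert 1 (Finset.univ.filter fun v => q v = a) := by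
    ext v; simp [hq v]
  have h2 := Finset.card_filter_add_card_filter_not (s := (Finset.univ : Finset V)) (fun v => q v = 1 ∨ q v = a)
  rw [h1, Finset.card_univ, Finset.card_insert_of_notMem (by simp [(hq 1).2 rfl, Ne.symm ha])] at h2
  simp only [Finset.sum_const, h1, nsmul_eq_mul, mul_one, mul_neg]
  rw [Finset.card_insert_of_notMem (by simp [(hq 1).2 rfl, Ne.symm ha])]
  push_cast
  omega

variable (hV2 : ∀ v : V, v * v = 1) (hq : ∀ v, q v = 1 ↔ v = 1)
variable {G : Type*} [Group G] [Finite G] [MulDistribMulAction G V] [FaithfulSMul G V]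

include hQ hQ2 hqb hb hV2 hq in
set_option maxHeartbeats 1000000 in
/-- The main result. -/
theorem isSolvable_isometry (hG : ∀ (g : G) v, q (g • v) = q v) : Group.IsSolvable G := by
  have : Fact (Nat.Prime 2) := ⟨Nat.prime_two⟩
  obtain ⟨k, hk⟩ : ∃ k, Fintype.card V = 2 ^ k := by
    obtain ⟨k, hk⟩ := (IsPGroup.iff_card (p := 2) (G := V)).1 (fun v => ⟨1, by rw [pow_one, pow_two, hV2]⟩)
    exact ⟨k, by rw [← Nat.card_eq_fintype_card, hk]⟩
  obtain ⟨a, b', c, hab, hac, hbc, hset⟩ : ∃ a b' c, a ≠ b' ∧ a ≠ c ∧ b' ≠ c ∧ Finset.univ.erase (1 : Q) = {a, b', c} := by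
    rw [← Finset.card_eq_three, Finset.card_erase_of_mem (Finset.mem_univ _), Finset.card_univ, hQ]
  have hne : ∀ x ∈ ({a, b', c} : Finset Q), x ≠ 1 := fun x hx => by rw [← hset] at hx; exact Finset.ne_of_mem_erase hx
  have ha := hne a (by simp)
  have hb1 := hne b' (by simp)
  have hc := hne c (by simp)
  -- the fibres partition the nonidentity elements
  have hpart : (fib q a).card + (fib q b').card + (fib q c).card + 1 = Fintype.card V := by
    have h := Finset.card_eq_sum_card_fiberwise (f := q) (s := (Finset.univ : Finset V)) (t := Finset.univ) (by simp)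
    rw [Finset.card_univ, ← Finset.add_sum_erase _ _ (Finset.mem_univ (1 : Q)), hset] at h
    have h1 : Finset.univ.filter (fun v => q v = 1) = {1} := by ext v; simp [hq v]
    rw [h1] at h
    simp [Finset.sum_insert, hab, hac, hbc] at h
    unfold fib; omega
  have ea := gsum_eq q hq ha
  have eb := gsum_eq q hq hb1
  have ec := gsum_eq q hq hc
  have hsq : ∀ x : Q, x ≠ 1 → gsum q x * gsum q x = 0 ∨ ∃ r ≤ k, gsum q x * gsum q x = (2 : ℤ) ^ k * 2 ^ r := by
    intro x hx
    rcases gsum_sq q b hQ hQ2 hqb hb hx with h | ⟨R, h⟩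
    · exact Or.inl h
    · obtain ⟨r, hr, hR⟩ := (Nat.dvd_prime_pow Nat.prime_two).1 (hk ▸ Nat.card_eq_fintype_card (α := V) ▸ Subgroup.card_subgroup_dvd_card R)
      exact Or.inr ⟨r, hr, by rw [h, hk, hR]; push_cast; rfl⟩
  have hinv : ∀ (x : Q) (g : G), ∀ t ∈ fib q x, g • t ∈ fib q x := fun x g t ht => by
    simp [fib, hG] at ht ⊢; exact ht
  have hclosure : ∀ T : Finset V, ∀ m : ℕ, m < T.card + 1 → 1 ∉ T → m < Nat.card ↥(Subgroup.closure (T : Set V)) := by
    intro T m hm h1
    have hsub : insert 1 T ⊆ Finset.univ.filter (· ∈ Subgroup.closure (T : Set V)) := by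
      intro x hx
      simp only [Finset.mem_insert, Finset.mem_filter, Finset.mem_univ, true_and] at hx ⊢
      rcases hx with rfl | hx
      · exact one_mem _
      · exact Subgroup.subset_closure hx
    have := Finset.card_le_card hsub
    rw [Finset.card_insert_of_notMem h1, ← Fintype.card_subtype] at this
    rw [Nat.card_eq_fintype_card]
    omega
  have h1fib : ∀ x : Q, x ≠ 1 → (1 : V) ∉ fib q x := fun x hx => by simp [fib, (hq 1).2 rfl, Ne.symm hx]
  rcases le_or_gt k 2 with hk2 | hk2
  · have hperm := CfsgLib.InvCharSmall.isSolvable_perm_of_card_le_four (α := V) (by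
      rw [Nat.card_eq_fintype_card, hk]; exact (Nat.pow_le_pow_right (by norm_num) hk2).trans (le_refl 4))
    exact Group.isSolvable_of_isSolvable_injective (f := MulAction.toPermHom G V) MulAction.toPerm_injective
  have hk4 : k ≤ 4 := by
    by_contra! h
    have h8 : ∀ x : Q, x ≠ 1 → (8 : ℤ) ∣ gsum q x := by
      intro x hx
      have h32 : (32 : ℤ) ∣ gsum q x * gsum q x := by
        rcases hsq x hx with h0 | ⟨r, -, h0⟩
        · rw [h0]; exact dvd_zero _
        · rw [h0, show k = 5 + (k - 5) by omega, pow_add]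
          exact Dvd.dvd.mul_right (Dvd.intro _ rfl) _
      have h8' : ∀ y : ZMod 32, y * y = 0 → (ZMod.castHom (show 8 ∣ 32 by norm_num) (ZMod 8)) y = 0 := by decide
      have hy := h8' (gsum q x) (by rw [← Int.cast_mul, ZMod.intCast_zmod_eq_zero_iff_dvd]; exact h32)
      rw [map_intCast, ZMod.intCast_zmod_eq_zero_iff_dvd] at hy
      exact hy
    obtain ⟨A, hA⟩ := h8 a ha
    obtain ⟨B, hB⟩ := h8 b' hb1
    obtain ⟨C, hC⟩ := h8 c hc
    obtain ⟨D, hD⟩ : (32 : ℕ) ∣ Fintype.card V := hk ▸ Nat.pow_dvd_pow 2 h
    omega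
  -- a union of fibres with between 2 and 4 elements generates a subgroup of index at most 4
  have small : ∀ T : Finset V, 2 ≤ T.card → T.card ≤ 4 → 1 ∉ T → (∀ (g : G), ∀ t ∈ T, g • t ∈ T) → Group.IsSolvable G := by
    intro T hT2 hT4 hT1 hTinv
    refine isSolvable_of_invariant T hTinv ?_ fun f _ => ?_
    · have h := hclosure T 2 (by omega) hT1
      have hd := Subgroup.card_mul_index (Subgroup.closure (T : Set V))
      rw [Nat.card_eq_fintype_card (α := V), hk] at hd
      obtain ⟨r, hr, hR⟩ := (Nat.dvd_prime_pow Nat.prime_two).1 (Dvd.intro _ hd)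
      have h4 : 4 ≤ Nat.card ↥(Subgroup.closure (T : Set V)) := by
        rw [hR] at h ⊢
        have : 2 ≤ r := by
          by_contra! hr2
          interval_cases r <;> omega
        exact le_trans (by norm_num) (Nat.pow_le_pow_right (by norm_num) this)
      have h16 : 2 ^ k ≤ 16 := le_trans (Nat.pow_le_pow_right (by norm_num) hk4) (le_refl 16)
      have := Nat.mul_le_mul_right (Subgroup.closure (T : Set V)).index h4
      omega
    · have := CfsgLib.InvCharSmall.isSolvable_perm_of_card_le_four (α := {x // x ∈ T}) (by simpa using hT4)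
      exact Group.isSolvable_of_isSolvable_injective (f := f.range.subtype) Subtype.val_injective
  have small1 : ∀ x : Q, x ≠ 1 → 2 ≤ (fib q x).card → (fib q x).card ≤ 4 → Group.IsSolvable G :=
    fun x hx h2 h4 => small _ h2 h4 (h1fib x hx) (hinv x)
  have small2 : ∀ x y : Q, x ≠ 1 → y ≠ 1 → x ≠ y → (fib q x).card = 1 → (fib q y).card = 1 → Group.IsSolvable G := by
    intro x y hx hy hxy h1 h2
    have hd : Disjoint (fib q x) (fib q y) := Finset.disjoint_left.2 fun v h h' => by simp [fib] at h h'; exact hxy (h.symm.trans h')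
    refine small (fib q x ∪ fib q y) (by rw [Finset.card_union_of_disjoint hd]; omega)
      (by rw [Finset.card_union_of_disjoint hd]; omega) (by simp [h1fib x hx, h1fib y hy]) fun g t ht => ?_
    rw [Finset.mem_union] at ht ⊢
    exact ht.imp (hinv x g t) (hinv y g t)
  -- arithmetic restrictions
  have hmod : ∀ x : Q, x ≠ 1 → ∀ n : ℕ, gsum q x = 2 * n + 2 - (2 ^ k : ℕ) → n < 2 ^ k →
      n % 2 = 1 ∧ (k = 4 → n ≠ 1) := by
    intro x hx n hn hlt
    interval_cases k <;> interval_cases n <;> (try omega) <;> exfalso <;>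
      (rcases hsq x hx with h0 | ⟨r, hr, h0⟩ <;> rw [hn] at h0 <;> norm_num at h0) <;>
      (interval_cases r <;> norm_num at h0)
  rw [hk] at ea eb ec hpart
  have ma := hmod a ha _ ea (by omega)
  have mb := hmod b' hb1 _ eb (by omega)
  have mc := hmod c hc _ ec (by omega)
  by_cases haa : 2 ≤ (fib q a).card ∧ (fib q a).card ≤ 4
  · exact small1 a ha haa.1 haa.2
  by_cases hbb : 2 ≤ (fib q b').card ∧ (fib q b').card ≤ 4
  · exact small1 b' hb1 hbb.1 hbb.2
  by_cases hcc : 2 ≤ (fib q c).card ∧ (fib q c).card ≤ 4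
  · exact small1 c hc hcc.1 hcc.2
  by_cases hab1 : (fib q a).card = 1 ∧ (fib q b').card = 1
  · exact small2 a b' ha hb1 hab hab1.1 hab1.2
  by_cases hac1 : (fib q a).card = 1 ∧ (fib q c).card = 1
  · exact small2 a c ha hc hac hac1.1 hac1.2
  by_cases hbc1 : (fib q b').card = 1 ∧ (fib q c).card = 1
  · exact small2 b' c hb1 hc hbc hbc1.1 hbc1.2
  have hk34 : k = 3 ∨ k = 4 := by omega
  rcases hk34 with rfl | rfl
  · omega
  obtain ⟨hA, hB, hC⟩ : (fib q a).card = 5 ∧ (fib q b').card = 5 ∧ (fib q c).card = 5 := by
    have := ma.2 rfl; have := mb.2 rfl; have := mc.2 rfl; omega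
  -- no elements of order three
  have h3 : ∀ g : G, g ^ 3 = 1 → g = 1 := by
    intro g hg
    apply FaithfulSMul.eq_of_smul_eq_smul (α := V)
    let W : Subgroup V :=
      { carrier := {v | g • v = v}
        one_mem' := smul_one g
        mul_mem' := fun {x y} hx hy => by simp only [Set.mem_ofPred_eq] at *; rw [smul_mul', hx, hy]
        inv_mem' := fun {x} hx => by simp only [Set.mem_ofPred_eq] at *; rw [smul_inv', hx] }
    have hcount : ∀ x : Q, x ≠ 1 → (fib q x).card = 5 → 2 ≤ ((fib q x).filter fun v => g • v = v).card := by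
      intro x hx h5
      by_contra! hlt
      let σ : Function.End {v // v ∈ fib q x} := fun t => ⟨g • (t : V), hinv x g t t.2⟩
      have : Fact (Nat.Prime 3) := ⟨Nat.prime_three⟩
      have hσ : σ ^ (3 ^ 1) = 1 := by
        funext t
        apply Subtype.ext
        show g • g • g • (t : V) = t
        rw [smul_smul, smul_smul, show g * g * g = g ^ 3 by rw [pow_succ, pow_two], hg, one_smul]
      have hmod3 := Equiv.Perm.card_fixedPoints_modEq (p := 3) (n := 1) (f := σ) hσ
      rw [Fintype.card_coe, h5] at hmod3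
      have hle : Fintype.card ↥(Function.fixedPoints σ) ≤ ((fib q x).filter fun v => g • v = v).card := by
        refine Fintype.card_coe ((fib q x).filter fun v => g • v = v) ▸
          Fintype.card_le_of_injective (fun t => ⟨(t.1 : V), Finset.mem_filter.2 ⟨t.1.2, congrArg Subtype.val t.2⟩⟩) ?_
        intro s t h
        apply Subtype.ext; apply Subtype.ext
        exact congrArg (fun t : {v // v ∈ (fib q x).filter fun v => g • v = v} => (t : V)) h
      unfold Nat.ModEq at hmod3
      omega
    have hW : 6 < Nat.card W := by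
      have hsub : insert 1 (((fib q a) ∪ (fib q b') ∪ (fib q c)).filter fun v => g • v = v) ⊆ Finset.univ.filter (· ∈ W) := by
        intro v hv
        simp only [Finset.mem_insert, Finset.mem_filter, Finset.mem_univ, true_and] at hv ⊢
        rcases hv with rfl | ⟨-, hv⟩
        · exact W.one_mem
        · exact hv
      have := Finset.card_le_card hsub
      rw [Finset.card_insert_of_notMem (by simp [h1fib a ha, h1fib b' hb1, h1fib c hc]), Finset.filter_union,
        Finset.filter_union, Finset.card_union_of_disjoint, Finset.card_union_of_disjoint, ← Fintype.card_subtype] at this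
      · have := hcount a ha hA; have := hcount b' hb1 hB; have := hcount c hc hC
        rw [Nat.card_eq_fintype_card]
        omega
      · exact Finset.disjoint_left.2 fun v h h' => by simp [fib] at h h'; exact hab (h.1.symm.trans h'.1)
      · rw [Finset.disjoint_union_left]
        constructor <;> exact Finset.disjoint_left.2 fun v h h' => by
          simp [fib] at h h'
          first | exact hac (h.1.symm.trans h'.1) | exact hbc (h.1.symm.trans h'.1)
    intro v
    rw [one_smul]
    by_cases hv : v ∈ W
    · exact hv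
    have hidx : W.index ≤ 2 := by
      have hd := Subgroup.card_mul_index W
      rw [Nat.card_eq_fintype_card (α := V), hk] at hd
      have := Nat.mul_le_mul_right W.index (show 7 ≤ Nat.card W by omega)
      omega
    have hidx2 : W.index = 2 := by
      have h1 : W.index ≠ 1 := fun e => hv (by rw [Subgroup.index_eq_one.1 e]; exact Subgroup.mem_top v)
      have := W.index_ne_zero_of_finite
      omega
    have hgv : g • v ∉ W := fun h => hv (by
      have h' : g • g • v = g • v := h
      rw [smul_left_cancel_iff] at h'; exact h')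
    have hd : v * (g • v) ∈ W := (Subgroup.mul_mem_iff_of_index_two hidx2).2 (iff_of_false hv hgv)
    set d := v * (g • v) with hdd
    have hv' : g • v = v * d := by rw [hdd, ← mul_assoc, hV2, one_mul]
    have hgd : g • d = d := hd
    have h3v : (g ^ 3) • v = v * d * d * d := by
      rw [pow_succ, pow_two, mul_smul, mul_smul, hv', smul_mul', hv', hgd, smul_mul', smul_mul', hv', hgd]
    rw [hg, one_smul, mul_assoc (v * d), hV2, mul_one] at h3v
    exact hv'.trans h3v.symm
  refine isSolvable_of_invariant (fib q a) (hinv a) ?_ fun f hf => ?_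
  · have h := hclosure (fib q a) 4 (by omega) (h1fib a ha)
    have hd := Subgroup.card_mul_index (Subgroup.closure ((fib q a : Finset V) : Set V))
    rw [Nat.card_eq_fintype_card (α := V), hk] at hd
    have := Nat.mul_le_mul_right (Subgroup.closure ((fib q a : Finset V) : Set V)).index (show 5 ≤ Nat.card ↥(Subgroup.closure ((fib q a : Finset V) : Set V)) by omega)
    omega
  · apply CfsgLib.InvCharSmall.isSolvable_of_card_dvd_forty
    have h120 : Nat.card f.range ∣ 120 := by
      have := Subgroup.card_subgroup_dvd_card f.range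
      rw [Nat.card_perm, Nat.card_eq_fintype_card (α := {x // x ∈ fib q a}), Fintype.card_coe, hA] at this
      exact this
    have hn3 : ¬ 3 ∣ Nat.card f.range := by
      intro h
      have : Fact (Nat.Prime 3) := ⟨Nat.prime_three⟩
      have hG3 : 3 ∣ Nat.card G := h.trans (Subgroup.card_range_dvd f)
      obtain ⟨g, hg⟩ := exists_prime_orderOf_dvd_card' 3 hG3
      have := h3 g (hg ▸ pow_orderOf_eq_one g)
      rw [this, orderOf_one] at hg
      norm_num at hg
    exact ((Nat.Prime.coprime_iff_not_dvd Nat.prime_three).2 hn3).symm.dvd_of_dvd_mul_left h120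

end quadratic

end CfsgLib.InvCharQuad
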