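import Mathlib

/-!
# Order-3 symmetries of the quaternary form of the unitary Sylow group of order 64
-/

set_option autoImplicit false

namespace CfsgLib.InvCharSigma

variable {V W : Type*} [AddCommGroup V] [AddCommGroup W] [Finite V] [Finite W]

/-- An anisotropic quadratic map `V → W` (16 → 4) with all `b v` surjective has no nontrivial
isometry of order three. -/
theorem eq_id_of_isometry (hV : Nat.card V = 16) (hW : Nat.card W = 4)
    (hV2 : ∀ v : V, v + v = 0) (hW2 : ∀ a : W, a + a = 0)
    (q : V → W) (b : V →+ V →+ W) (hq : ∀ u v, q (u + v) = q u + q v + b u v)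
    (hq0 : ∀ v, q v = 0 → v = 0) (hb : ∀ v, v ≠ 0 → Function.Surjective (b v))
    (σ : V ≃+ V) (h3 : ∀ v, σ (σ (σ v)) = v) (hσ : ∀ v, q (σ v) = q v) : ∀ v, σ v = v := by
  classical
  have qz : q 0 = 0 := by
    have h := hq 0 0
    simp at h
    exact h
  have hsymm : ∀ u v, b u v = b v u := fun u v => by
    have h := hq u v
    rw [add_comm u v, hq v u, add_comm (q v)] at h
    exact (add_left_cancel h).symm
  have hbσ : ∀ u v, b (σ u) (σ v) = b u v := fun u v => by
    have h := hq (σ u) (σ v)
    rw [← map_add, hσ, hσ, hσ, hq u v] at h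
    exact (add_left_cancel h).symm
  have hbself : ∀ v, b v v = 0 := fun v => by
    have h := hq v v
    rw [hV2, qz, hW2, zero_add] at h
    exact h.symm
  by_cases hA : ∃ v, v ≠ 0 ∧ σ v = v
  · obtain ⟨v, hv, hvσ⟩ := hA
    by_contra! hc
    obtain ⟨w, hw⟩ := hc
    have hK : Nat.card (b v).ker = 4 := by
      have h := AddSubgroup.card_mul_index (b v).ker
      rw [AddSubgroup.index_ker, AddMonoidHom.range_eq_top.2 (hb v hv), AddSubgroup.card_top, hW, hV] at h
      omega
    have hu : w + σ w ∈ (b v).ker := by
      have h' : b v (σ w) = b v w := by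
        calc b v (σ w) = b (σ v) (σ w) := by rw [hvσ]
          _ = b v w := hbσ v w
      simp [h', hW2]
    have hinvar : ∀ y ∈ (b v).ker, σ y ∈ (b v).ker := fun y hy => by
      rw [AddMonoidHom.mem_ker] at hy ⊢
      rw [← hvσ, hbσ, hy]
    have hσu : σ (w + σ w) ≠ w + σ w := by
      intro h
      rw [map_add, add_comm w, add_left_cancel_iff] at h
      apply hw
      have := congrArg σ h
      rw [h3] at this
      exact this.symm
    set u := w + σ w
    have hσσu : σ (σ u) ≠ u := fun h => hσu (by
      have := congrArg σ h; rw [h3] at this; exact this.symm)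
    have hu0 : u ≠ 0 := fun h => hσu (by rw [h, map_zero])
    have hvu : ∀ y : V, σ y ≠ y → v ≠ y := fun y hy h => hy (h ▸ hvσ)
    have h12 : σ (σ u) ≠ σ u := fun h => hσu (σ.injective h)
    have h22 : σ (σ (σ u)) ≠ σ (σ u) := fun h => h12 (σ.injective h)
    have hcard : ({0, v, u, σ u, σ (σ u)} : Finset V).card = 5 := by
      rw [Finset.card_insert_of_notMem, Finset.card_insert_of_notMem, Finset.card_insert_of_notMem,
        Finset.card_pair h12.symm]
      · simp [hσu.symm, hσσu.symm]
      · simp [hvu u hσu, hvu _ h12, hvu _ h22]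
      · have hs0 : σ u ≠ 0 := fun h => hu0 (σ.injective (h.trans (map_zero σ).symm))
        have hss0 : σ (σ u) ≠ 0 := fun h => hs0 (σ.injective (h.trans (map_zero σ).symm))
        simp [hv.symm, hu0.symm, hs0.symm, hss0.symm]
    have hsub : ({0, v, u, σ u, σ (σ u)} : Finset V) ⊆ (Set.toFinite ((b v).ker : Set V)).toFinset := by
      intro y hy
      simp only [Finset.mem_insert, Finset.mem_singleton] at hy
      rw [Set.Finite.mem_toFinset]
      rcases hy with rfl | rfl | rfl | rfl | rfl
      · exact zero_mem _
      · exact hbself _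
      · exact hu
      · exact hinvar _ hu
      · exact hinvar _ (hinvar _ hu)
    have h5 := Finset.card_le_card hsub
    rw [hcard, ← Set.ncard_eq_toFinset_card, ← Nat.card_coe_set_eq] at h5
    change 5 ≤ Nat.card (b v).ker at h5
    omega
  push Not at hA
  exfalso
  have hfree : ∀ y, y + σ y + σ (σ y) = 0 := fun y => by_contra fun h => hA _ h (by
    rw [map_add, map_add, h3]; abel)
  have h12 : ∀ y, y + σ y = σ (σ y) := fun y => by
    have h := hfree y
    rw [add_eq_zero_iff_eq_neg] at h
    rw [h, neg_eq_of_add_eq_zero_left (hV2 _)]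
  have hqb : ∀ y, b y (σ y) = q y := fun y => by
    have h := hq y (σ y)
    rw [h12, hσ, hσ, hW2, zero_add] at h
    exact h.symm
  let P : V → AddSubgroup V := fun v =>
    { carrier := {y | y = 0 ∨ y = v ∨ y = σ v ∨ y = σ (σ v)}
      zero_mem' := Or.inl rfl
      neg_mem' := fun {y} hy => by rwa [neg_eq_of_add_eq_zero_left (hV2 _)]
      add_mem' := fun {y y'} hy hy' => by
        have e1 := h12 v
        have e2 : v + σ (σ v) = σ v := by rw [← e1, ← add_assoc, hV2, zero_add]
        have e3 : σ v + σ (σ v) = v := by rw [← e1, add_comm v, ← add_assoc, hV2, zero_add]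
        rcases hy with h | h | h | h <;> rcases hy' with h' | h' | h' | h' <;> rw [h, h'] <;>
          simp only [Set.mem_setOf_eq, zero_add, add_zero, hV2, e1, e2, e3, add_comm (σ v) v,
            add_comm (σ (σ v)) v, add_comm (σ (σ v)) (σ v), true_or, or_true] }
  have hPcard : ∀ v, v ≠ 0 → Nat.card (P v) = 4 := fun v hv => by
    have hn1 : σ v ≠ v := hA v hv
    have hn2 : σ (σ v) ≠ v := fun h => hn1 (by have := congrArg σ h; rw [h3] at this; exact this.symm)
    have hn12 : σ (σ v) ≠ σ v := fun h => hn1 (σ.injective h)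
    have h0 : σ v ≠ 0 := fun h => hv (σ.injective (h.trans (map_zero σ).symm))
    have h00 : σ (σ v) ≠ 0 := fun h => h0 (σ.injective (h.trans (map_zero σ).symm))
    have he : ((P v : AddSubgroup V) : Set V) = (({0, v, σ v, σ (σ v)} : Finset V) : Set V) := by
      ext y; simp [P]
    rw [← SetLike.coe_sort_coe, Nat.card_coe_set_eq, he, Set.ncard_coe_finset,
      Finset.card_insert_of_notMem, Finset.card_insert_of_notMem, Finset.card_pair hn12.symm]
    · simp [hn1.symm, hn2.symm]
    · simp [hv.symm, h0.symm, h00.symm]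
  have hdec : ∀ v w, v ≠ 0 → w ∉ P v → ∀ y, ∃ p ∈ P v, ∃ r ∈ P w, y = p + r := by
    intro v w hv hw y
    have hw0 : w ≠ 0 := fun h => hw (h ▸ zero_mem _)
    let f : P v × P w → V := fun p => p.1.1 + p.2.1
    have hf : Function.Injective f := by
      rintro ⟨p, r⟩ ⟨p', r'⟩ (h : (p : V) + r = p' + r')
      have hd : (p : V) - p' ∈ P v := sub_mem p.2 p'.2
      have hd' : (r' : V) - r ∈ P w := sub_mem r'.2 r.2
      have he : (p : V) - p' = r' - r := by rw [sub_eq_sub_iff_add_eq_add, h, add_comm]
      rw [← he] at hd'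
      by_cases hz : (p : V) - p' = 0
      · exact Prod.ext (Subtype.ext (sub_eq_zero.1 hz)) (Subtype.ext (sub_eq_zero.1 (hz ▸ he).symm).symm)
      · exfalso
        apply hw
        have hstep : ∀ z ∈ P v, σ z ∈ P v := by
          intro z hz
          rcases hz with rfl | rfl | rfl | rfl
          · rw [map_zero]; exact zero_mem _
          · exact Or.inr (Or.inr (Or.inl rfl))
          · exact Or.inr (Or.inr (Or.inr rfl))
          · exact Or.inr (Or.inl (h3 v))
        rcases hd' with h' | h' | h' | h'
        · exact absurd h' hz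
        · exact h' ▸ hd
        · have := hstep _ (hstep _ (h' ▸ hd)); rwa [h3] at this
        · have := hstep _ (h' ▸ hd); rwa [h3] at this
    have hbij : Function.Bijective f := (Nat.bijective_iff_injective_and_card f).2
      ⟨hf, by rw [Nat.card_prod, hPcard v hv, hPcard w hw0, hV]⟩
    obtain ⟨⟨p, r⟩, h⟩ := hbij.2 y
    exact ⟨p, p.2, r, r.2, h.symm⟩
  -- a functional with all values on generators in `{0, e}` cannot be onto
  have honto : ∀ v w L e, v ≠ 0 → w ∉ P v → L ≠ 0 → (∀ g ∈ ({v, σ v, w, σ w} : Set V), b L g = 0 ∨ b L g = e) → False := by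
    intro v w L e hv hw hL hgen
    have hsp : ∀ u, (b L u = 0 ∨ b L u = e) → (b L (σ u) = 0 ∨ b L (σ u) = e) →
        ∀ y ∈ P u, b L y = 0 ∨ b L y = e := by
      intro u h1 h2 y hy
      rcases hy with rfl | rfl | rfl | rfl
      · exact Or.inl (map_zero _)
      · exact h1
      · exact h2
      · rw [← h12 u, map_add]
        rcases h1 with h1 | h1 <;> rcases h2 with h2 | h2 <;> simp [h1, h2, hW2]
    have hall : ∀ a : W, a = 0 ∨ a = e := by
      intro a
      obtain ⟨y, rfl⟩ := hb L hL a
      obtain ⟨p, hp, r, hr, rfl⟩ := hdec v w hv hw y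
      rw [map_add]
      rcases hsp v (hgen _ (by simp)) (hgen _ (by simp)) p hp with h1 | h1 <;>
        rcases hsp w (hgen _ (by simp)) (hgen _ (by simp)) r hr with h2 | h2 <;> simp [h1, h2, hW2]
    have hinj : Function.Injective fun a : W => decide (a = 0) := by
      intro a a' h
      simp only [decide_eq_decide] at h
      rcases hall a with rfl | rfl <;> rcases hall a' with h' | h'
      · exact h'.symm
      · rw [h.1 rfl]
      · exact (h.2 h').trans h'.symm
      · exact h'.symm
    have := Nat.card_le_card_of_injective _ hinj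
    rw [hW, Nat.card_eq_fintype_card, Fintype.card_bool] at this
    omega
  -- equal values on two orbits
  have hequal : ∀ v w, v ≠ 0 → w ∉ P v → q v = q w → False := by
    intro v w hv hw hvw
    have hne : ∀ y, y ∉ P v → b v y = 0 → q y = q v → False := fun y hy h0 hqy => by
      have h := hq v y
      rw [h0, hqy, hW2, add_zero] at h
      refine hy ?_
      have := hq0 _ h
      rw [add_eq_zero_iff_eq_neg, neg_eq_of_add_eq_zero_left (hV2 _)] at this
      exact Or.inr (Or.inl this.symm)
    have hstep : ∀ y, y ∉ P v → σ y ∉ P v := by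
      intro y hy h
      apply hy
      rcases h with h | h | h | h
      · rw [σ.injective (h.trans (map_zero σ).symm)]; exact zero_mem _
      · exact Or.inr (Or.inr (Or.inr (by rw [← h, h3])))
      · exact Or.inr (Or.inl (σ.injective h))
      · exact Or.inr (Or.inr (Or.inl (σ.injective h)))
    have key : ∀ u, u ∉ P v → q u = q v → b v u = q v → False := by
      intro u hu hqu hbu
      have hL : v + σ u ≠ 0 := fun h => hstep u hu (by
        rw [add_eq_zero_iff_eq_neg, neg_eq_of_add_eq_zero_left (hV2 _)] at h
        exact Or.inr (Or.inl h.symm))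
      refine honto v u (v + σ u) (b v (σ u)) hv hu hL ?_
      intro g hg
      rcases hg with rfl | rfl | rfl | rfl <;> rw [map_add, AddMonoidHom.add_apply]
      · right; rw [hbself, zero_add, hsymm]
      · left; rw [hqb, hbσ, hsymm, hbu, hW2]
      · left; rw [hbu, hsymm (σ g) g, hqb, hqu, hW2]
      · right; rw [hbself, add_zero]
    -- the three values `b v (σᵏ w)` exhaust the nonzero elements
    have hsum : b v w + b v (σ w) + b v (σ (σ w)) = 0 := by rw [← map_add, ← map_add, hfree, map_zero]
    have hn0 : b v w ≠ 0 := fun h => hne w hw h hvw.symm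
    have hn1 : b v (σ w) ≠ 0 := fun h => hne _ (hstep w hw) h (by rw [hσ, hvw])
    have hn2 : b v (σ (σ w)) ≠ 0 := fun h => hne _ (hstep _ (hstep w hw)) h (by rw [hσ, hσ, hvw])
    have hd : b v w ≠ b v (σ w) := fun h => hn2 (by rwa [h, hW2, zero_add] at hsum)
    have hd1 : b v (σ w) ≠ b v (σ (σ w)) := fun h => hn0 (by rwa [h, add_assoc, hW2, add_zero] at hsum)
    have hd2 : b v w ≠ b v (σ (σ w)) := fun h => hn1 (by rwa [h, add_right_comm, hW2, zero_add] at hsum)
    have hcov : q v = b v w ∨ q v = b v (σ w) ∨ q v = b v (σ (σ w)) := by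
      have : Fintype W := Fintype.ofFinite W
      have hu : ({0, b v w, b v (σ w), b v (σ (σ w))} : Finset W) = Finset.univ :=
        Finset.eq_univ_of_card _ (by
          rw [← Nat.card_eq_fintype_card, hW, Finset.card_insert_of_notMem, Finset.card_insert_of_notMem,
            Finset.card_pair hd1]
          · simp [hd, hd2]
          · simp [hn0.symm, hn1.symm, hn2.symm])
      have hmem : q v ∈ ({0, b v w, b v (σ w), b v (σ (σ w))} : Finset W) := hu.symm ▸ Finset.mem_univ _
      simp only [Finset.mem_insert, Finset.mem_singleton] at hmem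
      exact hmem.resolve_left fun h => hv (hq0 v h)
    rcases hcov with h | h | h
    · exact key w hw hvw.symm h.symm
    · exact key _ (hstep w hw) (by rw [hσ, hvw]) h.symm
    · exact key _ (hstep _ (hstep w hw)) (by rw [hσ, hσ, hvw]) h.symm
  obtain ⟨v, hv⟩ : ∃ v : V, v ≠ 0 := by
    by_contra! h
    have : Subsingleton V := ⟨fun a a' => (h a).trans (h a').symm⟩
    rw [Nat.card_of_subsingleton (0 : V)] at hV
    omega
  obtain ⟨w, hw⟩ : ∃ w, w ∉ P v := by
    by_contra! h
    have e : P v = ⊤ := eq_top_iff.2 fun y _ => h y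
    have h4 := hPcard v hv
    rw [e, AddSubgroup.card_top, hV] at h4
    omega
  by_cases hvw : q v = q w
  · exact hequal v w hv hw hvw
  have hstepP : ∀ y, y ∉ P v → v + y ∉ P v := fun y hy h => hy (by
    have := (P v).add_mem (show v ∈ P v from Or.inr (Or.inl rfl)) h
    rwa [← add_assoc, hV2, zero_add] at this)
  have hgoal : ∀ y, y ∉ P v → q y = q w → b v y = 0 ∨ b v y = q v := by
    intro y hy hqy
    have hW4 : b v y = 0 ∨ b v y = q v ∨ b v y = q w ∨ b v y = q v + q w := by
      have : Fintype W := Fintype.ofFinite W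
      have hn0 : q v ≠ 0 := fun h => hv (hq0 v h)
      have hn1 : q w ≠ 0 := fun h => hw (hq0 w h ▸ zero_mem _)
      have hu : ({0, q v, q w, q v + q w} : Finset W) = Finset.univ := Finset.eq_univ_of_card _ (by
        rw [← Nat.card_eq_fintype_card, hW, Finset.card_insert_of_notMem, Finset.card_insert_of_notMem,
          Finset.card_pair (fun h => hn0 (by simpa using h))]
        · simpa [hn1] using hvw
        · have h01 : (0 : W) ≠ q v + q w := fun h => hvw (by
            have h' := h.symm
            rwa [add_eq_zero_iff_eq_neg, neg_eq_of_add_eq_zero_left (hW2 _)] at h')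
          simp [hn0.symm, hn1.symm, h01])
      have hmem : b v y ∈ ({0, q v, q w, q v + q w} : Finset W) := hu.symm ▸ Finset.mem_univ _
      simpa using hmem
    rcases hW4 with h | h | h | h
    · exact Or.inl h
    · exact Or.inr h
    · exfalso
      refine hequal v (v + y) hv (hstepP y hy) ?_
      rw [hq, hqy, h, add_assoc, hW2, add_zero]
    · exfalso
      refine hstepP y hy ?_
      have : q (v + y) = 0 := by rw [hq, hqy, h, hW2]
      rw [hq0 _ this]
      exact zero_mem _
  refine honto v w v (q v) hv hw hv ?_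
  intro g hg
  rcases hg with rfl | rfl | rfl | rfl
  · exact Or.inl (hbself _)
  · exact Or.inr (hqb _)
  · exact hgoal _ hw rfl
  · refine hgoal _ (fun h => hw ?_) (hσ w)
    rcases h with h | h | h | h
    · rw [σ.injective (h.trans (map_zero σ).symm)]; exact zero_mem _
    · exact Or.inr (Or.inr (Or.inr (by rw [← h, h3])))
    · exact Or.inr (Or.inl (σ.injective h))
    · exact Or.inr (Or.inr (Or.inl (σ.injective h)))

end CfsgLib.InvCharSigma
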