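import Mathlib
import Cfsg.Agent.Lib.PCore.Basic
import Cfsg.Agent.Lib.InvChar.Conj

/-!
Small upper central series in 2-groups, and fixed point bounds for a 2-group acting on an elementary
abelian normal subgroup.
-/

set_option autoImplicit false

open scoped commutatorElement

namespace CfsgLib.InvChar

open Subgroup

variable {T : Type*} [Group T]

local notation "Z" => Subgroup.upperCentralSeries T

theorem ucs_succ_eq_comap (i : ℕ) :
    Z (i + 1) = (center (T ⧸ Z i)).comap (QuotientGroup.mk' (Z i)) :=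
  Subgroup.upperCentralSeriesStep_eq_comap_center (Z i)

theorem mk_mem_center_iff {i : ℕ} {x : T} :
    QuotientGroup.mk' (Z i) x ∈ center (T ⧸ Z i) ↔ x ∈ Z (i + 1) := by
  rw [ucs_succ_eq_comap, mem_comap]

theorem comm_mem_of_ucs {i : ℕ} {x : T} (hx : x ∈ Z (i + 1)) (y : T) : ⁅x, y⁆ ∈ Z i :=
  Subgroup.mem_upperCentralSeries_succ_iff.1 hx y

theorem comm_mem_of_ucs' {i : ℕ} {x : T} (hx : x ∈ Z (i + 1)) (y : T) : ⁅y, x⁆ ∈ Z i := by
  rw [← commutatorElement_inv]; exact inv_mem (comm_mem_of_ucs hx y)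

variable [Finite T]

/-- A normal subgroup outside `Z i` meets `Z (i+1)` outside `Z i`. -/
theorem exists_mem_ucs_succ {p : ℕ} [Fact p.Prime] (hT : IsPGroup p T) (N : Subgroup T)
    [N.Normal] {i : ℕ} (h : ¬ N ≤ Z i) : ∃ x ∈ N, x ∈ Z (i + 1) ∧ x ∉ Z i := by
  haveI : (N.map (QuotientGroup.mk' (Z i))).Normal :=
    (inferInstance : N.Normal).map _ (QuotientGroup.mk'_surjective _)
  have hne : N.map (QuotientGroup.mk' (Z i)) ≠ ⊥ := by
    rwa [Ne, Subgroup.map_eq_bot_iff, QuotientGroup.ker_mk']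
  obtain ⟨_, ⟨x, hx, rfl⟩, hx1, hxc⟩ := exists_ne_one_mem_center (hT.to_quotient _) _ hne
  exact ⟨x, hx, mk_mem_center_iff.1 hxc, fun he => hx1 ((QuotientGroup.eq_one_iff x).2 he)⟩

theorem two_mul_card_le {A B : Subgroup T} (hAB : A ≤ B) {x : T} (hxB : x ∈ B) (hxA : x ∉ A) :
    2 * Nat.card ↥A ≤ Nat.card ↥B := by
  have h1 := relIndex_mul_relIndex ⊥ A B bot_le hAB
  rw [relIndex_bot_left, relIndex_bot_left] at h1
  have h2 : A.relIndex B ≠ 0 := by
    intro h0; rw [h0, mul_zero] at h1; exact Nat.card_pos.ne' h1.symm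
  have h3 : A.relIndex B ≠ 1 := fun h => hxA (relIndex_eq_one.1 h hxB)
  rw [← h1, mul_comm 2]
  exact Nat.mul_le_mul le_rfl (by omega)

theorem ucs_mono' {i j : ℕ} (h : i ≤ j) : Z i ≤ Z j := Subgroup.upperCentralSeries_mono T h

theorem two_pow_le_card_inf (hT : IsPGroup 2 T) (N : Subgroup T) [N.Normal] :
    ∀ k : ℕ, N ≤ Z k ∨ 2 ^ k ≤ Nat.card ↥(N ⊓ Z k) := by
  haveI : Fact (Nat.Prime 2) := ⟨Nat.prime_two⟩
  intro k
  induction k with
  | zero => exact Or.inr (by rw [pow_zero]; exact Nat.card_pos)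
  | succ k ih =>
    rcases ih with h | h
    · exact Or.inl (h.trans (ucs_mono' (Nat.le_succ k)))
    by_cases hle : N ≤ Z k
    · exact Or.inl (hle.trans (ucs_mono' (Nat.le_succ k)))
    obtain ⟨x, hxN, hx1, hx0⟩ := exists_mem_ucs_succ hT N hle
    have := two_mul_card_le (A := N ⊓ Z k) (B := N ⊓ Z (k + 1))
      (inf_le_inf_left _ (ucs_mono' (Nat.le_succ k))) (mem_inf.2 ⟨hxN, hx1⟩)
      (fun h => hx0 (mem_inf.1 h).2)
    exact Or.inr (by rw [pow_succ]; omega)

/-- A normal subgroup of order at most `2 ^ k` lies in `Z k`. -/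
theorem le_ucs_of_card_le (hT : IsPGroup 2 T) (N : Subgroup T) [N.Normal] {k : ℕ}
    (h : Nat.card ↥N ≤ 2 ^ k) : N ≤ Z k := by
  rcases two_pow_le_card_inf hT N k with h' | h'
  · exact h'
  · exact (eq_of_le_of_card_ge inf_le_left (h.trans h')).ge.trans inf_le_right

/-- If `|Z n| = 2 ^ n < |T|` then `|Z i| = 2 ^ i` for all `i ≤ n`. -/
theorem card_ucs (hT : IsPGroup 2 T) {n : ℕ} (hn : Nat.card ↥(Z n) = 2 ^ n)
    (hlt : 2 ^ n < Nat.card T) {i : ℕ} (hi : i ≤ n) : Nat.card ↥(Z i) = 2 ^ i := by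
  haveI : Fact (Nat.Prime 2) := ⟨Nat.prime_two⟩
  have key : ∀ j, i ≤ j → j ≤ n → 2 ^ (j - i) * Nat.card ↥(Z i) ≤ Nat.card ↥(Z j) := by
    intro j hij hjn
    induction j, hij using Nat.le_induction with
    | base => simp
    | succ j hij ih =>
      have h1 := ih (by omega)
      have hne : ¬ (⊤ : Subgroup T) ≤ Z j := by
        intro htop
        have h2 := card_le_of_le (htop.trans (ucs_mono' (show j ≤ n by omega)))
        rw [card_top] at h2
        omega
      obtain ⟨x, -, hx1, hx0⟩ := exists_mem_ucs_succ hT ⊤ hne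
      have h3 := two_mul_card_le (ucs_mono' (Nat.le_succ j)) hx1 hx0
      have h4 : 2 ^ (j + 1 - i) = 2 * 2 ^ (j - i) := by
        rw [← pow_succ']; congr 1; omega
      rw [h4, mul_assoc]
      calc 2 * (2 ^ (j - i) * Nat.card ↥(Z i)) ≤ 2 * Nat.card ↥(Z j) := Nat.mul_le_mul_left 2 h1
        _ ≤ _ := h3
  have h2 : 2 ^ i ≤ Nat.card ↥(Z i) := by
    rcases two_pow_le_card_inf hT ⊤ i with h' | h'
    · have h2 := card_le_of_le h'
      rw [card_top] at h2
      have := Nat.pow_le_pow_right (by norm_num : 1 ≤ 2) hi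
      omega
    · rwa [top_inf_eq] at h'
  refine le_antisymm ?_ h2
  have h1 := key n hi le_rfl
  rw [hn, show 2 ^ n = 2 ^ (n - i) * 2 ^ i by rw [← pow_add]; congr 1; omega] at h1
  exact Nat.le_of_mul_le_mul_left h1 (by positivity)

theorem card_center_quotient (i : ℕ) :
    Nat.card ↥(Z i) * Nat.card ↥(center (T ⧸ Z i)) = Nat.card ↥(Z (i + 1)) := by
  rw [ucs_succ_eq_comap, CfsgLib.PCore.card_comap_mk']

/-- An element acting on an elementary abelian group with square acting trivially has at least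
square root many fixed points. -/
theorem card_le_fixed_sq (X : Subgroup T) (hc : ∀ u ∈ X, ∀ v ∈ X, u * v = v * u)
    (h2 : ∀ v ∈ X, v * v = 1) (a : T) (ha : ∀ v ∈ X, a * v * a⁻¹ ∈ X)
    (ha2 : ∀ v ∈ X, a * a * v = v * (a * a)) :
    Nat.card ↥X ≤ Nat.card ↥(X ⊓ centralizer ({a} : Set T)) *
      Nat.card ↥(X ⊓ centralizer ({a} : Set T)) := by
  let f : ↥X →* ↥X := MonoidHom.mk' (fun v => ⟨(v : T) * (a * v * a⁻¹), mul_mem v.2 (ha v v.2)⟩)
    (fun v w => by
      apply Subtype.ext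
      change (v : T) * w * (a * (v * w) * a⁻¹) = v * (a * v * a⁻¹) * (w * (a * w * a⁻¹))
      rw [← conj_mul]
      exact (show Commute (w : T) (a * v * a⁻¹) from
        hc w w.2 _ (ha v v.2)).mul_mul_mul_comm _ _)
  have hker : f.ker.map X.subtype ≤ X ⊓ centralizer ({a} : Set T) := by
    rintro _ ⟨v, hv, rfl⟩
    refine ⟨v.2, mem_centralizer_singleton_iff.2 ?_⟩
    have h1 : (v : T) * (a * v * a⁻¹) = 1 := congrArg Subtype.val hv
    have h3 : a * (v : T) * a⁻¹ = v :=
      (eq_inv_of_mul_eq_one_right h1).trans (inv_eq_of_mul_eq_one_right (h2 v v.2))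
    exact (mul_inv_eq_iff_eq_mul.1 h3).symm
  have hrange : f.range.map X.subtype ≤ X ⊓ centralizer ({a} : Set T) := by
    rintro _ ⟨_, ⟨v, rfl⟩, rfl⟩
    refine ⟨SetLike.coe_mem _, mem_centralizer_singleton_iff.2 ?_⟩
    have h3 : a * ((v : T) * (a * v * a⁻¹)) * a⁻¹ = v * (a * v * a⁻¹) := by
      rw [← conj_mul, hc v v.2 _ (ha v v.2)]
      congr 1
      calc a * (a * (v : T) * a⁻¹) * a⁻¹ = (a * a * v) * (a * a)⁻¹ := by group
        _ = v := by rw [ha2 v v.2, mul_inv_cancel_right]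
    exact (mul_inv_eq_iff_eq_mul.1 h3).symm
  have h1 := Subgroup.card_le_of_le hker
  have h4 := Subgroup.card_le_of_le hrange
  rw [Subgroup.card_map_of_injective X.subtype_injective] at h1 h4
  rw [Subgroup.card_eq_card_quotient_mul_card_subgroup f.ker,
    Nat.card_congr (QuotientGroup.quotientKerEquivRange f).toEquiv]
  exact Nat.mul_le_mul h4 h1

/-- A 2-group `P` acting on an elementary abelian normal subgroup `X ≤ P`. -/
theorem card_le_fixed_pow (hT : IsPGroup 2 T) (X : Subgroup T) [hX : X.Normal]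
    (hc : ∀ u ∈ X, ∀ v ∈ X, u * v = v * u) (h2 : ∀ v ∈ X, v * v = 1) :
    ∀ (n : ℕ) (P : Subgroup T), X ≤ P → Nat.card ↥P ≤ n →
      Nat.card ↥X ≤ Nat.card ↥(X ⊓ centralizer (P : Set T)) ^ X.relIndex P := by
  haveI : Fact (Nat.Prime 2) := ⟨Nat.prime_two⟩
  intro n
  induction n with
  | zero => intro P _ h; exact absurd h (by have := Nat.card_pos (α := ↥P); omega)
  | succ n ih =>
    intro P hXP hP
    by_cases hPX : P ≤ X
    · rw [relIndex_eq_one.2 hPX, pow_one]
      refine card_le_of_le (le_inf le_rfl fun u hu => mem_centralizer_iff.2 fun v hv => ?_)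
      exact hc v (hPX hv) u hu
    obtain ⟨e, he⟩ := IsPGroup.iff_card.1 (hT.to_subgroup P)
    obtain ⟨f, hf⟩ := IsPGroup.iff_card.1 (hT.to_subgroup X)
    have hfe : f < e := by
      obtain ⟨x, hxP, hxX⟩ := SetLike.not_le_iff_exists.1 hPX
      have h := two_mul_card_le hXP hxP hxX
      rw [he, hf, ← pow_succ', Nat.pow_le_pow_iff_right (by norm_num)] at h
      omega
    obtain ⟨M', hM', hXM'⟩ := Sylow.exists_subgroup_card_pow_prime_le (G := ↥P) 2
      (n := f) (m := e - 1) (he ▸ pow_dvd_pow 2 (Nat.sub_le e 1)) (X.subgroupOf P)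
      (by rw [Nat.card_congr (subgroupOfEquivOfLe hXP).toEquiv, hf]) (by omega)
    set M := M'.map P.subtype with hM
    have hMP : M ≤ P := map_subtype_le _
    have hXM : X ≤ M := fun x hx => ⟨⟨x, hXP hx⟩, hXM' (mem_subgroupOf.2 hx), rfl⟩
    have hMc : Nat.card ↥M = 2 ^ (e - 1) := by rw [hM, card_subtype, hM']
    have hidx : M'.index = 2 := by
      have h := M'.card_mul_index
      rw [hM', he] at h
      exact Nat.eq_of_mul_eq_mul_left (by positivity) (h.trans (by rw [← pow_succ]; congr 1; omega))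
    have hrel : X.relIndex P = X.relIndex M * 2 := by
      rw [← relIndex_mul_relIndex X M P hXM hMP]
      congr 1
      rw [Subgroup.relIndex, hM, subgroupOf, comap_map_eq_self_of_injective P.subtype_injective,
        hidx]
    have hlt : Nat.card ↥M ≤ n := by
      have : 2 ^ (e - 1) < 2 ^ e := Nat.pow_lt_pow_right (by norm_num) (by omega)
      omega
    obtain ⟨a, ha⟩ : ∃ a : ↥P, a ∉ M' := by
      by_contra hc'
      push Not at hc'
      rw [(eq_top_iff' _).2 hc', index_top] at hidx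
      omega
    haveI := normal_of_index_eq_two hidx
    have hstep := card_le_fixed_sq (X ⊓ centralizer (M : Set T))
      (fun u hu v hv => hc u hu.1 v hv.1) (fun v hv => h2 v hv.1) (a : T)
      (fun v hv => mem_inf.2 ⟨hX.conj_mem v hv.1 a, mem_centralizer_iff.2 fun m hm => by
        obtain ⟨m', hm', rfl⟩ := hm
        have hc1 : ((a⁻¹ * m' * a : ↥P) : T) ∈ M :=
          ⟨_, by simpa using (inferInstance : M'.Normal).conj_mem m' hm' a⁻¹, rfl⟩
        have h := mem_centralizer_iff.1 hv.2 _ hc1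
        push_cast at h
        calc (m' : T) * ((a : T) * v * (a : T)⁻¹)
            = (a : T) * ((a : T)⁻¹ * m' * a * v) * (a : T)⁻¹ := by group
          _ = _ := by rw [h]; simp [mul_assoc]⟩)
      (fun v hv => mem_centralizer_iff.1 hv.2 _
        ⟨a * a, (mul_mem_iff_of_index_two hidx).2 Iff.rfl, rfl⟩)
    have hle : (X ⊓ centralizer (M : Set T)) ⊓ centralizer ({(a : T)} : Set T) ≤
        X ⊓ centralizer (P : Set T) := by
      intro v hv
      refine mem_inf.2 ⟨hv.1.1, mem_centralizer_iff.2 fun q hq => ?_⟩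
      by_cases hqM : (⟨q, hq⟩ : ↥P) ∈ M'
      · exact mem_centralizer_iff.1 hv.1.2 _ ⟨_, hqM, rfl⟩
      · have hqa : (⟨q, hq⟩ : ↥P) * a ∈ M' :=
          (mul_mem_iff_of_index_two hidx).2 (iff_of_false hqM ha)
        have h1 : Commute (q * (a : T)) v := mem_centralizer_iff.1 hv.1.2 _ ⟨_, hqa, rfl⟩
        have h3 : Commute (a : T) v := (mem_centralizer_singleton_iff.1 hv.2).symm
        have := h1.mul_left h3.inv_left
        rwa [mul_inv_cancel_right] at this
    have h5 := card_le_of_le hle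
    calc Nat.card ↥X ≤ Nat.card ↥(X ⊓ centralizer (M : Set T)) ^ X.relIndex M := ih M hXM hlt
      _ ≤ (Nat.card ↥(X ⊓ centralizer (P : Set T)) *
            Nat.card ↥(X ⊓ centralizer (P : Set T))) ^ X.relIndex M :=
          Nat.pow_le_pow_left (hstep.trans (Nat.mul_le_mul h5 h5)) _
      _ = _ := by rw [hrel, ← pow_two, ← pow_mul, mul_comm]

end CfsgLib.InvChar
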