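import Mathlib
import Cfsg.Agent.Lib.InvChar.UpperSeries
import Cfsg.Agent.Lib.PGroup.Frattini
import Cfsg.Agent.Lib.Involutions.Basic

/-!
2-groups `T` of order at least `2 ^ 14` with fourth centre of order 16 in which the centralizer of
the third centre has a small Frattini subgroup (Gorenstein–Harada type configuration).
-/

set_option autoImplicit false
set_option linter.style.haveILetI false

open scoped commutatorElement

namespace CfsgLib.InvChar

open Subgroup

variable {T : Type*} [Group T] [Finite T] {W : Subgroup T}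

local notation "Z" => Subgroup.upperCentralSeries T

/-- The standing hypotheses. -/
structure BigHyp (T : Type*) [Group T] (W : Subgroup T) : Prop where
  hT : IsPGroup 2 T
  hbig : 2 ^ 14 ≤ Nat.card T
  hfour : Nat.card ↥(Subgroup.upperCentralSeries T 4) = 16
  hW : W = Subgroup.centralizer ((Subgroup.upperCentralSeries T 3 : Subgroup T) : Set T)
  hsmall : Nat.card ↥(frattini ↥W) ≤ 8
  hdeep : ∀ U : Subgroup ↥W, U.index ≤ 16 → frattini ↥W ≤ U

namespace BigHyp

variable (h : BigHyp T W)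
include h

theorem card_ucs' {i : ℕ} (hi : i ≤ 4) : Nat.card ↥(Z i) = 2 ^ i :=
  card_ucs h.hT (n := 4) h.hfour (by have := h.hbig; omega) hi

theorem mem_W_iff {x : T} : x ∈ W ↔ ∀ z ∈ Z 3, z * x = x * z := by
  rw [h.hW, mem_centralizer_iff]; rfl

theorem normal : W.Normal := by
  rw [h.hW]; infer_instance

theorem exists_pick {i : ℕ} (hi : i < 4) : ∃ x, x ∈ Z (i + 1) ∧ x ∉ Z i := by
  by_contra hc
  push Not at hc
  have := card_le_of_le (show Z (i + 1) ≤ Z i from hc)
  rw [h.card_ucs' (by omega), h.card_ucs' (by omega), Nat.pow_le_pow_iff_right (by norm_num)] at this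
  omega

theorem mem_or_of_succ {i : ℕ} (hi : i < 4) {z x : T} (hz : z ∈ Z (i + 1)) (hz' : z ∉ Z i)
    (hx : x ∈ Z (i + 1)) : x ∈ Z i ∨ x * z ∈ Z i := by
  have hle : Z i ≤ Z (i + 1) := ucs_mono' (Nat.le_succ i)
  have hidx : ((Z i).subgroupOf (Z (i + 1))).index = 2 := by
    have h1 := ((Z i).subgroupOf (Z (i + 1))).card_mul_index
    rw [Nat.card_congr (subgroupOfEquivOfLe hle).toEquiv, h.card_ucs' (by omega),
      h.card_ucs' (by omega), pow_succ] at h1
    exact Nat.eq_of_mul_eq_mul_left (by positivity) h1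
  by_cases hxi : x ∈ Z i
  · exact Or.inl hxi
  · exact Or.inr (mem_subgroupOf.1
      ((mul_mem_iff_of_index_two hidx (a := ⟨x, hx⟩) (b := ⟨z, hz⟩)).2
        (iff_of_false (fun e => hxi (mem_subgroupOf.1 e)) fun e => hz' (mem_subgroupOf.1 e))))

/-- The image of the Frattini subgroup of `W` in `T`. -/
theorem phi_props :
    ∀ x ∈ W, x * x ∈ (frattini ↥W).map W.subtype ∧
      ∀ y ∈ W, ⁅x, y⁆ ∈ (frattini ↥W).map W.subtype := by
  haveI : Fact (Nat.Prime 2) := ⟨Nat.prime_two⟩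
  intro x hx
  have hWp : IsPGroup 2 ↥W := h.hT.to_subgroup W
  refine ⟨⟨⟨x, hx⟩ ^ 2, CfsgLib.PGroup.pow_mem_frattini hWp _, by simp [pow_two]⟩, fun y hy => ?_⟩
  exact ⟨⁅(⟨x, hx⟩ : ↥W), ⟨y, hy⟩⁆, CfsgLib.PGroup.commutator_le_frattini hWp
    (commutator_mem_commutator (mem_top _) (mem_top _)), map_commutatorElement _ _ _⟩

theorem phi_normal : ((frattini ↥W).map W.subtype).Normal := by
  haveI := h.normal
  exact ConjAct.normal_of_characteristic_of_normal

theorem index_le : W.index ≤ 8 := by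
  classical
  obtain ⟨z2, hz2, hz2'⟩ := h.exists_pick (i := 1) (by norm_num)
  obtain ⟨z3, hz3, hz3'⟩ := h.exists_pick (i := 2) (by norm_num)
  let f : T ⧸ W → ↥(Z 1) × ↥(Z 2) := fun q =>
    (⟨⁅q.out, z2⁆, comm_mem_of_ucs' hz2 _⟩, ⟨⁅q.out, z3⁆, comm_mem_of_ucs' hz3 _⟩)
  have hf : Function.Injective f := by
    intro q q' hqq
    have h2 := congrArg (fun p => (p.1 : T)) hqq
    have h3 := congrArg (fun p => (p.2 : T)) hqq
    simp only [f, commutatorElement_def, mul_left_inj] at h2 h3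
    rw [← QuotientGroup.out_eq' q, ← QuotientGroup.out_eq' q', QuotientGroup.eq, h.mem_W_iff]
    set w := q.out⁻¹ * q'.out with hw
    have c2 : Commute z2 w := by
      show z2 * w = w * z2
      calc z2 * w = q.out⁻¹ * (q.out * z2 * q.out⁻¹) * q'.out := by rw [hw]; group
        _ = q.out⁻¹ * (q'.out * z2 * q'.out⁻¹) * q'.out := by rw [h2]
        _ = _ := by rw [hw]; group
    have c3 : Commute z3 w := by
      show z3 * w = w * z3
      calc z3 * w = q.out⁻¹ * (q.out * z3 * q.out⁻¹) * q'.out := by rw [hw]; group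
        _ = q.out⁻¹ * (q'.out * z3 * q'.out⁻¹) * q'.out := by rw [h3]
        _ = _ := by rw [hw]; group
    have c1 : ∀ u ∈ Z 1, Commute u w := fun u hu => by
      rw [Subgroup.upperCentralSeries_one] at hu
      exact (mem_center_iff.1 hu w).symm
    have c12 : ∀ u ∈ Z 2, Commute u w := fun u hu => by
      rcases h.mem_or_of_succ (by norm_num) hz2 hz2' hu with e | e
      · exact c1 u e
      · simpa using (c1 _ e).mul_left c2.inv_left
    intro u hu
    rcases h.mem_or_of_succ (by norm_num) hz3 hz3' hu with e | e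
    · exact c12 u e
    · exact (show Commute u w by simpa using (c12 _ e).mul_left c3.inv_left).eq
  have := Nat.card_le_card_of_injective f hf
  rw [Nat.card_prod, h.card_ucs' (by norm_num), h.card_ucs' (by norm_num)] at this
  exact this

theorem main : Nat.card T = 2 ^ 14 ∧ Nat.card ↥W = 2 ^ 11 ∧ W.index = 8 ∧
    (frattini ↥W).map W.subtype = Z 3 := by
  haveI : Fact (Nat.Prime 2) := ⟨Nat.prime_two⟩
  haveI := h.normal
  set F := (frattini ↥W).map W.subtype with hF
  haveI : F.Normal := h.phi_normal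
  obtain ⟨k, hk⟩ := IsPGroup.iff_card.1 (h.hT.to_subgroup F)
  have hk3 : k ≤ 3 := by
    have h1 : Nat.card ↥F ≤ 8 := by rw [hF, card_subtype]; exact h.hsmall
    rw [hk] at h1
    exact (Nat.pow_le_pow_iff_right (by norm_num)).1 (h1.trans (by norm_num))
  have hFeq : F = Z k :=
    eq_of_le_of_card_ge (le_ucs_of_card_le h.hT F hk.le) (by rw [h.card_ucs' (by omega), hk])
  obtain ⟨e, he, hei⟩ : ∃ e, e ≤ 3 ∧ W.index = 2 ^ e := by
    obtain ⟨e, he⟩ := h.hT.index W
    refine ⟨e, ?_, he⟩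
    exact (Nat.pow_le_pow_iff_right (by norm_num)).1
      ((he ▸ h.index_le).trans (by norm_num))
  obtain ⟨m, hm⟩ := IsPGroup.iff_card.1 h.hT
  obtain ⟨w, hw⟩ := IsPGroup.iff_card.1 (h.hT.to_subgroup W)
  have hwe : m = w + e := by
    have := W.card_mul_index
    rw [hw, hei, hm, ← pow_add] at this
    exact (Nat.pow_right_injective (le_refl 2) this).symm
  -- fixed points in `W / Z k`
  set π := QuotientGroup.mk' (Z k) with hπ
  set V := W.map π with hV
  haveI : V.Normal := h.normal.map _ (QuotientGroup.mk'_surjective _)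
  have hVc : ∀ u ∈ V, ∀ v ∈ V, u * v = v * u := by
    rintro _ ⟨x, hx, rfl⟩ _ ⟨y, hy, rfl⟩
    rw [← commutatorElement_eq_one_iff_mul_comm, ← map_commutatorElement, hπ,
      QuotientGroup.mk'_apply, QuotientGroup.eq_one_iff, ← hFeq]
    exact (h.phi_props x hx).2 y hy
  have hV2 : ∀ v ∈ V, v * v = 1 := by
    rintro _ ⟨x, hx, rfl⟩
    rw [← map_mul, hπ, QuotientGroup.mk'_apply, QuotientGroup.eq_one_iff, ← hFeq]
    exact (h.phi_props x hx).1
  have hbound := card_le_fixed_pow (h.hT.to_quotient _) V hVc hV2 _ ⊤ le_top le_rfl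
  have hcent : Nat.card ↥(center (T ⧸ Z k)) = 2 := by
    have := card_center_quotient (T := T) k
    rw [h.card_ucs' (by omega), h.card_ucs' (by omega), pow_succ] at this
    exact Nat.eq_of_mul_eq_mul_left (by positivity) this
  have hfix : Nat.card ↥(V ⊓ centralizer ((⊤ : Subgroup (T ⧸ Z k)) : Set (T ⧸ Z k))) ≤ 2 := by
    rw [← hcent]
    refine card_le_of_le fun v hv => ?_
    exact mem_center_iff.2 fun g => mem_centralizer_iff.1 hv.2 g (mem_top g)
  have hZW : Z k ≤ W := hFeq ▸ map_subtype_le _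
  have hcomap : V.comap π = W := by
    rw [hV, comap_map_eq, hπ, QuotientGroup.ker_mk', sup_eq_left.2 hZW]
  have hrel : V.relIndex ⊤ = W.index := by
    rw [relIndex_top_right, ← hcomap, index_comap_of_surjective _ (QuotientGroup.mk'_surjective _)]
  have hcardW : 2 ^ w = 2 ^ k * Nat.card ↥V := by
    rw [← hw, ← hcomap, hπ, CfsgLib.PCore.card_comap_mk', h.card_ucs' (by omega)]
  rw [hrel, hei] at hbound
  have hwk : w ≤ k + 2 ^ e := by
    have h1 : 2 ^ w ≤ 2 ^ (k + 2 ^ e) := by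
      rw [hcardW, pow_add]
      exact Nat.mul_le_mul_left _ (hbound.trans (Nat.pow_le_pow_left hfix _))
    exact (Nat.pow_le_pow_iff_right (by norm_num)).1 h1
  have hm14 : 14 ≤ m := (Nat.pow_le_pow_iff_right (by norm_num)).1 (hm ▸ h.hbig)
  have hfin : e = 3 ∧ k = 3 ∧ w = 11 ∧ m = 14 := by
    have h3 : 2 ^ e ≤ 2 ^ 3 := Nat.pow_le_pow_right (by norm_num) he
    interval_cases e <;> norm_num at hwk ⊢ <;> omega
  obtain ⟨rfl, rfl, rfl, rfl⟩ := hfin
  exact ⟨hm, hw, hei, hFeq⟩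

theorem card_T : Nat.card T = 2 ^ 14 := h.main.1
theorem card_W : Nat.card ↥W = 2 ^ 11 := h.main.2.1
theorem index_W : W.index = 8 := h.main.2.2.1
theorem phi_eq : (frattini ↥W).map W.subtype = Z 3 := h.main.2.2.2

theorem ucs_three_le : Z 3 ≤ W := h.phi_eq ▸ map_subtype_le _

theorem sq_mem {x : T} (hx : x ∈ W) : x * x ∈ Z 3 := h.phi_eq ▸ (h.phi_props x hx).1

theorem comm_mem {x y : T} (hx : x ∈ W) (hy : y ∈ W) : ⁅x, y⁆ ∈ Z 3 :=
  h.phi_eq ▸ (h.phi_props x hx).2 y hy

theorem commute_ucs {z x : T} (hz : z ∈ Z 3) (hx : x ∈ W) : Commute z x := h.mem_W_iff.1 hx z hz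

theorem ucs_three_comm {u v : T} (hu : u ∈ Z 3) (hv : v ∈ Z 3) : Commute u v :=
  h.commute_ucs hu (h.ucs_three_le hv)

/-- No subgroup of index at most 8 in `W` above `Z 3` is elementary abelian modulo `Z 2`. -/
theorem no_elementary (U : Subgroup T) (hU : U ≤ W) (hZ : Z 3 ≤ U) (hcard : 2 ^ 8 ≤ Nat.card ↥U)
    (hsq : ∀ x ∈ U, x * x ∈ Z 2) (hcm : ∀ x ∈ U, ∀ y ∈ U, ⁅x, y⁆ ∈ Z 2) : False := by
  obtain ⟨z3, hz3, hz3'⟩ := h.exists_pick (i := 2) (by norm_num)
  have h0 : Z 2 ≤ U ∧ Z 2 ≤ Z 2 ∧ z3 ∉ Z 2 := ⟨(ucs_mono' (by norm_num)).trans hZ, le_rfl, hz3'⟩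
  obtain ⟨M, hM⟩ := ({M : Subgroup T | M ≤ U ∧ Z 2 ≤ M ∧ z3 ∉ M}).toFinite.exists_maximal ⟨Z 2, h0⟩
  obtain ⟨hMU, hMZ, hMz⟩ := hM.prop
  have hn : ∀ x ∈ U, ∀ v ∈ M, x * v * x⁻¹ ∈ M := fun x hx v hv => by
    have := mul_mem (hMZ (hcm x hx v (hMU hv))) hv
    simpa [commutatorElement_def] using this
  have hkey : ∀ x ∈ U, x ∉ M → z3 * x ∈ M := by
    intro x hx hxM
    by_contra hcx
    let M' : Subgroup T :=
      { carrier := {y | y ∈ U ∧ (y ∈ M ∨ y * x ∈ M)}
        one_mem' := ⟨one_mem U, Or.inl (one_mem M)⟩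
        mul_mem' := by
          rintro a b ⟨ha, ha'⟩ ⟨hb, hb'⟩
          refine ⟨mul_mem ha hb, ?_⟩
          have hxx : x * x ∈ M := hMZ (hsq x hx)
          rcases ha' with ha' | ha' <;> rcases hb' with hb' | hb'
          · exact Or.inl (mul_mem ha' hb')
          · exact Or.inr (by rw [mul_assoc]; exact mul_mem ha' hb')
          · refine Or.inr ?_
            have h1 := mul_mem ha' (hn x⁻¹ (inv_mem hx) b hb')
            have e : a * x * (x⁻¹ * b * x⁻¹⁻¹) = a * b * x := by group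
            rwa [e] at h1
          · refine Or.inl ?_
            have h1 := mul_mem (mul_mem ha' (hn x⁻¹ (inv_mem hx) _ hb')) (inv_mem hxx)
            have e : a * x * (x⁻¹ * (b * x) * x⁻¹⁻¹) * (x * x)⁻¹ = a * b := by group
            rwa [e] at h1
        inv_mem' := by
          rintro a ⟨ha, ha'⟩
          refine ⟨inv_mem ha, ?_⟩
          rcases ha' with ha' | ha'
          · exact Or.inl (inv_mem ha')
          · refine Or.inr ?_
            have h1 := mul_mem (hn x hx _ (inv_mem ha')) (hMZ (hsq x hx))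
            have e : x * (a * x)⁻¹ * x⁻¹ * (x * x) = a⁻¹ * x := by group
            rwa [e] at h1 }
    have hM' : M' ∈ {M : Subgroup T | M ≤ U ∧ Z 2 ≤ M ∧ z3 ∉ M} :=
      ⟨fun y hy => hy.1, fun y hy => ⟨hMU (hMZ hy), Or.inl (hMZ hy)⟩,
        fun hz => hz.2.elim hMz hcx⟩
    have hMM : M ≤ M' := fun y hy => ⟨hMU hy, Or.inl hy⟩
    refine hxM (hM.le_of_ge hM' hMM ⟨hx, Or.inr (hMZ (hsq x hx))⟩)
  have hz3U : z3 ∈ U := hZ hz3
  have hrel : M.relIndex U ∣ 2 := by
    rw [relIndex_dvd_two_iff]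
    refine ⟨z3, hz3U, fun x hx => ?_⟩
    by_cases hxM : x ∈ M
    · exact Or.inr hxM
    · left
      have := hn z3⁻¹ (inv_mem hz3U) _ (hkey x hx hxM)
      have e : z3⁻¹ * (z3 * x) * z3⁻¹⁻¹ = x * z3 := by group
      rwa [e] at this
  have hidx : (M.subgroupOf W).index ≤ 16 := by
    have h1 := relIndex_mul_relIndex ⊥ M W bot_le (hMU.trans hU)
    have h2 := relIndex_mul_relIndex ⊥ M U bot_le hMU
    rw [relIndex_bot_left, relIndex_bot_left] at h1 h2
    have h3 : M.relIndex U ≤ 2 := Nat.le_of_dvd two_pos hrel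
    have h5 : 2 ^ 7 ≤ Nat.card ↥M := by
      by_contra hlt
      have : Nat.card ↥U < 2 ^ 8 := by
        rw [← h2]
        calc Nat.card ↥M * M.relIndex U ≤ Nat.card ↥M * 2 := Nat.mul_le_mul_left _ h3
          _ < 2 ^ 8 := by omega
      omega
    change M.relIndex W ≤ 16
    rw [h.card_W] at h1
    by_contra hgt
    have : 2 ^ 7 * 17 ≤ 2 ^ 11 := h1 ▸ Nat.mul_le_mul h5 (by omega)
    omega
  have hle := h.hdeep _ hidx
  refine hMz ?_
  have hz : z3 ∈ (frattini ↥W).map W.subtype := by rw [h.phi_eq]; exact hz3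
  obtain ⟨v, hv, rfl⟩ := hz
  exact hle hv

theorem commutator_eq : (commutator ↥W).map W.subtype = Z 3 := by
  haveI : Fact (Nat.Prime 2) := ⟨Nat.prime_two⟩
  haveI := h.normal
  set D := (commutator ↥W).map W.subtype with hD
  haveI : D.Normal := ConjAct.normal_of_characteristic_of_normal
  have hle : D ≤ Z 3 := h.phi_eq ▸
    map_mono (CfsgLib.PGroup.commutator_le_frattini (h.hT.to_subgroup W))
  by_contra hne
  have hD2 : D ≤ Z 2 := by
    refine le_ucs_of_card_le h.hT D ?_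
    obtain ⟨j, hj⟩ := IsPGroup.iff_card.1 (h.hT.to_subgroup D)
    have h1 : Nat.card ↥D < 2 ^ 3 := by
      by_contra hge
      exact hne (eq_of_le_of_card_ge hle (by rw [h.card_ucs' (by norm_num)]; omega))
    rw [hj] at h1 ⊢
    have := (Nat.pow_lt_pow_iff_right (by norm_num)).1 h1
    exact Nat.pow_le_pow_right (by norm_num) (by omega)
  have hcW : ∀ x ∈ W, ∀ y ∈ W, ⁅x, y⁆ ∈ Z 2 := fun x hx y hy =>
    hD2 ⟨⁅(⟨x, hx⟩ : ↥W), ⟨y, hy⟩⁆, commutator_mem_commutator (mem_top _) (mem_top _),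
      map_commutatorElement _ _ _⟩
  let U : Subgroup T :=
    { carrier := {x | x ∈ W ∧ x * x ∈ Z 2}
      one_mem' := ⟨one_mem W, by simp⟩
      mul_mem' := by
        rintro a b ⟨ha, ha2⟩ ⟨hb, hb2⟩
        refine ⟨mul_mem ha hb, ?_⟩
        have h1 := mul_mem (mul_mem ((inferInstance : (Z 2).Normal).conj_mem _ (hcW b hb a ha) a) ha2) hb2
        have e : a * ⁅b, a⁆ * a⁻¹ * (a * a) * (b * b) = a * b * (a * b) := by
          rw [commutatorElement_def]; group
        rwa [e] at h1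
      inv_mem' := by
        rintro a ⟨ha, ha2⟩
        exact ⟨inv_mem ha, by rw [← mul_inv_rev]; exact inv_mem ha2⟩ }
  have hUW : U ≤ W := fun x hx => hx.1
  have hs : ((Z 2).subgroupOf (Z 3)).index = 2 := by
    have h1 := ((Z 2).subgroupOf (Z 3)).card_mul_index
    rw [Nat.card_congr (subgroupOfEquivOfLe (ucs_mono' (by norm_num))).toEquiv,
      h.card_ucs' (by norm_num), h.card_ucs' (by norm_num)] at h1
    omega
  have hpar : ∀ x ∈ Z 3, ∀ y ∈ Z 3, (x ∈ Z 2 ↔ y ∈ Z 2) → x * y ∈ Z 2 := fun x hx y hy hxy =>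
    mem_subgroupOf.1 ((mul_mem_iff_of_index_two hs (a := ⟨x, hx⟩) (b := ⟨y, hy⟩)).2
      (by simpa [mem_subgroupOf] using hxy))
  have hZU : Z 3 ≤ U := fun x hx => ⟨h.ucs_three_le hx, hpar x hx x hx Iff.rfl⟩
  refine h.no_elementary U hUW hZU ?_ (fun x hx => hx.2) (fun x hx y hy => hcW x hx.1 y hy.1)
  have hrel : U.relIndex W ∣ 2 := by
    rw [relIndex_dvd_two_iff]
    by_cases hall : ∀ a ∈ W, a ∈ U
    · exact ⟨1, one_mem W, fun b hb => Or.inr (hall b hb)⟩
    push Not at hall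
    obtain ⟨a, haW, haU⟩ := hall
    refine ⟨a, haW, fun b hb => ?_⟩
    by_cases hbU : b ∈ U
    · exact Or.inr hbU
    refine Or.inl ⟨mul_mem hb haW, ?_⟩
    have hq : b * b * (a * a) ∈ Z 2 :=
      hpar _ (h.sq_mem hb) _ (h.sq_mem haW)
        (iff_of_false (fun e => hbU ⟨hb, e⟩) fun e => haU ⟨haW, e⟩)
    have h1 := mul_mem ((inferInstance : (Z 2).Normal).conj_mem _ (hcW a haW b hb) b) hq
    have e : b * ⁅a, b⁆ * b⁻¹ * (b * b * (a * a)) = b * a * (b * a) := by
      rw [commutatorElement_def]; group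
    rwa [e] at h1
  have h1 := relIndex_mul_relIndex ⊥ U W bot_le hUW
  rw [relIndex_bot_left, relIndex_bot_left, h.card_W] at h1
  have := Nat.le_of_dvd two_pos hrel
  by_contra hlt
  have : Nat.card ↥U * U.relIndex W ≤ 2 ^ 8 * 2 := Nat.mul_le_mul (by omega) this
  omega

theorem ucs_three_sq {z : T} (hz : z ∈ Z 3) : z * z = 1 := by
  let E : Subgroup T :=
    { carrier := {x | x ∈ Z 3 ∧ x * x = 1}
      one_mem' := ⟨one_mem _, one_mul 1⟩
      mul_mem' := by
        rintro a b ⟨ha, ha2⟩ ⟨hb, hb2⟩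
        refine ⟨mul_mem ha hb, ?_⟩
        calc a * b * (a * b) = a * (b * a) * b := by group
          _ = a * (a * b) * b := by rw [(h.ucs_three_comm hb ha).eq]
          _ = (a * a) * (b * b) := by group
          _ = 1 := by rw [ha2, hb2, one_mul]
      inv_mem' := by
        rintro a ⟨ha, ha2⟩
        exact ⟨inv_mem ha, by rw [← mul_inv_rev, ha2, inv_one]⟩ }
  have hle : Z 3 ≤ E := by
    rw [← h.commutator_eq, map_subtype_commutator, commutator_le]
    intro x hx y hy
    refine ⟨h.comm_mem hx hy, ?_⟩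
    have h1 : ⁅x * x, y⁆ = 1 :=
      commutatorElement_eq_one_iff_mul_comm.2 (h.commute_ucs (h.sq_mem hx) hy).eq
    have h2 : Commute x ⁅x, y⁆ := (h.commute_ucs (h.comm_mem hx hy) hx).symm
    calc ⁅x, y⁆ * ⁅x, y⁆ = (x * ⁅x, y⁆ * x⁻¹) * ⁅x, y⁆ := by rw [h2.eq, mul_inv_cancel_right]
      _ = ⁅x * x, y⁆ := by simp [commutatorElement_def, mul_assoc]
      _ = 1 := h1
  exact (hle hz).2

theorem inv_eq_self {z : T} (hz : z ∈ Z 3) : z⁻¹ = z :=
  inv_eq_of_mul_eq_one_right (h.ucs_three_sq hz)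

/-- Elements centralizing `Z 2` square into `W`. -/
theorem sq_mem_W {s z3 : T} (hs : ∀ u ∈ Z 2, Commute u s) (hz3 : z3 ∈ Z 3) (hz3' : z3 ∉ Z 2) :
    s * s ∈ W := by
  have he : ⁅s, z3⁆ ∈ Z 2 := comm_mem_of_ucs' hz3 s
  have he' : Commute ⁅s, z3⁆ s := hs _ he
  have h2 : Commute z3 (s * s) := by
    have h3 : s * z3 = ⁅s, z3⁆ * (z3 * s) := by rw [commutatorElement_def]; group
    show z3 * (s * s) = s * s * z3
    calc z3 * (s * s) = (⁅s, z3⁆ * ⁅s, z3⁆) * (z3 * (s * s)) := by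
          rw [h.ucs_three_sq (ucs_mono' (by norm_num) he), one_mul]
      _ = ⁅s, z3⁆ * (⁅s, z3⁆ * (z3 * s)) * s := by group
      _ = ⁅s, z3⁆ * (s * z3) * s := by rw [← h3]
      _ = (⁅s, z3⁆ * s) * (z3 * s) := by group
      _ = (s * ⁅s, z3⁆) * (z3 * s) := by rw [he'.eq]
      _ = s * s * z3 := by rw [mul_assoc s, ← h3]; group
  rw [h.mem_W_iff]
  intro u hu
  rcases h.mem_or_of_succ (by norm_num) hz3 hz3' hu with e | e
  · exact ((hs u e).mul_right (hs u e)).eq
  · have h3 : Commute (u * z3 * z3⁻¹) (s * s) :=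
      ((hs _ e).mul_right (hs _ e)).mul_left h2.inv_left
    rw [mul_inv_cancel_right] at h3
    exact h3.eq

theorem exists_with_commutators (a1 : ↥(Z 1)) (a2 : ↥(Z 2)) {z2 z3 : T}
    (hz2 : z2 ∈ Z 2) (hz2' : z2 ∉ Z 1) (hz3 : z3 ∈ Z 3) (hz3' : z3 ∉ Z 2) :
    ∃ s : T, ⁅s, z2⁆ = a1 ∧ ⁅s, z3⁆ = a2 := by
  classical
  let f : T ⧸ W → ↥(Z 1) × ↥(Z 2) := fun q =>
    (⟨⁅q.out, z2⁆, comm_mem_of_ucs' hz2 _⟩, ⟨⁅q.out, z3⁆, comm_mem_of_ucs' hz3 _⟩)
  have hf : Function.Injective f := by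
    intro q q' hqq
    have h2 := congrArg (fun p => (p.1 : T)) hqq
    have h3 := congrArg (fun p => (p.2 : T)) hqq
    simp only [f, commutatorElement_def, mul_left_inj] at h2 h3
    rw [← QuotientGroup.out_eq' q, ← QuotientGroup.out_eq' q', QuotientGroup.eq, h.mem_W_iff]
    set w := q.out⁻¹ * q'.out with hw
    have c2 : Commute z2 w := by
      show z2 * w = w * z2
      calc z2 * w = q.out⁻¹ * (q.out * z2 * q.out⁻¹) * q'.out := by rw [hw]; group
        _ = q.out⁻¹ * (q'.out * z2 * q'.out⁻¹) * q'.out := by rw [h2]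
        _ = _ := by rw [hw]; group
    have c3 : Commute z3 w := by
      show z3 * w = w * z3
      calc z3 * w = q.out⁻¹ * (q.out * z3 * q.out⁻¹) * q'.out := by rw [hw]; group
        _ = q.out⁻¹ * (q'.out * z3 * q'.out⁻¹) * q'.out := by rw [h3]
        _ = _ := by rw [hw]; group
    intro u hu
    have c1 : ∀ u ∈ Z 1, Commute u w := fun u hu => by
      rw [Subgroup.upperCentralSeries_one] at hu
      exact (mem_center_iff.1 hu w).symm
    have c12 : ∀ u ∈ Z 2, Commute u w := fun u hu => by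
      rcases h.mem_or_of_succ (by norm_num) hz2 hz2' hu with e | e
      · exact c1 u e
      · simpa using (c1 _ e).mul_left c2.inv_left
    rcases h.mem_or_of_succ (by norm_num) hz3 hz3' hu with e | e
    · exact c12 u e
    · exact (show Commute u w by simpa using (c12 _ e).mul_left c3.inv_left).eq
  have hbij : Function.Bijective f := (Nat.bijective_iff_injective_and_card f).2 ⟨hf, by
    rw [Nat.card_prod, h.card_ucs' (by norm_num), h.card_ucs' (by norm_num)]
    exact h.index_W⟩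
  obtain ⟨q, hq⟩ := hbij.2 (a1, a2)
  exact ⟨q.out, congrArg (fun p => (p.1 : T)) hq, congrArg (fun p => (p.2 : T)) hq⟩

omit h in
theorem conj_eq_comm_mul (s z : T) : s * z * s⁻¹ = ⁅s, z⁆ * z := by
  rw [commutatorElement_def]; group

theorem quotient_dihedral : ∃ (_ : W.Normal), Nonempty (T ⧸ W ≃* DihedralGroup 4) := by
  haveI := h.normal
  refine ⟨inferInstance, ?_⟩
  obtain ⟨z1, hz1, hz1'⟩ := h.exists_pick (i := 0) (by norm_num)
  obtain ⟨z2, hz2, hz2'⟩ := h.exists_pick (i := 1) (by norm_num)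
  obtain ⟨z3, hz3, hz3'⟩ := h.exists_pick (i := 2) (by norm_num)
  have hz1ne : z1 ≠ 1 := fun e => hz1' (e ▸ one_mem _)
  have hcz1 : ∀ x : T, Commute z1 x := fun x => by
    have := hz1
    rw [zero_add, Subgroup.upperCentralSeries_one] at this
    exact (mem_center_iff.1 this x).symm
  obtain ⟨a, ha2, ha3⟩ := h.exists_with_commutators ⟨z1, hz1⟩ 1 hz2 hz2' hz3 hz3'
  obtain ⟨b, hb2, hb3⟩ := h.exists_with_commutators 1 ⟨z2, hz2⟩ hz2 hz2' hz3 hz3'
  change ⁅a, z2⁆ = z1 at ha2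
  change ⁅a, z3⁆ = 1 at ha3
  change ⁅b, z2⁆ = 1 at hb2
  change ⁅b, z3⁆ = z2 at hb3
  have hz2sq : z2 * z2 = 1 := h.ucs_three_sq (ucs_mono' (by norm_num) hz2)
  have hz1sq : z1 * z1 = 1 := h.ucs_three_sq (ucs_mono' (by norm_num) hz1)
  have A2 : a * z2 * a⁻¹ = z1 * z2 := by rw [conj_eq_comm_mul, ha2]
  have A3 : a * z3 * a⁻¹ = z3 := by rw [conj_eq_comm_mul, ha3, one_mul]
  have B2 : b * z2 * b⁻¹ = z2 := by rw [conj_eq_comm_mul, hb2, one_mul]
  have B3 : b * z3 * b⁻¹ = z2 * z3 := by rw [conj_eq_comm_mul, hb3]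
  have key : ∀ w : T, w * z2 * w⁻¹ = z2 → w * z3 * w⁻¹ = z3 → w ∈ W := by
    intro w h2 h3
    rw [h.mem_W_iff]
    intro u hu
    have c2 : Commute z2 w := (mul_inv_eq_iff_eq_mul.1 h2).symm
    have c3 : Commute z3 w := (mul_inv_eq_iff_eq_mul.1 h3).symm
    have c12 : ∀ u ∈ Z 2, Commute u w := fun u hu => by
      have c1 : ∀ u ∈ Z 1, Commute u w := fun u hu => by
        rw [Subgroup.upperCentralSeries_one] at hu
        exact (mem_center_iff.1 hu w).symm
      rcases h.mem_or_of_succ (by norm_num) hz2 hz2' hu with e | e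
      · exact c1 u e
      · simpa using (c1 _ e).mul_left c2.inv_left
    rcases h.mem_or_of_succ (by norm_num) hz3 hz3' hu with e | e
    · exact (c12 u e).eq
    · exact (show Commute u w by simpa using (c12 _ e).mul_left c3.inv_left).eq
  have haW : a * a ∈ W := by
    refine key _ ?_ ?_
    · calc a * a * z2 * (a * a)⁻¹ = a * (a * z2 * a⁻¹) * a⁻¹ := by group
        _ = (a * z1 * a⁻¹) * (a * z2 * a⁻¹) := by rw [conj_mul, A2]
        _ = z2 := by rw [A2, ← (hcz1 a).eq, mul_inv_cancel_right, ← mul_assoc, hz1sq, one_mul]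
    · calc a * a * z3 * (a * a)⁻¹ = a * (a * z3 * a⁻¹) * a⁻¹ := by group
        _ = z3 := by rw [A3, A3]
  have hbW : b * b ∈ W := by
    refine key _ ?_ ?_
    · calc b * b * z2 * (b * b)⁻¹ = b * (b * z2 * b⁻¹) * b⁻¹ := by group
        _ = z2 := by rw [B2, B2]
    · calc b * b * z3 * (b * b)⁻¹ = b * (b * z3 * b⁻¹) * b⁻¹ := by group
        _ = (b * z2 * b⁻¹) * (b * z3 * b⁻¹) := by rw [conj_mul, B3]
        _ = z3 := by rw [B2, B3, ← mul_assoc, hz2sq, one_mul]
  have hRz : ∀ v : T, (a * b) * v * (a * b)⁻¹ = a * (b * v * b⁻¹) * a⁻¹ := fun v => by group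
  have R2 : (a * b) * z2 * (a * b)⁻¹ = z1 * z2 := by rw [hRz, B2, A2]
  have R3 : (a * b) * z3 * (a * b)⁻¹ = z1 * z2 * z3 := by rw [hRz, B3, ← conj_mul, A2, A3]
  have RR : (a * b) * (a * b) * z3 * ((a * b) * (a * b))⁻¹ = z1 * z3 := by
    calc (a * b) * (a * b) * z3 * ((a * b) * (a * b))⁻¹
        = (a * b) * ((a * b) * z3 * (a * b)⁻¹) * (a * b)⁻¹ := by group
      _ = ((a * b) * z1 * (a * b)⁻¹) * ((a * b) * z2 * (a * b)⁻¹) * ((a * b) * z3 * (a * b)⁻¹) := by
          rw [conj_mul, conj_mul, R3]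
      _ = z1 * (z1 * z2) * (z1 * z2 * z3) := by
          rw [R2, R3, ← (hcz1 (a * b)).eq, mul_inv_cancel_right]
      _ = (z1 * z1) * (z2 * (z1 * z2)) * z3 := by group
      _ = z1 * z3 := by
          rw [hz1sq, one_mul, ← mul_assoc z2, ← (hcz1 z2).eq, mul_assoc z1, hz2sq, mul_one]
  have ne2 : a * b * (a * b) ∉ W := by
    intro hw
    have h1 := h.mem_W_iff.1 hw z3 hz3
    have : z1 * z3 = z3 := by rw [← RR, ← h1, mul_inv_cancel_right]
    exact hz1ne (mul_eq_right.1 this)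
  have h4 : a * b * (a * b) * (a * b * (a * b)) ∈ W := by
    have R22 : (a * b) * (a * b) * z2 * ((a * b) * (a * b))⁻¹ = z2 := by
      calc (a * b) * (a * b) * z2 * ((a * b) * (a * b))⁻¹
          = (a * b) * ((a * b) * z2 * (a * b)⁻¹) * (a * b)⁻¹ := by group
        _ = ((a * b) * z1 * (a * b)⁻¹) * ((a * b) * z2 * (a * b)⁻¹) := by rw [conj_mul, R2]
        _ = z2 := by
            rw [R2, ← (hcz1 (a * b)).eq, mul_inv_cancel_right, ← mul_assoc, hz1sq, one_mul]
    set r := a * b * (a * b)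
    refine key _ ?_ ?_
    · calc r * r * z2 * (r * r)⁻¹ = r * (r * z2 * r⁻¹) * r⁻¹ := by group
        _ = z2 := by rw [R22, R22]
    · calc r * r * z3 * (r * r)⁻¹ = r * (r * z3 * r⁻¹) * r⁻¹ := by group
        _ = (r * z1 * r⁻¹) * (r * z3 * r⁻¹) := by rw [conj_mul, RR]
        _ = z3 := by rw [RR, ← (hcz1 r).eq, mul_inv_cancel_right, ← mul_assoc, hz1sq, one_mul]
  have ord2 : ∀ v : T, v * v ∈ W → v ∉ W → orderOf (v : T ⧸ W) = 2 := fun v hv hv' =>
    orderOf_eq_prime (by rw [pow_two, ← QuotientGroup.mk_mul, QuotientGroup.eq_one_iff]; exact hv)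
      (fun e => hv' ((QuotientGroup.eq_one_iff v).1 e))
  have haN : a ∉ W := fun hw => hz1ne (by
    rw [← ha2, commutatorElement_eq_one_iff_mul_comm, h.mem_W_iff.1 hw z2 (ucs_mono' (by norm_num) hz2)])
  have hbN : b ∉ W := fun hw => hz2' (by
    rw [← hb3, commutatorElement_eq_one_iff_mul_comm.2 (h.mem_W_iff.1 hw z3 hz3).symm]
    exact one_mem _)
  have hA := ord2 a haW haN
  have hB := ord2 b hbW hbN
  obtain ⟨e⟩ := CfsgLib.Involutions.closure_pair_mulEquiv_dihedral hA hB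
  have ho : orderOf ((a : T ⧸ W) * (b : T ⧸ W)) = 4 := by
    rw [← QuotientGroup.mk_mul]
    haveI : Fact (Nat.Prime 2) := ⟨Nat.prime_two⟩
    refine orderOf_eq_prime_pow (p := 2) (n := 1) ?_ ?_
    · rw [pow_one, pow_two, ← QuotientGroup.mk_mul, QuotientGroup.eq_one_iff]; exact ne2
    · rw [show (2 : ℕ) ^ (1 + 1) = 2 * 2 by norm_num, pow_mul, pow_two, pow_two,
        ← QuotientGroup.mk_mul, ← QuotientGroup.mk_mul, QuotientGroup.eq_one_iff]
      exact h4
  rw [ho] at e
  have htop : closure ({(a : T ⧸ W), (b : T ⧸ W)} : Set (T ⧸ W)) = ⊤ := by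
    refine eq_top_of_card_eq _ ?_
    rw [Nat.card_congr e.toEquiv, DihedralGroup.nat_card]
    exact h.index_W.symm
  exact ⟨(MulEquiv.trans ((MulEquiv.subgroupCongr htop).trans topEquiv).symm e)⟩

/-! ### The centre of `W` -/

omit h in
theorem comm_mul_right (x a b : T) : ⁅x, a * b⁆ = ⁅x, a⁆ * (a * ⁅x, b⁆ * a⁻¹) := by
  simp [commutatorElement_def, mul_assoc]

theorem comm_bilin_right {x a b : T} (hx : x ∈ W) (ha : a ∈ W) (hb : b ∈ W) :
    ⁅x, a * b⁆ = ⁅x, a⁆ * ⁅x, b⁆ := by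
  rw [comm_mul_right, ← (h.commute_ucs (h.comm_mem hx hb) ha).eq, mul_inv_cancel_right]

theorem comm_bilin_left {x y a : T} (hx : x ∈ W) (hy : y ∈ W) (ha : a ∈ W) :
    ⁅x * y, a⁆ = ⁅x, a⁆ * ⁅y, a⁆ := by
  rw [← commutatorElement_inv a, h.comm_bilin_right ha hx hy, mul_inv_rev, commutatorElement_inv,
    commutatorElement_inv]
  exact (h.ucs_three_comm (h.comm_mem hy ha) (h.comm_mem hx ha)).eq

/-- The commutator form modulo `Z 2`. -/
def form (_ : BigHyp T W) (x y : T) : T ⧸ Subgroup.upperCentralSeries T 2 :=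
  QuotientGroup.mk' (Subgroup.upperCentralSeries T 2) ⁅x, y⁆

theorem form_mul_right {x a b : T} (hx : x ∈ W) (ha : a ∈ W) (hb : b ∈ W) :
    h.form x (a * b) = h.form x a * h.form x b := by
  rw [form, form, form, h.comm_bilin_right hx ha hb, map_mul]

theorem form_mul_left {x y a : T} (hx : x ∈ W) (hy : y ∈ W) (ha : a ∈ W) :
    h.form (x * y) a = h.form x a * h.form y a := by
  rw [form, form, form, h.comm_bilin_left hx hy ha, map_mul]

theorem form_central {x y : T} (hx : x ∈ W) (hy : y ∈ W) (g : T ⧸ Subgroup.upperCentralSeries T 2) :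
    Commute g (h.form x y) :=
  mem_center_iff.1 (mk_mem_center_iff.2 (h.comm_mem hx hy)) g

theorem form_sq {x y : T} (hx : x ∈ W) (hy : y ∈ W) : h.form x y * h.form x y = 1 := by
  rw [form, ← map_mul, h.ucs_three_sq (h.comm_mem hx hy), map_one]

theorem form_self (x : T) : h.form x x = 1 := by
  simp [form, commutatorElement_def]

theorem form_conj {x y : T} (hx : x ∈ W) (hy : y ∈ W) (g : T) :
    h.form (g * x * g⁻¹) (g * y * g⁻¹) = h.form x y := by
  have e : ⁅g * x * g⁻¹, g * y * g⁻¹⁆ = g * ⁅x, y⁆ * g⁻¹ := by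
    simp [commutatorElement_def, mul_assoc]
  rw [form, form, e, map_mul, map_mul, map_inv]
  exact mul_inv_eq_iff_eq_mul.2 (h.form_central hx hy _).eq

theorem form_one {x z : T} (hx : x ∈ W) (hz : z ∈ Z 3) : h.form x z = 1 := by
  rw [form, commutatorElement_eq_one_iff_mul_comm.2 (h.commute_ucs hz hx).eq.symm, map_one]

theorem form_congr {x a b : T} (hx : x ∈ W) (ha : a ∈ W) (hab : a⁻¹ * b ∈ Z 3) :
    h.form x b = h.form x a := by
  conv_lhs => rw [show b = a * (a⁻¹ * b) by group]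
  rw [h.form_mul_right hx ha (h.ucs_three_le hab), h.form_one hx hab, mul_one]

/-- Conjugation by an element of `W` does not change the form. -/
theorem form_conj_W {x v w : T} (hx : x ∈ W) (hv : v ∈ W) (hw : w ∈ W) :
    h.form x (w * v * w⁻¹) = h.form x v := by
  refine h.form_congr hx hv ?_
  have := h.comm_mem (inv_mem hv) hw
  simpa [commutatorElement_def, mul_assoc] using this

/-- Inside the centralizer of `Z 2` the form pairs every element trivially with its conjugates. -/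
theorem form_conj_self {s x : T} (hs : ∀ u ∈ Z 2, Commute u s) (hx : x ∈ W) :
    h.form x (s * x * s⁻¹) = 1 := by
  haveI := h.normal
  obtain ⟨z3, hz3, hz3'⟩ := h.exists_pick (i := 2) (by norm_num)
  by_cases hsW : s ∈ W
  · rw [h.form_conj_W hx hx hsW, h.form_self]
  set x' := s * x * s⁻¹ with hx'
  have hx'W : x' ∈ W := h.normal.conj_mem x hx s
  set u := ⁅x, x'⁆ with hu
  have huZ : u ∈ Z 3 := h.comm_mem hx hx'W
  have hfix : s * u * s⁻¹ = u := by
    have e : s * u * s⁻¹ = ⁅x', (s * s) * x * (s * s)⁻¹⁆ := by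
      simp [hu, hx', commutatorElement_def, mul_assoc]
    have h2 : (s * s) * x * (s * s)⁻¹ = ⁅s * s, x⁆ * x := conj_eq_comm_mul _ _
    have hss := h.sq_mem_W hs hz3 hz3'
    rw [e, h2, h.comm_bilin_right hx'W (h.ucs_three_le (h.comm_mem hss hx)) hx,
      commutatorElement_eq_one_iff_mul_comm.2 (h.commute_ucs (h.comm_mem hss hx) hx'W).eq.symm,
      one_mul, ← commutatorElement_inv, ← hu, h.inv_eq_self huZ]
  rw [form, QuotientGroup.mk'_apply, QuotientGroup.eq_one_iff]
  rcases h.mem_or_of_succ (by norm_num) hz3 hz3' huZ with e | e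
  · exact e
  · exfalso
    apply hsW
    have c1 : Commute u s := (mul_inv_eq_iff_eq_mul.1 hfix).symm
    have c3 : Commute z3 s := by
      have := c1.inv_left.mul_left (hs _ e)
      simpa [mul_assoc] using this
    rw [h.mem_W_iff]
    intro v hv
    rcases h.mem_or_of_succ (by norm_num) hz3 hz3' hv with e' | e'
    · exact (hs v e').eq
    · exact (show Commute v s by simpa using (hs _ e').mul_left c3.inv_left).eq

theorem not_ucs_four_le_center (h4 : ∀ z ∈ Z 4, ∀ x ∈ W, Commute z x) : False := by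
  classical
  haveI := h.normal
  obtain ⟨z1, hz1, hz1'⟩ := h.exists_pick (i := 0) (by norm_num)
  obtain ⟨z2, hz2, hz2'⟩ := h.exists_pick (i := 1) (by norm_num)
  obtain ⟨z3, hz3, hz3'⟩ := h.exists_pick (i := 2) (by norm_num)
  obtain ⟨z4, hz4, hz4'⟩ := h.exists_pick (i := 3) (by norm_num)
  have hz1_2 : z1 ∈ Z 2 := ucs_mono' (by norm_num) hz1
  obtain ⟨s1, hs12, hs13⟩ := h.exists_with_commutators 1 ⟨z1, hz1_2⟩ hz2 hz2' hz3 hz3'
  obtain ⟨s2, hs22, hs23⟩ := h.exists_with_commutators 1 ⟨z2, hz2⟩ hz2 hz2' hz3 hz3'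
  change ⁅s1, z3⁆ = z1 at hs13
  change ⁅s2, z3⁆ = z2 at hs23
  have hcent : ∀ s : T, ⁅s, z2⁆ = 1 → ∀ u ∈ Z 2, Commute u s := by
    intro s hs u hu
    have c2 : Commute z2 s := (commutatorElement_eq_one_iff_mul_comm.1 hs).symm
    have c1 : ∀ u ∈ Z 1, Commute u s := fun u hu => by
      rw [Subgroup.upperCentralSeries_one] at hu
      exact (mem_center_iff.1 hu s).symm
    rcases h.mem_or_of_succ (by norm_num) hz2 hz2' hu with e | e
    · exact c1 u e
    · simpa using (c1 _ e).mul_left c2.inv_left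
  have hc1 := hcent s1 hs12
  have hc2 := hcent s2 hs22
  set K := centralizer ((Z 2 : Subgroup T) : Set T) with hK
  have hWK : W ≤ K := fun w hw => mem_centralizer_iff.2 fun u hu =>
    (h.commute_ucs (ucs_mono' (by norm_num) hu) hw).eq
  have hs1K : s1 ∈ K := mem_centralizer_iff.2 fun u hu => (hc1 u hu).eq
  have hs2K : s2 ∈ K := mem_centralizer_iff.2 fun u hu => (hc2 u hu).eq
  have hKc : ∀ s ∈ K, ∀ u ∈ Z 2, Commute u s := fun s hs u hu => mem_centralizer_iff.1 hs u hu
  -- the four cosets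
  have hmemW : ∀ s ∈ K, Commute z3 s → s ∈ W := by
    intro s hs c3
    rw [h.mem_W_iff]
    intro v hv
    rcases h.mem_or_of_succ (by norm_num) hz3 hz3' hv with e' | e'
    · exact (hKc s hs v e').eq
    · exact (show Commute v s by simpa using (hKc s hs _ e').mul_left c3.inv_left).eq
  have hcoset : ∀ s ∈ K, ∃ w ∈ W, s = w ∨ s = s1 * w ∨ s = s2 * w ∨ s = s1 * s2 * w := by
    intro s hs
    have hsame : ∀ t ∈ K, ⁅t, z3⁆ = ⁅s, z3⁆ → ∃ w ∈ W, s = t * w := by
      intro t ht htz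
      refine ⟨t⁻¹ * s, hmemW _ (mul_mem (inv_mem ht) hs) ?_, by group⟩
      show z3 * (t⁻¹ * s) = t⁻¹ * s * z3
      calc z3 * (t⁻¹ * s) = t⁻¹ * ((⁅t, z3⁆ * z3) * s) := by rw [commutatorElement_def]; group
        _ = t⁻¹ * ((⁅s, z3⁆ * z3) * s) := by rw [htz]
        _ = _ := by rw [commutatorElement_def]; group
    have h12 : ⁅s1 * s2, z3⁆ = z2 * z1 := by
      have e : ⁅s1 * s2, z3⁆ = s1 * ⁅s2, z3⁆ * s1⁻¹ * ⁅s1, z3⁆ := by
        simp [commutatorElement_def, mul_assoc]
      rw [e, hs23, hs13, ← (hc1 z2 hz2).eq, mul_inv_cancel_right]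
    have hcs : ⁅s, z3⁆ ∈ Z 2 := comm_mem_of_ucs' hz3 s
    have hZ1 : ∀ u ∈ Z 1, u = 1 ∨ u = z1 := by
      intro u hu
      rcases h.mem_or_of_succ (i := 0) (by norm_num) hz1 hz1' hu with e | e
      · exact Or.inl (by simpa using e)
      · refine Or.inr ?_
        have e' : u * z1 = 1 := by simpa using e
        rw [eq_inv_of_mul_eq_one_left e', h.inv_eq_self (ucs_mono' (by norm_num) hz1)]
    rcases h.mem_or_of_succ (by norm_num) hz2 hz2' hcs with e | e
    · rcases hZ1 _ e with e' | e'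
      · exact ⟨s, hmemW s hs (commutatorElement_eq_one_iff_mul_comm.1 e').symm, Or.inl rfl⟩
      · obtain ⟨w, hw, hw'⟩ := hsame s1 hs1K (by rw [hs13, e'])
        exact ⟨w, hw, Or.inr (Or.inl hw')⟩
    · have hz2i : z2⁻¹ = z2 := h.inv_eq_self (ucs_mono' (by norm_num) hz2)
      rcases hZ1 _ e with e' | e'
      · obtain ⟨w, hw, hw'⟩ := hsame s2 hs2K (by
          rw [hs23, eq_inv_of_mul_eq_one_left e', hz2i])
        exact ⟨w, hw, Or.inr (Or.inr (Or.inl hw'))⟩
      · obtain ⟨w, hw, hw'⟩ := hsame (s1 * s2) (mul_mem hs1K hs2K) (by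
          rw [h12]
          calc z2 * z1 = z1 * z2⁻¹ := by
                rw [hz2i]
                exact (h.ucs_three_comm (ucs_mono' (by norm_num) hz2)
                  (ucs_mono' (by norm_num) hz1)).eq
            _ = ⁅s, z3⁆ := by rw [← e', mul_inv_cancel_right])
        exact ⟨w, hw, Or.inr (Or.inr (Or.inr hw'))⟩
  -- the quotient by `Z 3`
  set π := QuotientGroup.mk' (Z 3) with hπ
  have hπeq : ∀ {a b : T}, π a = π b ↔ a⁻¹ * b ∈ Z 3 := fun {a b} => QuotientGroup.eq
  have hπ1 : ∀ {a : T}, π a = 1 ↔ a ∈ Z 3 := fun {a} => QuotientGroup.eq_one_iff a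
  set V := W.map π with hV
  haveI hVn : V.Normal := h.normal.map _ (QuotientGroup.mk'_surjective _)
  have hVc : ∀ u ∈ V, ∀ v ∈ V, u * v = v * u := by
    rintro _ ⟨x, hx, rfl⟩ _ ⟨y, hy, rfl⟩
    rw [← commutatorElement_eq_one_iff_mul_comm, ← map_commutatorElement, hπ1]
    exact h.comm_mem hx hy
  have hV2 : ∀ v ∈ V, v * v = 1 := by
    rintro _ ⟨x, hx, rfl⟩
    rw [← map_mul, hπ1]
    exact h.sq_mem hx
  have hcV : Nat.card ↥V = 2 ^ 8 := by
    have hcomap : V.comap π = W := by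
      rw [hV, comap_map_eq, hπ, QuotientGroup.ker_mk', sup_eq_left.2 h.ucs_three_le]
    have := h.card_W
    rw [← hcomap, hπ, CfsgLib.PCore.card_comap_mk', h.card_ucs' (by norm_num)] at this
    omega
  have hfixW : ∀ v ∈ V, ∀ w ∈ W, π w * v * (π w)⁻¹ = v := fun v hv w hw => by
    rw [hVc (π w) (mem_map_of_mem π hw) v hv, mul_inv_cancel_right]
  set P := K.map π with hP
  set H := V ⊓ centralizer (P : Set (T ⧸ Z 3)) with hH
  have hmemH : ∀ v ∈ V, π s1 * v * (π s1)⁻¹ = v → π s2 * v * (π s2)⁻¹ = v → v ∈ H := by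
    intro v hv e1 e2
    refine mem_inf.2 ⟨hv, mem_centralizer_iff.2 ?_⟩
    rintro _ ⟨s, hs, rfl⟩
    have c1 : Commute (π s1) v := mul_inv_eq_iff_eq_mul.1 e1
    have c2 : Commute (π s2) v := mul_inv_eq_iff_eq_mul.1 e2
    obtain ⟨w, hw, hsw⟩ := hcoset s hs
    have cw : Commute (π w) v := hVc _ (mem_map_of_mem π hw) v hv
    rcases hsw with e | e | e | e <;> simp only [e, map_mul]
    · exact cw.eq
    · exact (c1.mul_left cw).eq
    · exact (c2.mul_left cw).eq
    · exact ((c1.mul_left c2).mul_left cw).eq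
  have hHcard : Nat.card ↥H ≤ 4 := by
    obtain ⟨a, ha2, -⟩ := h.exists_with_commutators ⟨z1, hz1⟩ 1 hz2 hz2' hz3 hz3'
    change ⁅a, z2⁆ = z1 at ha2
    have hsq : a * a ∈ K := by
      rw [hK, mem_centralizer_iff]
      intro u hu
      have c1 : ∀ v ∈ Z 1, Commute v (a * a) := fun v hv => by
        rw [Subgroup.upperCentralSeries_one] at hv
        exact (mem_center_iff.1 hv (a * a)).symm
      have c2 : Commute z2 (a * a) := by
        have hz1c : Commute z1 a := by
          have := hz1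
          rw [zero_add, Subgroup.upperCentralSeries_one] at this
          exact (mem_center_iff.1 this a).symm
        refine (mul_inv_eq_iff_eq_mul.1 ?_).symm
        have hA : a * z2 * a⁻¹ = z1 * z2 := by rw [conj_eq_comm_mul, ha2]
        calc a * a * z2 * (a * a)⁻¹ = a * (a * z2 * a⁻¹) * a⁻¹ := by group
          _ = (a * z1 * a⁻¹) * (a * z2 * a⁻¹) := by rw [conj_mul, hA]
          _ = z2 := by
              rw [hA, ← hz1c.eq, mul_inv_cancel_right, ← mul_assoc,
                h.ucs_three_sq (ucs_mono' (by norm_num) hz1), one_mul]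
      rcases h.mem_or_of_succ (by norm_num) hz2 hz2' hu with e | e
      · exact (c1 u e).eq
      · exact (show Commute u (a * a) by simpa using (c1 _ e).mul_left c2.inv_left).eq
    have hKn : K.Normal := by rw [hK]; infer_instance
    have hbound := card_le_fixed_sq H (fun u hu v hv => hVc u hu.1 v hv.1)
      (fun v hv => hV2 v hv.1) (π a)
      (fun v hv => mem_inf.2 ⟨hVn.conj_mem v hv.1 _, mem_centralizer_iff.2 (by
        rintro _ ⟨s, hs, rfl⟩
        have hc := mem_centralizer_iff.1 hv.2 (π (a⁻¹ * s * a))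
          (mem_map_of_mem π (by simpa using hKn.conj_mem s hs a⁻¹))
        calc π s * (π a * v * (π a)⁻¹) = π a * (π (a⁻¹ * s * a) * v) * (π a)⁻¹ := by
              rw [map_mul, map_mul, map_inv]; group
          _ = _ := by rw [hc, map_mul, map_mul, map_inv]; group)⟩)
      (fun v hv => by
        rw [← map_mul]
        exact mem_centralizer_iff.1 hv.2 _ (mem_map_of_mem π hsq))
    have hfix : H ⊓ centralizer ({π a} : Set (T ⧸ Z 3)) ≤ center (T ⧸ Z 3) := by
      intro v hv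
      refine mem_center_iff.2 fun g => ?_
      obtain ⟨g, rfl⟩ := QuotientGroup.mk'_surjective _ g
      have ca : Commute (π a) v := (mem_centralizer_singleton_iff.1 hv.2).symm
      have cK : ∀ s ∈ K, Commute (π s) v := fun s hs =>
        mem_centralizer_iff.1 hv.1.2 _ (mem_map_of_mem π hs)
      by_cases hg : g ∈ K
      · exact (cK g hg).eq
      · have hga : a⁻¹ * g ∈ K := by
          rw [hK, mem_centralizer_iff]
          intro u hu
          have c1 : ∀ v ∈ Z 1, Commute v (a⁻¹ * g) := fun v hv => by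
            rw [Subgroup.upperCentralSeries_one] at hv
            exact (mem_center_iff.1 hv _).symm
          have hgz : ⁅g, z2⁆ = z1 := by
            have hm : ⁅g, z2⁆ ∈ Z 1 := comm_mem_of_ucs' hz2 g
            rcases h.mem_or_of_succ (i := 0) (by norm_num) hz1 hz1' hm with e | e
            · exfalso
              apply hg
              rw [hK, mem_centralizer_iff]
              exact fun u hu => (hcent g (by simpa using e) u hu).eq
            · have e' : ⁅g, z2⁆ * z1 = 1 := by simpa using e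
              rw [eq_inv_of_mul_eq_one_left e', h.inv_eq_self (ucs_mono' (by norm_num) hz1)]
          have c2 : Commute z2 (a⁻¹ * g) := by
            show z2 * (a⁻¹ * g) = a⁻¹ * g * z2
            calc z2 * (a⁻¹ * g) = a⁻¹ * ((⁅a, z2⁆ * z2) * g) := by rw [commutatorElement_def]; group
              _ = a⁻¹ * ((⁅g, z2⁆ * z2) * g) := by rw [ha2, hgz]
              _ = _ := by rw [commutatorElement_def]; group
          rcases h.mem_or_of_succ (by norm_num) hz2 hz2' hu with e | e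
          · exact (c1 u e).eq
          · exact (show Commute u (a⁻¹ * g) by simpa using (c1 _ e).mul_left c2.inv_left).eq
        have := ca.mul_left (cK _ hga)
        rw [← map_mul, mul_inv_cancel_left] at this
        exact this.eq
    have hc2' : Nat.card ↥(center (T ⧸ Z 3)) = 2 := by
      have := card_center_quotient (T := T) 3
      rw [h.card_ucs' (by norm_num), h.card_ucs' (by norm_num)] at this
      omega
    have h2 := card_le_of_le hfix
    rw [hc2'] at h2
    exact hbound.trans (Nat.mul_le_mul h2 h2)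
  -- the radical element
  set r := π z4 with hr
  have hz4W : z4 ∈ W := h.mem_W_iff.2 fun u hu => (h4 z4 hz4 u (h.ucs_three_le hu)).eq.symm
  have hr1 : r ≠ 1 := fun e => hz4' (hπ1.1 e)
  have hrc : r ∈ center (T ⧸ Z 3) := mk_mem_center_iff.2 hz4
  have hrH : r ∈ H := hmemH r (mem_map_of_mem π hz4W)
    (by rw [mem_center_iff.1 hrc, mul_inv_cancel_right])
    (by rw [mem_center_iff.1 hrc, mul_inv_cancel_right])
  have hr2 : r * r = 1 := hV2 r (mem_map_of_mem π hz4W)
  -- the four-fold product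
  set n : T → T := fun y => y * (s1 * y * s1⁻¹) * (s2 * y * s2⁻¹) *
    ((s1 * s2) * y * (s1 * s2)⁻¹) with hn
  have hnW : ∀ y ∈ W, n y ∈ W := fun y hy =>
    mul_mem (mul_mem (mul_mem hy (h.normal.conj_mem y hy _)) (h.normal.conj_mem y hy _))
      (h.normal.conj_mem y hy _)
  have hss : ∀ s ∈ K, s * s ∈ W := fun s hs => h.sq_mem_W (hKc s hs) hz3 hz3'
  have hswap : (s1 * s2)⁻¹ * (s2 * s1) ∈ W := by
    have hA : ((s1 : T) : T ⧸ W) * s1 = 1 := (QuotientGroup.eq_one_iff _).2 (hss s1 hs1K)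
    have hB : ((s2 : T) : T ⧸ W) * s2 = 1 := (QuotientGroup.eq_one_iff _).2 (hss s2 hs2K)
    have hAB : (((s1 * s2 : T)) : T ⧸ W) * ((s1 * s2 : T) : T ⧸ W) = 1 :=
      (QuotientGroup.eq_one_iff _).2 (hss _ (mul_mem hs1K hs2K))
    rw [← QuotientGroup.eq, QuotientGroup.mk_mul, QuotientGroup.mk_mul]
    rw [QuotientGroup.mk_mul] at hAB
    calc (s1 : T ⧸ W) * s2 = ((s1 : T ⧸ W) * s2)⁻¹ := eq_inv_of_mul_eq_one_left hAB
      _ = (s2 : T ⧸ W) * s1 := by
        rw [mul_inv_rev, inv_eq_of_mul_eq_one_right hA, inv_eq_of_mul_eq_one_right hB]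
  -- conjugation inside `V`
  have hA2 : ∀ v ∈ V, π s1 * (π s1 * v * (π s1)⁻¹) * (π s1)⁻¹ = v := fun v hv => by
    calc π s1 * (π s1 * v * (π s1)⁻¹) * (π s1)⁻¹ = π (s1 * s1) * v * (π (s1 * s1))⁻¹ := by
          rw [map_mul]; group
      _ = v := hfixW v hv _ (hss _ hs1K)
  have hB2 : ∀ v ∈ V, π s2 * (π s2 * v * (π s2)⁻¹) * (π s2)⁻¹ = v := fun v hv => by
    calc π s2 * (π s2 * v * (π s2)⁻¹) * (π s2)⁻¹ = π (s2 * s2) * v * (π (s2 * s2))⁻¹ := by
          rw [map_mul]; group
      _ = v := hfixW v hv _ (hss _ hs2K)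
  have hBA : ∀ v ∈ V, π s2 * (π s1 * v * (π s1)⁻¹) * (π s2)⁻¹ =
      π s1 * (π s2 * v * (π s2)⁻¹) * (π s1)⁻¹ := fun v hv => by
    calc π s2 * (π s1 * v * (π s1)⁻¹) * (π s2)⁻¹
        = π s1 * π s2 * (π ((s1 * s2)⁻¹ * (s2 * s1)) * v * (π ((s1 * s2)⁻¹ * (s2 * s1)))⁻¹) *
            (π s1 * π s2)⁻¹ := by simp only [map_mul, map_inv]; group
      _ = π s1 * π s2 * v * (π s1 * π s2)⁻¹ := by rw [hfixW v hv _ hswap]
      _ = _ := by group
  have hconjV : ∀ (g : T ⧸ Z 3) (v : T ⧸ Z 3), v ∈ V → g * v * g⁻¹ ∈ V := fun g v hv =>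
    hVn.conj_mem v hv g
  have hπn : ∀ y, π (n y) = π y * (π s1 * π y * (π s1)⁻¹) * (π s2 * π y * (π s2)⁻¹) *
      (π s1 * (π s2 * π y * (π s2)⁻¹) * (π s1)⁻¹) := by
    intro y; simp only [hn, map_mul, map_inv]; group
  have hnH : ∀ y ∈ W, π (n y) ∈ H := by
    intro y hy
    have hv : π y ∈ V := mem_map_of_mem π hy
    set v := π y
    set A := π s1 * v * (π s1)⁻¹ with hA'
    set B := π s2 * v * (π s2)⁻¹ with hB'
    set C := π s1 * B * (π s1)⁻¹ with hC'
    have hAV : A ∈ V := hconjV _ v hv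
    have hBV : B ∈ V := hconjV _ v hv
    have hCV : C ∈ V := hconjV _ B hBV
    have comm : ∀ {a b : T ⧸ Z 3}, a ∈ V → b ∈ V → Commute a b := fun ha hb => hVc _ ha _ hb
    have e0 : π (n y) = v * A * B * C := hπn y
    refine hmemH _ (mem_map_of_mem π (hnW y hy)) ?_ ?_ <;> rw [e0]
    · calc π s1 * (v * A * B * C) * (π s1)⁻¹
          = (π s1 * v * (π s1)⁻¹) * (π s1 * A * (π s1)⁻¹) * (π s1 * B * (π s1)⁻¹) *
              (π s1 * C * (π s1)⁻¹) := by group
        _ = A * v * C * B := by rw [hA', hC', hA2 v hv, hA2 B hBV]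
        _ = v * A * B * C := by
          rw [(comm hAV hv).eq, mul_assoc (v * A), (comm hCV hBV).eq, ← mul_assoc]
    · calc π s2 * (v * A * B * C) * (π s2)⁻¹
          = (π s2 * v * (π s2)⁻¹) * (π s2 * A * (π s2)⁻¹) * (π s2 * B * (π s2)⁻¹) *
              (π s2 * C * (π s2)⁻¹) := by group
        _ = B * C * v * A := by
          rw [hA', hC', hBA v hv, hBA B hBV, hB', hB2 v hv]
        _ = v * A * B * C := by
          have h1 : Commute (B * C) (v * A) := comm (mul_mem hBV hCV) (mul_mem hv hAV)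
          rw [mul_assoc (B * C), h1.eq]; group
  have hnadd : ∀ x ∈ W, ∀ y ∈ W, π (n (x * y)) = π (n x) * π (n y) := by
    intro x hx y hy
    have hv := mem_map_of_mem π hx
    have hw := mem_map_of_mem π hy
    rw [hπn, hπn, hπn, map_mul, ← conj_mul, ← conj_mul, ← conj_mul]
    set v := π x
    set w := π y
    have comm : ∀ {a b : T ⧸ Z 3}, a ∈ V → b ∈ V → Commute a b := fun ha hb => hVc _ ha _ hb
    have hA1 := hconjV (π s1) v hv
    have hA3 := hconjV (π s1) w hw
    have hB1 := hconjV (π s2) v hv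
    have hB3 := hconjV (π s2) w hw
    have hC1 := hconjV (π s1) _ hB1
    have hC3 := hconjV (π s1) _ hB3
    rw [(comm hw hA1).mul_mul_mul_comm, (comm (mul_mem hw hA3) hB1).mul_mul_mul_comm,
      (comm (mul_mem (mul_mem hw hA3) hB3) hC1).mul_mul_mul_comm]
  have hcongr : ∀ {x a b : T}, x ∈ W → a ∈ W → π a = π b → h.form x b = h.form x a :=
    fun {x a b} hx ha hab => h.form_congr hx ha (hπeq.1 hab)
  have hfone : ∀ {x : T}, h.form x 1 = 1 := fun {x} => by simp [form, commutatorElement_def]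
  set F := h.form with hFdef
  have hnform : ∀ {x y : T}, x ∈ W → y ∈ W → F x (n y) = F x y * F x (s1 * y * s1⁻¹) *
      F x (s2 * y * s2⁻¹) * F x ((s1 * s2) * y * (s1 * s2)⁻¹) := by
    intro x y hx hy
    have h1 := h.normal.conj_mem y hy s1
    have h2 := h.normal.conj_mem y hy s2
    have h3 := h.normal.conj_mem y hy (s1 * s2)
    rw [hn, hFdef, h.form_mul_right hx (mul_mem (mul_mem hy h1) h2) h3,
      h.form_mul_right hx (mul_mem hy h1) h2, h.form_mul_right hx hy h1]
  have hself : ∀ {y : T}, y ∈ W → F y (n y) = 1 := by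
    intro y hy
    rw [hnform hy hy, hFdef, h.form_self, h.form_conj_self hc1 hy, h.form_conj_self hc2 hy,
      h.form_conj_self (fun u hu => (hc1 u hu).mul_right (hc2 u hu)) hy]
    simp
  have hRad : ∀ {x y : T}, x ∈ W → y ∈ W → π (n y) ∈ zpowers r → F x (n y) = 1 := by
    intro x y hx hy hm
    rcases eq_one_or_eq_of_mem_zpowers (orderOf_eq_prime (by rw [pow_two]; exact hr2) hr1) hm with e | e
    · rw [hcongr hx (one_mem W) (by rw [map_one]; exact e.symm), hfone]
    · rw [hcongr hx hz4W (by rw [e]), hFdef, form,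
        commutatorElement_eq_one_iff_mul_comm.2 (h4 z4 hz4 x hx).eq.symm, map_one]
  have hHR : ∀ a ∈ H, ∀ b ∈ H, a ∉ zpowers r → b ∉ zpowers r → a * b ∈ zpowers r := by
    intro a ha b hb ha' hb'
    have hle : zpowers r ≤ H := zpowers_le.2 hrH
    have hi : ((zpowers r).subgroupOf H).index = 2 := by
      have h1 := ((zpowers r).subgroupOf H).card_mul_index
      rw [Nat.card_congr (subgroupOfEquivOfLe hle).toEquiv, Nat.card_zpowers,
        orderOf_eq_prime (by rw [pow_two]; exact hr2) hr1] at h1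
      have h3 : ((zpowers r).subgroupOf H).index ≠ 1 := fun e =>
        ha' (subgroupOf_eq_top.1 (index_eq_one.1 e) ha)
      have h0 : ((zpowers r).subgroupOf H).index ≠ 0 := index_ne_zero_of_finite
      omega
    exact mem_subgroupOf.1 ((mul_mem_iff_of_index_two hi (a := ⟨a, ha⟩) (b := ⟨b, hb⟩)).2
      (iff_of_false (fun e => ha' (mem_subgroupOf.1 e)) fun e => hb' (mem_subgroupOf.1 e)))
  -- the alternating rank one form vanishes
  have hg : ∀ {x y : T}, x ∈ W → y ∈ W → F x (n y) = 1 := by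
    intro x y hx hy
    by_contra hne
    have hy' : π (n y) ∉ zpowers r := fun e => hne (hRad hx hy e)
    have hHm : ∀ {u}, u ∈ W → π (n u) ∈ H := fun hu => hnH _ hu
    have hmove : ∀ {u : T}, u ∈ W → π (n u) ∉ zpowers r → ∀ {v : T}, v ∈ W → F v (n u) = F v (n y) := by
      intro u hu hu' v hv
      rcases eq_one_or_eq_of_mem_zpowers (orderOf_eq_prime (by rw [pow_two]; exact hr2) hr1)
        (hHR _ (hHm hy) _ (hHm hu) hy' hu') with e | e
      · have e' : π (n y) = π (n u) :=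
          (eq_inv_of_mul_eq_one_left e).trans
            (inv_eq_of_mul_eq_one_right (hV2 _ (mem_map_of_mem π (hnW u hu))))
        exact hcongr hv (hnW y hy) e'
      · have e' : π (n y * z4) = π (n u) := by
          rw [map_mul, ← hr, ← e, ← mul_assoc, hV2 _ (mem_map_of_mem π (hnW y hy)), one_mul]
        rw [hFdef, h.form_congr hv (mul_mem (hnW y hy) hz4W) (hπeq.1 e'),
          h.form_mul_right hv (hnW y hy) hz4W, form, form,
          commutatorElement_eq_one_iff_mul_comm.2 (h4 z4 hz4 v hv).eq.symm, map_one, mul_one]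
    by_cases hx' : π (n x) ∈ zpowers r
    · have hxy : π (n (x * y)) ∉ zpowers r := by
        rw [hnadd x hx y hy]
        exact fun e => hy' (by simpa using mul_mem (inv_mem hx') e)
      have h1 := hmove (mul_mem hx hy) hxy (mul_mem hx hy)
      rw [hself (mul_mem hx hy), hFdef, h.form_mul_left hx hy (hnW y hy)] at h1
      have h2 := hself hy
      rw [hFdef] at h2
      rw [h2, mul_one] at h1
      exact hne h1.symm
    · exact hne ((hmove hx hx' hx).symm.trans (hself hx))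
  -- the commutator space
  have hinvl : ∀ {a b : T}, a ∈ W → b ∈ W → F a⁻¹ b = F a b := by
    intro a b ha hb
    have e := h.form_mul_left (inv_mem ha) ha hb
    rw [inv_mul_cancel] at e
    have e1 : h.form 1 b = 1 := by simp [form, commutatorElement_def]
    rw [e1] at e
    rw [hFdef, eq_inv_of_mul_eq_one_left e.symm, inv_eq_of_mul_eq_one_right (h.form_sq ha hb)]
  have hinvr : ∀ {a b : T}, a ∈ W → b ∈ W → F a b⁻¹ = F a b := by
    intro a b ha hb
    have e := h.form_mul_right ha (inv_mem hb) hb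
    rw [inv_mul_cancel] at e
    rw [← hFdef, hfone] at e
    rw [eq_inv_of_mul_eq_one_left e.symm, hFdef, inv_eq_of_mul_eq_one_right (h.form_sq ha hb)]
  have hleft : ∀ (s : T), s ∈ K → ∀ {x v : T}, x ∈ W → v ∈ W →
      F (s * x * s⁻¹) v = F x (s * v * s⁻¹) := by
    intro s hs x v hx hv
    have hv' : s⁻¹ * v * s ∈ W := by simpa using h.normal.conj_mem v hv s⁻¹
    have e : (s * s)⁻¹ * (s * v * s⁻¹) * (s * s)⁻¹⁻¹ = s⁻¹ * v * s := by group
    calc F (s * x * s⁻¹) v = h.form (s * x * s⁻¹) (s * (s⁻¹ * v * s) * s⁻¹) := by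
          rw [hFdef]; congr 1; group
      _ = h.form x (s⁻¹ * v * s) := h.form_conj hx hv' s
      _ = F x (s * v * s⁻¹) := by
          rw [← e, h.form_conj_W hx (h.normal.conj_mem v hv s) (inv_mem (hss s hs)), hFdef]
  have hexp : ∀ (s t : T), s ∈ K → ∀ {x y : T}, x ∈ W → y ∈ W →
      F (x⁻¹ * (s * x * s⁻¹)) (y⁻¹ * (t * y * t⁻¹)) =
        (F x y * F x (t * y * t⁻¹)) *
          (F x (s * y * s⁻¹) * F x ((s * t) * y * (s * t)⁻¹)) := by
    intro s t hs x y hx hy
    have hx' := h.normal.conj_mem x hx s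
    have hy' := h.normal.conj_mem y hy t
    rw [hFdef, h.form_mul_left (inv_mem hx) hx' (mul_mem (inv_mem hy) hy'),
      h.form_mul_right (inv_mem hx) (inv_mem hy) hy', h.form_mul_right hx' (inv_mem hy) hy',
      ← hFdef, hinvl hx (inv_mem hy), hinvr hx hy, hinvl hx hy', hinvr hx' hy, hleft s hs hx hy,
      hleft s hs hx hy']
    congr 3; group
  set d1 : T → T := fun x => x⁻¹ * (s1 * x * s1⁻¹) with hd1
  set d2 : T → T := fun x => x⁻¹ * (s2 * x * s2⁻¹) with hd2
  have hd12 : ∀ {x y : T}, x ∈ W → y ∈ W → F (d1 x) (d2 y) = 1 := by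
    intro x y hx hy
    have hc : Commute (F x (s1 * y * s1⁻¹)) (F x (s2 * y * s2⁻¹)) :=
      h.form_central hx (h.normal.conj_mem y hy _) _
    rw [hd1, hd2, hexp s1 s2 hs1K hx hy, ← hg hx hy, hnform hx hy, mul_assoc (F x y),
      mul_assoc (F x y), mul_assoc (F x y)]
    rw [← mul_assoc (F x (s2 * y * s2⁻¹)), hc.eq]
  have hdd : ∀ (s : T), s ∈ K → ∀ {x y : T}, x ∈ W → y ∈ W →
      F (x⁻¹ * (s * x * s⁻¹)) (y⁻¹ * (s * y * s⁻¹)) = 1 := by
    intro s hs x y hx hy
    rw [hexp s s hs hx hy, hFdef, h.form_conj_W hx hy (hss s hs)]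
    calc h.form x y * h.form x (s * y * s⁻¹) * (h.form x (s * y * s⁻¹) * h.form x y)
        = h.form x y * (h.form x (s * y * s⁻¹) * h.form x (s * y * s⁻¹)) * h.form x y := by group
      _ = 1 := by rw [h.form_sq hx (h.normal.conj_mem y hy _), mul_one, h.form_sq hx hy]
  set gens : Set T := {u | u ∈ Z 3 ∨ ∃ x ∈ W, u = d1 x ∨ u = d2 x} with hgens
  have hgW : gens ⊆ W := by
    rintro u (hu | ⟨x, hx, rfl | rfl⟩)
    · exact h.ucs_three_le hu
    · exact mul_mem (inv_mem hx) (h.normal.conj_mem x hx _)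
    · exact mul_mem (inv_mem hx) (h.normal.conj_mem x hx _)
  have hanti : ∀ {a b : T}, a ∈ W → b ∈ W → F a b = 1 → F b a = 1 := by
    intro a b ha hb e
    simp only [hFdef, form] at e ⊢
    rw [← commutatorElement_inv, map_inv, e, inv_one]
  have hgens1 : ∀ a ∈ gens, ∀ b ∈ gens, F a b = 1 := by
    intro a ha b hb
    rcases hb with hb | ⟨y, hy, hb⟩
    · exact h.form_one (hgW ha) hb
    rcases ha with ha | ⟨x, hx, ha⟩
    · exact hanti (hgW (Or.inr ⟨y, hy, hb⟩)) (h.ucs_three_le ha)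
        (h.form_one (hgW (Or.inr ⟨y, hy, hb⟩)) ha)
    rcases ha with rfl | rfl <;> rcases hb with rfl | rfl
    · exact hdd s1 hs1K hx hy
    · exact hd12 hx hy
    · exact hanti (hgW (Or.inr ⟨y, hy, Or.inl rfl⟩)) (hgW (Or.inr ⟨x, hx, Or.inr rfl⟩)) (hd12 hy hx)
    · exact hdd s2 hs2K hx hy
  set U := closure gens with hU
  have hUW : U ≤ W := (closure_le W).2 hgW
  have hUform : ∀ a ∈ U, ∀ b ∈ U, F a b = 1 := by
    have step : ∀ a ∈ gens, ∀ b ∈ U, F a b = 1 := by
      intro a ha b hb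
      induction hb using closure_induction with
      | mem b hb => exact hgens1 a ha b hb
      | one => exact hfone
      | mul u v hu hv iu iv =>
        rw [hFdef, h.form_mul_right (hgW ha) (hUW hu) (hUW hv), ← hFdef, iu, iv, one_mul]
      | inv u hu iu => rw [hinvr (hgW ha) (hUW hu), iu]
    intro a ha b hb
    induction ha using closure_induction with
    | mem a ha => exact step a ha b hb
    | one => simp [hFdef, form, commutatorElement_def]
    | mul u v hu hv iu iv =>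
      rw [hFdef, h.form_mul_left (hUW hu) (hUW hv) (hUW hb), ← hFdef, iu, iv, one_mul]
    | inv u hu iu => rw [hinvl (hUW hu) (hUW hb), iu]
  have hcm : ∀ a ∈ U, ∀ b ∈ U, ⁅a, b⁆ ∈ Z 2 := fun a ha b hb =>
    (QuotientGroup.eq_one_iff _).1 (hUform a ha b hb)
  have hdsq : ∀ (s : T), s ∈ K → ∀ x ∈ W,
      (x⁻¹ * (s * x * s⁻¹)) * (x⁻¹ * (s * x * s⁻¹)) ∈ Z 2 := by
    intro s hs x hx
    rw [← QuotientGroup.eq_one_iff]
    set μ := QuotientGroup.mk' (Z 2) with hμ
    change μ _ = 1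
    have hXY : Commute (μ x) (μ (s * x * s⁻¹)) := by
      rw [commute_iff_eq, ← commutatorElement_eq_one_iff_mul_comm, ← map_commutatorElement]
      exact h.form_conj_self (hKc s hs) hx
    have hcen : ∀ g, Commute g (μ (x * x)) := fun g =>
      mem_center_iff.1 (mk_mem_center_iff.2 (h.sq_mem hx)) g
    have hY : μ (s * x * s⁻¹) * μ (s * x * s⁻¹) = μ (x * x) := by
      rw [← map_mul, conj_mul, map_mul, map_mul, map_inv, (hcen (μ s)).eq, mul_inv_cancel_right]
    simp only [map_mul, map_inv]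
    simp only [map_mul, map_inv] at hXY hY
    calc (μ x)⁻¹ * (μ s * μ x * (μ s)⁻¹) * ((μ x)⁻¹ * (μ s * μ x * (μ s)⁻¹))
        = (μ x)⁻¹ * ((μ s * μ x * (μ s)⁻¹) * (μ x)⁻¹) * (μ s * μ x * (μ s)⁻¹) := by group
      _ = (μ x)⁻¹ * ((μ x)⁻¹ * (μ s * μ x * (μ s)⁻¹)) * (μ s * μ x * (μ s)⁻¹) := by
          rw [hXY.inv_left.eq]
      _ = (μ x)⁻¹ * (μ x)⁻¹ * ((μ s * μ x * (μ s)⁻¹) * (μ s * μ x * (μ s)⁻¹)) := by group
      _ = 1 := by rw [hY]; group
  have hsq : ∀ a ∈ U, a * a ∈ Z 2 := by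
    intro a ha
    induction ha using closure_induction with
    | mem u hu =>
      rcases hu with hu | ⟨x, hx, rfl | rfl⟩
      · rw [h.ucs_three_sq hu]; exact one_mem _
      · exact hdsq s1 hs1K x hx
      · exact hdsq s2 hs2K x hx
    | one => simp
    | mul u v hu hv iu iv =>
      have h1 := mul_mem (mul_mem
        ((inferInstance : (Z 2).Normal).conj_mem _ (hcm v hv u hu) u) iu) iv
      have e : u * ⁅v, u⁆ * u⁻¹ * (u * u) * (v * v) = u * v * (u * v) := by
        rw [commutatorElement_def]; group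
      rwa [e] at h1
    | inv u hu iu => rw [← mul_inv_rev]; exact inv_mem iu
  have hZU : Z 3 ≤ U := fun u hu => subset_closure (Or.inl hu)
  -- its size
  set U' := U.map π with hU'
  have hfix16 : ∀ (s t : T), s ∈ K → t ∈ K →
      (∀ v ∈ V, π t * (π s * v * (π s)⁻¹) * (π t)⁻¹ = π s * (π t * v * (π t)⁻¹) * (π s)⁻¹) →
      (∀ v ∈ V, π s * v * (π s)⁻¹ = v → π t * v * (π t)⁻¹ = v → v ∈ H) →
      Nat.card ↥(V ⊓ centralizer ({π s} : Set (T ⧸ Z 3))) ≤ 16 := by
    intro s t hs ht hcom hin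
    have hb := card_le_fixed_sq (V ⊓ centralizer ({π s} : Set (T ⧸ Z 3)))
      (fun u hu v hv => hVc u hu.1 v hv.1) (fun v hv => hV2 v hv.1) (π t)
      (fun v hv => mem_inf.2 ⟨hconjV _ v hv.1, mem_centralizer_singleton_iff.2 (by
        have h1 : π s * v * (π s)⁻¹ = v :=
          mul_inv_eq_iff_eq_mul.2 (mem_centralizer_singleton_iff.1 hv.2).symm
        have h2 := hcom v hv.1
        rw [h1] at h2
        exact (mul_inv_eq_iff_eq_mul.1 h2.symm).symm)⟩)
      (fun v hv => by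
        rw [← map_mul]
        exact mul_inv_eq_iff_eq_mul.1 (hfixW v hv.1 _ (hss t ht)))
    have h4' := card_le_of_le (show V ⊓ centralizer ({π s} : Set (T ⧸ Z 3)) ⊓
        centralizer ({π t} : Set (T ⧸ Z 3)) ≤ H from fun v hv => hin v hv.1.1
      (mul_inv_eq_iff_eq_mul.2 (mem_centralizer_singleton_iff.1 hv.1.2).symm)
      (mul_inv_eq_iff_eq_mul.2 (mem_centralizer_singleton_iff.1 hv.2).symm))
    exact hb.trans ((Nat.mul_le_mul (h4'.trans hHcard) (h4'.trans hHcard)).trans (by norm_num))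
  have hCU : ∀ (s : T), s ∈ K → (∀ x ∈ W, x⁻¹ * (s * x * s⁻¹) ∈ U) →
      Nat.card ↥(V ⊓ centralizer ({π s} : Set (T ⧸ Z 3))) ≤ 16 →
      V ⊓ centralizer ({π s} : Set (T ⧸ Z 3)) ≤ U' ∧
        16 ≤ Nat.card ↥(V ⊓ centralizer ({π s} : Set (T ⧸ Z 3))) := by
    intro s hs hdU hle
    set X := V ⊓ centralizer ({π s} : Set (T ⧸ Z 3)) with hX
    let f : ↥V →* ↥V := MonoidHom.mk'
      (fun v => ⟨(v : T ⧸ Z 3) * (π s * v * (π s)⁻¹), mul_mem v.2 (hconjV _ v v.2)⟩)
      (fun v w => Subtype.ext (by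
        change (v : T ⧸ Z 3) * w * (π s * (v * w) * (π s)⁻¹) =
          v * (π s * v * (π s)⁻¹) * (w * (π s * w * (π s)⁻¹))
        rw [← conj_mul]
        exact (show Commute (w : T ⧸ Z 3) (π s * v * (π s)⁻¹) from
          hVc w w.2 _ (hconjV _ v v.2)).mul_mul_mul_comm _ _))
    have hkerle : f.ker.map V.subtype ≤ X := by
      rintro _ ⟨v, hv, rfl⟩
      refine mem_inf.2 ⟨v.2, mem_centralizer_singleton_iff.2 ?_⟩
      have h1 : (v : T ⧸ Z 3) * (π s * v * (π s)⁻¹) = 1 := congrArg Subtype.val hv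
      exact (mul_inv_eq_iff_eq_mul.1 ((eq_inv_of_mul_eq_one_right h1).trans
        (inv_eq_of_mul_eq_one_right (hV2 v v.2)))).symm
    have hrange : f.range.map V.subtype ≤ X ⊓ U' := by
      rintro _ ⟨_, ⟨v, rfl⟩, rfl⟩
      refine mem_inf.2 ⟨mem_inf.2 ⟨SetLike.coe_mem _, mem_centralizer_singleton_iff.2 ?_⟩, ?_⟩
      · have h3 : π s * ((v : T ⧸ Z 3) * (π s * v * (π s)⁻¹)) * (π s)⁻¹ =
            v * (π s * v * (π s)⁻¹) := by
          rw [← conj_mul, hVc _ v.2 _ (hconjV _ v v.2)]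
          congr 1
          calc π s * (π s * (v : T ⧸ Z 3) * (π s)⁻¹) * (π s)⁻¹
              = π (s * s) * v * (π (s * s))⁻¹ := by rw [map_mul]; group
            _ = v := hfixW v v.2 _ (hss s hs)
        exact (mul_inv_eq_iff_eq_mul.1 h3).symm
      · obtain ⟨x, hx, hxv⟩ := v.2
        refine ⟨x⁻¹ * (s * x * s⁻¹), hdU x hx, ?_⟩
        change π (x⁻¹ * (s * x * s⁻¹)) = (v : T ⧸ Z 3) * (π s * v * (π s)⁻¹)
        rw [map_mul, map_mul, map_mul, map_inv, map_inv, hxv,
          inv_eq_of_mul_eq_one_right (hV2 v v.2)]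
    have e1 := card_le_of_le hkerle
    have e2 := card_le_of_le (hrange.trans inf_le_left)
    rw [card_map_of_injective V.subtype_injective] at e1 e2
    have e3 : Nat.card ↥f.range * Nat.card ↥f.ker = 2 ^ 8 := by
      rw [← hcV, card_eq_card_quotient_mul_card_subgroup f.ker,
        Nat.card_congr (QuotientGroup.quotientKerEquivRange f).toEquiv]
    have e4 : 16 ≤ Nat.card ↥f.range := by
      by_contra hlt
      have : Nat.card ↥f.range * Nat.card ↥f.ker ≤ 15 * 16 :=
        Nat.mul_le_mul (by omega) (e1.trans hle)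
      omega
    refine ⟨?_, e4.trans e2⟩
    have heq : f.range.map V.subtype = X := eq_of_le_of_card_ge (hrange.trans inf_le_left)
      (by rw [card_map_of_injective V.subtype_injective]; exact hle.trans e4)
    exact heq ▸ hrange.trans inf_le_right
  have hc12 : ∀ v ∈ V, π s1 * v * (π s1)⁻¹ = v → π s2 * v * (π s2)⁻¹ = v → v ∈ H := hmemH
  obtain ⟨hU1, h16a⟩ := hCU s1 hs1K (fun x hx => subset_closure (Or.inr ⟨x, hx, Or.inl rfl⟩))
    (hfix16 s1 s2 hs1K hs2K hBA hmemH)
  obtain ⟨hU2, h16b⟩ := hCU s2 hs2K (fun x hx => subset_closure (Or.inr ⟨x, hx, Or.inr rfl⟩))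
    (hfix16 s2 s1 hs2K hs1K (fun v hv => (hBA v hv).symm) (fun v hv e2 e1 => hmemH v hv e1 e2))
  have h32 : 16 < Nat.card ↥U' := by
    by_contra hle
    have q1 := eq_of_le_of_card_ge hU1 ((not_lt.1 hle).trans h16a)
    have q2 := eq_of_le_of_card_ge hU2 ((not_lt.1 hle).trans h16b)
    have hsub : V ⊓ centralizer ({π s1} : Set (T ⧸ Z 3)) ≤ H := by
      intro v hv
      have hv2 : v ∈ V ⊓ centralizer ({π s2} : Set (T ⧸ Z 3)) := by rw [q2, ← q1]; exact hv
      exact hmemH v hv.1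
        (mul_inv_eq_iff_eq_mul.2 (mem_centralizer_singleton_iff.1 hv.2).symm)
        (mul_inv_eq_iff_eq_mul.2 (mem_centralizer_singleton_iff.1 hv2.2).symm)
    have := (card_le_of_le hsub).trans hHcard
    omega
  obtain ⟨j, hj⟩ := IsPGroup.iff_card.1 ((h.hT.to_quotient (Z 3)).to_subgroup U')
  have h5 : 5 ≤ j := by
    by_contra hlt
    have : 2 ^ j ≤ 2 ^ 4 := Nat.pow_le_pow_right (by norm_num) (by omega)
    omega
  refine h.no_elementary U hUW hZU ?_ hsq hcm
  have hcomap : U'.comap π = U := by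
    rw [hU', comap_map_eq, hπ, QuotientGroup.ker_mk', sup_eq_left.2 hZU]
  rw [← hcomap, hπ, CfsgLib.PCore.card_comap_mk', h.card_ucs' (by norm_num), hj,
    show (2 : ℕ) ^ 8 = 2 ^ 3 * 2 ^ 5 by norm_num]
  exact Nat.mul_le_mul_left _ (Nat.pow_le_pow_right (by norm_num) h5)

theorem center_eq : (center ↥W).map W.subtype = Z 3 := by
  haveI := h.normal
  set C := (center ↥W).map W.subtype with hC
  haveI : C.Normal := ConjAct.normal_of_characteristic_of_normal
  have hge : Z 3 ≤ C := fun z hz =>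
    ⟨⟨z, h.ucs_three_le hz⟩, mem_center_iff.2 fun w => Subtype.ext (h.commute_ucs hz w.2).eq.symm,
      rfl⟩
  by_contra hne
  obtain ⟨x, hxC, hx4, hx3⟩ := exists_mem_ucs_succ (p := 2) (hT := h.hT) C (i := 3)
    fun hle => hne (le_antisymm hle hge)
  refine h.not_ucs_four_le_center fun z hz w hw => ?_
  have hle : Z 4 ≤ C := by
    intro u hu
    rcases h.mem_or_of_succ (by norm_num) hx4 hx3 hu with e | e
    · exact hge e
    · simpa using mul_mem (hge e) (inv_mem hxC)
  obtain ⟨c, hc, rfl⟩ := hle hz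
  exact (congrArg Subtype.val (mem_center_iff.1 hc ⟨w, hw⟩)).symm

/-- The squares of a subgroup of index at most 8 in `W` generate `Z 3`. -/
theorem ucs_three_le_closure_sq (U : Subgroup T) (hU : U ≤ W) (hidx : U.relIndex W ≤ 8) :
    Z 3 ≤ closure {y | ∃ x ∈ U, y = x * x} := by
  haveI : Fact (Nat.Prime 2) := ⟨Nat.prime_two⟩
  have hUp : IsPGroup 2 ↥U := h.hT.to_subgroup U
  set Q := (closure {y | ∃ x ∈ U, y = x * x}).subgroupOf U with hQ
  have hQsq : ∀ x : ↥U, x * x ∈ Q := fun x =>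
    mem_subgroupOf.2 (subset_closure ⟨x, x.2, by simp⟩)
  have hfr : frattini ↥U ≤ Q := by
    refine CfsgLib.PGroup.frattini_le_of (p := 2) Q ?_ (fun x => by rw [pow_two]; exact hQsq x)
    rw [commutator_def, commutator_le]
    intro x _ y _
    have e : x * x * (x⁻¹ * y * (x⁻¹ * y)) * (y * y)⁻¹ = ⁅x, y⁆ := by
      rw [commutatorElement_def]; group
    rw [← e]
    exact mul_mem (mul_mem (hQsq x) (hQsq _)) (inv_mem (hQsq y))
  intro z hz
  have hzU : z ∈ U := by
    have hle := h.hdeep (U.subgroupOf W) (by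
      change U.relIndex W ≤ 16
      omega)
    rw [← h.phi_eq] at hz
    obtain ⟨v, hv, rfl⟩ := hz
    exact hle hv
  refine mem_subgroupOf.1 (hfr (?_ : (⟨z, hzU⟩ : ↥U) ∈ frattini ↥U))
  simp only [frattini, Order.radical, mem_iInf]
  intro M hM
  have hi : M.index = 2 := CfsgLib.PGroup.index_of_isCoatom hUp hM
  have hle := h.hdeep ((M.map U.subtype).subgroupOf W) (by
    change (M.map U.subtype).relIndex W ≤ 16
    rw [← relIndex_mul_relIndex _ _ _ (map_subtype_le M) hU]
    rw [Subgroup.relIndex, subgroupOf, comap_map_eq_self_of_injective U.subtype_injective, hi]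
    omega)
  rw [← h.phi_eq] at hz
  obtain ⟨v, hv, hvz⟩ := hz
  obtain ⟨m, hm, hmz⟩ := mem_subgroupOf.1 (hle hv)
  have : m = ⟨z, hzU⟩ := Subtype.ext (hmz.trans hvz)
  exact this ▸ hm

theorem ucs_sq_mem {i : ℕ} (hi : i < 4) {x : T} (hx : x ∈ Z (i + 1)) : x * x ∈ Z i := by
  by_cases hx' : x ∈ Z i
  · exact mul_mem hx' hx'
  · rcases h.mem_or_of_succ hi hx hx' hx with e | e
    · exact mul_mem e e
    · exact e

omit h in
theorem aut_mem_ucs (φ : MulAut T) {i : ℕ} {x : T} (hx : x ∈ Z i) : φ x ∈ Z i := by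
  have h1 := Subgroup.Characteristic.fixed (H := Z i) inferInstance φ
  rw [← h1] at hx
  exact hx

omit h in
/-- An automorphism of odd order cannot translate a point by a fixed element of 2-power order. -/
theorem aut_fix_of_translate (hT : IsPGroup 2 T) (φ : MulAut T) (hodd : Odd (orderOf φ)) {y r : T}
    (hr : φ r = r) (hy : φ y = y * r) : φ y = y := by
  have key : ∀ k : ℕ, (φ ^ k) y = y * r ^ k := by
    intro k
    induction k with
    | zero => simp
    | succ k ih =>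
      rw [pow_succ', MulAut.mul_apply, ih, map_mul, map_pow, hr, hy, mul_assoc, ← pow_succ']
  have h1 := key (orderOf φ)
  rw [pow_orderOf_eq_one] at h1
  have h2 : r ^ orderOf φ = 1 := mul_left_cancel ((mul_one y).symm ▸ h1.symm : y * r ^ orderOf φ = y * 1)
  obtain ⟨k, hk⟩ := hT r
  have h3 : orderOf r = 1 := Nat.eq_one_of_dvd_coprimes
    ((Nat.coprime_two_right.2 hodd).pow_right k) (orderOf_dvd_of_pow_eq_one h2)
    (orderOf_dvd_of_pow_eq_one hk)
  rw [hy, orderOf_eq_one_iff.1 h3, mul_one]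

/-- `T` has no nontrivial automorphism of odd order. -/
theorem aut_eq_one (φ : MulAut T) (hodd : Odd (orderOf φ)) : φ = 1 := by
  classical
  haveI := h.normal
  haveI : Fact (Nat.Prime 2) := ⟨Nat.prime_two⟩
  have hfix : ∀ i, i ≤ 3 → ∀ x ∈ Z i, φ x = x := by
    intro i hi
    induction i with
    | zero =>
      intro x hx
      rw [Subgroup.upperCentralSeries_zero, mem_bot] at hx
      rw [hx, map_one]
    | succ i ih =>
      intro x hx
      have hr : x⁻¹ * φ x ∈ Z i := by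
        by_cases hxi : x ∈ Z i
        · exact mul_mem (inv_mem hxi) (aut_mem_ucs φ hxi)
        · rcases h.mem_or_of_succ (by omega) hx hxi (aut_mem_ucs φ hx) with e | e
          · exfalso
            apply hxi
            have := aut_mem_ucs φ⁻¹ e
            simpa using this
          · have h2 := mul_mem (inv_mem (h.ucs_sq_mem (by omega) hx))
              ((inferInstance : (Z i).Normal).conj_mem _ e x)
            have e2 : (x * x)⁻¹ * (x * (φ x * x) * x⁻¹) = x⁻¹ * φ x := by group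
            rwa [e2] at h2
      exact aut_fix_of_translate h.hT φ hodd (ih (by omega) _ hr) (by group)
  -- trivial on `T / W`
  have hquot : ∀ s : T, s⁻¹ * φ s ∈ W := by
    intro s
    rw [h.mem_W_iff]
    intro u hu
    have hcu : s * u * s⁻¹ ∈ Z 3 := (inferInstance : (Z 3).Normal).conj_mem u hu s
    have e := hfix 3 le_rfl _ hcu
    rw [map_mul, map_mul, map_inv, hfix 3 le_rfl u hu] at e
    calc u * (s⁻¹ * φ s) = s⁻¹ * (s * u * s⁻¹) * φ s := by group
      _ = s⁻¹ * (φ s * u * (φ s)⁻¹) * φ s := by rw [e]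
      _ = _ := by group
  have hWinv : ∀ w ∈ W, φ w ∈ W := by
    intro w hw
    have := mul_mem hw (hquot w)
    rwa [mul_inv_cancel_left] at this
  -- trivial on `W / Z 3`
  set π := QuotientGroup.mk' (Z 3) with hπ
  have hπ1 : ∀ {a : T}, π a = 1 ↔ a ∈ Z 3 := fun {a} => QuotientGroup.eq_one_iff a
  have hVc : ∀ a ∈ W, ∀ b ∈ W, Commute (π a) (π b) := fun a ha b hb => by
    rw [commute_iff_eq, ← commutatorElement_eq_one_iff_mul_comm, ← map_commutatorElement, hπ1]
    exact h.comm_mem ha hb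
  let D : Subgroup (T ⧸ Z 3) :=
    { carrier := {q | ∃ w ∈ W, q = π (w⁻¹ * φ w)}
      one_mem' := ⟨1, one_mem W, by simp⟩
      mul_mem' := by
        rintro _ _ ⟨a, ha, rfl⟩ ⟨b, hb, rfl⟩
        refine ⟨a * b, mul_mem ha hb, ?_⟩
        have hc := hVc b hb _ (mul_mem (inv_mem ha) (hWinv a ha))
        have e : π ((a * b)⁻¹ * φ (a * b)) = (π b)⁻¹ * π (a⁻¹ * φ a) * π (φ b) := by
          simp only [map_mul, map_inv, mul_inv_rev]; group
        rw [e, hc.inv_left.eq, map_mul π b⁻¹, map_inv, mul_assoc]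
      inv_mem' := by
        rintro _ ⟨a, ha, rfl⟩
        refine ⟨a⁻¹, inv_mem ha, ?_⟩
        have hc := hVc a ha _ (inv_mem (hWinv a ha))
        rw [← map_inv π, map_inv φ, inv_inv, mul_inv_rev, inv_inv, map_mul, map_mul, hc.eq] }
  haveI hDn : D.Normal := ⟨by
    rintro _ ⟨w, hw, rfl⟩ g
    obtain ⟨t, rfl⟩ := QuotientGroup.mk'_surjective _ g
    refine ⟨t * w * t⁻¹, h.normal.conj_mem w hw t, ?_⟩
    have hc := hVc _ (hquot t) _ (hWinv w hw)
    have e : π (φ (t * w * t⁻¹)) = π t * π (φ w) * (π t)⁻¹ := by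
      calc π (φ (t * w * t⁻¹))
          = π t * (π (t⁻¹ * φ t) * π (φ w) * (π (t⁻¹ * φ t))⁻¹) * (π t)⁻¹ := by
            simp only [map_mul, map_inv]; group
        _ = _ := by rw [hc.eq, mul_inv_cancel_right]
    rw [map_mul π (t * w * t⁻¹)⁻¹, e]
    simp only [map_mul, map_inv, mul_inv_rev, ← hπ]
    group
    ⟩
  have hV : ∀ w ∈ W, w⁻¹ * φ w ∈ Z 3 := by
    by_contra hc
    push Not at hc
    obtain ⟨w0, hw0, hw0'⟩ := hc
    have hD : D ≠ ⊥ := fun e => hw0' (hπ1.1 (by
      have : π (w0⁻¹ * φ w0) ∈ D := ⟨w0, hw0, rfl⟩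
      rwa [e, mem_bot] at this))
    obtain ⟨_, ⟨w, hw, rfl⟩, hne, hcen⟩ := exists_ne_one_mem_center (h.hT.to_quotient _) D hD
    set u := w⁻¹ * φ w with hu
    have hu4 : u ∈ Z 4 := mk_mem_center_iff.1 hcen
    have hu3 : u ∉ Z 3 := fun e => hne (hπ1.2 e)
    have huφ : π (φ u) = π u := by
      rcases h.mem_or_of_succ (by norm_num) hu4 hu3 (aut_mem_ucs φ hu4) with e | e
      · exfalso
        apply hu3
        have := aut_mem_ucs φ⁻¹ e
        simpa using this
      · have h2 : π (φ u) * π u = 1 := by rw [← map_mul]; exact hπ1.2 e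
        have h3 : π u * π u = 1 := by rw [← map_mul]; exact hπ1.2 (h.ucs_sq_mem (by norm_num) hu4)
        rw [eq_inv_of_mul_eq_one_left h2, inv_eq_of_mul_eq_one_right h3]
    have hmap : ∀ {a b : T}, π a = π b → π (φ a) = π (φ b) := fun {a b} hab => by
      have h1 : a⁻¹ * b ∈ Z 3 := QuotientGroup.eq.1 hab
      have h2 := aut_mem_ucs φ h1
      rw [map_mul, map_inv] at h2
      exact QuotientGroup.eq.2 h2
    have key : ∀ k : ℕ, π ((φ ^ k) w) = π (w * u ^ k) := by
      intro k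
      induction k with
      | zero => simp
      | succ k ih =>
        rw [pow_succ', MulAut.mul_apply, hmap ih, map_mul φ, map_pow φ, map_mul π, map_pow π, huφ,
          show φ w = w * u by rw [hu]; group, map_mul π, mul_assoc, ← pow_succ', map_mul π w (u ^ (k + 1)),
          map_pow π]
    have h1 := key (orderOf φ)
    rw [pow_orderOf_eq_one, MulAut.one_apply, map_mul, map_pow, left_eq_mul] at h1
    have h3 : (π u) ^ 2 = 1 := by
      rw [pow_two, ← map_mul]; exact hπ1.2 (h.ucs_sq_mem (by norm_num) hu4)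
    obtain ⟨m, hm⟩ := hodd
    rw [hm, pow_succ, pow_mul, h3, one_pow, one_mul] at h1
    exact hne h1
  -- conclusion
  have hWfix : ∀ w ∈ W, φ w = w := fun w hw =>
    aut_fix_of_translate h.hT φ hodd (hfix 3 le_rfl _ (hV w hw)) (by group)
  refine MulEquiv.ext fun s => ?_
  exact aut_fix_of_translate h.hT φ hodd (hWfix _ (hquot s)) (by group)

end BigHyp

end CfsgLib.InvChar
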