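import Cfsg.Agent.Lib.InvChar.Kazarin
import Cfsg.Agent.Lib.CharCorr.Solvable

/-!
A solvable group in which all noncentral elements of prime power order have classes of the same
size `m`: then `m` is a prime power.
-/

set_option autoImplicit false
set_option linter.style.haveILetI false

namespace CfsgLib.InvChar.PrimePowerClass

open Subgroup
open scoped commutatorElement

universe u

variable {L : Type u} [Group L] [Finite L]

/-- Outside a normal subgroup there is a power of prime power order. -/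
theorem exists_primary_notMem (N : Subgroup L) [N.Normal] {x : L} (hx : x ∉ N) :
    ∃ r k j : ℕ, r.Prime ∧ (x ^ k) ^ r ^ j = 1 ∧ x ^ k ∉ N := by
  have hm : orderOf (QuotientGroup.mk' N x) ≠ 1 := fun e =>
    hx ((QuotientGroup.eq_one_iff x).1 (orderOf_eq_one_iff.1 e))
  obtain ⟨r, hr, hrd⟩ := Nat.exists_prime_and_dvd hm
  refine ⟨r, orderOf x / r ^ (orderOf x).factorization r, (orderOf x).factorization r, hr, ?_,
    fun hc => ?_⟩
  · rw [← pow_mul, mul_comm, Nat.ordProj_mul_ordCompl_eq_self, pow_orderOf_eq_one]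
  · have h1 : orderOf (QuotientGroup.mk' N x) ∣ orderOf x / r ^ (orderOf x).factorization r := by
      refine orderOf_dvd_of_pow_eq_one ?_
      rw [← map_pow]
      exact (QuotientGroup.eq_one_iff _).2 hc
    exact Nat.not_dvd_ordCompl hr (orderOf_pos x).ne' (hrd.trans h1)

omit [Finite L] in
theorem eq_one_of_pow_coprime {x : L} {m n : ℕ} (hm : x ^ m = 1) (hn : x ^ n = 1)
    (h : Nat.Coprime m n) : x = 1 :=
  orderOf_eq_one_iff.1 (Nat.eq_one_of_dvd_coprimes h (orderOf_dvd_of_pow_eq_one hm)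
    (orderOf_dvd_of_pow_eq_one hn))

omit [Finite L] in
/-- The commutator map with central values is a homomorphism. -/
def commHom (S : Subgroup L) (h : L) (hh : ∀ x ∈ S, ⁅h, x⁆ ∈ center L) : S →* L :=
  MonoidHom.mk' (fun x => ⁅h, (x : L)⁆) fun x y => by
    have hy := mem_center_iff.1 (hh y y.2) (x : L)
    calc ⁅h, ((x * y : S) : L)⁆ = ⁅h, (x : L)⁆ * ((x : L) * ⁅h, (y : L)⁆ * (x : L)⁻¹) := by
          simp only [commutatorElement_def, coe_mul]; group
      _ = _ := by rw [hy, mul_inv_cancel_right]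

omit [Finite L] in
theorem ker_commHom (S : Subgroup L) (h : L) (hh : ∀ x ∈ S, ⁅h, x⁆ ∈ center L) :
    (commHom S h hh).ker = (centralizer ({h} : Set L)).subgroupOf S := by
  ext x
  rw [MonoidHom.mem_ker, mem_subgroupOf, mem_centralizer_singleton_iff]
  exact commutatorElement_eq_one_iff_mul_comm.trans eq_comm

omit [Finite L] in
theorem relIndex_eq_card_range (S : Subgroup L) (h : L) (hh : ∀ x ∈ S, ⁅h, x⁆ ∈ center L) :
    (centralizer ({h} : Set L)).relIndex S = Nat.card (commHom S h hh).range := by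
  rw [← Subgroup.index_ker, ker_commHom]
  rfl

omit [Finite L] in
theorem relIndex_dvd_card (S I : Subgroup L) (h : L) (hh : ∀ x ∈ S, ⁅h, x⁆ ∈ center L)
    (hI : ∀ x ∈ S, ⁅h, x⁆ ∈ I) : (centralizer ({h} : Set L)).relIndex S ∣ Nat.card I := by
  rw [relIndex_eq_card_range S h hh]
  refine card_dvd_of_le ?_
  rintro _ ⟨x, rfl⟩
  exact hI x x.2

omit [Finite L] in
theorem commutatorElement_mul_left' {s t x : L} (h : ⁅t, x⁆ ∈ center L) :
    ⁅s * t, x⁆ = ⁅t, x⁆ * ⁅s, x⁆ := by
  calc ⁅s * t, x⁆ = (s * ⁅t, x⁆ * s⁻¹) * ⁅s, x⁆ := by simp only [commutatorElement_def]; group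
    _ = _ := by rw [mem_center_iff.1 h s, mul_inv_cancel_right]

/-- A `p`-group normalizing a nontrivial normal `p`-subgroup centralizes a nontrivial element. -/
theorem exists_fixed {r : ℕ} [Fact r.Prime] (S : Subgroup L) (hS : IsPGroup r S) (N : Subgroup L)
    [N.Normal] (hN : IsPGroup r N) (hne : N ≠ ⊥) :
    ∃ x ∈ N, x ≠ 1 ∧ ∀ s ∈ S, s * x = x * s := by
  letI : MulAction S N := MulAction.compHom N ((MulAut.conjNormal (H := N)).comp S.subtype)
  obtain ⟨k, hk⟩ := hN.exists_card_eq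
  have hk0 : k ≠ 0 := fun e => hne (Subgroup.eq_bot_of_card_eq _ (by rw [hk, e, pow_zero]))
  have h1 : (1 : N) ∈ MulAction.fixedPoints S N := fun s => by
    show (MulAut.conjNormal (s : L)) (1 : N) = 1
    exact map_one _
  obtain ⟨x, hx, hx1⟩ := hS.exists_fixed_point_of_prime_dvd_card_of_fixed_point (α := N)
    (hk ▸ dvd_pow_self r hk0) h1
  refine ⟨x, x.2, fun e => hx1 (Subtype.ext e).symm, fun s hs => ?_⟩
  have h : (s : L) * (x : L) * s⁻¹ = x := by
    have h0 := congrArg Subtype.val (hx ⟨s, hs⟩)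
    simpa [MulAction.compHom_smul_def, MulAut.conjNormal_apply] using h0
  exact mul_inv_eq_iff_eq_mul.1 h

omit [Finite L] in
/-- A perfect subgroup of a solvable group is trivial. -/
theorem eq_bot_of_perfect [Group.IsSolvable L] (T : Subgroup L) (h : ⁅T, T⁆ = T) : T = ⊥ := by
  obtain ⟨n, hn⟩ := (Group.isSolvable_def L).1 inferInstance
  have key : ∀ n, T ≤ derivedSeries L n := by
    intro n
    induction n with
    | zero => rw [derivedSeries_zero]; exact le_top
    | succ n ih => rw [derivedSeries_succ]; exact h.ge.trans (commutator_mono ih ih)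
  exact le_bot_iff.1 (hn ▸ key n)

/-- An averaging map: a `σ`-group acting on an abelian `r`-group moves nothing fixed. -/
theorem mem_of_mem_commutator {r σ : ℕ} [Fact r.Prime] [Fact σ.Prime] (hne : σ ≠ r)
    (T D E I : Subgroup L) [T.Normal] [D.Normal] [I.Normal] (hT : IsPGroup r T)
    (hI : ∀ t ∈ T, ∀ x ∈ D, ⁅t, x⁆ ∈ I) (hTD : T ≤ D) {a : ℕ} (hidx : D.relIndex E = σ ^ a)
    {z : L} (hz : z ∈ ⁅T, E⁆) (hzc : z ∈ center L) : z ∈ I := by
  classical
  set qI := QuotientGroup.mk' I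
  set A := T.map qI with hA
  letI : CommGroup A :=
    { (inferInstance : Group A) with
      mul_comm := by
        rintro ⟨_, s, hs, rfl⟩ ⟨_, t, ht, rfl⟩
        apply Subtype.ext
        show qI s * qI t = qI t * qI s
        refine commutatorElement_eq_one_iff_mul_comm.1 ?_
        rw [← map_commutatorElement]
        exact (QuotientGroup.eq_one_iff _).2 (hI s hs t (hTD ht)) }
  letI : Fintype (E ⧸ D.subgroupOf E) := Fintype.ofFinite _
  have hcd : ∀ x ∈ D, ∀ t ∈ T, qI (x * t * x⁻¹) = qI t := by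
    intro x hx t ht
    have h : qI t * qI x = qI x * qI t := by
      refine commutatorElement_eq_one_iff_mul_comm.1 ?_
      rw [← map_commutatorElement]
      exact (QuotientGroup.eq_one_iff _).2 (hI t ht x hx)
    rw [map_mul, map_mul, map_inv, ← h, mul_inv_cancel_right]
  let F : L → T → A := fun g t =>
    ⟨qI (g * (t : L) * g⁻¹), g * (t : L) * g⁻¹, ‹T.Normal›.conj_mem _ t.2 g, rfl⟩
  let ν : T →* A := MonoidHom.mk' (fun t => ∏ e : E ⧸ D.subgroupOf E, F (e.out : L) t) fun s t => by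
    rw [← Finset.prod_mul_distrib]
    refine Finset.prod_congr rfl fun e _ => Subtype.ext ?_
    show qI _ = qI _ * qI _
    rw [← map_mul, coe_mul]
    congr 1
    group
  have hinv : ∀ (t : T) (e : E),
      ν ⟨(e : L) * t * (e : L)⁻¹, ‹T.Normal›.conj_mem _ t.2 e⟩ = ν t := by
    intro t e
    refine Fintype.prod_bijective (fun x => x * (e : E ⧸ D.subgroupOf E))
      (Equiv.mulRight (e : E ⧸ D.subgroupOf E)).bijective _ _ fun x => Subtype.ext ?_
    set y := x * (e : E ⧸ D.subgroupOf E)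
    have hd : (y.out : L)⁻¹ * ((x.out : L) * (e : L)) ∈ D := by
      have : (QuotientGroup.mk y.out : E ⧸ D.subgroupOf E) = QuotientGroup.mk (x.out * e) := by
        rw [QuotientGroup.mk_mul, QuotientGroup.out_eq', QuotientGroup.out_eq']
      rw [QuotientGroup.eq, mem_subgroupOf] at this
      simpa using this
    set d := (y.out : L)⁻¹ * ((x.out : L) * (e : L))
    show qI ((x.out : L) * ((e : L) * t * (e : L)⁻¹) * (x.out : L)⁻¹) =
      qI ((y.out : L) * t * (y.out : L)⁻¹)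
    rw [show (x.out : L) * ((e : L) * t * (e : L)⁻¹) * (x.out : L)⁻¹ =
      (y.out : L) * (d * t * d⁻¹) * (y.out : L)⁻¹ by simp only [d]; group]
    simp only [map_mul, map_inv]
    rw [← map_inv qI d, ← map_mul, ← map_mul, hcd d hd t t.2]
  have hle : ⁅T, E⁆ ≤ ν.ker.map T.subtype := by
    rw [commutator_le]
    intro t ht e he
    refine ⟨⟨t, ht⟩ * (⟨e * t * e⁻¹, ‹T.Normal›.conj_mem _ ht e⟩ : T)⁻¹, ?_, ?_⟩
    · show ν _ = 1
      rw [map_mul, map_inv, hinv ⟨t, ht⟩ ⟨e, he⟩, mul_inv_cancel]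
    · show t * (e * t * e⁻¹)⁻¹ = ⁅t, e⁆
      rw [commutatorElement_def]; group
  obtain ⟨w, hw, rfl⟩ := hle hz
  have h1 : ν w = ⟨qI w, w, w.2, rfl⟩ ^ Nat.card (E ⧸ D.subgroupOf E) := by
    show ∏ e : E ⧸ D.subgroupOf E, F (e.out : L) w = _
    rw [Finset.prod_congr rfl (g := fun _ => (⟨qI w, w, w.2, rfl⟩ : A)) fun e _ => Subtype.ext ?_,
      Finset.prod_const, Finset.card_univ, Nat.card_eq_fintype_card]
    show qI ((e.out : L) * w * (e.out : L)⁻¹) = qI w
    rw [show (e.out : L) * (w : L) = (w : L) * (e.out : L) from mem_center_iff.1 hzc _,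
      mul_inv_cancel_right]
  rw [MonoidHom.mem_ker.1 hw] at h1
  have h2 : qI (w : L) ^ σ ^ a = 1 := by
    have := congrArg Subtype.val h1.symm
    rw [← hidx]
    simpa [Subgroup.relIndex, Subgroup.index] using this
  obtain ⟨j, hj⟩ := hT w
  have h3 : qI (w : L) ^ r ^ j = 1 := by
    rw [← map_pow, show (w : L) ^ r ^ j = 1 by simpa using congrArg Subtype.val hj, map_one]
  exact (QuotientGroup.eq_one_iff _).1 (eq_one_of_pow_coprime h2 h3
    (Nat.Coprime.pow _ _ ((Nat.coprime_primes Fact.out Fact.out).2 hne)))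

/-- If all noncentral elements of prime power order of a solvable group have class size `m`, then
`m` is a prime power. -/
theorem exists_prime_pow_of_class [Group.IsSolvable L] {m : ℕ}
    (hm : ∀ (x : L) (r j : ℕ), r.Prime → x ^ r ^ j = 1 → x ∉ center L →
      (centralizer ({x} : Set L)).index = m)
    (hna : ∃ x : L, x ∉ center L) : ∃ p k : ℕ, p.Prime ∧ m = p ^ k := by
  set Z := center L with hZ
  obtain ⟨T, hT0⟩ := (Set.toFinite {T : Subgroup L | T.Normal ∧ ¬ T ≤ Z}).exists_minimal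
    ⟨⊤, inferInstance, fun h => by obtain ⟨x, hx⟩ := hna; exact hx (h (mem_top x))⟩
  obtain ⟨hTn, hTZ⟩ := hT0.prop
  have hmin : ∀ U : Subgroup L, U.Normal → U ≤ T → ¬ U ≤ Z → T ≤ U := fun U hU hle hUZ =>
    hT0.2 ⟨hU, hUZ⟩ hle
  have hTT : ⁅T, T⁆ ≤ Z := by
    by_contra h
    have hle : ⁅T, T⁆ ≤ T := commutator_le_right T T
    exact hTZ ((eq_bot_of_perfect T (le_antisymm hle (hmin _ inferInstance hle h))).le.trans bot_le)
  obtain ⟨u, huT, huZ⟩ := SetLike.not_le_iff_exists.1 hTZ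
  obtain ⟨r, k, j, hr, hu1, hu2⟩ := exists_primary_notMem Z huZ
  haveI := Fact.mk hr
  -- `T` is an `r`-group
  have hTp : IsPGroup r T := by
    haveI : Group.IsNilpotent T := by
      refine Subgroup.isNilpotent_of_ker_le_center (Abelianization.of (G := T)) ?_
      rw [Abelianization.ker_of]
      intro x hx
      have hx' : (x : L) ∈ ⁅T, T⁆ := by
        have : (x : L) ∈ (commutator T).map T.subtype := ⟨x, hx, rfl⟩
        rwa [commutator_def, Subgroup.map_commutator, ← MonoidHom.range_eq_map, range_subtype] at this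
      exact mem_center_iff.2 fun y => Subtype.ext (mem_center_iff.1 (hTT hx') y)
    obtain ⟨P, hP⟩ := (show IsPGroup r (zpowers (⟨u ^ k, pow_mem huT k⟩ : T)) by
      intro ⟨y, hy⟩
      obtain ⟨i, rfl⟩ := mem_zpowers_iff.1 hy
      refine ⟨j, Subtype.ext ?_⟩
      show ((⟨u ^ k, pow_mem huT k⟩ : T) ^ i) ^ r ^ j = 1
      rw [← zpow_natCast, ← zpow_mul, mul_comm, zpow_mul, zpow_natCast,
        show (⟨u ^ k, pow_mem huT k⟩ : T) ^ r ^ j = 1 from Subtype.ext hu1, one_zpow]).exists_le_sylow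
    haveI : (P : Subgroup T).Characteristic := P.characteristic_of_normal inferInstance
    have hle := hmin _ inferInstance (map_subtype_le (P : Subgroup T)) fun h => hu2 (h
      ⟨_, hP (mem_zpowers _), rfl⟩)
    exact ((P.isPGroup'.map T.subtype).to_le hle)
  set q := QuotientGroup.mk' Z
  have hq1 : ∀ a b : L, q a * q b = q b * q a ↔ ⁅a, b⁆ ∈ Z := fun a b => by
    rw [← commutatorElement_eq_one_iff_mul_comm, ← map_commutatorElement]
    exact QuotientGroup.eq_one_iff _
  have hqT : (T.map q).Normal := hTn.map q (QuotientGroup.mk'_surjective Z)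
  set D := (centralizer ((T.map q : Subgroup (L ⧸ Z)) : Set (L ⧸ Z))).comap q with hD0
  have hD : ∀ x, x ∈ D ↔ ∀ t ∈ T, ⁅t, x⁆ ∈ Z := by
    intro x
    rw [hD0, mem_comap, mem_centralizer_iff]
    exact ⟨fun h t ht => (hq1 t x).1 (h _ ⟨t, ht, rfl⟩),
      fun h s ⟨t, ht, e⟩ => e ▸ (hq1 t x).2 (h t ht)⟩
  have hcT : ∀ t ∈ T, ∀ x : L, ⁅t, x⁆ ∈ T := fun t ht x => by
    rw [commutatorElement_def, show t * x * t⁻¹ * x⁻¹ = t * (x * t⁻¹ * x⁻¹) by group]
    exact mul_mem ht (hTn.conj_mem _ (inv_mem ht) x)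
  have hTD : T ≤ D := fun x hx => (hD x).2 fun t ht => hTT (commutator_mem_commutator ht hx)
  obtain ⟨n, hTcard⟩ := hTp.exists_card_eq
  by_cases hDtop : D = ⊤
  · suffices hd : m ∣ r ^ n from ((Nat.dvd_prime_pow hr).1 hd).elim fun i hi => ⟨r, i, hr, hi.2⟩
    rw [← hTcard, ← hm _ r j hr hu1 hu2, ← relIndex_top_right]
    exact relIndex_dvd_card ⊤ T _ (fun x _ => (hD x).1 (hDtop ▸ mem_top x) _ (pow_mem huT k))
      (fun x _ => hcT _ (pow_mem huT k) x)
  exfalso
  -- a normal `σ`-section above `D`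
  haveI : Nontrivial (L ⧸ D) := QuotientGroup.nontrivial_iff.2 hDtop
  obtain ⟨σ, A, hσ, hAn, hAp, hA1⟩ := CfsgLib.CharCorr.exists_normal_pGroup
    (S := L ⧸ D) inferInstance
  haveI := Fact.mk hσ
  set E := A.comap (QuotientGroup.mk' D) with hE
  haveI hEn : E.Normal := hAn.comap _
  have hDE : D ≤ E := fun x hx => by
    rw [hE, mem_comap, QuotientGroup.mk'_apply, (QuotientGroup.eq_one_iff x).2 hx]
    exact one_mem _
  obtain ⟨a, ha⟩ := hAp.exists_card_eq
  have hidx : D.relIndex E = σ ^ a := by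
    conv_lhs => rw [← QuotientGroup.ker_mk' D]
    rw [relIndex_ker, hE, map_comap_eq_self_of_surjective (QuotientGroup.mk'_surjective D), ha]
  have hEne : ¬ E ≤ D := fun h => hA1 (by
    rw [eq_bot_iff]
    intro y hy
    obtain ⟨x, rfl⟩ := QuotientGroup.mk'_surjective D y
    exact mem_bot.2 ((QuotientGroup.eq_one_iff x).2 (h hy)))
  obtain ⟨S⟩ : Nonempty (Sylow σ E) := inferInstance
  set SL := (S : Subgroup E).map E.subtype with hSL
  have hgen : ∀ K : Subgroup L, D ≤ K → SL ≤ K → E ≤ K := by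
    intro K hK1 hK2
    rw [← relIndex_eq_one]
    have h1 : K.relIndex E ∣ σ ^ a := hidx ▸ relIndex_dvd_of_le_left E hK1
    have h2 : K.relIndex E ∣ (S : Subgroup E).index := by
      refine index_dvd_of_le (H := (S : Subgroup E)) (K := K.subgroupOf E) fun s hs => ?_
      exact hK2 ⟨s, hs, rfl⟩
    obtain ⟨i, -, hi⟩ := (Nat.dvd_prime_pow hσ).1 h1
    rcases Nat.eq_zero_or_pos i with rfl | hi0
    · rw [hi, pow_zero]
    · exact absurd ((dvd_pow_self σ hi0.ne').trans (hi ▸ h2)) S.not_dvd_index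
  have hσr : σ ≠ r := by
    rintro rfl
    obtain ⟨x, hx, hx1, hxS⟩ := exists_fixed (SL.map q) ((S.isPGroup'.map _).map q) (T.map q)
      (hTp.map q) (fun h => hTZ (by
        intro t ht
        have : q t ∈ T.map q := ⟨t, ht, rfl⟩
        rw [h, mem_bot] at this
        exact (QuotientGroup.eq_one_iff t).1 this))
    obtain ⟨t, ht, rfl⟩ := hx
    have hEt : E.map q ≤ centralizer ({q t} : Set (L ⧸ Z)) := by
      rw [map_le_iff_le_comap]
      refine hgen _ (fun d hd => ?_) fun s hs => ?_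
      · exact mem_centralizer_singleton_iff.2 ((hq1 t d).2 ((hD d).1 hd t ht)).symm
      · exact mem_centralizer_singleton_iff.2 (hxS _ ⟨s, hs, rfl⟩)
    haveI : (E.map q).Normal := hEn.map q (QuotientGroup.mk'_surjective Z)
    set U := T ⊓ (centralizer ((E.map q : Subgroup (L ⧸ Z)) : Set (L ⧸ Z))).comap q
    have hU : U.Normal := inferInstance
    have hTU := hmin U hU inf_le_left fun h => hx1 ((QuotientGroup.eq_one_iff t).2
      (h ⟨ht, mem_centralizer_iff.2 fun y hy => mem_centralizer_singleton_iff.1 (hEt hy)⟩))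
    refine hEne fun e he => (hD e).2 fun s hs => (hq1 s e).1 ?_
    exact (mem_centralizer_iff.1 (hTU hs).2 _ ⟨e, he, rfl⟩).symm
  obtain ⟨w, hwS, hwD⟩ := SetLike.not_le_iff_exists.1 fun h : SL ≤ D => hEne (hgen D le_rfl h)
  obtain ⟨t, htT, htw⟩ : ∃ t ∈ T, ⁅t, w⁆ ∉ Z := by
    by_contra! h
    exact hwD ((hD w).2 h)
  obtain ⟨jw, hjw⟩ := (S.isPGroup'.map E.subtype) ⟨w, hwS⟩
  have hwpow : w ^ σ ^ jw = 1 := by simpa using congrArg Subtype.val hjw
  set h0 := ⁅t, w⁆ with hh0
  have hh0T : h0 ∈ T := hcT t htT w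
  have hh0w : ⁅h0, w⁆ ∉ Z := by
    intro hc
    apply htw
    refine (QuotientGroup.eq_one_iff _).1 ?_
    show q h0 = 1
    have e1 := (hq1 h0 w).2 hc
    have e2 : q t * q h0 = q h0 * q t := (hq1 t h0).2 (hTT (commutator_mem_commutator htT hh0T))
    have e3 : MulAut.conj (q t) (q w) = q h0 * q w := by
      rw [MulAut.conj_apply, hh0, commutatorElement_def]
      simp only [map_mul, map_inv]
      group
    have e4 := congrArg (· ^ σ ^ jw) e3
    rw [← map_pow, ← map_pow, hwpow, map_one, map_one, (show Commute (q h0) (q w) from e1).mul_pow,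
      ← map_pow q w, hwpow, map_one, mul_one] at e4
    obtain ⟨i, hi⟩ := hTp ⟨h0, hh0T⟩
    refine eq_one_of_pow_coprime e4.symm (n := r ^ i) ?_
      (Nat.Coprime.pow _ _ ((Nat.coprime_primes hσ hr).2 hσr))
    rw [← map_pow, show h0 ^ r ^ i = 1 by simpa using congrArg Subtype.val hi, map_one]
  have hh0D : ∀ x ∈ D, ⁅h0, x⁆ ∈ center L := fun x hx => (hD x).1 hx h0 hh0T
  set I := (commHom D h0 hh0D).range with hI
  have hIZ : I ≤ Z := by
    rintro _ ⟨x, rfl⟩
    exact hh0D x x.2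
  haveI hIn : I.Normal := ⟨fun i hi g => by
    rw [mem_center_iff.1 (hIZ hi) g, mul_inv_cancel_right]; exact hi⟩
  have hIcard : Nat.card I = (centralizer ({h0} : Set L)).relIndex D :=
    (relIndex_eq_card_range D h0 hh0D).symm
  -- every commutator of `T` with `D` lies in `I`
  have hTI : ∀ t ∈ T, ∀ x ∈ D, ⁅t, x⁆ ∈ I := by
    let U : Subgroup L :=
      { carrier := {s | s ∈ T ∧ ∀ x ∈ D, ⁅s, x⁆ ∈ I}
        one_mem' := ⟨one_mem _, fun x _ => by simp⟩
        mul_mem' := fun {s s'} hs hs' => ⟨mul_mem hs.1 hs'.1, fun x hx => by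
          rw [commutatorElement_mul_left' ((hD x).1 hx _ hs'.1)]
          exact mul_mem (hs'.2 x hx) (hs.2 x hx)⟩
        inv_mem' := fun {s} hs => ⟨inv_mem hs.1, fun x hx => by
          have h := commutatorElement_mul_left' (s := s) ((hD x).1 hx _ (inv_mem hs.1))
          rw [mul_inv_cancel, commutatorElement_one_left] at h
          rw [eq_inv_of_mul_eq_one_left h.symm]
          exact inv_mem (hs.2 x hx)⟩ }
    have hU : U.Normal := ⟨fun s hs g => ⟨hTn.conj_mem _ hs.1 g, fun x hx => by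
      have e : ⁅g * s * g⁻¹, x⁆ = g * ⁅s, g⁻¹ * x * g⁆ * g⁻¹ := by
        simp only [commutatorElement_def]; group
      rw [e]
      refine hIn.conj_mem _ (hs.2 _ ?_) g
      have := Subgroup.Normal.conj_mem (H := D) inferInstance x hx g⁻¹
      simpa using this⟩⟩
    have hTU := hmin U hU (fun s hs => hs.1) fun h => htw (h
      ⟨hh0T, fun x hx => ⟨⟨x, hx⟩, rfl⟩⟩)
    exact fun s hs => (hTU hs).2
  -- an element `h` with small `r`-part of its class size
  set M := ⁅T, E⁆ with hM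
  have hMT : M ≤ T := commutator_le_left T E
  have hMZ : ¬ M ≤ Z := fun h => hEne fun e he => (hD e).2 fun s hs =>
    h (commutator_mem_commutator hs he)
  haveI : (M.map q).Normal := Subgroup.Normal.map inferInstance q (QuotientGroup.mk'_surjective Z)
  obtain ⟨R⟩ : Nonempty (Sylow r L) := inferInstance
  obtain ⟨x, hx, hx1, hxR⟩ := exists_fixed ((R : Subgroup L).map q) (R.isPGroup'.map q) (M.map q)
    ((hTp.to_le hMT).map q) (fun h => hMZ (by
      intro s hs
      have : q s ∈ M.map q := ⟨s, hs, rfl⟩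
      rw [h, mem_bot] at this
      exact (QuotientGroup.eq_one_iff s).1 this))
  obtain ⟨h, hhM, rfl⟩ := hx
  have hhZ : h ∉ Z := fun hc => hx1 ((QuotientGroup.eq_one_iff h).2 hc)
  have hR1 : ∀ s ∈ (R : Subgroup L), ⁅h, s⁆ ∈ Z := fun s hs =>
    (hq1 h s).1 (hxR _ ⟨s, hs, rfl⟩).symm
  have hR2 : ∀ s ∈ (R : Subgroup L), ⁅h, s⁆ ∈ I := fun s hs => by
    refine mem_of_mem_commutator hσr T D E I hTp hTI hTD hidx ?_ (hR1 s hs)
    rw [commutatorElement_def, show h * s * h⁻¹ * s⁻¹ = h * (s * h⁻¹ * s⁻¹) by group]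
    exact mul_mem hhM (Subgroup.Normal.conj_mem (H := M) inferInstance _ (inv_mem hhM) s)
  obtain ⟨jh, hjh⟩ := hTp ⟨h, hMT hhM⟩
  have hm1 : m ∣ Nat.card I * (R : Subgroup L).index := by
    rw [← hm h r jh hr (by simpa using congrArg Subtype.val hjh) hhZ]
    refine (index_dvd_of_le (inf_le_left : centralizer ({h} : Set L) ⊓ (R : Subgroup L) ≤ _)).trans ?_
    rw [← relIndex_mul_index (inf_le_right : centralizer ({h} : Set L) ⊓ (R : Subgroup L) ≤ _),
      inf_relIndex_right]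
    exact mul_dvd_mul_right (relIndex_dvd_card _ I h hR1 hR2) _
  -- `w` has a larger `r`-part
  set Cw := centralizer ({w} : Set L) ⊓ D with hCw
  set K0 := centralizer ({h0} : Set L) ⊓ D with hK0
  have hCK : Cw ≤ K0 := by
    rintro x ⟨hxw, hxD⟩
    refine ⟨?_, hxD⟩
    have hxw' : x * w = w * x := mem_centralizer_singleton_iff.1 hxw
    refine mem_centralizer_singleton_iff.2 (commutatorElement_eq_one_iff_mul_comm.1 ?_).symm
    have c1 : ⁅t⁻¹, x⁆ ∈ center L := (hD x).1 hxD _ (inv_mem htT)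
    have e1 : ⁅w * t⁻¹ * w⁻¹, x⁆ = ⁅t⁻¹, x⁆ := by
      have hwx : w⁻¹ * x * w = x := by rw [mul_assoc, hxw', inv_mul_cancel_left]
      calc ⁅w * t⁻¹ * w⁻¹, x⁆ = w * ⁅t⁻¹, w⁻¹ * x * w⁆ * w⁻¹ := by
            simp only [commutatorElement_def]; group
        _ = _ := by rw [hwx, mem_center_iff.1 c1 w, mul_inv_cancel_right]
    calc ⁅h0, x⁆ = ⁅t * (w * t⁻¹ * w⁻¹), x⁆ := by
          rw [hh0, commutatorElement_def (g₁ := t) (g₂ := w)]; group
      _ = ⁅t⁻¹, x⁆ * ⁅t, x⁆ := by rw [commutatorElement_mul_left' (e1 ▸ c1), e1]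
      _ = ⁅t * t⁻¹, x⁆ := (commutatorElement_mul_left' c1).symm
      _ = 1 := by simp
  have hr1 : r ∣ Cw.relIndex K0 := by
    have hXK : T ⊓ K0 ≤ K0 := inf_le_right
    have hn : K0 ≤ normalizer ((T ⊓ K0 : Subgroup L) : Set L) := by
      intro g hg
      rw [mem_normalizer_iff]
      intro y
      constructor
      · exact fun hy => ⟨hTn.conj_mem _ hy.1 g, K0.mul_mem (K0.mul_mem hg hy.2) (K0.inv_mem hg)⟩
      · rintro ⟨hy1, hy2⟩
        refine ⟨?_, ?_⟩
        · simpa [mul_assoc] using hTn.conj_mem _ hy1 g⁻¹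
        · simpa [mul_assoc] using K0.mul_mem (K0.mul_mem (K0.inv_mem hg) hy2) hg
    refine dvd_trans ?_ (CfsgLib.InvChar.relIndex_dvd_of_le_normalizer hXK hn)
    obtain ⟨i, hi⟩ := (hTp.to_le (inf_le_left : T ⊓ K0 ≤ T)).exists_card_eq
    have hd : Cw.relIndex (T ⊓ K0) ∣ r ^ i :=
      hi ▸ index_dvd_card (H := Cw.subgroupOf (T ⊓ K0))
    obtain ⟨l, -, hl⟩ := (Nat.dvd_prime_pow hr).1 hd
    rcases Nat.eq_zero_or_pos l with rfl | hl0
    · rw [pow_zero, relIndex_eq_one] at hl
      refine absurd ?_ hh0w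
      have h1 : h0 ∈ Cw := hl ⟨hh0T, mem_centralizer_singleton_iff.2 rfl, hTD hh0T⟩
      rw [commutatorElement_eq_one_iff_mul_comm.2 (mem_centralizer_singleton_iff.1 h1.1)]
      exact one_mem _
    · exact hl ▸ dvd_pow_self r hl0.ne'
  have hm2 : r * Nat.card I ∣ m := by
    have hwZ : w ∉ Z := fun hc => htw (by
      rw [hh0, commutatorElement_eq_one_iff_mul_comm.2 (mem_center_iff.1 hc t)]; exact one_mem _)
    rw [← hm w σ jw hσ hwpow hwZ]
    refine dvd_trans ?_ (CfsgLib.InvChar.relIndex_dvd_index_of_normal' (centralizer ({w} : Set L)) D)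
    rw [← inf_relIndex_right (centralizer ({w} : Set L)) D,
      ← relIndex_mul_relIndex Cw K0 D hCK inf_le_right, hIcard, inf_relIndex_right]
    exact mul_dvd_mul_right hr1 _
  have h3 := hm2.trans hm1
  rw [mul_comm (Nat.card I)] at h3
  exact R.not_dvd_index (Nat.dvd_of_mul_dvd_mul_right Nat.card_pos h3)

end CfsgLib.InvChar.PrimePowerClass
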