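import Cfsg.Agent.Lib.InvChar.RankThreeCA
import Cfsg.Agent.Lib.InvChar.PrimePowerClassSize
import Cfsg.Agent.S4033
import Cfsg.Agent.S4160
import Cfsg.Agent.Lib.Solvable.KegelWielandt

/-!
A group with trivial centre, three nontrivial class sizes and a proper inclusion between two
centralizers is solvable.
-/

set_option autoImplicit false
set_option linter.style.haveILetI false

namespace CfsgLib.InvChar.CaminaChain

open Subgroup
open CfsgLib.Recog.ClassSizesPSLTwo (cs centralizer_mul centralizer_le_pow exists_sylow_le cs_conj)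
open CfsgLib.InvChar.RankThree (eq_of_le_of_cs exists_mul_of_coprime_index mul_ne_one_of_coprime
  exists_prime_order_pow ncard_le_index_mul conj_centralizer)
open CfsgLib.InvChar.PrimePowerClass (exists_primary_notMem exists_prime_pow_of_class eq_bot_of_perfect)

universe u

variable {G : Type u} [Group G] [Finite G]

theorem centralizer_subgroupOf (K : Subgroup G) (y : K) :
    centralizer ({y} : Set K) = (centralizer ({(y : G)} : Set G)).subgroupOf K := by
  ext z
  simp [mem_subgroupOf, mem_centralizer_singleton_iff, Subtype.ext_iff]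

theorem mem_center_of_relIndex {K : Subgroup G} (y : K)
    (h : (centralizer ({(y : G)} : Set G)).relIndex K = 1) : y ∈ center K := by
  refine mem_center_iff.2 fun z => Subtype.ext ?_
  exact mem_centralizer_singleton_iff.1 (relIndex_eq_one.1 h z.2)

theorem isNilpotent_of_coprime_central (r : ℕ) [Fact r.Prime]
    (h : ∀ y : G, (orderOf y).Coprime r → y ∈ center G) : Group.IsNilpotent G := by
  have hp : IsPGroup r (G ⧸ center G) := by
    intro g
    obtain ⟨x, rfl⟩ := QuotientGroup.mk_surjective g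
    refine ⟨(orderOf x).factorization r, ?_⟩
    rw [← QuotientGroup.mk_pow, QuotientGroup.eq_one_iff]
    refine h _ (Nat.Coprime.coprime_dvd_left (orderOf_dvd_of_pow_eq_one
      (n := orderOf x / r ^ (orderOf x).factorization r) ?_)
      (Nat.coprime_ordCompl Fact.out (orderOf_pos x).ne').symm)
    rw [← pow_mul, Nat.ordProj_mul_ordCompl_eq_self, pow_orderOf_eq_one]
  haveI := hp.isNilpotent
  exact Subgroup.isNilpotent_of_ker_le_center (QuotientGroup.mk' (center G))
    (QuotientGroup.ker_mk' _).le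

/-- A group with a nilpotent subgroup of prime power index is solvable. -/
theorem isSolvable_of_nilpotent_index (H : Subgroup G) (hH : Group.IsNilpotent H) {p k : ℕ}
    (hp : p.Prime) (hidx : H.index ∣ p ^ k) : Group.IsSolvable G := by
  haveI := Fact.mk hp
  obtain ⟨P⟩ : Nonempty (Sylow p G) := inferInstance
  obtain ⟨-, hmul⟩ := exists_mul_of_coprime_index (A := H) (B := (P : Subgroup G))
    (Nat.Coprime.coprime_dvd_left hidx ((hp.coprime_iff_not_dvd.2 P.not_dvd_index).pow_left k))
  exact CfsgLib.KegelWielandt.isSolvable _ rfl (P : Subgroup G) H P.isPGroup'.isNilpotent hH hmul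

/-- At most two class sizes of `r'`-elements: solvable. -/
theorem isSolvable_of_two_sizes {r m : ℕ} (hr : r.Prime)
    (h : ∀ y : G, (orderOf y).Coprime r →
      (centralizer ({y} : Set G)).index = 1 ∨ (centralizer ({y} : Set G)).index = m) :
    Group.IsSolvable G := by
  haveI := Fact.mk hr
  by_cases hall : ∀ y : G, (orderOf y).Coprime r → (centralizer ({y} : Set G)).index = 1
  · haveI := isNilpotent_of_coprime_central (G := G) r fun y hy => by
      exact mem_center_iff.2 fun z => mem_centralizer_singleton_iff.1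
        ((index_eq_one.1 (hall y hy)).ge (mem_top z))
    infer_instance
  push Not at hall
  obtain ⟨y, hy, hy1⟩ := hall
  have hym := (h y hy).resolve_left hy1
  have hcard : ∀ x : G, (ConjClasses.mk x).carrier.ncard = (centralizer ({x} : Set G)).index := by
    intro x
    rw [← CfsgLib.Characters.card_isConj_eq_index, ← Nat.card_coe_set_eq]
    exact Nat.card_congr (Equiv.subtypeEquivRight fun z => by
      rw [ConjClasses.mem_carrier_iff_mk_eq, ConjClasses.mk_eq_mk_iff_isConj]; exact isConj_comm)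
  have h2 : Set.ncard (Set.range fun x : {x : G // (orderOf x).Coprime r} =>
      (ConjClasses.mk (x : G)).carrier.ncard) = 2 := by
    refine Set.ncard_eq_two.2 ⟨1, m, fun e => hy1 (hym.trans e.symm), Set.ext fun v => ⟨?_, ?_⟩⟩
    · rintro ⟨x, rfl⟩
      simp only [hcard, Set.mem_insert_iff, Set.mem_singleton_iff]
      exact h x x.2
    · rintro (rfl | rfl)
      · refine ⟨⟨1, by rw [orderOf_one]; exact Nat.coprime_one_left r⟩, ?_⟩
        simp only [hcard]
        rw [index_eq_one, eq_top_iff]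
        exact fun z _ => mem_centralizer_singleton_iff.2 (by rw [mul_one, one_mul])
      · exact ⟨⟨y, hy⟩, by simp only [hcard]; exact hym⟩
  rcases Cfsg.Agent.S4033.result hr h2 with ⟨H, hH, -, k, hk⟩ | ⟨q, hq, P, Q, A, -, hA, hPQ, hn, -, htop⟩
  · haveI := hH
    letI : CommGroup H := { (inferInstance : Group H) with mul_comm := fun a b => hH.is_comm.comm a b }
    exact isSolvable_of_nilpotent_index H inferInstance hr (dvd_of_eq hk)
  · haveI := hn
    obtain ⟨i, hi⟩ := P.isPGroup'.exists_card_eq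
    obtain ⟨j, hj⟩ := Q.isPGroup'.exists_card_eq
    haveI : Group.IsSolvable ↥((P : Subgroup G) ⊔ (Q : Subgroup G)) :=
      CfsgLib.Burnside.isSolvable_of_card_eq hr hq.out i j
        (show Nat.card ↥((P : Subgroup G) ⊔ (Q : Subgroup G)) = r ^ i * q ^ j by
          rw [hPQ]; exact congrArg₂ (· * ·) hi hj)
    set N := (P : Subgroup G) ⊔ (Q : Subgroup G)
    have hcomm : ∀ x y : G ⧸ N, x * y = y * x := by
      intro x y
      obtain ⟨g, rfl⟩ := QuotientGroup.mk'_surjective N x
      obtain ⟨g', rfl⟩ := QuotientGroup.mk'_surjective N y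
      have hg : QuotientGroup.mk' N g ∈ (N ⊔ A).map (QuotientGroup.mk' N) :=
        ⟨g, htop ▸ mem_top g, rfl⟩
      rw [Subgroup.map_sup, QuotientGroup.map_mk'_self, bot_sup_eq] at hg
      obtain ⟨z, hz, hz'⟩ := hg
      rw [← hz', ← map_mul, ← map_mul, mem_center_iff.1 (hA hz) g']
    letI : CommGroup (G ⧸ N) := { (inferInstance : Group (G ⧸ N)) with mul_comm := hcomm }
    exact Group.isSolvable_of_ker_le_range N.subtype (QuotientGroup.mk' N)
      (by rw [QuotientGroup.ker_mk', range_subtype])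

/-- A central element of a Sylow subgroup. -/
theorem exists_sylow_central {p : ℕ} [Fact p.Prime] (hp : p ∣ Nat.card G) :
    ∃ z : G, z ≠ 1 ∧ (∃ j, z ^ p ^ j = 1) ∧ ¬ p ∣ cs z := by
  obtain ⟨P⟩ : Nonempty (Sylow p G) := inferInstance
  have : Nontrivial (P : Subgroup G) := (nontrivial_iff_ne_bot _).mpr (P.ne_bot_of_dvd_card hp)
  have : Nontrivial (center (P : Subgroup G)) := P.isPGroup'.center_nontrivial
  obtain ⟨z, hz⟩ := exists_ne (1 : center (P : Subgroup G))
  obtain ⟨j, hj⟩ := P.isPGroup' (z : (P : Subgroup G))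
  refine ⟨((z : (P : Subgroup G)) : G), fun h => hz (Subtype.ext (Subtype.ext h)),
    ⟨j, by simpa using congrArg Subtype.val hj⟩, fun hd =>
    P.not_dvd_index (hd.trans (index_dvd_of_le fun q hq => mem_centralizer_singleton_iff.mpr
      (congrArg Subtype.val (mem_center_iff.mp z.2 ⟨q, hq⟩))))⟩

/-- The three nontrivial class sizes `a ∣ c` and `b`. -/
structure Sizes (G : Type u) [Group G] (a b c : ℕ) : Prop where
  val : ∀ g : G, g ≠ 1 → cs g = a ∨ cs g = b ∨ cs g = c
  a1 : 1 < a
  b1 : 1 < b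
  cop : Nat.Coprime a b
  hac : a ∣ c
  nac : a ≠ c

namespace Sizes

variable {a b c : ℕ}

theorem nab (S : Sizes G a b c) : ¬ a ∣ b := fun h => by
  have := Nat.eq_one_of_dvd_coprimes S.cop dvd_rfl h; have := S.a1; omega

theorem nba (S : Sizes G a b c) : ¬ b ∣ a := fun h => by
  have := Nat.eq_one_of_dvd_coprimes S.cop h dvd_rfl; have := S.b1; omega

theorem nca (S : Sizes G a b c) : ¬ c ∣ a := fun h => S.nac (Nat.dvd_antisymm S.hac h)

theorem ncb (S : Sizes G a b c) : ¬ c ∣ b := fun h => S.nab (S.hac.trans h)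

/-- An element of type `a` or `b` has a power of prime order with the same centralizer. -/
theorem exists_prime_rep (S : Sizes G a b c) {g : G} (hg : g ≠ 1) (ht : cs g = a ∨ cs g = b) :
    ∃ r x, r.Prime ∧ orderOf x = r ∧ x ≠ 1 ∧ cs x = cs g ∧
      centralizer ({x} : Set G) = centralizer ({g} : Set G) := by
  obtain ⟨r, k, hr, hk⟩ := exists_prime_order_pow hg
  have h1 : g ^ k ≠ 1 := fun e => hr.ne_one (by rw [← hk, e, orderOf_one])
  have hle := centralizer_le_pow g k
  have hd : cs (g ^ k) ∣ cs g := index_dvd_of_le hle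
  have he : cs (g ^ k) = cs g := by
    rcases ht with ht | ht <;> rcases S.val _ h1 with h | h | h <;> rw [ht, h] at hd <;> rw [ht, h] <;>
      first | rfl | (exfalso; first | exact S.nba hd | exact S.nca hd | exact S.nab hd | exact S.ncb hd)
  exact ⟨r, _, hr, hk, h1, he, (eq_of_le_of_cs hle he.symm).symm⟩

/-- Class sizes in the centralizer of an element of type `a` or `b`. -/
theorem relIndex_class (S : Sizes G a b c) {x y : G} (hx : x ≠ 1) (hs : cs x = a ∨ cs x = b)
    (hc : Commute x y) (hco : Nat.Coprime (orderOf x) (orderOf y)) :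
    (centralizer ({y} : Set G)).relIndex (centralizer ({x} : Set G)) = 1 ∨
      (cs x ∣ c ∧
        (centralizer ({y} : Set G)).relIndex (centralizer ({x} : Set G)) * cs x = c) := by
  have hmul := centralizer_mul hc hco (orderOf_pos x).ne'
  have he : (centralizer ({y} : Set G)).relIndex (centralizer ({x} : Set G)) * cs x = cs (x * y) := by
    rw [← inf_relIndex_right, inf_comm, ← hmul]
    exact relIndex_mul_index (hmul.le.trans inf_le_left)
  have hd : cs x ∣ cs (x * y) := Dvd.intro_left _ he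
  have h0 : 0 < cs x := Nat.pos_of_ne_zero index_ne_zero_of_finite
  rcases S.val _ (mul_ne_one_of_coprime hx hco) with h | h | h
  · left
    rcases hs with hs | hs
    · rw [h, hs] at he
      exact (Nat.mul_eq_right (by have := S.a1; omega)).1 he
    · rw [h, hs] at hd; exact absurd hd S.nba
  · left
    rcases hs with hs | hs
    · rw [h, hs] at hd; exact absurd hd S.nab
    · rw [h, hs] at he
      exact (Nat.mul_eq_right (by have := S.b1; omega)).1 he
  · right
    rw [h] at hd he
    exact ⟨hd, he⟩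

theorem isSolvable_centralizer (S : Sizes G a b c) {r : ℕ} {x : G} (hr : r.Prime)
    (hxo : orderOf x = r) (hs : cs x = a ∨ cs x = b) :
    Group.IsSolvable (centralizer ({x} : Set G)) := by
  have hx : x ≠ 1 := fun e => hr.ne_one (by rw [← hxo, e, orderOf_one])
  refine isSolvable_of_two_sizes hr (m := c / cs x) fun y hy => ?_
  rw [centralizer_subgroupOf]
  rcases S.relIndex_class (y := (y : G)) hx hs (mem_centralizer_singleton_iff.1 y.2).symm
      (by rw [hxo, Subgroup.orderOf_coe]; exact hy.symm) with h | ⟨-, h⟩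
  · exact Or.inl h
  · right
    rw [← h, Nat.mul_div_cancel _ (Nat.pos_of_ne_zero index_ne_zero_of_finite)]
    rfl

/-- The quotient `c / cs x` is a prime power. -/
theorem exists_prime_pow (S : Sizes G a b c) {r : ℕ} {x u : G} (hr : r.Prime)
    (hxo : orderOf x = r) (hs : cs x = a ∨ cs x = b) (hu : u ∈ centralizer ({x} : Set G))
    (hwit : (centralizer ({u} : Set G)).relIndex (centralizer ({x} : Set G)) * cs x = c)
    (hne : cs x ≠ c) :
    ∃ τ k : ℕ, τ.Prime ∧ 0 < k ∧ c = cs x * τ ^ k := by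
  set K := centralizer ({x} : Set G) with hK
  set m := (centralizer ({u} : Set G)).relIndex K with hm
  haveI := S.isSolvable_centralizer hr hxo hs
  have hx : x ≠ 1 := fun e => hr.ne_one (by rw [← hxo, e, orderOf_one])
  have h0 : 0 < cs x := Nat.pos_of_ne_zero index_ne_zero_of_finite
  have hm1 : m ≠ 1 := fun e => hne (by rw [← hwit, e, one_mul])
  suffices ∃ p k, p.Prime ∧ m = p ^ k by
    obtain ⟨p, k, hp, hk⟩ := this
    refine ⟨p, k, hp, Nat.pos_of_ne_zero fun e => hm1 (by rw [hk, e, pow_zero]), ?_⟩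
    rw [← hwit, hk, mul_comm]
  by_cases hall : ∀ σ : ℕ, σ.Prime → σ ∣ m → σ = r
  · exact ⟨r, _, hr, Nat.eq_prime_pow_of_unique_prime_dvd index_ne_zero_of_finite
      fun {d} hd hd' => hall d hd hd'⟩
  push Not at hall
  obtain ⟨σ, hσ, hσm, hσr⟩ := hall
  haveI := Fact.mk hσ
  obtain ⟨z, hz1, ⟨j, hj⟩, hzσ⟩ := exists_sylow_central (G := K) (p := σ) (hσm.trans (index_dvd_card _))
  have hcl : ∀ (v : G) (hv : v ≠ 1), centralizer ({v} : Set G) = K → ∀ y : K,
      Nat.Coprime (orderOf v) (orderOf y) →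
      (centralizer ({y} : Set K)).index = 1 ∨ (centralizer ({y} : Set K)).index = m := by
    intro v hv hvK y hy
    have hvx : cs v = cs x := by rw [cs, hvK]
    rw [centralizer_subgroupOf]
    have hcomm : Commute v (y : G) := (mem_centralizer_singleton_iff.1
      (show (y : G) ∈ centralizer ({v} : Set G) by rw [hvK]; exact y.2)).symm
    rcases S.relIndex_class hv (hvx ▸ hs) hcomm (by rwa [Subgroup.orderOf_coe]) with h | ⟨-, h⟩
    · left; rw [hvK] at h; exact h
    · right
      rw [hvK, hvx, ← hwit] at h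
      exact Nat.eq_of_mul_eq_mul_right h0 h
  have hxr : ∀ y : K, (∃ (p : ℕ) (i : ℕ), p.Prime ∧ p ≠ r ∧ y ^ p ^ i = 1) →
      (centralizer ({y} : Set K)).index = 1 ∨ (centralizer ({y} : Set K)).index = m := by
    rintro y ⟨p, i, hp, hpr, hy⟩
    refine hcl x hx rfl y ?_
    rw [hxo]
    exact Nat.Coprime.coprime_dvd_right (orderOf_dvd_of_pow_eq_one hy)
      (((Nat.coprime_primes hr hp).2 hpr.symm).pow_right i)
  have hzc : z ∈ center K := by
    refine mem_center_of_relIndex z ?_
    have h := hxr z ⟨σ, j, hσ, hσr, hj⟩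
    rw [centralizer_subgroupOf] at h
    refine h.resolve_right fun e => hzσ ?_
    rw [cs, centralizer_subgroupOf]
    exact e.symm ▸ hσm
  have hz1' : (z : G) ≠ 1 := fun e => hz1 (Subtype.ext e)
  have hzK : centralizer ({(z : G)} : Set G) = K := by
    have hle : K ≤ centralizer ({(z : G)} : Set G) := fun s hs => mem_centralizer_singleton_iff.2
      (congrArg Subtype.val (mem_center_iff.1 hzc ⟨s, hs⟩))
    have hd : cs (z : G) ∣ cs x := index_dvd_of_le hle
    refine (eq_of_le_of_cs hle ?_).symm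
    rcases hs with hs | hs <;> rcases S.val _ hz1' with h | h | h <;> rw [hs, h] at hd <;>
      rw [hs, h] <;>
      first | rfl | (exfalso; first | exact S.nba hd | exact S.nca hd | exact S.nab hd | exact S.ncb hd)
  refine exists_prime_pow_of_class (L := K) (fun y p i hp hy hyc => ?_) ⟨⟨u, hu⟩, fun hc => ?_⟩
  · have h1 : (centralizer ({y} : Set K)).index ≠ 1 := fun e => hyc (mem_center_of_relIndex y
      (by rw [centralizer_subgroupOf] at e; exact e))
    by_cases hpr : p = r
    · refine (hcl (z : G) hz1' hzK y ?_).resolve_left h1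
      refine Nat.Coprime.coprime_dvd_right (orderOf_dvd_of_pow_eq_one hy) (Nat.Coprime.coprime_dvd_left
        (orderOf_dvd_of_pow_eq_one (show (z : G) ^ σ ^ j = 1 by simpa using congrArg Subtype.val hj)) ?_)
      rw [hpr]
      exact Nat.Coprime.pow _ _ ((Nat.coprime_primes hσ hr).2 hσr)
    · exact (hxr y ⟨p, i, hp, hpr, hy⟩).resolve_left h1
  · refine hm1 (relIndex_eq_one.2 fun s hs => mem_centralizer_singleton_iff.2 ?_)
    exact congrArg Subtype.val (mem_center_iff.1 hc ⟨s, hs⟩)

/-- An element of type `c` centralizes what commutes with it and has coprime order. -/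
theorem le_of_type_c (S : Sizes G a b c) {h v : G} (hh : h ≠ 1) (hc : cs h = c) (hcomm : Commute h v)
    (hco : Nat.Coprime (orderOf h) (orderOf v)) :
    centralizer ({h} : Set G) ≤ centralizer ({v} : Set G) := by
  have hmul := centralizer_mul hcomm hco (orderOf_pos h).ne'
  have hd : cs h ∣ cs (h * v) := index_dvd_of_le (hmul.le.trans inf_le_left)
  rw [hc] at hd
  rcases S.val _ (mul_ne_one_of_coprime hh hco) with e | e | e <;> rw [e] at hd
  · exact absurd hd S.nca
  · exact absurd hd S.ncb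
  · rw [← eq_of_le_of_cs (hmul.le.trans inf_le_left) (by rw [e, hc]), hmul]
    exact inf_le_right

end Sizes

/-- The counting argument: `a` and `b` are prime powers and `c = a * b`. -/
theorem isSolvable_of_prime_powers {a b c σ τ i j : ℕ} (S : Sizes G a b c) (hσ : σ.Prime)
    (hτ : τ.Prime) (hb : b = σ ^ i) (ha : a = τ ^ j) (hc : c = a * b) : Group.IsSolvable G := by
  set R := Cfsg.solvableRadical G
  haveI hRn : R.Normal := CfsgLib.Structure.solvableRadical_normal (G := G)
  haveI hRs : Group.IsSolvable R := CfsgLib.Structure.isSolvable_solvableRadical (G := G)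
  have hfinish : Group.IsSolvable (G ⧸ R) → Group.IsSolvable G := fun _ =>
    Group.isSolvable_of_ker_le_range R.subtype (QuotientGroup.mk' R)
      (by rw [QuotientGroup.ker_mk', range_subtype])
  have hout : ∀ g : G, g ∉ R → g ≠ 1 ∧ cs g = c := by
    intro g hg
    have h1 : g ≠ 1 := fun e => hg (e ▸ one_mem R)
    refine ⟨h1, ?_⟩
    rcases S.val g h1 with e | e | e
    · exact absurd (CfsgLib.InvChar.mem_solvableRadical_of_class hτ g (k := j)
        (dvd_of_eq (e.trans ha))) hg
    · exact absurd (CfsgLib.InvChar.mem_solvableRadical_of_class hσ g (k := i)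
        (dvd_of_eq (e.trans hb))) hg
    · exact e
  by_contra hns
  -- a prime of `G / R` other than `σ` and `τ`
  obtain ⟨q, hq, hqR, hqσ, hqτ⟩ : ∃ q, q.Prime ∧ q ∣ Nat.card (G ⧸ R) ∧ q ≠ σ ∧ q ≠ τ := by
    by_contra! hcon
    refine hns (hfinish ?_)
    set n := Nat.card (G ⧸ R) with hn
    by_cases hστ : σ = τ
    · refine CfsgLib.Burnside.isSolvable_of_card_eq hσ hσ n.primeFactorsList.length 0 ?_
      rw [pow_zero, mul_one]
      exact Nat.eq_prime_pow_of_unique_prime_dvd Nat.card_pos.ne' fun {d} hd hd' => by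
        by_contra h; exact h ((hcon d hd hd' h).trans hστ.symm)
    · obtain ⟨t, ht⟩ : ∃ t, n / σ ^ n.factorization σ = τ ^ t :=
        ⟨_, Nat.eq_prime_pow_of_unique_prime_dvd (Nat.ordCompl_pos σ Nat.card_pos.ne').ne'
          fun {d} hd hd' => hcon d hd (hd'.trans (Nat.ordCompl_dvd _ _)) (by
            rintro rfl; exact Nat.not_dvd_ordCompl hd Nat.card_pos.ne' hd')⟩
      exact CfsgLib.Burnside.isSolvable_of_card_eq hσ hτ _ t
        (by rw [← ht, Nat.ordProj_mul_ordCompl_eq_self])
  haveI := Fact.mk hq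
  have hqc : ¬ q ∣ c := by
    rw [hc, ha, hb]
    intro h
    rcases hq.dvd_mul.1 h with h | h
    · exact hqτ ((Nat.prime_dvd_prime_iff_eq hq hτ).1 (hq.dvd_of_dvd_pow h))
    · exact hqσ ((Nat.prime_dvd_prime_iff_eq hq hσ).1 (hq.dvd_of_dvd_pow h))
  have hcent : ∀ h : G, h ∉ R → ∀ (r n : ℕ), h ^ r ^ n = 1 → ∀ v : G, Commute h v →
      Nat.Coprime r (orderOf v) → centralizer ({h} : Set G) ≤ centralizer ({v} : Set G) :=
    fun h hh r n hn v hv hco => S.le_of_type_c (hout h hh).1 (hout h hh).2 hv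
      (Nat.Coprime.coprime_dvd_left (orderOf_dvd_of_pow_eq_one hn) (hco.pow_left n))
  have hsyl : ∀ h : G, h ∉ R → ∃ Q : Sylow q G, (Q : Subgroup G) ≤ centralizer ({h} : Set G) :=
    fun h hh => exists_sylow_le _ (by
      rw [show (centralizer ({h} : Set G)).index = c from (hout h hh).2]; exact hqc)
  have hord : ∀ (Q : Sylow q G) (v : G), v ∈ (Q : Subgroup G) → ∃ n, v ^ q ^ n = 1 := by
    intro Q v hv
    obtain ⟨n, hn⟩ := Q.isPGroup' ⟨v, hv⟩
    exact ⟨n, by simpa using congrArg Subtype.val hn⟩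
  have hcoq : ∀ {r : ℕ} {v : G}, r.Prime → r ≠ q → (∃ n, v ^ q ^ n = 1) →
      Nat.Coprime r (orderOf v) := by
    rintro r v hr hrq ⟨n, hn⟩
    exact Nat.Coprime.coprime_dvd_right (orderOf_dvd_of_pow_eq_one hn)
      (((Nat.coprime_primes hr hq).2 hrq).pow_right n)
  -- Sylow `q`-subgroups are abelian
  have hab : ∀ Q : Sylow q G, ∀ v ∈ (Q : Subgroup G), ∀ v' ∈ (Q : Subgroup G), v * v' = v' * v := by
    obtain ⟨r, hr, hrd, hrq⟩ : ∃ r, r.Prime ∧ r ∣ Nat.card (G ⧸ R) ∧ r ≠ q := by
      by_contra! hcon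
      refine hns (hfinish ?_)
      haveI := (IsPGroup.of_card (p := q) (G := G ⧸ R) (Nat.eq_prime_pow_of_unique_prime_dvd
        Nat.card_pos.ne' fun {d} hd hd' => hcon d hd hd')).isNilpotent
      infer_instance
    haveI := Fact.mk hr
    obtain ⟨Rr⟩ : Nonempty (Sylow r G) := inferInstance
    obtain ⟨h, hh, hhR⟩ := SetLike.not_le_iff_exists.1 fun hle : (Rr : Subgroup G) ≤ R =>
      Rr.not_dvd_index (hrd.trans (index_dvd_of_le hle))
    obtain ⟨n, hn⟩ := Rr.isPGroup' ⟨h, hh⟩
    obtain ⟨Q', hQ'⟩ := hsyl h hhR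
    intro Q v hv v' hv'
    obtain ⟨g, hg⟩ := MulAction.exists_smul_eq G Q' Q
    rw [← hg, Sylow.coe_subgroup_smul] at hv hv'
    obtain ⟨s, hs, rfl⟩ := hv
    obtain ⟨s', hs', rfl⟩ := hv'
    show MulAut.conj g s * MulAut.conj g s' = MulAut.conj g s' * MulAut.conj g s
    rw [← map_mul, ← map_mul]
    refine congrArg _ ?_
    have hle := hcent h hhR r n (by simpa using congrArg Subtype.val hn) s'
      (mem_centralizer_singleton_iff.1 (hQ' hs')).symm (hcoq hr hrq (hord Q' s' hs'))
    exact mem_centralizer_singleton_iff.1 (hle (hQ' hs))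
  -- a Sylow `q`-subgroup inside `C(h)` is central there
  have hkey : ∀ h : G, h ∉ R → ∀ (r n : ℕ), r.Prime → h ^ r ^ n = 1 →
      ∀ Q : Sylow q G, (Q : Subgroup G) ≤ centralizer ({h} : Set G) →
      ∀ v ∈ (Q : Subgroup G), v ∉ R →
        centralizer ({h} : Set G) = centralizer ({v} : Set G) := by
    intro h hh r n hr hn Q hQ v hv hvR
    refine eq_of_le_of_cs ?_ (by rw [(hout h hh).2, (hout v hvR).2])
    have hcomm : Commute h v := (mem_centralizer_singleton_iff.1 (hQ hv)).symm
    by_cases hrq : r = q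
    swap
    · exact hcent h hh r n hn v hcomm (hcoq hr hrq (hord Q v hv))
    rw [← relIndex_eq_one]
    by_contra hne
    set X := centralizer ({v} : Set G)
    set Y := centralizer ({h} : Set G)
    obtain ⟨s, hs, hsd⟩ := Nat.exists_prime_and_dvd hne
    haveI := Fact.mk hs
    by_cases hsq : s = q
    · subst hsq
      refine Q.not_dvd_index (hsd.trans ?_)
      refine (relIndex_dvd_of_le_left Y (K := X) (H := (Q : Subgroup G)) fun w hw =>
        mem_centralizer_singleton_iff.2 (hab Q w hw v hv)).trans ?_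
      exact Dvd.intro _ (relIndex_mul_index hQ)
    · obtain ⟨W⟩ : Nonempty (Sylow s Y) := inferInstance
      refine W.not_dvd_index (hsd.trans (index_dvd_of_le fun w hw => ?_))
      obtain ⟨k, hk⟩ := W.isPGroup' ⟨w, hw⟩
      have hwk : (w : G) ^ s ^ k = 1 := by
        simpa using congrArg (fun z : (W : Subgroup Y) => ((z : Y) : G)) hk
      have hle := hcent h hh r n hn (w : G) (mem_centralizer_singleton_iff.1 w.2).symm
        (Nat.Coprime.coprime_dvd_right (orderOf_dvd_of_pow_eq_one hwk)
          (((Nat.coprime_primes hr hs).2 (hrq ▸ Ne.symm hsq)).pow_right k))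
      exact mem_centralizer_singleton_iff.2 (mem_centralizer_singleton_iff.1 (hle (hQ hv))).symm
  have hQR : ∀ Q : Sylow q G, ∃ v ∈ (Q : Subgroup G), v ∉ R := fun Q =>
    SetLike.not_le_iff_exists.1 fun hle : (Q : Subgroup G) ≤ R =>
      Q.not_dvd_index (hqR.trans (index_dvd_of_le hle))
  obtain ⟨Q₀⟩ : Nonempty (Sylow q G) := inferInstance
  obtain ⟨v₀, hv₀, hv₀R⟩ := hQR Q₀
  set W := centralizer ({v₀} : Set G) with hW
  have hcover : ∀ g ∈ (R : Set G)ᶜ, ∃ p : G, ∃ z ∈ (W : Set G) \ R, g = p * z * p⁻¹ := by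
    intro g hg
    obtain ⟨r, k, n, hr, hn, hkR⟩ := exists_primary_notMem R (show g ∉ R from hg)
    obtain ⟨Q, hQ⟩ := hsyl _ hkR
    obtain ⟨p, hp⟩ := MulAction.exists_smul_eq G Q₀ Q
    have hpv : p * v₀ * p⁻¹ ∈ (Q : Subgroup G) := by
      rw [← hp, Sylow.coe_subgroup_smul]
      exact ⟨v₀, hv₀, rfl⟩
    have hpR : p * v₀ * p⁻¹ ∉ R := fun h => hv₀R (by
      simpa [mul_assoc] using hRn.conj_mem _ h p⁻¹)
    have e := hkey _ hkR r n hr hn Q hQ _ hpv hpR
    rw [← conj_centralizer] at e
    obtain ⟨z, hz, hze⟩ : g ∈ W.map (MulAut.conj p).toMonoidHom := by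
      rw [hW, ← e]
      exact centralizer_le_pow g k (mem_centralizer_singleton_iff.2 rfl)
    have hze' : p * z * p⁻¹ = g := hze
    exact ⟨p, z, ⟨hz, fun hzR => hg (hze' ▸ hRn.conj_mem _ hzR p)⟩, hze'.symm⟩
  have hcount := ncard_le_index_mul W (Z := (W : Set G) \ R) (X := (R : Set G)ᶜ) (fun m hm z hz =>
    ⟨W.mul_mem (W.mul_mem hm hz.1) (W.inv_mem hm), fun h => hz.2 (by
      simpa [mul_assoc] using hRn.conj_mem _ h m⁻¹)⟩) hcover
  -- `W` covers `G / R`
  haveI hWn : Group.IsNilpotent W := by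
    obtain ⟨n, hn⟩ := hord Q₀ v₀ hv₀
    refine isNilpotent_of_coprime_central q fun y hy => ?_
    refine mem_center_of_relIndex y (relIndex_eq_one.2 ?_)
    exact hcent v₀ hv₀R q n hn _ (mem_centralizer_singleton_iff.1 y.2).symm
      (by rw [Subgroup.orderOf_coe]; exact hy.symm)
  have hle : R.index ≤ Nat.card (W.map (QuotientGroup.mk' R)) := by
    have e1 : ((W : Set G) \ R).ncard + (W ⊓ R : Subgroup G).carrier.ncard = Nat.card W := by
      rw [show Nat.card W = (W : Set G).ncard from Nat.card_coe_set_eq _]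
      show _ + ((W : Set G) ∩ R).ncard = _
      rw [add_comm]
      exact Set.ncard_inter_add_ncard_diff_eq_ncard _ _
    have e2 := Set.ncard_add_ncard_compl (R : Set G)
    rw [← Nat.card_coe_set_eq (R : Set G)] at e2
    change Nat.card R + _ = _ at e2
    have e3 : (W ⊓ R : Subgroup G).carrier.ncard = Nat.card ↥(W ⊓ R) :=
      (Nat.card_coe_set_eq _).symm
    have e4 : Nat.card (W.map (QuotientGroup.mk' R)) * Nat.card ↥(W ⊓ R) = Nat.card W := by
      rw [← relIndex_ker, QuotientGroup.ker_mk', ← inf_relIndex_right, inf_comm, mul_comm,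
        ← relIndex_bot_left (W ⊓ R), relIndex_mul_relIndex ⊥ (W ⊓ R) W bot_le inf_le_left,
        relIndex_bot_left]
    have e5 := R.card_mul_index
    have e6 := W.card_mul_index
    have h1 : W.index * Nat.card ↥(W ⊓ R) ≤ Nat.card R := by
      rw [e3] at e1
      have h2 : W.index * (((W : Set G) \ R).ncard) + W.index * Nat.card ↥(W ⊓ R) = Nat.card G := by
        rw [← mul_add, e1, mul_comm, e6]
      omega
    have h3 : Nat.card ↥(W ⊓ R) * (W.index * R.index) ≤ Nat.card G := by
      rw [← e5, ← mul_assoc, mul_comm _ W.index]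
      exact Nat.mul_le_mul_right _ h1
    rw [← e6, ← e4] at h3
    suffices h4 : Nat.card ↥(W ⊓ R) * W.index * R.index ≤
        Nat.card ↥(W ⊓ R) * W.index * Nat.card (W.map (QuotientGroup.mk' R)) from
      Nat.le_of_mul_le_mul_left h4 (Nat.mul_pos Nat.card_pos
        (Nat.pos_of_ne_zero index_ne_zero_of_finite))
    calc _ = Nat.card ↥(W ⊓ R) * (W.index * R.index) := mul_assoc _ _ _
      _ ≤ _ := h3
      _ = _ := by ring
  have htop : W.map (QuotientGroup.mk' R) = ⊤ := eq_top_of_le_card _ hle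
  refine hns (hfinish ?_)
  haveI : Group.IsSolvable W := inferInstance
  exact Group.isSolvable_of_surjective (f := (QuotientGroup.mk' R).comp W.subtype) fun y => by
    obtain ⟨s, hs, rfl⟩ := (htop ▸ mem_top y : y ∈ W.map (QuotientGroup.mk' R))
    exact ⟨⟨s, hs⟩, rfl⟩

/-- A perfect normal subgroup lies in every normal subgroup with solvable quotient. -/
theorem le_of_solvable_quotient (M N : Subgroup G) [N.Normal] (hM : ⁅M, M⁆ = M)
    [Group.IsSolvable (G ⧸ N)] : M ≤ N := by
  have h := eq_bot_of_perfect (M.map (QuotientGroup.mk' N)) (by rw [← map_commutator, hM])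
  intro x hx
  have : QuotientGroup.mk' N x ∈ M.map (QuotientGroup.mk' N) := ⟨x, hx, rfl⟩
  rw [h, mem_bot] at this
  exact (QuotientGroup.eq_one_iff x).1 this

theorem not_dvd_card_of_complement {p : ℕ} [Fact p.Prime] (M : Subgroup G) (hM : ⁅M, M⁆ = M)
    (h : Cfsg.HasNormalPComplement p G) : ¬ p ∣ Nat.card M := by
  obtain ⟨P, N, hN, hc⟩ := h
  haveI := hN
  obtain ⟨n, hn⟩ := P.isPGroup'.exists_card_eq
  have hidx : N.index = p ^ n := by rw [hc.symm.index_eq_card, hn]
  haveI : Group.IsSolvable (G ⧸ N) :=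
    haveI := (IsPGroup.of_card (p := p) (G := G ⧸ N) hidx).isNilpotent
    inferInstance
  intro hp
  refine P.not_dvd_index ((hp.trans (card_dvd_of_le (le_of_solvable_quotient M N hM))).trans ?_)
  rw [hc.index_eq_card]

/-- A proper inclusion of centralizers forces solvability. -/
theorem isSolvable_of_inclusion {a b c : ℕ} (S : Sizes G a b c) {w x₀ y₀ : G} (hx1 : x₀ ≠ 1)
    (hy1 : y₀ ≠ 1) (hw : cs w = c) (hx₀ : cs x₀ = a) (hy₀ : cs y₀ = b)
    (hle : centralizer ({w} : Set G) ≤ centralizer ({x₀} : Set G)) : Group.IsSolvable G := by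
  obtain ⟨p, x, hp, hxo, hx, hxs, hxC⟩ := S.exists_prime_rep hx1 (Or.inl hx₀)
  rw [hx₀] at hxs
  have hwx : centralizer ({w} : Set G) ≤ centralizer ({x} : Set G) := hxC.symm ▸ hle
  obtain ⟨σ, k, hσ, hk, hck⟩ := S.exists_prime_pow hp hxo (Or.inl hxs)
    (hwx (mem_centralizer_singleton_iff.2 rfl)) (u := w)
    ((relIndex_mul_index hwx).trans hw) (hxs ▸ S.nac)
  rw [hxs] at hck
  obtain ⟨r, y, hr, hyo, hy, hys, -⟩ := S.exists_prime_rep hy1 (Or.inr hy₀)
  rw [hy₀] at hys
  haveI := Fact.mk hr
  by_contra hns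
  have hnil : ¬ (b ∣ c ∧ ∃ v : centralizer ({y} : Set G), (orderOf v).Coprime r ∧
      (centralizer ({(v : G)} : Set G)).relIndex (centralizer ({y} : Set G)) ≠ 1) →
      Group.IsNilpotent (centralizer ({y} : Set G)) := fun h =>
    isNilpotent_of_coprime_central r fun v hv => mem_center_of_relIndex v (by
      by_contra hne
      rcases S.relIndex_class hy (Or.inr hys) (mem_centralizer_singleton_iff.1 v.2).symm
          (by rw [hyo, Subgroup.orderOf_coe]; exact hv.symm) with e | ⟨hd, -⟩
      · exact hne e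
      · exact h ⟨hys ▸ hd, v, hv, hne⟩)
  by_cases hbc : b ∣ c
  · have hbσ : b ∣ σ ^ k := (Nat.Coprime.dvd_mul_left S.cop.symm).1 (hck ▸ hbc)
    obtain ⟨i, -, hi⟩ := (Nat.dvd_prime_pow hσ).1 hbσ
    by_cases hv : ∃ v : centralizer ({y} : Set G), (orderOf v).Coprime r ∧
        (centralizer ({(v : G)} : Set G)).relIndex (centralizer ({y} : Set G)) ≠ 1
    swap
    · exact hns (isSolvable_of_nilpotent_index _ (hnil fun h => hv h.2) hσ
        (dvd_of_eq (hys.trans hi)))
    obtain ⟨v, hvo, hv1⟩ := hv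
    obtain ⟨-, hwit⟩ := (S.relIndex_class hy (Or.inr hys) (mem_centralizer_singleton_iff.1 v.2).symm
      (by rw [hyo, Subgroup.orderOf_coe]; exact hvo.symm)).resolve_left hv1
    obtain ⟨τ, l, hτ, hl, hcl⟩ := S.exists_prime_pow hr hyo (Or.inr hys) v.2 hwit
      (fun e => S.ncb (hys.symm.trans e ▸ dvd_rfl))
    rw [hys] at hcl
    have haτ : a ∣ τ ^ l := (Nat.Coprime.dvd_mul_left S.cop).1 (hcl ▸ S.hac)
    obtain ⟨j, -, hj⟩ := (Nat.dvd_prime_pow hτ).1 haτ
    have hi0 : i ≠ 0 := fun e => by have := S.b1; rw [hi, e, pow_zero] at this; omega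
    have hj0 : j ≠ 0 := fun e => by have := S.a1; rw [hj, e, pow_zero] at this; omega
    have hcop' : Nat.Coprime σ τ := by
      refine (Nat.coprime_primes hσ hτ).2 fun e => ?_
      have h := S.cop
      rw [hi, hj, e, Nat.coprime_pow_left_iff (Nat.pos_of_ne_zero hj0),
        Nat.coprime_pow_right_iff (Nat.pos_of_ne_zero hi0), Nat.coprime_self] at h
      exact hτ.ne_one h
    have he : σ ^ k ∣ b := by
      refine (Nat.Coprime.dvd_mul_right (hcop'.pow k l)).1 ?_
      rw [← hcl, hck]
      exact dvd_mul_left _ _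
    exact hns (isSolvable_of_prime_powers S hσ hτ hi hj
      (by rw [hck, Nat.dvd_antisymm he hbσ]))
  -- `b` does not divide `c`
  haveI hyn := hnil fun h => hbc h.1
  obtain ⟨n, hn⟩ : ∃ n, derivedSeries G (n + 1) = derivedSeries G n := by
    obtain ⟨m, m', hne, h⟩ := Finite.exists_ne_map_eq_of_infinite (derivedSeries G)
    wlog hlt : m < m' generalizing m m'
    · exact this m' m hne.symm h.symm (lt_of_le_of_ne (not_lt.1 hlt) hne.symm)
    exact ⟨m, le_antisymm (derivedSeries_antitone G (Nat.le_succ m))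
      (h.le.trans (derivedSeries_antitone G hlt))⟩
  set M := derivedSeries G n
  have hM : ⁅M, M⁆ = M := (derivedSeries_succ G n).symm.trans hn
  haveI : M.Normal := derivedSeries_normal G n
  have hMns : ¬ Group.IsSolvable M := fun _ => by
    refine hns ((Group.isSolvable_def G).2 ⟨n, ?_⟩)
    have h := eq_bot_of_perfect (⊤ : Subgroup M) ((map_injective M.subtype_injective) (by
      rw [map_commutator, ← MonoidHom.range_eq_map, range_subtype, hM]))
    show M = ⊥
    rw [← range_subtype M, MonoidHom.range_eq_map, h, Subgroup.map_bot]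
  by_cases hI : ∀ s : ℕ, s.Prime → s ∣ a → Cfsg.HasNormalPComplement s G
  · have h1 : (centralizer ({x} : Set G)).relIndex M = 1 := by
      refine Nat.eq_one_of_dvd_coprimes (Nat.coprime_of_dvd fun s hs hsa hsM => ?_)
        ((CfsgLib.InvChar.relIndex_dvd_index_of_normal' _ M).trans (dvd_of_eq hxs))
        (index_dvd_card (H := (centralizer ({x} : Set G)).subgroupOf M))
      haveI := Fact.mk hs
      exact not_dvd_card_of_complement M hM (hI s hs hsa) hsM
    haveI := S.isSolvable_centralizer hp hxo (Or.inl hxs)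
    exact hMns (Group.isSolvable_of_isSolvable_injective (f := inclusion (relIndex_eq_one.1 h1))
      (inclusion_injective _))
  push Not at hI
  obtain ⟨s, hs, hsa, hsn⟩ := hI
  haveI := Fact.mk hs
  have hII : ∀ q : ℕ, q.Prime → q ∣ b → q ≠ σ → ¬ q ∣ Nat.card M := by
    intro q hq hqb hqσ
    haveI := Fact.mk hq
    have hqa : ¬ q ∣ a := fun h => hq.not_dvd_one (S.cop ▸ Nat.dvd_gcd h hqb)
    have hsb : ¬ s ∣ b := fun h => hs.not_dvd_one (S.cop ▸ Nat.dvd_gcd hsa h)
    refine not_dvd_card_of_complement M hM ((Cfsg.Agent.S4160.result s q hs hq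
      (fun e => hqa (e ▸ hsa)) ⟨x, hsa.trans (dvd_of_eq hxs.symm)⟩ ⟨y, hqb.trans (dvd_of_eq hys.symm)⟩ fun g hd => ?_).resolve_left hsn)
    change s * q ∣ cs g at hd
    by_cases hg : g = 1
    · have h1 : cs g = 1 := by
        rw [hg, cs, index_eq_one, eq_top_iff]
        exact fun z _ => mem_centralizer_singleton_iff.2 (by rw [mul_one, one_mul])
      exact hs.not_dvd_one (h1 ▸ (dvd_mul_right s q).trans hd)
    rcases S.val g hg with e | e | e <;> rw [e] at hd
    · exact hqa ((dvd_mul_left q s).trans hd)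
    · exact hsb ((dvd_mul_right s q).trans hd)
    · rcases hq.dvd_mul.1 (hck ▸ (dvd_mul_left q s).trans hd) with h | h
      · exact hqa h
      · exact hqσ ((Nat.prime_dvd_prime_iff_eq hq hσ).1 (hq.dvd_of_dvd_pow h))
  set H := (centralizer ({y} : Set G)).subgroupOf M with hHd
  have hb' : H.index ∣ b := (CfsgLib.InvChar.relIndex_dvd_index_of_normal' _ M).trans (dvd_of_eq hys)
  have hHn : Group.IsNilpotent H :=
    Subgroup.isNilpotent_of_ker_le_center
      (M.subtype.subgroupComap (centralizer ({y} : Set G)))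
      (by
        intro z hz
        have : z = 1 := Subtype.ext (M.subtype_injective (congrArg Subtype.val hz))
        rw [this]; exact one_mem _)
  refine hMns (isSolvable_of_nilpotent_index H hHn hσ (dvd_of_eq
    (Nat.eq_prime_pow_of_unique_prime_dvd index_ne_zero_of_finite fun {d} hd hd' => ?_)))
  by_contra hdσ
  exact hII d hd (hd'.trans hb') hdσ (hd'.trans (index_dvd_card _))

end CfsgLib.InvChar.CaminaChain
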