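import Mathlib

/-!
Direct decompositions of groups `R` with a sign character `ε`: commuting generating pairs of
subgroups, groups that are indecomposable as central products, and the even part of a product.
-/

set_option autoImplicit false

namespace CfsgLib.SylowDecomp

open Subgroup
open scoped commutatorElement

variable {R : Type*} [Group R]

/-- Elements of `U` commute with elements of `V`. -/
def Commuting (U V : Subgroup R) : Prop := ∀ u ∈ U, ∀ v ∈ V, u * v = v * u

theorem Commuting.symm {U V : Subgroup R} (h : Commuting U V) : Commuting V U :=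
  fun v hv u hu => (h u hu v hv).symm

theorem Commuting.map {S : Type*} [Group S] {U V : Subgroup R} (h : Commuting U V) (f : R →* S) :
    Commuting (U.map f) (V.map f) := by
  rintro _ ⟨u, hu, rfl⟩ _ ⟨v, hv, rfl⟩
  rw [← map_mul, ← map_mul, h u hu v hv]

/-- Nontrivial internal direct decomposition. -/
def Decomposable (R : Type*) [Group R] : Prop :=
  ∃ S₁ S₂ : Subgroup R, S₁ ≠ ⊥ ∧ S₂ ≠ ⊥ ∧ Commuting S₁ S₂ ∧ S₁ ⊓ S₂ = ⊥ ∧ S₁ ⊔ S₂ = ⊤

theorem Decomposable.of_equiv {S : Type*} [Group S] (e : R ≃* S) (h : Decomposable R) :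
    Decomposable S := by
  obtain ⟨S₁, S₂, h1, h2, hc, hi, hs⟩ := h
  refine ⟨S₁.map e.toMonoidHom, S₂.map e.toMonoidHom, ?_, ?_, hc.map _, ?_, ?_⟩
  · rwa [Ne, map_eq_bot_iff_of_injective _ e.injective]
  · rwa [Ne, map_eq_bot_iff_of_injective _ e.injective]
  · rw [← map_inf _ _ _ e.injective, hi, Subgroup.map_bot]
  · rw [← Subgroup.map_sup, hs, map_top_of_surjective _ e.surjective]

theorem decomposable_congr {S : Type*} [Group S] (e : R ≃* S) : Decomposable R ↔ Decomposable S :=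
  ⟨Decomposable.of_equiv e, Decomposable.of_equiv e.symm⟩

theorem decomposable_subgroup (P : Subgroup R) : Decomposable P ↔ ∃ S₁ S₂ : Subgroup R,
    S₁ ≠ ⊥ ∧ S₂ ≠ ⊥ ∧ S₁ ≤ P ∧ S₂ ≤ P ∧ Commuting S₁ S₂ ∧ S₁ ⊓ S₂ = ⊥ ∧ S₁ ⊔ S₂ = P := by
  constructor
  · rintro ⟨S₁, S₂, h1, h2, hc, hi, hs⟩
    refine ⟨S₁.map P.subtype, S₂.map P.subtype, ?_, ?_, map_subtype_le _, map_subtype_le _,
      hc.map _, ?_, ?_⟩
    · rwa [Ne, map_eq_bot_iff_of_injective _ P.subtype_injective]
    · rwa [Ne, map_eq_bot_iff_of_injective _ P.subtype_injective]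
    · rw [← map_inf _ _ _ P.subtype_injective, hi, Subgroup.map_bot]
    · rw [← Subgroup.map_sup, hs, ← MonoidHom.range_eq_map, Subgroup.range_subtype]
  · rintro ⟨S₁, S₂, h1, h2, l1, l2, hc, hi, hs⟩
    refine ⟨S₁.subgroupOf P, S₂.subgroupOf P, ?_, ?_, ?_, ?_, ?_⟩
    · rw [Ne, ← map_eq_bot_iff_of_injective _ P.subtype_injective, map_subgroupOf_eq_of_le l1]
      exact h1
    · rw [Ne, ← map_eq_bot_iff_of_injective _ P.subtype_injective, map_subgroupOf_eq_of_le l2]
      exact h2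
    · exact fun u hu v hv => Subtype.ext (hc _ (mem_subgroupOf.1 hu) _ (mem_subgroupOf.1 hv))
    · apply map_injective P.subtype_injective
      rw [map_inf _ _ _ P.subtype_injective, map_subgroupOf_eq_of_le l1,
        map_subgroupOf_eq_of_le l2, hi, Subgroup.map_bot]
    · apply map_injective P.subtype_injective
      rw [Subgroup.map_sup, map_subgroupOf_eq_of_le l1, map_subgroupOf_eq_of_le l2, hs,
        ← MonoidHom.range_eq_map, Subgroup.range_subtype]

/-- Indecomposable as a central product. -/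
def CPI (R : Type*) [Group R] : Prop :=
  ∀ U V : Subgroup R, Commuting U V → U ⊔ V = ⊤ → U ≤ center R ∨ V ≤ center R

/-- The properties of `(R, ε)` inherited by products with a central-product indecomposable factor. -/
structure Nice (ε : R →* ℤˣ) : Prop where
  odd : ∃ r, ε r ≠ 1
  center_le : center R ≤ _root_.commutator R
  even_factor : ∀ U V : Subgroup R, Commuting U V → U ⊔ V = ⊤ → U ≤ ε.ker → U ≤ center R

theorem mem_center_of_commute {U V : Subgroup R} (hs : U ⊔ V = ⊤) {z : R}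
    (hU : ∀ u ∈ U, u * z = z * u) (hV : ∀ v ∈ V, v * z = z * v) : z ∈ center R := by
  rw [mem_center_iff]
  intro g
  have hle : U ⊔ V ≤ centralizer {z} := sup_le
    (fun u hu => mem_centralizer_singleton_iff.2 (hU u hu))
    (fun v hv => mem_centralizer_singleton_iff.2 (hV v hv))
  exact mem_centralizer_singleton_iff.1 (hle (hs ▸ mem_top g))

theorem normal_of_commuting {U V : Subgroup R} (hc : Commuting U V) (hs : U ⊔ V = ⊤) : U.Normal := by
  rw [← normalizer_eq_top_iff, eq_top_iff, ← hs]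
  refine sup_le le_normalizer fun v hv => mem_normalizer_iff.2 fun u => ?_
  constructor
  · intro hu
    rwa [← hc u hu v hv, mul_inv_cancel_right]
  · intro hu
    have := hc _ hu v hv
    rw [inv_mul_cancel_right] at this
    exact (mul_left_cancel this) ▸ hu

theorem exists_eq_mul {U V : Subgroup R} (hc : Commuting U V) (hs : U ⊔ V = ⊤) (g : R) :
    ∃ u ∈ U, ∃ v ∈ V, g = u * v := by
  haveI := normal_of_commuting hc hs
  obtain ⟨u, hu, v, hv, h⟩ := mem_sup_of_normal_left.1 (hs ▸ mem_top g : g ∈ U ⊔ V)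
  exact ⟨u, hu, v, hv, h.symm⟩

theorem commutatorElement_of_central {u u' : R} (hu : u ∈ center R) (hu' : u' ∈ center R) (v v' : R) :
    ⁅u * v, u' * v'⁆ = ⁅v, v'⁆ := by
  have hu0 := mem_center_iff.1 hu
  have hu1 := mem_center_iff.1 hu'
  simp only [commutatorElement_def, mul_inv_rev]
  calc u * v * (u' * v') * (v⁻¹ * u⁻¹) * (v'⁻¹ * u'⁻¹)
      = u * (v * u') * v' * v⁻¹ * u⁻¹ * v'⁻¹ * u'⁻¹ := by group
    _ = u * (u' * v) * v' * v⁻¹ * u⁻¹ * v'⁻¹ * u'⁻¹ := by rw [hu1 v]
    _ = u * (u' * v * v' * v⁻¹) * u⁻¹ * v'⁻¹ * u'⁻¹ := by group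
    _ = u' * v * v' * v⁻¹ * u * u⁻¹ * v'⁻¹ * u'⁻¹ := by rw [← hu0 (u' * v * v' * v⁻¹)]
    _ = u' * (v * v' * v⁻¹ * v'⁻¹) * u'⁻¹ := by group
    _ = v * v' * v⁻¹ * v'⁻¹ := by rw [← hu1 (v * v' * v⁻¹ * v'⁻¹), mul_inv_cancel_right]

theorem commutator_le_of_central {U V : Subgroup R} (hc : Commuting U V) (hs : U ⊔ V = ⊤)
    (hU : U ≤ center R) : _root_.commutator R ≤ V := by
  rw [_root_.commutator_def, commutator_le]
  intro a _ b _
  obtain ⟨u, hu, v, hv, rfl⟩ := exists_eq_mul hc hs a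
  obtain ⟨u', hu', v', hv', rfl⟩ := exists_eq_mul hc hs b
  rw [commutatorElement_of_central (hU hu) (hU hu')]
  exact commutatorElement_def v v' ▸
    mul_mem (mul_mem (mul_mem hv hv') (inv_mem hv)) (inv_mem hv')

/-- A central-product indecomposable group with centre in the commutator is indecomposable. -/
theorem not_decomposable_of_cpi (h : CPI R) (hz : center R ≤ _root_.commutator R) :
    ¬ Decomposable R := by
  have key : ∀ S₁ S₂ : Subgroup R, Commuting S₁ S₂ → S₁ ⊓ S₂ = ⊥ → S₁ ⊔ S₂ = ⊤ →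
      S₁ ≤ center R → S₁ = ⊥ := by
    intro S₁ S₂ hc hi hs h1
    rw [← hi, left_eq_inf]
    exact h1.trans (hz.trans (commutator_le_of_central hc hs h1))
  rintro ⟨S₁, S₂, h1, h2, hc, hi, hs⟩
  rcases h S₁ S₂ hc hs with hz1 | hz2
  · exact h1 (key S₁ S₂ hc hi hs hz1)
  · exact h2 (key S₂ S₁ hc.symm (inf_comm S₁ S₂ ▸ hi) (sup_comm S₁ S₂ ▸ hs) hz2)

theorem apply_eq_one_of_mem_commutator (ε : R →* ℤˣ) {z : R} (h : z ∈ _root_.commutator R) :
    ε z = 1 :=
  Abelianization.commutator_subset_ker ε h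

theorem nice_of_cpi {ε : R →* ℤˣ} (hodd : ∃ r, ε r ≠ 1) (h : CPI R)
    (hz : center R ≤ _root_.commutator R) : Nice ε := by
  refine ⟨hodd, hz, fun U V hc hs hU => (h U V hc hs).resolve_right fun hV => ?_⟩
  obtain ⟨r, hr⟩ := hodd
  have hle : U ⊔ V ≤ ε.ker := sup_le hU fun v hv => apply_eq_one_of_mem_commutator ε (hz (hV hv))
  exact hr (hle (hs ▸ mem_top r))

section Product

variable {W : Type*} [Group W]

/-- The product character. -/
def prodSign (εW : W →* ℤˣ) (εR : R →* ℤˣ) : W × R →* ℤˣ :=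
  εW.comp (MonoidHom.fst W R) * εR.comp (MonoidHom.snd W R)

theorem prodSign_apply (εW : W →* ℤˣ) (εR : R →* ℤˣ) (x : W × R) :
    prodSign εW εR x = εW x.1 * εR x.2 := rfl

theorem center_prod_le (hW : center W ≤ _root_.commutator W) (hR : center R ≤ _root_.commutator R) :
    center (W × R) ≤ _root_.commutator (W × R) := by
  intro x hx
  rw [mem_center_iff] at hx
  have h1 : x.1 ∈ center W := mem_center_iff.2 fun g => congrArg Prod.fst (hx (g, 1))
  have h2 : x.2 ∈ center R := mem_center_iff.2 fun g => congrArg Prod.snd (hx (1, g))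
  have e1 : (x.1, (1 : R)) ∈ _root_.commutator (W × R) := by
    have := mem_map_of_mem (MonoidHom.inl W R) (hW h1)
    rw [_root_.commutator_def, map_commutator] at this
    rw [_root_.commutator_def]
    exact commutator_mono le_top le_top this
  have e2 : ((1 : W), x.2) ∈ _root_.commutator (W × R) := by
    have := mem_map_of_mem (MonoidHom.inr W R) (hR h2)
    rw [_root_.commutator_def, map_commutator] at this
    rw [_root_.commutator_def]
    exact commutator_mono le_top le_top this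
  simpa using mul_mem e1 e2

theorem mem_center_prod {x : W × R} (h1 : x.1 ∈ center W) (h2 : x.2 ∈ center R) :
    x ∈ center (W × R) :=
  mem_center_iff.2 fun g => Prod.ext (mem_center_iff.1 h1 g.1) (mem_center_iff.1 h2 g.2)

variable {εW : W →* ℤˣ} {εR : R →* ℤˣ}

theorem Nice.prod (hodd : ∃ w, εW w ≠ 1) (hW : CPI W) (hzW : center W ≤ _root_.commutator W)
    (hR : Nice εR) : Nice (prodSign εW εR) := by
  refine ⟨?_, center_prod_le hzW hR.center_le, fun U V hc hs hU => ?_⟩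
  · obtain ⟨w, hw⟩ := hodd
    exact ⟨(w, 1), by rwa [prodSign_apply, map_one, mul_one]⟩
  have hs1 : U.map (MonoidHom.fst W R) ⊔ V.map (MonoidHom.fst W R) = ⊤ := by
    rw [← Subgroup.map_sup, hs, map_top_of_surjective _ Prod.fst_surjective]
  have hs2 : U.map (MonoidHom.snd W R) ⊔ V.map (MonoidHom.snd W R) = ⊤ := by
    rw [← Subgroup.map_sup, hs, map_top_of_surjective _ Prod.snd_surjective]
  rcases hW _ _ (hc.map _) hs1 with hc1 | hc1
  · have h2 : U.map (MonoidHom.snd W R) ≤ εR.ker := by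
      rintro _ ⟨u, hu, rfl⟩
      have h : εW u.1 * εR u.2 = 1 := hU hu
      have hw1 : εW u.1 = 1 := apply_eq_one_of_mem_commutator εW (hzW (hc1 (mem_map_of_mem _ hu)))
      rwa [hw1, one_mul] at h
    intro u hu
    exact mem_center_prod (hc1 (mem_map_of_mem _ hu))
      (hR.even_factor _ _ (hc.map _) hs2 h2 (mem_map_of_mem _ hu))
  · exfalso
    obtain ⟨w, hw⟩ := hodd
    obtain ⟨u, hu, v, hv, huv⟩ := exists_eq_mul hc hs ((w, 1) : W × R)
    have h1 : w = u.1 * v.1 := congrArg Prod.fst huv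
    have h2 : (1 : R) = u.2 * v.2 := congrArg Prod.snd huv
    have hv1 : εW v.1 = 1 := apply_eq_one_of_mem_commutator εW (hzW (hc1 (mem_map_of_mem _ hv)))
    have hcen : u.2 ∈ center R := by
      refine mem_center_of_commute hs2 (fun a ha => ?_) fun b hb => ?_
      · have hinv : u.2 = (v.2)⁻¹ := eq_inv_of_mul_eq_one_left h2.symm
        exact (hc.map _) a ha u.2 (hinv ▸ inv_mem (mem_map_of_mem _ hv))
      · exact ((hc.map _) u.2 (mem_map_of_mem _ hu) b hb).symm
    have h : εW u.1 * εR u.2 = 1 := hU hu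
    rw [apply_eq_one_of_mem_commutator εR (hR.center_le hcen), mul_one] at h
    exact hw (by rw [h1, map_mul, h, hv1, one_mul])

private theorem fst_commutator_mem (hR : ∃ r, εR r ≠ 1) (a a' : W) :
    (⁅a, a'⁆, (1 : R)) ∈ ⁅(prodSign εW εR).ker, (prodSign εW εR).ker⁆ := by
  obtain ⟨c, hc⟩ := hR
  have lift : ∀ a : W, ∃ k : ℕ, (a, c ^ k) ∈ (prodSign εW εR).ker := by
    intro a
    rcases Int.units_eq_one_or (εW a) with h | h
    · exact ⟨0, by simp [prodSign_apply, h]⟩
    · exact ⟨1, by simp [prodSign_apply, h, (Int.units_eq_one_or (εR c)).resolve_left hc]⟩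
  obtain ⟨k, hk⟩ := lift a
  obtain ⟨l, hl⟩ := lift a'
  have := commutator_mem_commutator hk hl
  have e : ⁅((a, c ^ k) : W × R), (a', c ^ l)⁆ = (⁅a, a'⁆, (1 : R)) := by
    refine Prod.ext rfl ?_
    show ⁅c ^ k, c ^ l⁆ = 1
    exact commutatorElement_eq_one_iff_commute.2 (Commute.pow_pow_self c k l)
  rwa [e] at this

private theorem snd_commutator_mem (hW : ∃ w, εW w ≠ 1) (b b' : R) :
    ((1 : W), ⁅b, b'⁆) ∈ ⁅(prodSign εW εR).ker, (prodSign εW εR).ker⁆ := by
  obtain ⟨c, hc⟩ := hW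
  have lift : ∀ b : R, ∃ k : ℕ, (c ^ k, b) ∈ (prodSign εW εR).ker := by
    intro b
    rcases Int.units_eq_one_or (εR b) with h | h
    · exact ⟨0, by simp [prodSign_apply, h]⟩
    · exact ⟨1, by simp [prodSign_apply, h, (Int.units_eq_one_or (εW c)).resolve_left hc]⟩
  obtain ⟨k, hk⟩ := lift b
  obtain ⟨l, hl⟩ := lift b'
  have := commutator_mem_commutator hk hl
  have e : ⁅((c ^ k, b) : W × R), (c ^ l, b')⁆ = ((1 : W), ⁅b, b'⁆) := by
    refine Prod.ext ?_ rfl
    show ⁅c ^ k, c ^ l⁆ = 1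
    exact commutatorElement_eq_one_iff_commute.2 (Commute.pow_pow_self c k l)
  rwa [e] at this

theorem commutator_le_commutator_ker (hW : ∃ w, εW w ≠ 1) (hR : ∃ r, εR r ≠ 1) :
    _root_.commutator (W × R) ≤ ⁅(prodSign εW εR).ker, (prodSign εW εR).ker⁆ := by
  rw [_root_.commutator_def, commutator_le]
  intro x _ y _
  have e : ⁅x, y⁆ = (⁅x.1, y.1⁆, (1 : R)) * ((1 : W), ⁅x.2, y.2⁆) := by
    refine Prod.ext ?_ ?_
    · show ⁅x.1, y.1⁆ = ⁅x.1, y.1⁆ * 1
      rw [mul_one]
    · show ⁅x.2, y.2⁆ = 1 * ⁅x.2, y.2⁆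
      rw [one_mul]
  rw [e]
  exact mul_mem (fst_commutator_mem hR _ _) (snd_commutator_mem hW _ _)

/-- The even part of a product is indecomposable. -/
theorem not_decomposable_ker (hodd : ∃ w, εW w ≠ 1) (hW : CPI W)
    (hzW : center W ≤ _root_.commutator W) (hR : Nice εR) :
    ¬ Decomposable (prodSign εW εR).ker := by
  rw [decomposable_subgroup]
  set K := (prodSign εW εR).ker with hK
  have hsurj1 : K.map (MonoidHom.fst W R) = ⊤ := by
    refine eq_top_iff.2 fun w _ => ?_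
    obtain ⟨c, hc⟩ := hR.odd
    rcases Int.units_eq_one_or (εW w) with h | h
    · exact ⟨(w, 1), by simp [hK, prodSign_apply, h], rfl⟩
    · exact ⟨(w, c), by simp [hK, prodSign_apply, h, (Int.units_eq_one_or (εR c)).resolve_left hc], rfl⟩
  have hsurj2 : K.map (MonoidHom.snd W R) = ⊤ := by
    refine eq_top_iff.2 fun r _ => ?_
    obtain ⟨c, hc⟩ := hodd
    rcases Int.units_eq_one_or (εR r) with h | h
    · exact ⟨(1, r), by simp [hK, prodSign_apply, h], rfl⟩
    · exact ⟨(c, r), by simp [hK, prodSign_apply, h, (Int.units_eq_one_or (εW c)).resolve_left hc], rfl⟩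
  have key : ∀ S₁ S₂ : Subgroup (W × R), S₁ ≤ K → Commuting S₁ S₂ → S₁ ⊓ S₂ = ⊥ → S₁ ⊔ S₂ = K →
      S₁.map (MonoidHom.fst W R) ≤ center W → S₁ = ⊥ := by
    intro S₁ S₂ h1 hc hi hs hcen
    have hs2 : S₁.map (MonoidHom.snd W R) ⊔ S₂.map (MonoidHom.snd W R) = ⊤ := by
      rw [← Subgroup.map_sup, hs, hsurj2]
    have heven : S₁.map (MonoidHom.snd W R) ≤ εR.ker := by
      rintro _ ⟨u, hu, rfl⟩
      have h : εW u.1 * εR u.2 = 1 := h1 hu
      have hw1 : εW u.1 = 1 := apply_eq_one_of_mem_commutator εW (hzW (hcen (mem_map_of_mem _ hu)))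
      rwa [hw1, one_mul] at h
    have hS1 : S₁ ≤ center (W × R) := fun u hu => mem_center_prod (hcen (mem_map_of_mem _ hu))
      (hR.even_factor _ _ (hc.map _) hs2 heven (mem_map_of_mem _ hu))
    have hKS : ⁅K, K⁆ ≤ S₂ := by
      rw [commutator_le]
      intro a ha b hb
      have hnorm : S₁ ≤ normalizer (S₂ : Set (W × R)) := fun u hu => mem_normalizer_iff.2 fun y => by
        rw [← mem_center_iff.1 (hS1 hu) y, mul_inv_cancel_right]
      rw [← hs, ← SetLike.mem_coe, coe_mul_of_left_le_normalizer_right S₁ S₂ hnorm] at ha hb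
      obtain ⟨u, hu, v, hv, rfl⟩ := ha
      obtain ⟨u', hu', v', hv', rfl⟩ := hb
      rw [commutatorElement_of_central (hS1 hu) (hS1 hu')]
      exact commutatorElement_def v v' ▸
        mul_mem (mul_mem (mul_mem hv hv') (inv_mem hv)) (inv_mem hv')
    rw [← hi, left_eq_inf]
    exact hS1.trans ((center_prod_le hzW hR.center_le).trans
      ((commutator_le_commutator_ker hodd hR.odd).trans hKS))
  rintro ⟨S₁, S₂, h1, h2, l1, l2, hc, hi, hs⟩
  have hs1 : S₁.map (MonoidHom.fst W R) ⊔ S₂.map (MonoidHom.fst W R) = ⊤ := by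
    rw [← Subgroup.map_sup, hs, hsurj1]
  rcases hW _ _ (hc.map _) hs1 with hz1 | hz2
  · exact h1 (key S₁ S₂ l1 hc hi hs hz1)
  · exact h2 (key S₂ S₁ l2 hc.symm (inf_comm S₁ S₂ ▸ hi) (sup_comm S₁ S₂ ▸ hs) hz2)

theorem decomposable_prod (hW : Nontrivial W) (hR : Nontrivial R) : Decomposable (W × R) := by
  refine ⟨(MonoidHom.inl W R).range, (MonoidHom.inr W R).range, ?_, ?_, ?_, ?_, ?_⟩
  · rw [Ne, MonoidHom.range_eq_bot_iff]
    intro h
    obtain ⟨w, hw⟩ := exists_ne (1 : W)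
    exact hw (congrArg Prod.fst (DFunLike.congr_fun h w))
  · rw [Ne, MonoidHom.range_eq_bot_iff]
    intro h
    obtain ⟨r, hr⟩ := exists_ne (1 : R)
    exact hr (congrArg Prod.snd (DFunLike.congr_fun h r))
  · rintro _ ⟨w, rfl⟩ _ ⟨r, rfl⟩
    simp
  · refine eq_bot_iff.2 ?_
    rintro _ ⟨⟨w, rfl⟩, ⟨r, hr⟩⟩
    rw [mem_bot]
    have := congrArg Prod.fst hr
    simp at this
    simp [← this]
  · refine eq_top_iff.2 fun x _ => ?_
    have : x = (x.1, 1) * (1, x.2) := by simp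
    rw [this]
    exact mul_mem (mem_sup_left ⟨x.1, rfl⟩) (mem_sup_right ⟨x.2, rfl⟩)

end Product

end CfsgLib.SylowDecomp
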