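import Cfsg.Agent.Lib.InvChar.EightLocal
import Cfsg.Agent.Lib.Blocks.SectionNorm
import Cfsg.Agent.Lib.Blocks.OverPrimeCore
import Cfsg.Agent.Lib.Blocks.ClassCount
import Cfsg.Agent.Lib.Characters.NormalAvg
import Cfsg.Agent.Lib.Characters.Galois
import Cfsg.Agent.Lib.Characters.Values
import Cfsg.Agent.Lib.BlockCover.Regular

/-!
No simple group with elementary abelian Sylow 2-subgroups of order 8 has an involution with
solvable centralizer in which the Sylow normalizer acts non-trivially: the three columns of the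
principal 2-block at the involution, together with the count of pairs of involutions, force a
second linear character.
-/

set_option autoImplicit false

noncomputable section

namespace CfsgLib.InvChar.EightColumns

open Cfsg CfsgLib.Characters
open scoped ComplexConjugate

universe u

/-- The contradiction from the integral columns. -/
theorem arith {ι : Type*} [Fintype ι] (p : ι) (δ : ι → ℕ) (a b c : ι → ℤ)
    (hp : a p = 1 ∧ b p = 0 ∧ c p = 0 ∧ δ p = 1) (hδ : ∀ i, 0 < δ i)
    (na : ∑ i, a i * a i = 4) (nb : ∑ i, b i * b i = 4) (nc : ∑ i, c i * c i = 4)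
    (ab : ∑ i, a i * b i = 2) (ac : ∑ i, a i * c i = 2) (bc : ∑ i, b i * c i = 2)
    (eb : ∑ i, (δ i : ℤ) * b i = 0) (ec : ∑ i, (δ i : ℤ) * c i = 0)
    (hF : ∑ i, ((a i + b i + c i : ℤ) : ℚ) ^ 2 * ((a i - b i : ℤ) : ℚ) / (δ i : ℚ) = 0)
    (hs : ∀ i, i ≠ p → a i + b i + c i ≠ 0 →
      (8 : ℤ) ∣ (δ i : ℤ) + 7 * (a i + b i + c i) ∧
        0 ≤ (δ i : ℤ) + 7 * (a i + b i + c i) ∧ a i + b i + c i ≠ (δ i : ℤ)) : False := by
  classical
  obtain ⟨hpa, hpb, hpc, hpδ⟩ := hp
  have hsmall : ∀ (f : ι → ℤ), ∑ i, f i * f i = 4 → ∑ i, (δ i : ℤ) * f i = 0 →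
      ∀ i, f i ≤ 1 ∧ -1 ≤ f i := by
    intro f hn he i
    by_contra hcon
    have h4 : 4 ≤ f i * f i := by
      rcases not_and_or.1 hcon with h | h <;> nlinarith
    have hsplit := Finset.add_sum_erase Finset.univ (fun j => f j * f j) (Finset.mem_univ i)
    have hzero : ∀ j ∈ Finset.univ.erase i, f j * f j = 0 := by
      refine (Finset.sum_eq_zero_iff_of_nonneg fun j _ => mul_self_nonneg (f j)).1 ?_
      have h0 : 0 ≤ ∑ j ∈ Finset.univ.erase i, f j * f j :=
        Finset.sum_nonneg fun j _ => mul_self_nonneg (f j)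
      omega
    rw [Finset.sum_eq_single i (fun j _ hj => by
      rw [mul_self_eq_zero.1 (hzero j (Finset.mem_erase.2 ⟨hj, Finset.mem_univ j⟩)), mul_zero])
      (fun h => absurd (Finset.mem_univ i) h)] at he
    rcases mul_eq_zero.1 he with h | h
    · exact absurd (by exact_mod_cast h) (hδ i).ne'
    · rw [h] at h4; norm_num at h4
  have hb := hsmall b nb eb
  have hc := hsmall c nc ec
  have hu4 : ∑ i, (a i - b i) * (a i - b i) = 4 := by
    have : ∑ i, (a i - b i) * (a i - b i) =
        ∑ i, a i * a i + ∑ i, b i * b i - 2 * ∑ i, a i * b i := by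
      rw [Finset.mul_sum, ← Finset.sum_add_distrib, ← Finset.sum_sub_distrib]
      exact Finset.sum_congr rfl fun i _ => by ring
    rw [this, na, nb, ab]; norm_num
  set S := Finset.univ.erase p with hS
  have split : ∀ f : ι → ℤ, ∑ i, f i = f p + ∑ i ∈ S, f i := fun f =>
    (Finset.add_sum_erase Finset.univ f (Finset.mem_univ p)).symm
  have ha3 : ∑ i ∈ S, a i * a i = 3 := by have := split (fun i => a i * a i); rw [na, hpa] at this; omega
  have hu3 : ∑ i ∈ S, (a i - b i) * (a i - b i) = 3 := by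
    have := split (fun i => (a i - b i) * (a i - b i))
    rw [hu4, hpa, hpb] at this; omega
  have bnd : ∀ (f : ι → ℤ), ∑ i ∈ S, f i * f i = 3 → ∀ i ∈ S, f i ≤ 1 ∧ -1 ≤ f i := by
    intro f hf i hi
    have h1 : f i * f i ≤ 3 := hf ▸ Finset.single_le_sum (fun j _ => mul_self_nonneg (f j)) hi
    constructor <;> nlinarith
  set U := S.filter (fun i => a i ≠ b i) with hU
  have husq : ∀ i ∈ U, (a i - b i) * (a i - b i) = 1 ∧ (a i - b i) % 2 = 1 := by
    intro i hi
    obtain ⟨hiS, hne⟩ := Finset.mem_filter.1 hi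
    obtain ⟨h1, h2⟩ := bnd (fun i => a i - b i) hu3 i hiS
    rcases (show a i - b i = 1 ∨ a i - b i = -1 by omega) with h | h <;> rw [h] <;> norm_num
  have hUcard : U.card = 3 := by
    have h := hu3
    rw [← Finset.sum_filter_add_sum_filter_not S (fun i => a i ≠ b i), ← hU,
      Finset.sum_congr rfl (fun i hi => (husq i hi).1),
      Finset.sum_eq_zero (s := S.filter fun i => ¬ a i ≠ b i) (fun i hi => by
        rw [not_not.1 (Finset.mem_filter.1 hi).2]; ring),
      Finset.sum_const, add_zero] at h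
    simp at h
    exact_mod_cast h
  -- some element of `U` has a zero third entry
  obtain ⟨i₀, hi₀U, hi₀⟩ : ∃ i ∈ U, c i = 0 := by
    by_contra hcon
    push Not at hcon
    have h0 : ∑ i, (a i - b i) * c i = 0 := by
      rw [Finset.sum_congr rfl fun i _ => sub_mul (a i) (b i) (c i), Finset.sum_sub_distrib, ac, bc,
        sub_self]
    rw [split fun i => (a i - b i) * c i, hpc, mul_zero, zero_add,
      ← Finset.sum_filter_add_sum_filter_not S (fun i => a i ≠ b i), ← hU,
      Finset.sum_eq_zero (s := S.filter fun i => ¬ a i ≠ b i) (fun i hi => by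
        rw [not_not.1 (Finset.mem_filter.1 hi).2]; ring), add_zero] at h0
    have hmod : ∀ i ∈ U, ((a i - b i) * c i) % 2 = 1 := by
      intro i hi
      have h2 := (husq i hi).2
      obtain ⟨h3, h4⟩ := hc i
      have h5 := hcon i hi
      rcases (show c i = 1 ∨ c i = -1 by omega) with h | h <;> rw [h] <;> omega
    have h1 : (∑ i ∈ U, (a i - b i) * c i) % 2 = 1 := by
      rw [Finset.sum_int_mod, Finset.sum_congr rfl hmod, Finset.sum_const, hUcard]
      norm_num
    rw [h0] at h1
    norm_num at h1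
  -- the bound on each term
  let w : ι → ℚ := fun i => ((a i + b i + c i : ℤ) : ℚ) ^ 2 * ((a i - b i : ℤ) : ℚ) / (δ i : ℚ)
  have hterm : ∀ i ∈ U, |w i| ≤ 2 / 5 ∧ (c i = 0 → |w i| ≤ 1 / 7) := by
    intro i hi
    obtain ⟨hiS, hne⟩ := Finset.mem_filter.1 hi
    have hip : i ≠ p := (Finset.mem_erase.1 hiS).1
    obtain ⟨ha1, ha2⟩ := bnd a ha3 i hiS
    obtain ⟨hu1, hu2⟩ := bnd (fun i => a i - b i) hu3 i hiS
    obtain ⟨hb1, hb2⟩ := hb i
    obtain ⟨hc1, hc2⟩ := hc i
    have hδ0 : (0 : ℚ) < δ i := by exact_mod_cast hδ i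
    have habs : |((a i - b i : ℤ) : ℚ)| = 1 := by
      rcases (show a i - b i = 1 ∨ a i - b i = -1 by omega) with h | h <;> rw [h] <;> norm_num
    have hw : |w i| = ((a i + b i + c i : ℤ) : ℚ) ^ 2 / δ i := by
      simp only [w, abs_div, abs_mul, habs, mul_one, abs_pow, sq_abs, abs_of_pos hδ0]
    rw [hw]
    obtain hs0 | hs0 := eq_or_ne (a i + b i + c i) 0
    · rw [hs0]; norm_num
    obtain ⟨h8, hge, hne'⟩ := hs i hip hs0
    obtain ⟨k, hk⟩ := h8
    rcases (show a i + b i + c i = 1 ∨ a i + b i + c i = -1 ∨ a i + b i + c i = 2 ∨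
        a i + b i + c i = -2 by omega) with h | h | h | h <;>
      rw [h] at hk hge hne' ⊢
    all_goals
      refine ⟨?_, fun hc0 => ?_⟩
    all_goals first
      | (exfalso; omega)
      | (rw [div_le_div_iff₀ hδ0 (by norm_num)]
         first
          | (have h7 : (7 : ℚ) ≤ δ i := by exact_mod_cast (show 7 ≤ δ i by omega)
             push_cast; nlinarith)
          | (have h7 : (10 : ℚ) ≤ δ i := by exact_mod_cast (show 10 ≤ δ i by omega)
             push_cast; nlinarith))
  have hsum : (1 : ℚ) + ∑ i ∈ U, w i = 0 := by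
    rw [← hF, ← Finset.add_sum_erase Finset.univ _ (Finset.mem_univ p)]
    congr 1
    · rw [hpa, hpb, hpc, hpδ]; norm_num
    · rw [hU, Finset.sum_filter]
      refine Finset.sum_congr rfl fun i _ => ?_
      split_ifs with h
      · rfl
      · rw [not_not.1 h]; simp
  have hle : |∑ i ∈ U, w i| ≤ 33 / 35 := by
    refine (Finset.abs_sum_le_sum_abs _ _).trans ?_
    rw [← Finset.add_sum_erase U _ hi₀U]
    have h2 : ∑ i ∈ U.erase i₀, |w i| ≤ ∑ i ∈ U.erase i₀, (2 / 5 : ℚ) :=
      Finset.sum_le_sum fun i hi => (hterm i (Finset.mem_of_mem_erase hi)).1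
    rw [Finset.sum_const, Finset.card_erase_of_mem hi₀U, hUcard] at h2
    have h1 := (hterm i₀ hi₀U).2 hi₀
    norm_num at h2
    linarith
  have h1 : ∑ i ∈ U, w i = -1 := by linarith
  rw [h1] at hle
  norm_num at hle

variable {X : Type u} [Group X] [Fintype X]

/-- The multiplicity of a linear character in a composed character. -/
theorem exists_linear_mult {Y : Type u} [Group Y] (χ : IrrCharacter Y) (f : X →* Y) (μ : X →* ℂˣ) :
    ∃ m : ℕ, ∑ x : X, (χ : Y → ℂ) (f x) * (μ x : ℂ) = (Nat.card X : ℂ) * m := by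
  obtain ⟨m, hm⟩ := classInner_char_nat
    (CfsgLib.CharGalois.isCharacter_comp (irr_isCharacter χ) f)
    (isCharacter_of_irr (isIrrCharacter_of_hom μ⁻¹))
  refine ⟨m, ?_⟩
  rw [← hm, classInner, ← mul_assoc, mul_inv_cancel₀ (by simp), one_mul]
  refine Finset.sum_congr rfl fun x _ => ?_
  have hfin : IsOfFinOrder (μ x) := MonoidHom.isOfFinOrder μ (isOfFinOrder_of_finite x)
  have hn : ‖(μ x : ℂ)‖ = 1 := by
    obtain ⟨n, hn0, hn⟩ := isOfFinOrder_iff_pow_eq_one.1 hfin
    exact Complex.norm_eq_one_of_pow_eq_one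
      (by rw [← Units.val_pow_eq_pow_val, hn, Units.val_one]) hn0.ne'
  simp only [MonoidHom.inv_apply, Units.val_inv_eq_inv_val, map_inv₀, Function.comp_apply]
  rw [← Complex.inv_eq_conj hn, inv_inv]

variable {G : Type u} [Group G] [Fintype G]

/-- An irreducible character which agrees with its degree on a non-trivial element of a simple group
is principal. -/
theorem eq_principal_of_apply_eq [IsSimpleGroup G] (χ : IrrCharacter G) {t : G} (ht : t ≠ 1)
    (h : (χ : G → ℂ) t = (χ : G → ℂ) 1) : χ = principalIrr G := by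
  classical
  obtain ⟨c, n, ρ, hρ, rfl⟩ := χ
  have hρt : ρ t = 1 := (CfsgLib.Characters.char_eq_degree_iff ρ t).1 (by
    rw [← Representation.char_one (ρ := ρ)]; exact h)
  have hker : ρ.ker = ⊤ := (inferInstance : ρ.ker.Normal).eq_bot_or_eq_top.resolve_left fun hb =>
    ht (Subgroup.mem_bot.1 (hb ▸ MonoidHom.mem_ker.2 hρt))
  have hall : ∀ g, ρ.character g = ρ.character 1 := fun g => by
    simp [Representation.character, MonoidHom.mem_ker.1 (hker ▸ Subgroup.mem_top g)]
  by_contra hne
  have h0 := classInner_irr (⟨ρ.character, n, ρ, hρ, rfl⟩ : IrrCharacter G) (principalIrr G)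
  rw [if_neg hne] at h0
  simp only [classInner, principalIrr_apply, map_one, mul_one, hall, Finset.sum_const,
    nsmul_eq_mul] at h0
  rw [Finset.card_univ, ← Nat.card_eq_fintype_card, ← mul_assoc, inv_mul_cancel₀ (by simp),
    one_mul] at h0
  exact irr_one_ne_zero (⟨ρ.character, n, ρ, hρ, rfl⟩ : IrrCharacter G) h0

/-- No such group. -/
theorem no_order_three [IsSimpleGroup G] (S : Sylow 2 G) (h8 : Nat.card (S : Subgroup G) = 8)
    (hexp : ∀ s ∈ (S : Subgroup G), s * s = 1) {t : G} (htS : t ∈ (S : Subgroup G))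
    (ht : orderOf t = 2) (hone : ∀ s ∈ (S : Subgroup G), s ≠ 1 → IsConj t s)
    [Group.IsSolvable ↥(Subgroup.centralizer ({t} : Set G))] {g : G}
    (hgt : g ∈ Subgroup.centralizer ({t} : Set G))
    (hgn : g ∈ Subgroup.normalizer ((S : Subgroup G) : Set G))
    (hgc : g ∉ Subgroup.centralizer ((S : Subgroup G) : Set G)) : False := by
  classical
  have : Fact (Nat.Prime 2) := ⟨Nat.prime_two⟩
  set C := Subgroup.centralizer ({t} : Set G) with hC
  letI : Fintype C := Fintype.ofFinite C
  have ht1 : t ≠ 1 := fun h => by rw [h, orderOf_one] at ht; norm_num at ht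
  have hexp' : ∀ a ∈ (S : Subgroup G), ∀ b ∈ (S : Subgroup G), a * b = b * a := fun a ha b hb => by
    have hinv : ∀ r ∈ (S : Subgroup G), r⁻¹ = r := fun r hr =>
      inv_eq_of_mul_eq_one_right (hexp r hr)
    rw [← hinv _ ((S : Subgroup G).mul_mem ha hb), mul_inv_rev, hinv a ha, hinv b hb]
  have hSC : (S : Subgroup G) ≤ C := fun s hs =>
    Subgroup.mem_centralizer_singleton_iff.2 (hexp' s hs t htS)
  set t' : C := ⟨t, hSC htS⟩ with ht'
  have ht'c : t' ∈ Subgroup.center C := Subgroup.mem_center_iff.2 fun c =>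
    Subtype.ext (Subgroup.mem_centralizer_singleton_iff.1 c.2)
  set P : Sylow 2 C := S.subtype hSC with hP
  have hPmem : ∀ c : C, c ∈ (P : Subgroup C) ↔ (c : G) ∈ (S : Subgroup G) := fun c => Iff.rfl
  obtain ⟨L, O, T, l, hOn, hLn, hOodd, hOL, hLp, hLC, hOT, hTc, hXc, hl3, hlO, hlT, hNcount⟩ :=
    EightLocal.exists_local P
      (by rw [hP, Sylow.coe_subtype, Nat.card_congr (Subgroup.subgroupOfEquivOfLe hSC).toEquiv, h8])
      (fun s hs => Subtype.ext (hexp s hs)) ht'c (by rw [← Subgroup.orderOf_coe]; exact ht)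
      (g := ⟨g, hgt⟩)
      (Subgroup.mem_normalizer_iff.2 fun c => by
        rw [hPmem, hPmem]; exact Subgroup.mem_normalizer_iff.1 hgn c)
      (fun h => hgc (Subgroup.mem_centralizer_iff.2 fun s hs =>
        congrArg Subtype.val (Subgroup.mem_centralizer_iff.1 h ⟨s, hSC hs⟩ hs)))
  haveI := hOn
  haveI := hLn
  letI : Fintype T := Fintype.ofFinite T
  letI : Fintype O := Fintype.ofFinite O
  obtain ⟨M, hM⟩ := CfsgLib.BlockCover.exists_isPModular (p := 2) Nat.prime_two
  -- parity facts on `T`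
  have hTodd : ∀ y ∈ T, ¬ 2 ∣ orderOf (y : C) := by
    intro y hy h
    have h1 : 2 ∣ Nat.card T := h.trans (by
      rw [← Subgroup.orderOf_mk y hy]; exact orderOf_dvd_natCard _)
    rw [hTc] at h1
    rcases (Nat.prime_two.dvd_mul).1 h1 with h | h
    · norm_num at h
    · exact hOodd h
  have hlconj : ∀ x : C, conj ((l x : ℂ)) = ((l x : ℂ)) ^ 2 := by
    intro x
    have h3 : ((l x : ℂ)) ^ 3 = 1 := by rw [← Units.val_pow_eq_pow_val, hl3, Units.val_one]
    rw [← Complex.inv_eq_conj (Complex.norm_eq_one_of_pow_eq_one h3 (by norm_num))]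
    refine inv_eq_of_mul_eq_one_right ?_
    rw [← pow_succ']; exact h3
  let lc : C → ℕ → ℂ := fun x j => ((l x : ℂ)) ^ j
  -- the columns
  let D : IrrCharacter G → ℕ → ℂ := fun χ j =>
    (Nat.card T : ℂ)⁻¹ * ∑ y : T, (χ : G → ℂ) (t * ((y : C) : G)) * lc y j
  have hTne : (Nat.card T : ℂ) ≠ 0 := by simp
  -- integrality
  have hint : ∀ χ j, ∃ d : ℤ, D χ j = d := by
    intro χ j
    let μ : T →* ℂˣ := (powMonoidHom j).comp (l.comp T.subtype)
    let Z := Subgroup.zpowers t'
    letI : Fintype Z := Fintype.ofFinite Z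
    obtain ⟨m1, hm1⟩ := exists_linear_mult χ (C.subtype.comp T.subtype) μ
    let f : Z × T →* G := C.subtype.comp (MonoidHom.noncommCoprod Z.subtype T.subtype fun a b => by
      have hcom : Commute t' (b : C) := (Subgroup.mem_center_iff.1 ht'c b).symm
      obtain ⟨k, hk⟩ := Subgroup.mem_zpowers_iff.1 a.2
      show Commute (a : C) (b : C)
      rw [← hk]
      exact hcom.zpow_left k)
    obtain ⟨m2, hm2⟩ := exists_linear_mult χ f (μ.comp (MonoidHom.snd Z T))
    refine ⟨2 * m2 - m1, ?_⟩
    have hZ : (Finset.univ : Finset Z) = {1, ⟨t', Subgroup.mem_zpowers t'⟩} := by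
      refine (Finset.eq_univ_of_card _ ?_).symm
      rw [Finset.card_pair (fun h => ht1 (congrArg (fun z : Z => ((z : C) : G)) h).symm),
        ← Nat.card_eq_fintype_card, Nat.card_zpowers, ← Subgroup.orderOf_coe, ht]
    rw [Fintype.sum_prod_type, hZ,
      Finset.sum_pair (fun h => ht1 (congrArg (fun z : Z => ((z : C) : G)) h).symm)] at hm2
    simp only [f, MonoidHom.comp_apply, MonoidHom.noncommCoprod_apply, MonoidHom.coe_snd,
      Subgroup.coe_subtype, OneMemClass.coe_one, one_mul, Subgroup.coe_mul] at hm2 hm1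
    rw [hm1, Nat.card_prod, Nat.card_zpowers, ← Subgroup.orderOf_coe, ht] at hm2
    have hμ : ∀ y : T, lc y j = (μ y : ℂ) := fun y => by simp [μ, lc]
    simp only [D, hμ]
    push_cast at hm2 ⊢
    rw [eq_sub_iff_add_eq, ← mul_left_cancel_iff_of_pos (a := (1 : ℕ)) (by norm_num)] at *
    field_simp
    linear_combination hm2
  choose d hd using hint
  -- averaging over `O`
  have havg : ∀ ξ : IrrCharacter C, ξ ∉ principalBlock M C → ∀ j,
      ∑ y : T, (ξ : C → ℂ) y * lc y j = 0 := by
    intro ξ hξ j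
    have hinv : CfsgLib.BlockOver.IsInvariant O ((principalIrr O : IrrCharacter O) : O → ℂ) :=
      fun _ _ => rfl
    have hblk := CfsgLib.BlockOver.isPBlock_of_constrained hinv hM hOodd hOL hLp hLC
    have hover : principalBlock M C = CfsgLib.BlockOver.overSet O (principalIrr O) := by
      have hmem : principalIrr C ∈ CfsgLib.BlockOver.overSet O (principalIrr O) := by
        show classInner _ _ ≠ 0
        rw [show (fun k : O => (principalIrr C : C → ℂ) k) = (principalIrr O : O → ℂ) from rfl,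
          classInner_irr_self (principalIrr O).2]
        exact one_ne_zero
      exact (CfsgLib.Blocks.IsPBlock.eq_blockOf hM hblk hmem).symm
    rw [hover] at hξ
    have h0 : classInner (fun k : O => (ξ : C → ℂ) k) (principalIrr O : O → ℂ) = 0 := not_not.1 hξ
    have hA : CfsgLib.NormalAvg.avgN O (ξ : C → ℂ) = 0 := by
      refine (CfsgLib.NormalAvg.avgN_irr O ξ.2).resolve_left fun h => irr_one_ne_zero ξ ?_
      rw [← h]
      simpa [CfsgLib.NormalAvg.avgN, classInner] using h0
    have hshift : ∀ v : O, ∑ y : T, (ξ : C → ℂ) ((v : C) * y) * lc y j =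
        ∑ y : T, (ξ : C → ℂ) y * lc y j := fun v => by
      refine Fintype.sum_equiv (Equiv.mulLeft (⟨v, hOT v.2⟩ : T)) _ _ fun y => ?_
      simp [lc, hlO v v.2]
    have h1 : ∑ v : O, ∑ y : T, (ξ : C → ℂ) ((v : C) * y) * lc y j = 0 := by
      rw [Finset.sum_comm]
      refine Finset.sum_eq_zero fun y _ => ?_
      rw [← Finset.sum_mul]
      have := congrFun hA (y : C)
      simp only [CfsgLib.NormalAvg.avgN, Pi.zero_apply, mul_eq_zero, inv_eq_zero] at this
      rw [this.resolve_left (by simp), zero_mul]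
    rw [Finset.sum_congr rfl fun v _ => hshift v, Finset.sum_const, Finset.card_univ,
      nsmul_eq_mul, mul_eq_zero] at h1
    exact h1.resolve_left (by simp)
  -- vanishing outside the principal block
  have hD0 : ∀ χ : IrrCharacter G, χ ∉ principalBlock M G → ∀ j, D χ j = 0 := by
    intro χ hχ j
    have hcls := CfsgLib.Blocks.isClassFunction_sectionFun (x := t) (irr_isClassFunction χ)
    have hz : ∃ k : ℕ, orderOf t = 2 ^ k := ⟨1, by rw [ht, pow_one]⟩
    refine mul_eq_zero_of_right _ ?_
    calc ∑ y : T, (χ : G → ℂ) (t * ((y : C) : G)) * lc y j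
        = ∑ y : T, (∑ ξ : IrrCharacter C,
            classInner (CfsgLib.Blocks.sectionFun t (χ : G → ℂ)) (ξ : C → ℂ) * (ξ : C → ℂ) y) *
            lc y j := by
          refine Finset.sum_congr rfl fun y _ => ?_
          congr 1
          have := congrFun (classFunction_eq_sum hcls) (y : C)
          simpa [CfsgLib.Blocks.sectionFun] using this
      _ = ∑ ξ : IrrCharacter C, classInner (CfsgLib.Blocks.sectionFun t (χ : G → ℂ)) (ξ : C → ℂ) *
            ∑ y : T, (ξ : C → ℂ) y * lc y j := by
          simp only [Finset.sum_mul, Finset.mul_sum]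
          rw [Finset.sum_comm]
          simp only [mul_assoc]
      _ = ∑ ξ ∈ Finset.univ.filter (· ∈ principalBlock M C),
            classInner (CfsgLib.Blocks.sectionFun t (χ : G → ℂ)) (ξ : C → ℂ) *
            ∑ y : T, (ξ : C → ℂ) y * lc y j := by
          refine (Finset.sum_filter_of_ne fun ξ _ h => ?_).symm
          by_contra hξ
          exact h (by rw [havg ξ hξ j, mul_zero])
      _ = ∑ y : T, Cfsg.blockPart (principalBlock M C)
            (CfsgLib.Blocks.sectionFun t (χ : G → ℂ)) (y : C) * lc y j := by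
          simp only [CfsgLib.Blocks.blockPart_eq_sum, Finset.sum_mul, Finset.mul_sum]
          rw [Finset.sum_comm]
          simp only [mul_assoc]
      _ = 0 := Finset.sum_eq_zero fun y _ => by
          rw [CfsgLib.Blocks.blockPart_principal_section hM hz (hTodd y y.2) χ, if_neg hχ,
            zero_mul]
  -- the sum over the three linear characters
  have hltri : ∀ y ∈ T, lc y 0 + lc y 1 + lc y 2 = if y ∈ O then 3 else 0 := by
    intro y hy
    split_ifs with h
    · simp [lc, hlO y h]; norm_num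
    · have h3 : ((l y : ℂ)) ^ 3 = 1 := by rw [← Units.val_pow_eq_pow_val, hl3, Units.val_one]
      have hne : ((l y : ℂ)) - 1 ≠ 0 := sub_ne_zero.2 fun he => hlT y hy h (Units.ext he)
      refine (mul_eq_zero.1 ?_).resolve_left hne
      simp only [lc]
      linear_combination h3
  have hsumO : ∀ F : T → ℂ, (∑ y : T, if (y : C) ∈ O then F y else 0) =
      ∑ v : O, F ⟨v, hOT v.2⟩ := by
    intro F
    rw [← Finset.sum_filter]
    refine Finset.sum_bij' (fun y hy => (⟨(y : C), (Finset.mem_filter.1 hy).2⟩ : O))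
      (fun v _ => (⟨v, hOT v.2⟩ : T)) ?_ ?_ ?_ ?_ ?_
    · exact fun _ _ => Finset.mem_univ _
    · intro v _; exact Finset.mem_filter.2 ⟨Finset.mem_univ _, v.2⟩
    · exact fun _ _ => rfl
    · exact fun _ _ => rfl
    · exact fun _ _ => rfl
  have hOne : (Nat.card O : ℂ) ≠ 0 := by simp
  have hval : ∀ χ : IrrCharacter G, χ ∈ principalBlock M G →
      (χ : G → ℂ) t = D χ 0 + D χ 1 + D χ 2 := by
    intro χ hχ
    simp only [D, ← mul_add, ← Finset.sum_add_distrib]
    rw [Finset.sum_congr rfl (fun (y : T) _ => show _ = (if (y : C) ∈ O then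
        3 * (χ : G → ℂ) (t * ((y : C) : G)) else 0) by
      rw [hltri _ y.2]; split_ifs <;> ring), hsumO]
    rw [Finset.sum_congr rfl (fun (v : O) _ => by
      rw [CfsgLib.Blocks.principal_apply_mul hM ⟨1, by rw [ht, pow_one]⟩ hOodd v.2 hχ]),
      Finset.sum_const, Finset.card_univ, nsmul_eq_mul, ← Nat.card_eq_fintype_card, hTc]
    push_cast
    field_simp
  -- values on the powers of the linear character
  have hcube : ∀ (x : C) (m : ℕ), ((l x : ℂ)) ^ m = ((l x : ℂ)) ^ (m % 3) := fun x m => by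
    conv_lhs => rw [← Nat.mod_add_div m 3, pow_add, pow_mul, ← Units.val_pow_eq_pow_val (l x) 3,
      hl3, Units.val_one, one_pow, mul_one]
  have hsumT : ∀ m : ℕ, ∑ y : T, lc y m = if m % 3 = 0 then (Nat.card T : ℂ) else 0 := by
    intro m
    split_ifs with h
    · simp only [lc, hcube _ m, h, pow_zero, Finset.sum_const, Finset.card_univ, nsmul_eq_mul,
        mul_one, Nat.card_eq_fintype_card]
    · obtain ⟨y₁, hy₁, hy₁O⟩ : ∃ y ∈ T, y ∉ O := by
        by_contra hcon
        push Not at hcon
        have := Subgroup.card_le_of_le (hcon : T ≤ O)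
        have hOpos : 0 < Nat.card O := Nat.card_pos
        omega
      have hne : lc y₁ m ≠ 1 := by
        intro he
        simp only [lc, hcube _ m] at he
        have hl1 : ((l y₁ : ℂ)) ≠ 1 := fun e => hlT y₁ hy₁ hy₁O (Units.ext e)
        rcases (show m % 3 = 1 ∨ m % 3 = 2 by omega) with hm | hm <;> rw [hm] at he
        · exact hl1 (by simpa using he)
        · have h3 : ((l y₁ : ℂ)) ^ 3 = 1 := by rw [← Units.val_pow_eq_pow_val, hl3, Units.val_one]
          exact hl1 (by rw [← h3, pow_succ, he, one_mul])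
      have hsh : lc y₁ m * ∑ y : T, lc y m = ∑ y : T, lc y m := by
        rw [Finset.mul_sum]
        refine Fintype.sum_equiv (Equiv.mulLeft (⟨y₁, hy₁⟩ : T)) _ _ fun y => ?_
        simp [lc, mul_pow]
      by_contra h0
      exact hne (mul_right_cancel₀ h0 (by rw [hsh, one_mul]))
  have hsumOl : ∀ m : ℕ, ∑ v : O, lc ((⟨v, hOT v.2⟩ : T) : C) m = (Nat.card O : ℂ) := fun m => by
    simp [lc, hlO, Nat.card_eq_fintype_card]
  -- inner products of the columns
  have hgram : ∀ j k : ℕ, ∑ χ : IrrCharacter G, D χ j * conj (D χ k) =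
      if (j + 2 * k) % 3 = 0 then 4 else 2 := by
    intro j k
    set m := j + 2 * k with hm
    have hts : ∀ y y' : T, IsConj (t * ((y : C) : G)) (t * ((y' : C) : G)) ↔
        IsConj (y : C) (y' : C) := by
      intro y y'
      have hpart : ∀ c : T, IsPPart 2 (t * ((c : C) : G)) t := fun c =>
        CfsgLib.Blocks.isPPart_mul (CfsgLib.Blocks.commute_centralizer (c : C))
          ⟨1, by rw [ht, pow_one]⟩ (by rw [Subgroup.orderOf_coe]; exact hTodd c c.2)
      constructor
      · intro h
        obtain ⟨e, he⟩ := isConj_iff.1 h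
        have h3 := CfsgLib.Blocks.IsPPart.conj (hpart y) e
        rw [he] at h3
        have h4 := mul_inv_eq_iff_eq_mul.1 (CfsgLib.Blocks.IsPPart.unique hM.1 h3 (hpart y'))
        refine isConj_iff.2 ⟨⟨e, Subgroup.mem_centralizer_singleton_iff.2 h4⟩, Subtype.ext ?_⟩
        refine mul_left_cancel (a := t) ?_
        rw [← he]
        show t * (e * ((y : C) : G) * e⁻¹) = _
        rw [← mul_assoc e t, h4]
        group
      · intro h
        obtain ⟨e, he⟩ := isConj_iff.1 h
        refine isConj_iff.2 ⟨(e : G), ?_⟩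
        rw [← he]
        simp only [Subgroup.coe_mul, Subgroup.coe_inv]
        rw [← mul_assoc (e : G) t, ← (CfsgLib.Blocks.commute_centralizer e).eq]
        group
    have hcent : ∀ y : T, Nat.card (Subgroup.centralizer ({t * ((y : C) : G)} : Set G)) =
        Nat.card (Subgroup.centralizer ({(y : C)} : Set C)) := by
      intro y
      have hpart : IsPPart 2 (t * ((y : C) : G)) t :=
        CfsgLib.Blocks.isPPart_mul (CfsgLib.Blocks.commute_centralizer (y : C))
          ⟨1, by rw [ht, pow_one]⟩ (by rw [Subgroup.orderOf_coe]; exact hTodd y y.2)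
      have hmem : ∀ e ∈ Subgroup.centralizer ({t * ((y : C) : G)} : Set G),
          e ∈ C ∧ e * ((y : C) : G) = ((y : C) : G) * e := by
        intro e he
        have he' := Subgroup.mem_centralizer_singleton_iff.1 he
        have h3 := CfsgLib.Blocks.IsPPart.conj hpart e
        rw [mul_inv_eq_iff_eq_mul.2 he'] at h3
        have h4 := mul_inv_eq_iff_eq_mul.1 (CfsgLib.Blocks.IsPPart.unique hM.1 h3 hpart)
        refine ⟨Subgroup.mem_centralizer_singleton_iff.2 h4, mul_left_cancel (a := t) ?_⟩
        rw [← mul_assoc, ← h4, mul_assoc, he', mul_assoc]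
      refine Nat.card_congr
        { toFun := fun e => ⟨⟨e, (hmem e e.2).1⟩,
            Subgroup.mem_centralizer_singleton_iff.2 (Subtype.ext (hmem e e.2).2)⟩
          invFun := fun e => ⟨((e : C) : G), Subgroup.mem_centralizer_singleton_iff.2 ?_⟩
          left_inv := fun e => rfl
          right_inv := fun e => rfl }
      have hd' := congrArg Subtype.val (Subgroup.mem_centralizer_singleton_iff.1 e.2)
      simp only [Subgroup.coe_mul] at hd'
      rw [← mul_assoc, ← (CfsgLib.Blocks.commute_centralizer (e : C)).eq, mul_assoc, hd', mul_assoc]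
    have hcol : ∀ y y' : T,
        ∑ χ : IrrCharacter G, (χ : G → ℂ) (t * ((y : C) : G)) * conj ((χ : G → ℂ) (t * ((y' : C) : G))) =
          ∑ x : C, if x * (y : C) * x⁻¹ = (y' : C) then 1 else 0 := by
      intro y y'
      rw [column_orth, ← Finset.sum_filter, Finset.sum_const, nsmul_eq_mul, mul_one,
        if_congr (hts y y') rfl rfl]
      split_ifs with h
      · rw [hcent, ← Fintype.card_subtype, ← Nat.card_eq_fintype_card, Nat.cast_inj]
        obtain ⟨e, he⟩ := isConj_iff.1 h
        refine Nat.card_congr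
          { toFun := fun z => ⟨e * (z : C), ?_⟩
            invFun := fun z => ⟨e⁻¹ * (z : C), Subgroup.mem_centralizer_singleton_iff.2 ?_⟩
            left_inv := fun z => Subtype.ext (by simp)
            right_inv := fun z => Subtype.ext (by simp) }
        · have hz := Subgroup.mem_centralizer_singleton_iff.1 z.2
          rw [mul_inv_rev, ← mul_assoc, mul_assoc e (z : C), hz, ← mul_assoc,
            mul_inv_cancel_right, he]
        · have hz := mul_inv_eq_iff_eq_mul.1 z.2
          rw [mul_assoc e⁻¹, hz, show (y' : C) * (z : C) = e * (y : C) * e⁻¹ * (z : C) by rw [he]]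
          group
      · rw [Finset.filter_false_of_mem fun x _ hx => h (isConj_iff.2 ⟨x, hx⟩)]
        simp
    have hlinv : ∀ (x y : C), lc (x * y * x⁻¹) k = lc y k := fun x y => by
      simp [lc, mul_comm (l x)]
    have hmul : ∀ y : C, lc y j * conj (lc y k) = lc y m := fun y => by
      simp only [lc, map_pow, hlconj, hm, pow_add, pow_mul]
    -- expand
    have hexpand : ∑ χ : IrrCharacter G, D χ j * conj (D χ k) = (Nat.card T : ℂ)⁻¹ ^ 2 *
        ∑ y : T, lc y m * (Nat.card {x : C // x * (y : C) * x⁻¹ ∈ T} : ℂ) := by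
      calc ∑ χ : IrrCharacter G, D χ j * conj (D χ k)
          = (Nat.card T : ℂ)⁻¹ ^ 2 * ∑ y : T, ∑ y' : T, lc y j * conj (lc y' k) *
              ∑ χ : IrrCharacter G, (χ : G → ℂ) (t * ((y : C) : G)) *
                conj ((χ : G → ℂ) (t * ((y' : C) : G))) := by
            simp only [D, map_mul, map_inv₀, Complex.conj_natCast, map_sum, Finset.mul_sum,
              Finset.sum_mul]
            conv_rhs => rw [Finset.sum_comm]
            rw [Finset.sum_comm]
            refine Finset.sum_congr rfl fun y _ => ?_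
            rw [Finset.sum_comm]
            refine Finset.sum_congr rfl fun y' _ => Finset.sum_congr rfl fun χ _ => ?_
            ring
        _ = _ := by
            congr 1
            refine Finset.sum_congr rfl fun y _ => ?_
            simp only [hcol, Finset.mul_sum, mul_ite, mul_one, mul_zero]
            rw [Finset.sum_comm, Nat.card_eq_fintype_card, Fintype.card_subtype, Finset.card_filter,
              Nat.cast_sum, Finset.mul_sum]
            refine Finset.sum_congr rfl fun x _ => ?_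
            by_cases hx : x * (y : C) * x⁻¹ ∈ T
            · rw [Finset.sum_eq_single (⟨_, hx⟩ : T) (fun y' _ hne => if_neg fun he => hne
                  (Subtype.ext he.symm)) (fun h => absurd (Finset.mem_univ _) h), if_pos rfl,
                if_pos hx, Nat.cast_one, mul_one, ← hmul, hlinv]
            · rw [if_neg hx, Nat.cast_zero, mul_zero]
              exact Finset.sum_eq_zero fun y' _ => if_neg fun (he : x * (y : C) * x⁻¹ = (y' : C)) => hx (he ▸ y'.2)
    have hcnt : ∀ y : T, (Nat.card {x : C // x * (y : C) * x⁻¹ ∈ T} : ℂ) =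
        2 * (Nat.card T : ℂ) + if (y : C) ∈ O then 6 * (Nat.card T : ℂ) else 0 := by
      intro y
      split_ifs with h
      · rw [show Nat.card {x : C // x * (y : C) * x⁻¹ ∈ T} = Nat.card C from
          Nat.card_congr (Equiv.subtypeUnivEquiv fun x => hOT (hOn.conj_mem _ h x)), hXc]
        push_cast; ring
      · rw [hNcount y y.2 h]
        push_cast; ring
    rw [hexpand]
    simp only [hcnt, mul_add, Finset.sum_add_distrib, mul_ite, mul_zero, ← Finset.sum_mul, hsumT,
      hsumO]
    simp only [← Finset.sum_mul, hsumOl, hTc]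
    split_ifs <;> push_cast <;> field_simp <;> ring
  -- relation at the identity
  have hE : ∀ j, ∑ χ : IrrCharacter G, (χ : G → ℂ) 1 * D χ j = 0 := by
    intro j
    simp only [D, Finset.mul_sum]
    rw [Finset.sum_comm]
    refine Finset.sum_eq_zero fun y _ => ?_
    have h := column_orth (t * ((y : C) : G)) (1 : G)
    rw [if_neg fun hc => ?_] at h
    · have h1 : ∀ χ : IrrCharacter G, conj ((χ : G → ℂ) 1) = (χ : G → ℂ) 1 := fun χ => by
        obtain ⟨n, -, hn⟩ := irr_exists_degree χ.2
        rw [hn, Complex.conj_natCast]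
      simp only [h1] at h
      rw [← mul_zero ((Nat.card T : ℂ)⁻¹ * lc y j), ← h, Finset.mul_sum]
      exact Finset.sum_congr rfl fun χ _ => by ring
    · rw [isConj_one_left] at hc
      have hy2 : ¬ 2 ∣ orderOf ((y : C) : G) := by rw [Subgroup.orderOf_coe]; exact hTodd y y.2
      have : t = ((y : C) : G)⁻¹ := eq_inv_of_mul_eq_one_left hc
      rw [this, orderOf_inv] at ht
      exact hy2 (by rw [ht])
  -- the count of pairs
  let Zf : T → ℂ := fun y => ∑ χ : IrrCharacter G,
    (χ : G → ℂ) t ^ 2 / (χ : G → ℂ) 1 * (χ : G → ℂ) (t * ((y : C) : G))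
  have hlinvol : ∀ a : C, orderOf (a : G) = 2 → l a = 1 := by
    intro a ha
    have h2 : l a ^ 2 = 1 := by
      rw [← map_pow, ← ha, Subgroup.orderOf_coe, pow_orderOf_eq_one, map_one]
    rw [← hl3 a, pow_succ, h2, one_mul]
  have hZ : ∀ y : T, (y : C) ∉ O → Zf y = 0 := by
    intro y hyO
    set u := t * ((y : C) : G) with hu
    have hpairs : CfsgLib.ClassCount.pairs t t ({u⁻¹} : Finset G) = ∅ := by
      refine Finset.filter_eq_empty_iff.2 ?_
      rintro ⟨a, b⟩ hab hmem
      rw [Finset.mem_product, CfsgLib.ClassCount.mem_cls, CfsgLib.ClassCount.mem_cls] at hab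
      rw [Finset.mem_singleton] at hmem
      have sq : ∀ x : G, IsConj t x → x * x = 1 := fun x hx => by
        obtain ⟨e, rfl⟩ := isConj_iff.1 hx
        rw [conj_mul, hexp t htS, mul_one, mul_inv_cancel]
      have ha2 := sq a hab.1
      have hb2 := sq b hab.2
      have hai : a⁻¹ = a := inv_eq_of_mul_eq_one_right ha2
      have hbi : b⁻¹ = b := inv_eq_of_mul_eq_one_right hb2
      have hinv : a * u * a⁻¹ = u⁻¹ := by
        rw [hmem.symm, show u = (a * b)⁻¹ by rw [show a * b = u⁻¹ from hmem, inv_inv], mul_inv_rev,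
          hai, hbi, mul_assoc, mul_assoc, ha2, mul_one]
      have hcomm : Commute t ((y : C) : G) := CfsgLib.Blocks.commute_centralizer (y : C)
      have hn : u ^ Nat.card T = t := by
        rw [hu, hcomm.mul_pow]
        have h1 : ((y : C) : G) ^ Nat.card T = 1 := by
          have h0 := pow_card_eq_one' (G := T) (x := y)
          exact congrArg (fun z : T => ((z : C) : G)) h0
        have hodd : Odd (Nat.card T) := by
          rw [hTc]
          exact (by decide : Odd 3).mul (Nat.odd_iff.2 (by omega))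
        obtain ⟨i, hi⟩ := hodd
        rw [h1, mul_one, hi, pow_succ, pow_mul, pow_two, hexp t htS, one_pow, one_mul]
      have hat : a * t * a⁻¹ = t := by
        conv_lhs => rw [← hn, ← conj_pow, hinv, inv_pow, hn]
        exact inv_eq_of_mul_eq_one_right (hexp t htS)
      have haC : a ∈ C := Subgroup.mem_centralizer_singleton_iff.2 (mul_inv_eq_iff_eq_mul.1 hat)
      have hbC : b ∈ C := by
        have huC : u⁻¹ ∈ C := inv_mem (C.mul_mem (hSC htS) (y : C).2)
        rw [← hmem] at huC
        exact (C.mul_mem_cancel_left haC).1 huC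
      have h2 : ∀ x : G, IsConj t x → orderOf x = 2 := fun x hx => by
        obtain ⟨e, rfl⟩ := isConj_iff.1 hx
        rw [← MulAut.conj_apply, MulEquiv.orderOf_eq, ht]
      have hl : l ((t' * (y : C))⁻¹) = 1 := by
        rw [show (t' * (y : C))⁻¹ = (⟨a, haC⟩ : C) * ⟨b, hbC⟩ from Subtype.ext hmem.symm, map_mul,
          hlinvol _ (h2 a hab.1), hlinvol _ (h2 b hab.2), one_mul]
      rw [map_inv, inv_eq_one, map_mul, hlinvol t' ht, one_mul] at hl
      exact hlT y y.2 hyO hl
    have h := CfsgLib.ClassCount.card_pairs_mul t t ({u⁻¹} : Finset G)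
    rw [hpairs, Finset.card_empty, Nat.cast_zero, zero_mul] at h
    simp only [Finset.sum_singleton, inv_inv, centralChar] at h
    have hk : (((Subgroup.centralizer ({t} : Set G)).index : ℂ)) ≠ 0 :=
      Nat.cast_ne_zero.2 Subgroup.index_ne_zero_of_finite
    refine (mul_eq_zero.1 ?_).resolve_left (pow_ne_zero 2 hk)
    rw [h, Finset.mul_sum]
    refine Finset.sum_congr rfl fun χ _ => ?_
    have := irr_one_ne_zero χ
    field_simp
    rw [hu]
  have hF : ∀ j, ∑ χ : IrrCharacter G, (χ : G → ℂ) t ^ 2 / (χ : G → ℂ) 1 * D χ j =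
      (Nat.card T : ℂ)⁻¹ * ∑ v : O, Zf ⟨v, hOT v.2⟩ := by
    intro j
    calc ∑ χ : IrrCharacter G, (χ : G → ℂ) t ^ 2 / (χ : G → ℂ) 1 * D χ j
        = (Nat.card T : ℂ)⁻¹ * ∑ y : T, Zf y * lc y j := by
          simp only [D, Zf, Finset.mul_sum, Finset.sum_mul]
          rw [Finset.sum_comm]
          exact Finset.sum_congr rfl fun y _ => Finset.sum_congr rfl fun χ _ => by ring
      _ = (Nat.card T : ℂ)⁻¹ * ∑ y : T, (if (y : C) ∈ O then Zf y else 0) := by
          congr 1
          refine Finset.sum_congr rfl fun y _ => ?_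
          split_ifs with h
          · simp [lc, hlO y h]
          · rw [hZ y h, zero_mul]
      _ = _ := by rw [hsumO]
  -- transfer to integers
  have hdeg : ∀ χ : IrrCharacter G, (χ : G → ℂ) 1 = (charDegree (χ : G → ℂ) : ℂ) ∧
      0 < charDegree (χ : G → ℂ) := fun χ =>
    ⟨(CfsgLib.ClassCount.degree_eq χ).1, (CfsgLib.ClassCount.degree_eq χ).2.2⟩
  have hgramZ : ∀ j k : ℕ, ∑ χ : IrrCharacter G, d χ j * d χ k =
      if (j + 2 * k) % 3 = 0 then 4 else 2 := fun j k => by
    have h := hgram j k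
    simp only [hd, map_intCast] at h
    split_ifs at h ⊢ <;> exact_mod_cast h
  have hEZ : ∀ j, ∑ χ : IrrCharacter G, (charDegree (χ : G → ℂ) : ℤ) * d χ j = 0 := fun j => by
    have h := hE j
    simp only [hd, fun χ => (hdeg χ).1] at h
    exact_mod_cast h
  have hprin : ∀ j, D (principalIrr G) j = if j % 3 = 0 then 1 else 0 := fun j => by
    simp only [D, principalIrr_apply, one_mul, hsumT, mul_ite, mul_zero, inv_mul_cancel₀ hTne]
  have hp0 : ∀ j, (d (principalIrr G) j : ℂ) = if j % 3 = 0 then 1 else 0 := fun j => by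
    rw [← hd, hprin]
  have hsv : ∀ χ : IrrCharacter G, d χ 0 + d χ 1 + d χ 2 ≠ 0 →
      ((d χ 0 + d χ 1 + d χ 2 : ℤ) : ℂ) = (χ : G → ℂ) t := by
    intro χ hne
    by_cases hχ : χ ∈ principalBlock M G
    · rw [hval χ hχ, hd, hd, hd]; push_cast; ring
    · exfalso
      have h0 : ∀ j, d χ j = 0 := fun j => by
        have := hD0 χ hχ j
        rw [hd] at this
        exact_mod_cast this
      exact hne (by rw [h0, h0, h0]; ring)
  refine arith (principalIrr G) (fun χ => charDegree (χ : G → ℂ)) (fun χ => d χ 0) (fun χ => d χ 1)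
    (fun χ => d χ 2) ⟨?_, ?_, ?_, ?_⟩ (fun χ => (hdeg χ).2) ?_ ?_ ?_ ?_ ?_ ?_ (hEZ 1) (hEZ 2) ?_ ?_
  · exact_mod_cast (hp0 0).trans (if_pos rfl)
  · exact_mod_cast (hp0 1).trans (if_neg (by norm_num))
  · exact_mod_cast (hp0 2).trans (if_neg (by norm_num))
  · have h := (hdeg (principalIrr G)).1
    rw [principalIrr_apply] at h
    exact_mod_cast h.symm
  · exact (hgramZ 0 0).trans (if_pos rfl)
  · exact (hgramZ 1 1).trans (if_pos rfl)
  · exact (hgramZ 2 2).trans (if_pos rfl)
  · exact (hgramZ 0 1).trans (if_neg (by norm_num))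
  · exact (hgramZ 0 2).trans (if_neg (by norm_num))
  · exact (hgramZ 1 2).trans (if_neg (by norm_num))
  · have h : ∀ χ : IrrCharacter G, ((((d χ 0 + d χ 1 + d χ 2 : ℤ) : ℚ) ^ 2 *
        ((d χ 0 - d χ 1 : ℤ) : ℚ) / (charDegree (χ : G → ℂ) : ℚ) : ℚ) : ℂ) =
        (χ : G → ℂ) t ^ 2 / (χ : G → ℂ) 1 * D χ 0 -
          (χ : G → ℂ) t ^ 2 / (χ : G → ℂ) 1 * D χ 1 := by
      intro χ
      rw [hd, hd, (hdeg χ).1]
      push_cast
      by_cases hne : d χ 0 + d χ 1 + d χ 2 = 0
      · by_cases hχ : χ ∈ principalBlock M G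
        · rw [hval χ hχ, hd, hd, hd]
          ring
        · have h0 : ∀ j, d χ j = 0 := fun j => by
            have := hD0 χ hχ j
            rw [hd] at this
            exact_mod_cast this
          rw [h0, h0, h0]; push_cast; ring
      · rw [← hsv χ hne]; push_cast; ring
    have hC0 : ((∑ χ : IrrCharacter G, ((d χ 0 + d χ 1 + d χ 2 : ℤ) : ℚ) ^ 2 *
        ((d χ 0 - d χ 1 : ℤ) : ℚ) / (charDegree (χ : G → ℂ) : ℚ) : ℚ) : ℂ) = 0 := by
      rw [Rat.cast_sum, Finset.sum_congr rfl fun χ _ => h χ, Finset.sum_sub_distrib, hF, hF,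
        sub_self]
    exact_mod_cast hC0
  · intro χ hne hs0
    have hv := hsv χ hs0
    obtain ⟨m, hm⟩ := CfsgLib.ClassCount.exists_mult χ (S : Subgroup G)
    have h1 : ∀ x : (S : Subgroup G), (x : G) ≠ 1 →
        (χ : G → ℂ) ((x : G)⁻¹) = (χ : G → ℂ) t := fun x hx => by
      rw [inv_eq_of_mul_eq_one_right (hexp _ x.2)]
      exact (classFunction_eq_of_isConj (irr_isClassFunction χ) (hone _ x.2 hx)).symm
    rw [← Finset.add_sum_erase Finset.univ _ (Finset.mem_univ 1), Finset.sum_congr rfl (fun x hx =>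
      h1 x fun e => (Finset.mem_erase.1 hx).1 (Subtype.ext e)), Finset.sum_const,
      Finset.card_erase_of_mem (Finset.mem_univ _), Finset.card_univ, ← Nat.card_eq_fintype_card, h8,
      OneMemClass.coe_one, inv_one, (hdeg χ).1, ← hv, nsmul_eq_mul] at hm
    push_cast at hm
    have hm' : (charDegree (χ : G → ℂ) : ℤ) + 7 * (d χ 0 + d χ 1 + d χ 2) = 8 * (m : ℤ) := by
      have : (((charDegree (χ : G → ℂ) : ℤ) + 7 * (d χ 0 + d χ 1 + d χ 2) : ℤ) : ℂ) =
          ((8 * (m : ℤ) : ℤ) : ℂ) := by
        push_cast; linear_combination hm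
      exact_mod_cast this
    refine ⟨⟨_, hm'⟩, by rw [hm']; positivity, fun he => hne ?_⟩
    refine eq_principal_of_apply_eq χ ht1 ?_
    rw [← hv, (hdeg χ).1, he]
    push_cast; rfl

end CfsgLib.InvChar.EightColumns
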