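import Mathlib
import Cfsg.Agent.Lib.InvChar.SolvableTwo

/-!
Solvable groups with a central involution and an elementary abelian Sylow 2-subgroup of order 8
whose normalizer acts non-trivially: the data used by the character argument.
-/

set_option autoImplicit false

namespace CfsgLib.InvChar.EightLocal

open Subgroup Cfsg

universe u

/-- A group of odd order acting faithfully on an elementary abelian group of order 8 with a fixed
involution has order dividing 3. -/
theorem card_dvd_three {R : Type*} [Group R] [Finite R] (h8 : Nat.card R = 8)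
    (hexp : ∀ r : R, r * r = 1) {A : Type*} [Group A] [Finite A] (hA : Odd (Nat.card A))
    (φ : A →* MulAut R) (hφ : Function.Injective φ) {t : R} (ht : t ≠ 1)
    (hfix : ∀ a, φ a t = t) : Nat.card A ∣ 3 := by
  classical
  have hcomm : ∀ a b : R, a * b = b * a := fun a b => by
    have hinv : ∀ r : R, r⁻¹ = r := fun r => inv_eq_of_mul_eq_one_right (hexp r)
    rw [← hinv (a * b), mul_inv_rev, hinv, hinv]
  have hn : (zpowers t).Normal := ⟨fun x hx g => by rwa [hcomm g, mul_inv_cancel_right]⟩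
  have hle : ∀ a, zpowers t ≤ (zpowers t).comap (φ a).toMonoidHom := fun a =>
    zpowers_le.2 (by
      show φ a t ∈ zpowers t
      rw [hfix]; exact mem_zpowers t)
  let ψ : A →* Equiv.Perm (R ⧸ zpowers t) :=
    { toFun := fun a =>
        { toFun := QuotientGroup.map _ _ (φ a).toMonoidHom (hle a)
          invFun := QuotientGroup.map _ _ (φ a⁻¹).toMonoidHom (hle a⁻¹)
          left_inv := fun q => by
            induction q using QuotientGroup.induction_on with
            | H r => simp
          right_inv := fun q => by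
            induction q using QuotientGroup.induction_on with
            | H r => simp }
      map_one' := by
        ext q
        induction q using QuotientGroup.induction_on with
        | H r => simp
      map_mul' := fun a b => by
        ext q
        induction q using QuotientGroup.induction_on with
        | H r => simp }
  have hz2 : Nat.card (zpowers t) = 2 := by
    rw [Nat.card_zpowers]
    exact orderOf_eq_prime (by rw [pow_two]; exact hexp t) ht
  have hψ : Function.Injective ψ := by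
    rw [← MonoidHom.ker_eq_bot_iff, eq_bot_iff]
    intro a ha
    have hid : ∀ r, φ a (φ a r) = r := by
      intro r
      have h1 : ψ a (r : R ⧸ zpowers t) = (r : R ⧸ zpowers t) := by
        rw [MonoidHom.mem_ker.1 ha]; rfl
      have h2 : (φ a r)⁻¹ * r ∈ zpowers t := QuotientGroup.eq.1 h1
      obtain ⟨k, hk⟩ := mem_zpowers_iff.1 h2
      have h3 : φ a (t ^ k) = t ^ k := by rw [map_zpow, hfix]
      rw [hk, map_mul, map_inv] at h3
      have h4 : φ a (φ a r) = φ a r * ((φ a r)⁻¹ * r)⁻¹ := by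
        rw [← h3]; group
      rw [h4, inv_eq_of_mul_eq_one_right (hexp ((φ a r)⁻¹ * r))]
      group
    have h5 : φ (a * a) = φ 1 := by
      ext r
      simp [hid]
    have h6 : orderOf a ∣ 2 := orderOf_dvd_of_pow_eq_one (by rw [pow_two]; exact hφ h5)
    have h7 : Odd (orderOf a) := hA.of_dvd_nat (orderOf_dvd_natCard a)
    rcases (Nat.dvd_prime Nat.prime_two).1 h6 with h | h
    · exact mem_bot.2 (orderOf_eq_one_iff.1 h)
    · rw [h] at h7; exact absurd h7 (by decide)
  have hq : Nat.card (R ⧸ zpowers t) = 4 := by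
    have h := card_eq_card_quotient_mul_card_subgroup (zpowers t)
    rw [hz2, h8] at h
    omega
  have hd := card_dvd_of_injective ψ hψ
  rw [Nat.card_perm, hq] at hd
  exact (Nat.Coprime.pow_right 3 (Nat.coprime_two_right.2 hA)).dvd_of_dvd_mul_left
    (n := 3) (m := 2 ^ 3) hd

variable {X : Type u} [Group X] [Finite X]

theorem orderOf_of_sq {R : Type*} [Group R] {a : R} (ha : a * a = 1) (h1 : a ≠ 1) :
    orderOf a = 2 := orderOf_eq_prime (by rw [pow_two]; exact ha) h1

/-- The local data. -/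
theorem exists_local [Group.IsSolvable X] (P : Sylow 2 X) (h8 : Nat.card (P : Subgroup X) = 8)
    (hexp : ∀ s ∈ (P : Subgroup X), s * s = 1) {t : X} (htc : t ∈ center X) (ht : orderOf t = 2)
    {g : X} (hgn : g ∈ normalizer ((P : Subgroup X) : Set X))
    (hgc : g ∉ centralizer ((P : Subgroup X) : Set X)) :
    ∃ (L O T : Subgroup X) (l : X →* ℂˣ), O.Normal ∧ L.Normal ∧ ¬ 2 ∣ Nat.card O ∧ O ≤ L ∧
      (∀ x ∈ L, ∃ k : ℕ, x ^ 2 ^ k ∈ O) ∧
      (∀ Q : Sylow 2 L, centralizer (((Q : Subgroup L).map L.subtype : Subgroup X) : Set X) ≤ L) ∧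
      O ≤ T ∧ Nat.card T = 3 * Nat.card O ∧ Nat.card X = 8 * Nat.card T ∧
      (∀ x, l x ^ 3 = 1) ∧ (∀ v ∈ O, l v = 1) ∧ (∀ y ∈ T, y ∉ O → l y ≠ 1) ∧
      ∀ y ∈ T, y ∉ O → Nat.card {x : X // x * y * x⁻¹ ∈ T} = 2 * Nat.card T := by
  classical
  have hP2 : IsPGroup 2 (P : Subgroup X) := P.2
  set O := pPrimeCore 2 X with hOdef
  haveI hOn : O.Normal := pPrimeCore_normal 2 X
  have hOodd : ¬ 2 ∣ Nat.card O := CfsgLib.PCore.not_dvd_card_pPrimeCore
  set q := QuotientGroup.mk' O with hq
  have hqs : Function.Surjective q := QuotientGroup.mk'_surjective O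
  have hPO : (P : Subgroup X) ⊓ O = ⊥ :=
    CfsgLib.PCore.inf_eq_bot_of_isPGroup_coprime hP2 CfsgLib.PCore.pPrimeCore_coprime
  -- the Sylow group of the quotient
  set R : Subgroup (X ⧸ O) := (P : Subgroup X).map q with hR
  have hinj : ∀ s ∈ (P : Subgroup X), q s = 1 → s = 1 := fun s hs h =>
    mem_bot.1 (hPO.le ⟨hs, (QuotientGroup.eq_one_iff s).1 h⟩)
  have hR8 : Nat.card R = 8 := by
    rw [← h8]
    refine (Nat.card_congr (Equiv.ofBijective
      (fun s : (P : Subgroup X) => (⟨q s, mem_map_of_mem q s.2⟩ : R)) ⟨?_, ?_⟩)).symm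
    · intro a b hab
      have hab₀ : q (a : X) = q (b : X) := congrArg Subtype.val hab
      have hab' : q ((a : X)⁻¹ * b) = 1 := by
        rw [map_mul, map_inv, hab₀, inv_mul_cancel]
      have := hinj _ ((P : Subgroup X).mul_mem (inv_mem a.2) b.2) hab'
      exact Subtype.ext (inv_mul_eq_one.1 this)
    · rintro ⟨_, s, hs, rfl⟩
      exact ⟨⟨s, hs⟩, rfl⟩
  have hRexp : ∀ r ∈ R, r * r = 1 := by
    rintro _ ⟨s, hs, rfl⟩
    rw [← map_mul, hexp s hs, map_one]
  have hRab : ∀ a ∈ R, ∀ b ∈ R, a * b = b * a := fun a ha b hb => by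
    have hinv : ∀ r ∈ R, r⁻¹ = r := fun r hr => inv_eq_of_mul_eq_one_right (hRexp r hr)
    rw [← hinv _ (R.mul_mem ha hb), mul_inv_rev, hinv a ha, hinv b hb]
  -- constraint
  have hcore : pPrimeCore 2 (X ⧸ O) = ⊥ := CfsgLib.PCore.pPrimeCore_quotient_pPrimeCore
  have hFC := CfsgLib.InvChar.centralizer_pCore_le (p := 2) hcore
  have hFR : pCore 2 (X ⧸ O) ≤ R := CfsgLib.PCore.pCore_le_sylow (P.mapSurjective hqs)
  have hRF : R ≤ pCore 2 (X ⧸ O) := fun r hr =>
    hFC (mem_centralizer_iff.2 fun f hf => hRab f (hFR hf) r hr)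
  have hRpc : pCore 2 (X ⧸ O) = R := le_antisymm hFR hRF
  haveI hRn : R.Normal := hRpc ▸ pCore_normal 2 _
  have hRC : centralizer (R : Set (X ⧸ O)) ≤ R := by rw [← hRpc]; exact hFC
  -- the quotient by the Sylow group
  set L := R.comap q with hL
  have hLn : L.Normal := inferInstance
  have hNc : Nat.card ((X ⧸ O) ⧸ R) = R.index := rfl
  have hidxodd : Odd R.index := by
    rw [Nat.odd_iff]
    have := (P.mapSurjective hqs).not_dvd_index
    have h' : ¬ 2 ∣ R.index := this
    omega
  have ht1 : t ≠ 1 := fun h => by rw [h, orderOf_one] at ht; norm_num at ht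
  have htP : t ∈ (P : Subgroup X) := by
    have hz : IsPGroup 2 (zpowers t) := IsPGroup.of_card (n := 1) (by rw [Nat.card_zpowers, ht, pow_one])
    obtain ⟨Q, hQ⟩ := hz.exists_le_sylow
    obtain ⟨x, hx⟩ := MulAction.exists_smul_eq X Q P
    have h1 : x * t * x⁻¹ ∈ (P : Subgroup X) := by
      rw [← hx, Sylow.coe_subgroup_smul]
      exact ⟨t, hQ (mem_zpowers t), rfl⟩
    rwa [(mem_center_iff.1 htc x), mul_inv_cancel_right] at h1
  have htR : q t ∈ R := mem_map_of_mem q htP
  have hqt1 : q t ≠ 1 := fun h => ht1 (hinj t htP h)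
  have hqtc : ∀ h : X ⧸ O, h * q t * h⁻¹ = q t := fun h => by
    obtain ⟨x, rfl⟩ := hqs h
    rw [← map_mul, ← map_inv, ← map_mul, mem_center_iff.1 htc x, mul_inv_cancel_right]
  let φ₀ : X ⧸ O →* MulAut R := MulAut.conjNormal
  have hker : R ≤ φ₀.ker := fun r hr => by
    refine MonoidHom.mem_ker.2 (MulEquiv.ext fun x => Subtype.ext ?_)
    show r * (x : X ⧸ O) * r⁻¹ = x
    rw [hRab r hr x x.2, mul_inv_cancel_right]
  let φ : (X ⧸ O) ⧸ R →* MulAut R := QuotientGroup.lift R φ₀ hker
  have hφ : Function.Injective φ := by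
    rw [← MonoidHom.ker_eq_bot_iff, eq_bot_iff]
    intro a ha
    induction a using QuotientGroup.induction_on with
    | H h =>
      rw [mem_bot, QuotientGroup.eq_one_iff]
      refine hRC (mem_centralizer_iff.2 fun r hr => ?_)
      have h1 : φ₀ h = 1 := ha
      have h2 := congrArg Subtype.val (DFunLike.congr_fun h1 ⟨r, hr⟩)
      simp only [φ₀, MulAut.conjNormal_apply, MulAut.one_apply] at h2
      exact (mul_inv_eq_iff_eq_mul.1 h2).symm
  have hdvd : Nat.card ((X ⧸ O) ⧸ R) ∣ 3 := by
    refine card_dvd_three hR8 (fun r => Subtype.ext (hRexp r r.2)) (by rwa [hNc]) φ hφ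
      (t := ⟨q t, htR⟩) (fun h => hqt1 (congrArg Subtype.val h)) fun a => ?_
    induction a using QuotientGroup.induction_on with
    | H h => exact Subtype.ext (hqtc h)
  have hgR : q g ∉ R := by
    intro h
    refine hgc (mem_centralizer_iff.2 fun s hs => ?_)
    have h1 : q (g * s * g⁻¹) = q s := by
      rw [map_mul, map_mul, map_inv, hRab _ h _ (mem_map_of_mem q hs), mul_inv_cancel_right]
    have h2 : g * s * g⁻¹ * s⁻¹ = 1 := hinj _
      ((P : Subgroup X).mul_mem ((mem_normalizer_iff.1 hgn s).1 hs) (inv_mem hs))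
      (by rw [map_mul, h1, map_inv, mul_inv_cancel])
    rw [mul_inv_eq_one, mul_inv_eq_iff_eq_mul] at h2
    exact h2.symm
  have hidx : R.index = 3 := by
    rcases (Nat.dvd_prime Nat.prime_three).1 hdvd with h | h
    · have h' : R.index = 1 := hNc ▸ h
      exact absurd (Subgroup.index_eq_one.1 h' ▸ mem_top (q g)) hgR
    · exact hNc ▸ h
  have hH : Nat.card (X ⧸ O) = 24 := by
    rw [← R.card_mul_index, hR8, hidx]
  -- the subgroup of odd order
  have : Fact (Nat.Prime 3) := ⟨Nat.prime_three⟩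
  obtain ⟨y₀, hy₀⟩ := exists_prime_orderOf_dvd_card' (G := X ⧸ O) 3 (by rw [hH]; norm_num)
  set T₀ := zpowers y₀ with hT₀
  have hT₀c : Nat.card T₀ = 3 := by rw [hT₀, Nat.card_zpowers, hy₀]
  have hy₀R : y₀ ∉ R := fun h => by
    have h1 : orderOf y₀ ∣ 2 := orderOf_dvd_of_pow_eq_one (by rw [pow_two]; exact hRexp _ h)
    rw [hy₀] at h1
    norm_num at h1
  have hTR : T₀ ⊓ R = ⊥ := by
    refine (Subgroup.inf_eq_bot_of_coprime ?_)
    rw [hT₀c, hR8]; norm_num
  set T := T₀.comap q with hT
  have hOT : O ≤ T := fun v hv => by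
    show q v ∈ T₀
    rw [show q v = 1 from (QuotientGroup.eq_one_iff v).2 hv]
    exact one_mem _
  have hcomap : ∀ K : Subgroup (X ⧸ O), Nat.card (K.comap q) = Nat.card K * Nat.card O := fun K => by
    have h1 := (K.comap q).card_mul_index
    rw [index_comap_of_surjective K hqs] at h1
    have h2 : Nat.card X = Nat.card K * Nat.card O * K.index := by
      rw [card_eq_card_quotient_mul_card_subgroup O, ← K.card_mul_index]; ring
    rw [h2] at h1
    exact Nat.eq_of_mul_eq_mul_right (Nat.pos_of_ne_zero K.index_ne_zero_of_finite) h1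
  have hTcard : Nat.card T = 3 * Nat.card O := by rw [hT, hcomap, hT₀c]
  have hXcard : Nat.card X = 8 * Nat.card T := by
    rw [hTcard, card_eq_card_quotient_mul_card_subgroup O, hH]; ring
  -- the linear character
  have hQ3 : Nat.card ((X ⧸ O) ⧸ R) = 3 := hidx
  set yb : (X ⧸ O) ⧸ R := QuotientGroup.mk' R y₀
  have hyne : yb ≠ 1 := fun h => hy₀R ((QuotientGroup.eq_one_iff y₀).1 h)
  have hgen : ∀ x : (X ⧸ O) ⧸ R, x ∈ zpowers yb := fun x => mem_zpowers_of_prime_card hQ3 hyne
  obtain ⟨ζ, hζ⟩ : ∃ ζ : ℂˣ, orderOf ζ = 3 := by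
    have h := Complex.isPrimitiveRoot_exp 3 (by norm_num)
    refine ⟨(h.isUnit (by norm_num)).unit, ?_⟩
    rw [← orderOf_units, IsUnit.unit_spec, ← h.eq_orderOf]
  have hyb' : orderOf yb = 3 := by
    rw [← Nat.card_zpowers, (eq_top_iff' _).2 hgen, card_top, hQ3]
  let l₀ : (X ⧸ O) ⧸ R →* ℂˣ := monoidHomOfForallMemZpowers hgen (g' := ζ) (by rw [hyb', hζ])
  have hl₀ : l₀ yb = ζ := monoidHomOfForallMemZpowers_apply_gen hgen _
  let l : X →* ℂˣ := l₀.comp ((QuotientGroup.mk' R).comp q)
  have hlT : ∀ y ∈ T, y ∉ O → l y ≠ 1 := by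
    intro y hy hyO hl
    obtain ⟨k, hk⟩ := mem_zpowers_iff.1 (show q y ∈ zpowers y₀ from hy)
    have h1 : l y = ζ ^ k := by
      show l₀ (QuotientGroup.mk' R (q y)) = _
      rw [← hk, map_zpow, map_zpow, hl₀]
    rw [h1, ← orderOf_dvd_iff_zpow_eq_one, hζ] at hl
    refine hyO ((QuotientGroup.eq_one_iff y).1 ?_)
    show q y = 1
    rw [← hk, ← orderOf_dvd_iff_zpow_eq_one, hy₀]
    exact hl
  refine ⟨L, O, T, l, hOn, hLn, hOodd, ?_, ?_, ?_, hOT, hTcard, hXcard, ?_, ?_, hlT, ?_⟩
  · intro v hv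
    show q v ∈ R
    rw [show q v = 1 from (QuotientGroup.eq_one_iff v).2 hv]
    exact one_mem _
  · intro x hx
    refine ⟨1, (QuotientGroup.eq_one_iff _).1 ?_⟩
    show q (x ^ 2 ^ 1) = 1
    rw [pow_one, map_pow, pow_two]
    exact hRexp _ hx
  · intro Q x hx
    have hPL : (P : Subgroup X) ≤ L := fun s hs => mem_map_of_mem q hs
    show q x ∈ R
    refine hRC (mem_centralizer_iff.2 ?_)
    intro r hr
    -- the Sylow group of `L` covers `R`
    have hmapQ : ((Q : Subgroup L).map L.subtype).map q = R := by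
      refine eq_of_le_of_card_ge (map_le_iff_le_comap.2 (map_subtype_le _)) ?_
      have hQ8 : Nat.card (Q : Subgroup L) = 8 := by
        rw [Nat.card_congr (Q.equiv (P.subtype hPL)).toEquiv,
          Sylow.coe_subtype, Nat.card_congr (subgroupOfEquivOfLe hPL).toEquiv, h8]
      rw [hR8]
      refine le_of_eq ?_
      rw [map_map, ← hQ8]
      refine Nat.card_congr (Equiv.ofBijective (fun s : (Q : Subgroup L) =>
        (⟨q (s.1 : X), mem_map_of_mem _ s.2⟩ : (Q : Subgroup L).map (q.comp L.subtype))) ⟨?_, ?_⟩)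
      · intro a b hab
        have hab₀ : q (a.1 : X) = q (b.1 : X) := congrArg Subtype.val hab
        have hab' : q (((a.1 : L) : X)⁻¹ * (b.1 : X)) = 1 := by
          rw [map_mul, map_inv, hab₀, inv_mul_cancel]
        have hQp : IsPGroup 2 ↥((Q : Subgroup L).map L.subtype) := Q.2.map _
        have hm : ((a.1 : L) : X)⁻¹ * (b.1 : X) ∈ (Q : Subgroup L).map L.subtype ⊓ O :=
          ⟨Subgroup.mul_mem _ (Subgroup.inv_mem _ (mem_map_of_mem L.subtype a.2)) (mem_map_of_mem L.subtype b.2),
            (QuotientGroup.eq_one_iff _).1 hab'⟩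
        rw [CfsgLib.PCore.inf_eq_bot_of_isPGroup_coprime hQp
          CfsgLib.PCore.pPrimeCore_coprime, mem_bot, inv_mul_eq_one] at hm
        exact Subtype.ext (Subtype.ext hm)
      · rintro ⟨_, s, hs, rfl⟩
        exact ⟨⟨s, hs⟩, rfl⟩
    rw [← hmapQ] at hr
    obtain ⟨s, hs, rfl⟩ := hr
    rw [← map_mul, ← map_mul, mem_centralizer_iff.1 hx s hs]
  · intro x
    show l₀ _ ^ 3 = 1
    rw [← map_pow, ← hQ3, pow_card_eq_one', map_one]
  · intro v hv
    show l₀ (QuotientGroup.mk' R (q v)) = 1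
    rw [show q v = 1 from (QuotientGroup.eq_one_iff v).2 hv, map_one, map_one]
  · intro y hy hyO
    have hqy : q y ≠ 1 := fun h => hyO ((QuotientGroup.eq_one_iff y).1 h)
    have hgenT : zpowers (q y) = T₀ := by
      refine eq_of_le_of_card_ge (zpowers_le.2 hy) ?_
      rw [hT₀c, Nat.card_zpowers, orderOf_eq_prime (p := 3) ?_ hqy]
      have := pow_card_eq_one' (G := T₀) (x := ⟨q y, hy⟩)
      rw [hT₀c] at this
      exact congrArg Subtype.val this
    -- fixed points on the Sylow group
    have hfix : Nat.card ↥(R ⊓ centralizer ({y₀} : Set (X ⧸ O))) = 2 := by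
      letI : MulAction T₀ R := MulAction.compHom R (φ₀.comp T₀.subtype)
      have hmod := (IsPGroup.of_card (n := 1) (by rw [hT₀c, pow_one]) : IsPGroup 3 T₀)
        |>.card_modEq_card_fixedPoints R
      have hfe : MulAction.fixedPoints T₀ R =
          {r : R | (r : X ⧸ O) ∈ centralizer ({y₀} : Set (X ⧸ O))} := by
        ext r
        simp only [MulAction.mem_fixedPoints, Set.mem_setOf_eq, mem_centralizer_singleton_iff]
        constructor
        · intro h
          have h1 : y₀ * (r : X ⧸ O) * y₀⁻¹ = r := congrArg Subtype.val (h ⟨y₀, mem_zpowers y₀⟩)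
          exact (mul_inv_eq_iff_eq_mul.1 h1).symm
        · intro h a
          obtain ⟨k, hk⟩ := mem_zpowers_iff.1 a.2
          refine Subtype.ext ?_
          show (a : X ⧸ O) * (r : X ⧸ O) * (a : X ⧸ O)⁻¹ = r
          rw [← hk, ((show Commute (r : X ⧸ O) y₀ from h).zpow_right k).symm.eq, mul_inv_cancel_right]
      have hF : Nat.card (MulAction.fixedPoints T₀ R) =
          Nat.card ↥(R ⊓ centralizer ({y₀} : Set (X ⧸ O))) := by
        rw [hfe]
        exact Nat.card_congr ⟨fun r => ⟨r.1, r.1.2, r.2⟩, fun r => ⟨⟨r.1, r.2.1⟩, r.2.2⟩,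
          fun _ => rfl, fun _ => rfl⟩
      rw [hR8, hF] at hmod
      have hd : Nat.card ↥(R ⊓ centralizer ({y₀} : Set (X ⧸ O))) ∣ 2 ^ 3 := by
        have := card_dvd_of_le (inf_le_left : R ⊓ centralizer ({y₀} : Set (X ⧸ O)) ≤ R)
        rwa [hR8] at this
      obtain ⟨k, hk3, hk⟩ := (Nat.dvd_prime_pow Nat.prime_two).1 hd
      rw [hk] at hmod ⊢
      interval_cases k
      · exact absurd hmod (by decide)
      · norm_num
      · exact absurd hmod (by decide)
      · exfalso
        refine hy₀R (hRC (mem_centralizer_iff.2 fun r hr => ?_))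
        have he : R ⊓ centralizer ({y₀} : Set (X ⧸ O)) = R :=
          eq_of_le_of_card_ge inf_le_left (by rw [hk, hR8]; norm_num)
        rw [← he] at hr
        exact mem_centralizer_singleton_iff.1 hr.2
    -- the normalizer in the quotient
    set N := normalizer (T₀ : Set (X ⧸ O)) with hN
    have hNR : N ⊓ R = R ⊓ centralizer ({y₀} : Set (X ⧸ O)) := by
      ext r
      constructor
      · rintro ⟨hrN, hrR⟩
        refine ⟨hrR, mem_centralizer_singleton_iff.2 ?_⟩
        have h1 : r * y₀ * r⁻¹ * y₀⁻¹ ∈ T₀ :=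
          T₀.mul_mem ((mem_normalizer_iff.1 hrN y₀).1 (mem_zpowers y₀)) (inv_mem (mem_zpowers y₀))
        have h2 : r * y₀ * r⁻¹ * y₀⁻¹ ∈ R := by
          rw [mul_assoc, mul_assoc, ← mul_assoc y₀]
          exact R.mul_mem hrR (hRn.conj_mem _ (inv_mem hrR) y₀)
        have h3 := hTR.le ⟨h1, h2⟩
        rw [mem_bot, mul_inv_eq_one, mul_inv_eq_iff_eq_mul] at h3
        exact h3
      · rintro ⟨hrR, hrc⟩
        refine ⟨centralizer_le_normalizer _ ?_, hrR⟩
        rw [hT₀, zpowers_eq_closure, centralizer_closure]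
        exact hrc
    have hN6 : Nat.card N = 6 := by
      let f : N →* (X ⧸ O) ⧸ R := (QuotientGroup.mk' R).comp N.subtype
      have hfs : Function.Surjective f := fun x => by
        obtain ⟨k, hk⟩ := mem_zpowers_iff.1 (hgen x)
        refine ⟨⟨y₀ ^ k, le_normalizer (zpow_mem (mem_zpowers y₀) k)⟩, ?_⟩
        show QuotientGroup.mk' R (y₀ ^ k) = x
        rw [map_zpow]; exact hk
      have hfk : Nat.card f.ker = Nat.card ↥(N ⊓ R) :=
        Nat.card_congr ⟨fun a => ⟨a.1.1, a.1.2, (QuotientGroup.eq_one_iff a.1.1).1 a.2⟩,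
          fun a => ⟨⟨a.1, a.2.1⟩, (QuotientGroup.eq_one_iff a.1).2 a.2.2⟩,
          fun _ => rfl, fun _ => rfl⟩
      rw [← f.ker.card_mul_index, index_ker, MonoidHom.range_eq_top.2 hfs, card_top, hQ3, hfk,
        hNR, hfix]
    have hset : ∀ x : X, x * y * x⁻¹ ∈ T ↔ x ∈ N.comap q := by
      intro x
      show q (x * y * x⁻¹) ∈ T₀ ↔ q x ∈ N
      rw [map_mul, map_mul, map_inv]
      constructor
      · intro h
        refine mem_normalizer_iff.2 fun z => ⟨fun hz => ?_, fun hz => ?_⟩
        · rw [← hgenT] at hz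
          obtain ⟨k, rfl⟩ := mem_zpowers_iff.1 hz
          rw [← conj_zpow]
          exact zpow_mem h k
        · have hmap : T₀.map (MulAut.conj (q x)).toMonoidHom = T₀ := by
            refine eq_of_le_of_card_ge ?_ ?_
            · rintro _ ⟨w, hw, rfl⟩
              rw [← hgenT] at hw
              obtain ⟨k, rfl⟩ := mem_zpowers_iff.1 hw
              show q x * q y ^ k * (q x)⁻¹ ∈ T₀
              rw [← conj_zpow]
              exact zpow_mem h k
            · exact (Nat.card_congr (equivMapOfInjective _ _ (MulAut.conj (q x)).injective).toEquiv).le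
          rw [← hmap] at hz
          obtain ⟨w, hw, hwz⟩ := hz
          have : w = z := by
            have h' : q x * w * (q x)⁻¹ = q x * z * (q x)⁻¹ := hwz
            simpa using h'
          exact this ▸ hw
      · intro h
        exact (mem_normalizer_iff.1 h _).1 hy
    rw [Nat.card_congr (Equiv.subtypeEquivRight hset), show Nat.card {x // x ∈ N.comap q} =
      Nat.card (N.comap q) from rfl, hcomap, hN6, hTcard]
    ring

end CfsgLib.InvChar.EightLocal
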