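import Mathlib
import Cfsg.Prelude.Def_Transfer
import Cfsg.Agent.Lib.LargeExtra.Extra
import Cfsg.Agent.Lib.H82.TransferFix
import Cfsg.Agent.Lib.Transfer.Basic
import Cfsg.Agent.Lib.PCore.Basic

/-! Transfer from the centralizer of an involution with a large extraspecial 2-core. -/

set_option autoImplicit false

namespace CfsgLib.InvChar.LargeExtraTransfer

open Subgroup Cfsg CfsgLib.LargeExtra

/-- A product of involutory values invariant under a 2-group is the product over the fixed points. -/
theorem prod_eq_prod_fixed {W X A : Type*} [Group W] [Finite W] [MulAction W X] [Fintype X]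
    [CommGroup A] (hW : IsPGroup 2 W) (f : X → A) (hinv : ∀ (a : W) (x : X), f (a • x) = f x)
    (hsq : ∀ x, f x * f x = 1) [DecidablePred (· ∈ MulAction.fixedPoints W X)] :
    ∏ x, f x = ∏ x ∈ Finset.univ.filter (· ∈ MulAction.fixedPoints W X), f x := by
  classical
  rw [← Finset.prod_filter_mul_prod_filter_not Finset.univ (· ∈ MulAction.fixedPoints W X)]
  refine mul_eq_left.2 ?_
  rw [← Finset.prod_fiberwise_of_maps_to
    (g := fun x : X => (Quotient.mk'' x : MulAction.orbitRel.Quotient W X))
    (fun x _ => Finset.mem_univ _)]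
  refine Finset.prod_eq_one fun o _ => ?_
  induction o using Quotient.inductionOn' with
  | h x₀ =>
    by_cases hx₀ : x₀ ∈ MulAction.fixedPoints W X
    · refine Finset.prod_eq_one fun x hx => ?_
      simp only [Finset.mem_filter, Finset.mem_univ, true_and] at hx
      obtain ⟨a, ha⟩ := Quotient.exact' hx.2
      exact absurd (by rw [← ha]; show a • x₀ ∈ _; rw [hx₀ a]; exact hx₀) hx.1
    · have hset : ((Finset.univ.filter fun x => x ∉ MulAction.fixedPoints W X).filter fun x =>
          (Quotient.mk'' x : MulAction.orbitRel.Quotient W X) = Quotient.mk'' x₀) =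
          (MulAction.orbit W x₀).toFinset := by
        ext x
        simp only [Finset.mem_filter, Finset.mem_univ, true_and, Set.mem_toFinset]
        constructor
        · rintro ⟨-, h⟩
          exact Quotient.exact' h
        · intro h
          refine ⟨fun hfix => hx₀ ?_, Quotient.sound' h⟩
          obtain ⟨a, rfl⟩ := h
          have h2 : x₀ = a • x₀ := by simpa using hfix a⁻¹
          intro b
          have h3 := hfix b
          simp only [← h2] at h3
          exact h3
      rw [hset]
      have hval : ∀ x ∈ (MulAction.orbit W x₀).toFinset, f x = f x₀ := by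
        intro x hx
        obtain ⟨a, rfl⟩ := Set.mem_toFinset.1 hx
        exact hinv a x₀
      rw [Finset.prod_congr rfl hval, Finset.prod_const, Set.toFinset_card,
        ← Nat.card_eq_fintype_card]
      have hdvd : Nat.card (MulAction.orbit W x₀) ∣ Nat.card W := by
        rw [Nat.card_congr (MulAction.orbitEquivQuotientStabilizer W x₀)]
        exact Subgroup.index_dvd_card _
      obtain ⟨k, hk⟩ := hW.exists_card_eq
      rw [hk] at hdvd
      obtain ⟨j, -, hj⟩ := (Nat.dvd_prime_pow Nat.prime_two).1 hdvd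
      rcases j with _ | j
      · exfalso
        apply hx₀
        intro a
        rw [pow_zero, Nat.card_eq_one_iff_unique] at hj
        exact congrArg Subtype.val (hj.1.elim (⟨a • x₀, MulAction.mem_orbit x₀ a⟩ : MulAction.orbit W x₀)
          ⟨x₀, MulAction.mem_orbit_self x₀⟩)
      · rw [hj, pow_succ, mul_comm, pow_mul, pow_two, hsq, one_pow]

variable {G : Type*} [Group G] [Finite G]

/-- The setting: a self-centralizing extraspecial normal subgroup `E` of `C(z)`. -/
structure Setting (E : Subgroup G) (z : G) : Prop where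
  hext : IsExtraspecial 2 ↥E
  hz : orderOf z = 2
  le : E ≤ centralizer ({z} : Set G)
  cent : centralizer (E : Set G) ≤ E
  normal : ∀ h ∈ centralizer ({z} : Set G), ∀ a ∈ E, h * a * h⁻¹ ∈ E

variable {E : Subgroup G} {z : G}

theorem Setting.at (S : Setting E z) : ExtraAt E z := by
  obtain ⟨w, hw⟩ := ExtraAt.exists_of S.hext
  have hzE : z ∈ E := S.cent (mem_centralizer_iff.2 fun a ha =>
    mem_centralizer_singleton_iff.1 (S.le ha))
  rcases hw.central_cases hzE (fun q hq => mem_centralizer_singleton_iff.1 (S.le hq)) with h | h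
  · exact absurd h (fun e => by have := S.hz; rw [e, orderOf_one] at this; norm_num at this)
  · rw [h]; exact hw

theorem setting_of_pCore {z : G} {E : Subgroup G} (hz : orderOf z = 2)
    (hE : E = (Cfsg.pCore 2 ↥(centralizer ({z} : Set G))).map (centralizer ({z} : Set G)).subtype)
    (hext : IsExtraspecial 2 ↥E) (hcent : centralizer (E : Set G) ≤ E) : Setting E z := by
  refine ⟨hext, hz, hE ▸ map_subtype_le _, hcent, ?_⟩
  intro h hh a ha
  rw [hE] at ha ⊢
  obtain ⟨b, hb, rfl⟩ := ha
  exact ⟨⟨h, hh⟩ * b * ⟨h, hh⟩⁻¹, (Cfsg.pCore_normal 2 _).conj_mem b hb _, rfl⟩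

/-- A Sylow 2-subgroup containing `E` centralizes `z`; the index of `C(z)` is odd. -/
theorem Setting.index_odd (S : Setting E z) : Odd (centralizer ({z} : Set G)).index := by
  haveI : Fact (Nat.Prime 2) := ⟨Nat.prime_two⟩
  obtain ⟨P, hP⟩ := (isPGroup_of_extraspecial S.hext).exists_le_sylow
  have h := S.at
  haveI : Nontrivial ↥(P : Subgroup G) :=
    ⟨⟨z, hP h.z_mem⟩, 1, fun e => h.ne_one (congrArg Subtype.val e)⟩
  have hle : (P : Subgroup G) ≤ centralizer ({z} : Set G) := by
    haveI : Nontrivial ↥(center ↥(P : Subgroup G)) := P.isPGroup'.center_nontrivial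
    obtain ⟨c, hc⟩ := exists_ne (1 : ↥(center ↥(P : Subgroup G)))
    have hcC : ((c : ↥(P : Subgroup G)) : G) ∈ centralizer (E : Set G) := mem_centralizer_iff.2
      fun a ha => congrArg Subtype.val (mem_center_iff.1 c.2 ⟨a, hP ha⟩)
    rcases h.central_cases (S.cent hcC) (fun q hq => mem_centralizer_iff.1 hcC q hq) with e | e
    · exact absurd (Subtype.ext (Subtype.ext e)) hc
    · intro a ha
      rw [mem_centralizer_singleton_iff, ← e]
      exact congrArg Subtype.val (mem_center_iff.1 c.2 ⟨a, ha⟩)
  rw [← Nat.not_even_iff_odd, even_iff_two_dvd]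
  exact fun hd => P.not_dvd_index (hd.trans (index_dvd_of_le hle))

/-- An element of `C(z)` centralizing `C_E(e)` lies in `{1, z, e, ze}`. -/
theorem Setting.centralizer_cases (S : Setting E z) {e : G} (he : e ∈ E) (he2 : e * e = 1)
    (he1 : e ≠ 1) (hez : e ≠ z) {c : G} (hc : c ∈ centralizer ({z} : Set G))
    (hcc : ∀ a ∈ E, a * e = e * a → a * c = c * a) : c = 1 ∨ c = z ∨ c = e ∨ c = z * e := by
  have h := S.at
  obtain ⟨y, hy, hye⟩ := h.exists_conj_eq he he1 hez
  have heI : e⁻¹ = e := inv_eq_of_mul_eq_one_right he2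
  have hcz : c * z = z * c := mem_centralizer_singleton_iff.1 hc
  set x := y⁻¹ * (c * y * c⁻¹) with hx
  have hxE : x ∈ E := mul_mem (inv_mem hy) (S.normal c hc y hy)
  have hce : c * e = e * c := (hcc e he rfl).symm
  have hcases : ∀ a ∈ E, a * e = e * a → a * x = x * a := by
    intro a ha hae
    have hca : c * a * c⁻¹ = a := by rw [← hcc a ha hae, mul_inv_cancel_right]
    refine mul_inv_eq_iff_eq_mul.1 ?_
    have hc2 : c * y * c⁻¹ * a * (c * y * c⁻¹)⁻¹ = y * a * y⁻¹ := by
      calc c * y * c⁻¹ * a * (c * y * c⁻¹)⁻¹ = c * y * (c⁻¹ * (c * a * c⁻¹) * c) * y⁻¹ * c⁻¹ := by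
            rw [hca]; group
        _ = c * (y * a * y⁻¹) * c⁻¹ := by group
        _ = y * a * y⁻¹ := by
            rcases h.conj_cases hy ha with e1 | e1
            · rw [e1, hca]
            · rw [e1, show c * (z * a) * c⁻¹ = (c * z) * a * c⁻¹ by group, hcz,
                show z * c * a * c⁻¹ = z * (c * a * c⁻¹) by group, hca]
    have hax : x * a * x⁻¹ = a := by
      rw [hx]
      calc y⁻¹ * (c * y * c⁻¹) * a * (y⁻¹ * (c * y * c⁻¹))⁻¹
          = y⁻¹ * (c * y * c⁻¹ * a * (c * y * c⁻¹)⁻¹) * y := by group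
        _ = a := by rw [hc2]; group
    calc a * x * a⁻¹ = a * x * (x * a * x⁻¹)⁻¹ := by rw [hax]
      _ = a * x * x * a⁻¹ * x⁻¹ := by group
      _ = x := by
        rcases h.sq_cases hxE with e1 | e1
        · rw [mul_assoc a x x, e1, mul_one, mul_inv_cancel, one_mul]
          exact inv_eq_of_mul_eq_one_right e1
        · rw [mul_assoc a x x, e1, h.comm_z ha, mul_inv_cancel_right]
          rw [← e1, mul_inv_cancel_right]
  -- the squares of `y` and of its conjugate agree
  have hsq : c * (y * y) * c⁻¹ = y * y := by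
    rcases h.sq_cases hy with e1 | e1
    · rw [e1]; group
    · rw [e1, hcz, mul_inv_cancel_right]
  have hx' : x = 1 ∨ x = z := by
    have hyx : y * x = c * y * c⁻¹ := by rw [hx, mul_inv_cancel_left]
    have hbad : ∀ w : G, x = w → (w = e ∨ w = z * e) → False := by
      intro w hw hwe
      have h1 : (y * w) * (y * w) = y * y := by
        rw [← hw, hyx, show c * y * c⁻¹ * (c * y * c⁻¹) = c * (y * y) * c⁻¹ by group, hsq]
      have h2 : (y * e) * (y * e) = z * (y * y) := by
        have h3 : y * e = z * e * y := by rw [← hye, inv_mul_cancel_right]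
        calc (y * e) * (y * e) = y * e * (z * e * y) := by rw [← h3]
          _ = y * (e * z) * e * y := by group
          _ = y * (z * e) * e * y := by rw [h.comm_z he]
          _ = (y * z) * (e * e) * y := by group
          _ = z * (y * y) := by rw [he2, mul_one, h.comm_z hy, mul_assoc]
      rcases hwe with rfl | rfl
      · rw [h2, mul_eq_right] at h1; exact h.ne_one h1
      · have hzz : y * (z * e) = z * (y * e) := by rw [← mul_assoc, h.comm_z hy, mul_assoc]
        rw [hzz, show z * (y * e) * (z * (y * e)) = z * ((y * e) * z) * (y * e) by group,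
          h.comm_z (mul_mem hy he), show z * (z * (y * e)) * (y * e) = z * z * ((y * e) * (y * e)) by group,
          h.sq_one, one_mul, h2, mul_eq_right] at h1
        exact h.ne_one h1
    rcases h.double_centralizer he hy hye hxE hcases with e1 | e1 | e1 | e1
    · exact Or.inl e1
    · exact Or.inr e1
    · exact (hbad x rfl (Or.inl (e1.trans heI))).elim
    · exact (hbad x rfl (Or.inr (by rw [e1, heI]))).elim
  -- `c` or `c * e` centralizes `E`
  have hfin : ∀ d : G, d * y * d⁻¹ = y → (∀ a ∈ E, a * e = e * a → a * d = d * a) →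
      d ∈ centralizer ({z} : Set G) → d = 1 ∨ d = z ∨ d = e ∨ d = z * e := by
    intro d hdy hdc hdz
    have hdE : d ∈ E := by
      refine S.cent (mem_centralizer_iff.2 fun q hq => ?_)
      rcases h.split_conj he hy hye hq with e1 | e1
      · exact hdc q hq e1
      · have h2 := hdc _ (mul_mem (inv_mem hy) hq) e1
        have h3 : d * y = y * d := mul_inv_eq_iff_eq_mul.1 hdy
        calc q * d = y * (y⁻¹ * q * d) := by group
          _ = y * (d * (y⁻¹ * q)) := by rw [h2]
          _ = (y * d) * (y⁻¹ * q) := by group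
          _ = d * q := by rw [← h3]; group
    rcases h.double_centralizer he hy hye hdE hdc with e1 | e1 | e1 | e1
    · exact Or.inl e1
    · exact Or.inr (Or.inl e1)
    · exact Or.inr (Or.inr (Or.inl (e1.trans heI)))
    · exact Or.inr (Or.inr (Or.inr (by rw [e1, heI])))
  have hcy : c * y * c⁻¹ = y * x := by rw [hx, mul_inv_cancel_left]
  rcases hx' with e1 | e1
  · exact hfin c (by rw [hcy, e1, mul_one]) hcc hc
  · have hey : e * y * e⁻¹ = z * y := by
      have h3 : y * e = z * e * y := by rw [← hye, inv_mul_cancel_right]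
      refine mul_inv_eq_iff_eq_mul.2 ?_
      rw [mul_assoc z y e, h3, ← mul_assoc, ← mul_assoc, h.sq_one, one_mul]
    have hce' := hfin (c * e)
      (by
        calc c * e * y * (c * e)⁻¹ = c * (e * y * e⁻¹) * c⁻¹ := by group
          _ = c * z * y * c⁻¹ := by rw [hey]; group
          _ = z * (c * y * c⁻¹) := by rw [hcz]; group
          _ = y := by rw [hcy, e1, h.comm_z hy, ← mul_assoc, h.sq_one, one_mul])
      (fun a ha hae => by rw [← mul_assoc, hcc a ha hae, mul_assoc, hae, ← mul_assoc])
      (mul_mem hc (S.le he))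
    have hcee : c = c * e * e := by rw [mul_assoc, he2, mul_one]
    rcases hce' with e2 | e2 | e2 | e2 <;> rw [e2] at hcee <;> rw [hcee]
    · right; right; left; rw [one_mul]
    · right; right; right; rfl
    · left; exact he2
    · right; left; rw [mul_assoc, he2, mul_one]

/-- For `|E| ≥ 32`, `z` is a commutator in the centralizer in `E` of a noncentral involution. -/
theorem Setting.exists_commutator (S : Setting E z) (hcard : 32 ≤ Nat.card ↥E) {e : G} (he : e ∈ E)
    (he1 : e ≠ 1) (hez : e ≠ z) :
    ∃ a ∈ E, ∃ b ∈ E, a * e = e * a ∧ b * e = e * b ∧ a * b * a⁻¹ = z * b := by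
  classical
  have h := S.at
  obtain ⟨y, hy, hye⟩ := h.exists_conj_eq he he1 hez
  by_contra hne
  push_neg at hne
  have habel : ∀ a ∈ E, ∀ b ∈ E, a * e = e * a → b * e = e * b → a * b = b * a := fun a ha b hb hae hbe =>
    mul_inv_eq_iff_eq_mul.1 ((h.conj_cases ha hb).resolve_right (hne a ha b hb hae hbe))
  have hsmall : ∀ a ∈ E, a * e = e * a → a = 1 ∨ a = z ∨ a = e⁻¹ ∨ a = z * e⁻¹ := fun a ha hae =>
    h.double_centralizer he hy hye ha fun b hb hbe => habel b hb a ha hbe hae
  have hsub : ∀ q : ↥E, (q : G) ∈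
      (({1, z, e⁻¹, z * e⁻¹} : Finset G) ∪ ({1, z, e⁻¹, z * e⁻¹} : Finset G).image (y * ·)) := by
    intro q
    rcases h.split_conj he hy hye q.2 with e1 | e1
    · rcases hsmall q q.2 e1 with e2 | e2 | e2 | e2 <;> rw [e2] <;> simp
    · refine Finset.mem_union_right _ (Finset.mem_image.2 ⟨y⁻¹ * q, ?_, mul_inv_cancel_left y q⟩)
      rcases hsmall _ (mul_mem (inv_mem hy) q.2) e1 with e2 | e2 | e2 | e2 <;> rw [e2] <;> simp
  have hle := Nat.card_le_card_of_injective
    (fun q : ↥E => (⟨(q : G), hsub q⟩ : {g : G // g ∈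
      (({1, z, e⁻¹, z * e⁻¹} : Finset G) ∪ ({1, z, e⁻¹, z * e⁻¹} : Finset G).image (y * ·))}))
    fun a b hab => Subtype.ext (congrArg Subtype.val hab :)
  rw [Nat.card_eq_finsetCard] at hle
  have h4 : ({1, z, e⁻¹, z * e⁻¹} : Finset G).card ≤ 4 := Finset.card_le_four
  have := (Finset.card_union_le ({1, z, e⁻¹, z * e⁻¹} : Finset G)
    (({1, z, e⁻¹, z * e⁻¹} : Finset G).image (y * ·))).trans (Nat.add_le_add h4
      (Finset.card_image_le.trans h4))
  omega

/-- A homomorphism from `C(z)` with trivial transfer kills the involutions of `E`. -/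
theorem Setting.map_involution (S : Setting E z) (hcard : 32 ≤ Nat.card ↥E) {A : Type*} [CommGroup A]
    (φ : ↥(centralizer ({z} : Set G)) →* A) (hV : MonoidHom.transfer φ = 1)
    {e : G} (he : e ∈ E) (he2 : e * e = 1) : φ ⟨e, S.le he⟩ = 1 := by
  classical
  have h := S.at
  haveI : Fact (Nat.Prime 2) := ⟨Nat.prime_two⟩
  -- values on commutators
  have hcomm : ∀ (a b c : G) (hc : c ∈ (centralizer ({z} : Set G))), a ∈ (centralizer ({z} : Set G)) → b ∈ (centralizer ({z} : Set G)) → c = a * b * a⁻¹ * b⁻¹ →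
      φ ⟨c, hc⟩ = 1 := by
    intro a b c hc ha hb hcab
    have e0 : (⟨c, hc⟩ : ↥(centralizer ({z} : Set G))) = ⟨a, ha⟩ * ⟨b, hb⟩ * ⟨a, ha⟩⁻¹ * ⟨b, hb⟩⁻¹ := Subtype.ext hcab
    rw [e0, map_mul, map_mul, map_mul, map_inv, map_inv, mul_right_comm, mul_inv_cancel_right,
      mul_inv_cancel]
  by_cases he1 : e = 1
  · subst he1; exact map_one φ
  have hzH : z ∈ (centralizer ({z} : Set G)) := mem_centralizer_singleton_iff.2 rfl
  -- a witness that `z` is a commutator
  by_cases hez : e = z
  · subst hez
    obtain ⟨s, hs, hs1, hsz⟩ : ∃ s ∈ E, s ≠ 1 ∧ s ≠ e := by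
      by_contra hne
      push_neg at hne
      have hsub : E ≤ zpowers e := fun s hs => by
        by_cases hs1 : s = 1
        · rw [hs1]; exact one_mem _
        · rw [hne s hs hs1]; exact mem_zpowers e
      have := card_dvd_of_le hsub
      rw [Nat.card_zpowers, S.hz] at this
      have := Nat.le_of_dvd two_pos this
      omega
    obtain ⟨y, hy, hys⟩ := h.exists_conj_eq hs hs1 hsz
    refine hcomm y s e _ (S.le hy) (S.le hs) ?_
    rw [hys, mul_inv_cancel_right]
  obtain ⟨a, ha, b, hb, hae, hbe, hab⟩ := S.exists_commutator hcard he he1 hez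
  have hzab : z = a * b * a⁻¹ * b⁻¹ := by rw [hab, mul_inv_cancel_right]
  have hzφ : φ ⟨z, hzH⟩ = 1 := hcomm a b z hzH (S.le ha) (S.le hb) hzab
  haveI : (centralizer ({z} : Set G)).FiniteIndex := inferInstance
  letI := Fintype.ofFinite (G ⧸ (centralizer ({z} : Set G)))
  have heH : e ∈ (centralizer ({z} : Set G)) := S.le he
  have htr : MonoidHom.transfer φ e = ∏ q : G ⧸ (centralizer ({z} : Set G)), CfsgLib.TransferFix82.fixVal φ e q := by
    refine CfsgLib.TransferFix82.transfer_eq_prod_fixVal φ e fun r g hg hr hrd => ?_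
    have ho : orderOf e = 2 := orderOf_eq_prime (by rw [pow_two]; exact he2) he1
    rw [ho] at hrd
    have : r = 2 := le_antisymm (Nat.le_of_dvd two_pos hrd) hr
    subst this
    have e0 : (⟨g⁻¹ * e ^ 2 * g, hg⟩ : ↥(centralizer ({z} : Set G))) = 1 := Subtype.ext (by
      show g⁻¹ * e ^ 2 * g = 1
      rw [pow_two, he2]; group)
    rw [e0, map_one]
  set W := E ⊓ centralizer ({e} : Set G) with hW
  have hWp : IsPGroup 2 ↥W := (isPGroup_of_extraspecial S.hext).to_le inf_le_left
  have hinv : ∀ (w : ↥W) (q : G ⧸ (centralizer ({z} : Set G))), CfsgLib.TransferFix82.fixVal φ e (w • q) =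
      CfsgLib.TransferFix82.fixVal φ e q := by
    intro w q
    show CfsgLib.TransferFix82.fixVal φ e ((w : G) • q) = _
    rw [CfsgLib.TransferFix82.fixVal_smul]
    congr 1
    rw [mul_assoc, ← mem_centralizer_singleton_iff.1 w.2.2, inv_mul_cancel_left]
  have hsq : ∀ q : G ⧸ (centralizer ({z} : Set G)), CfsgLib.TransferFix82.fixVal φ e q *
      CfsgLib.TransferFix82.fixVal φ e q = 1 := by
    intro q
    unfold CfsgLib.TransferFix82.fixVal
    split_ifs with hq
    · rw [← map_mul]
      have e0 : (⟨q.out⁻¹ * e * q.out, hq⟩ * ⟨q.out⁻¹ * e * q.out, hq⟩ : ↥(centralizer ({z} : Set G))) = 1 := Subtype.ext (by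
        show q.out⁻¹ * e * q.out * (q.out⁻¹ * e * q.out) = 1
        calc q.out⁻¹ * e * q.out * (q.out⁻¹ * e * q.out) = q.out⁻¹ * (e * e) * q.out := by group
          _ = 1 := by rw [he2]; group)
      rw [e0, map_one]
    · exact one_mul 1
  rw [hV, MonoidHom.one_apply, prod_eq_prod_fixed hWp _ hinv hsq] at htr
  have hbase : ((1 : G) : G ⧸ (centralizer ({z} : Set G))) ∈
      Finset.univ.filter (· ∈ MulAction.fixedPoints ↥W (G ⧸ (centralizer ({z} : Set G)))) := by
    refine Finset.mem_filter.2 ⟨Finset.mem_univ _, fun w => ?_⟩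
    show (w : G) • ((1 : G) : G ⧸ (centralizer ({z} : Set G))) = _
    exact CfsgLib.TransferFix82.smul_eq_of_conj_mem (by simpa using S.le w.2.1)
  have hothers : ∀ q ∈ Finset.univ.filter (· ∈ MulAction.fixedPoints ↥W (G ⧸ (centralizer ({z} : Set G)))),
      q ≠ ((1 : G) : G ⧸ (centralizer ({z} : Set G))) → CfsgLib.TransferFix82.fixVal φ e q = 1 := by
    intro q hq hne
    induction q using QuotientGroup.induction_on with
    | H g =>
      have hq' := (Finset.mem_filter.1 hq).2
      have hmem : ∀ w ∈ W, g⁻¹ * w * g ∈ (centralizer ({z} : Set G)) := fun w hw =>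
        CfsgLib.TransferFix82.conj_mem_of_smul_eq (hq' ⟨w, hw⟩)
      set c := g * z * g⁻¹ with hc
      have hcw : ∀ w ∈ W, w * c = c * w := by
        intro w hw
        have h1 := mem_centralizer_singleton_iff.1 (hmem w hw)
        rw [hc]
        calc w * (g * z * g⁻¹) = g * (g⁻¹ * w * g * z) * g⁻¹ := by group
          _ = g * z * g⁻¹ * w := by rw [h1]; group
      have hzW : z ∈ W := ⟨h.z_mem, mem_centralizer_singleton_iff.2 (h.comm_z he).symm⟩
      have hcH : c ∈ (centralizer ({z} : Set G)) := mem_centralizer_singleton_iff.2 (hcw z hzW).symm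
      have heW : e ∈ W := ⟨he, mem_centralizer_singleton_iff.2 rfl⟩
      rw [CfsgLib.TransferFix82.fixVal_mk φ e g (hmem e heW)]
      rcases S.centralizer_cases he he2 he1 hez hcH
        (fun a ha hae => hcw a ⟨ha, mem_centralizer_singleton_iff.2 hae⟩) with e1 | e1 | e1 | e1
      · exfalso
        have : z = 1 := by
          calc z = g⁻¹ * c * g := by rw [hc]; group
            _ = 1 := by rw [e1]; group
        exact h.ne_one this
      · exfalso
        apply hne
        have hgH : g ∈ (centralizer ({z} : Set G)) := mem_centralizer_singleton_iff.2 (mul_inv_eq_iff_eq_mul.1 e1)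
        exact QuotientGroup.eq.2 (by simpa using hgH)
      · have e0 : (⟨g⁻¹ * e * g, hmem e heW⟩ : ↥(centralizer ({z} : Set G))) = ⟨z, hzH⟩ := Subtype.ext (by
          show g⁻¹ * e * g = z
          rw [← e1, hc]; group)
        rw [e0, hzφ]
      · have hz'H : g⁻¹ * z * g ∈ (centralizer ({z} : Set G)) := hmem z hzW
        have e0 : (⟨g⁻¹ * e * g, hmem e heW⟩ : ↥(centralizer ({z} : Set G))) = ⟨g⁻¹ * z * g, hz'H⟩ * ⟨z, hzH⟩ := Subtype.ext (by
          show g⁻¹ * e * g = g⁻¹ * z * g * z
          calc g⁻¹ * e * g = g⁻¹ * (z * (z * e)) * g := by rw [← mul_assoc z z e, h.sq_one, one_mul]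
            _ = g⁻¹ * z * g * z := by rw [← e1, hc]; group)
        rw [e0, map_mul, hzφ, mul_one]
        refine hcomm (g⁻¹ * a * g) (g⁻¹ * b * g) _ hz'H
          (hmem a ⟨ha, mem_centralizer_singleton_iff.2 hae⟩)
          (hmem b ⟨hb, mem_centralizer_singleton_iff.2 hbe⟩) ?_
        rw [hzab]; group
  rw [Finset.prod_eq_single_of_mem _ hbase fun q hq hne => hothers q hq hne] at htr
  have h1e : (1 : G)⁻¹ * e * 1 ∈ (centralizer ({z} : Set G)) := by simpa using heH
  rw [CfsgLib.TransferFix82.fixVal_mk φ e 1 h1e] at htr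
  rw [htr]
  exact congrArg φ (Subtype.ext (by simp))

/-- Every element of `E` is a product of involutions of `E`. -/
theorem Setting.le_closure_involutions (S : Setting E z) (hcard : 32 ≤ Nat.card ↥E) :
    E ≤ closure {e : G | e ∈ E ∧ e * e = 1} := by
  classical
  have h := S.at
  set M := closure {e : G | e ∈ E ∧ e * e = 1} with hM
  have hmem : ∀ e ∈ E, e * e = 1 → e ∈ M := fun e he he2 => subset_closure ⟨he, he2⟩
  -- products of commuting elements of order four are involutions
  have hprod : ∀ a ∈ E, ∀ b ∈ E, a * a = z → b * b = z → a * b = b * a → a * b * (a * b) = 1 := by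
    intro a ha b hb haa hbb hab
    calc a * b * (a * b) = a * (b * a) * b := by group
      _ = (a * a) * (b * b) := by rw [← hab]; group
      _ = 1 := by rw [haa, hbb, h.sq_one]
  -- a noncentral involution
  obtain ⟨e, he, he2, he1, hez⟩ : ∃ e ∈ E, e * e = 1 ∧ e ≠ 1 ∧ e ≠ z := by
    by_contra hne
    push_neg at hne
    obtain ⟨s, hs, hs1, hsz⟩ : ∃ s ∈ E, s ≠ 1 ∧ s ≠ z := by
      by_contra hne'
      push_neg at hne'
      have hsub : E ≤ zpowers z := fun s hs => by
        by_cases hs1 : s = 1
        · rw [hs1]; exact one_mem _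
        · rw [hne' s hs hs1]; exact mem_zpowers z
      have := card_dvd_of_le hsub
      rw [Nat.card_zpowers, S.hz] at this
      have := Nat.le_of_dvd two_pos this
      omega
    obtain ⟨a, ha, b, hb, has, hbs, hab⟩ := S.exists_commutator hcard hs hs1 hsz
    have hsq : ∀ u ∈ E, u ≠ 1 → u ≠ z → u * u = z := fun u hu h1 h2 =>
      (h.sq_cases hu).resolve_left fun e0 => h2 (hne u hu e0 h1)
    -- the centralizer of `s` is `{1, z, s, z s}`, which is abelian
    have hC : ∀ u ∈ E, u * s = s * u → u = 1 ∨ u = z ∨ u = s⁻¹ ∨ u = z * s⁻¹ := by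
      intro u hu hus
      by_cases h1 : u = 1
      · exact Or.inl h1
      by_cases h2 : u = z
      · exact Or.inr (Or.inl h2)
      have h3 := hprod u hu s hs (hsq u hu h1 h2) (hsq s hs hs1 hsz) hus
      by_cases h4 : u * s = 1
      · exact Or.inr (Or.inr (Or.inl (mul_eq_one_iff_eq_inv.1 h4)))
      · exact Or.inr (Or.inr (Or.inr (eq_mul_inv_iff_mul_eq.2 (hne _ (mul_mem hu hs) h3 h4))))
    have hcomm : a * b = b * a := by
      have key : ∀ v ∈ E, v * s = s * v → Commute v s⁻¹ ∧ Commute v z := fun v hv hvs =>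
        ⟨(show Commute v s from hvs).inv_right, h.comm_z hv⟩
      obtain ⟨ks, kz⟩ := key a ha has
      rcases hC b hb hbs with r' | r' | r' | r' <;> rw [r']
      · exact (Commute.one_right a).eq
      · exact kz.eq
      · exact ks.eq
      · exact (kz.mul_right ks).eq
    rw [hcomm, mul_inv_cancel_right] at hab
    exact h.ne_one (mul_eq_right.1 hab.symm)
  intro x hx
  rcases h.sq_cases hx with hx2 | hx2
  · exact hmem x hx hx2
  -- `x` of order four
  have hstep : ∀ u ∈ E, ∀ f ∈ E, u * u = z → f * f = 1 → f * u * f⁻¹ = z * u → u ∈ M := by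
    intro u hu f hf huu hff hconj
    have h1 : (u * f) * (u * f) = 1 := by
      have hfi : f⁻¹ = f := inv_eq_of_mul_eq_one_right hff
      rw [hfi] at hconj
      calc (u * f) * (u * f) = u * (f * u * f) := by group
        _ = u * z * u := by rw [hconj]; group
        _ = (u * u) * z := by rw [mul_assoc, ← h.comm_z hu, ← mul_assoc]
        _ = 1 := by rw [huu, h.sq_one]
    have : u = (u * f) * f := by rw [mul_assoc, hff, mul_one]
    rw [this]
    exact mul_mem (hmem _ (mul_mem hu hf) h1) (hmem f hf hff)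
  rcases h.conj_cases he hx with hc | hc
  swap
  · exact hstep x hx e he hx2 he2 hc
  obtain ⟨y, hy, hye⟩ := h.exists_conj_eq he he1 hez
  have hey : e * y * e⁻¹ = z * y := by
    have h3 : y * e = z * e * y := by rw [← hye, inv_mul_cancel_right]
    refine mul_inv_eq_iff_eq_mul.2 ?_
    rw [mul_assoc z y e, h3, ← mul_assoc, ← mul_assoc, h.sq_one, one_mul]
  rcases h.sq_cases hy with hy2 | hy2
  · rcases h.conj_cases hy hx with hc' | hc'
    swap
    · exact hstep x hx y hy hx2 hy2 hc'
    have h1 : (e * y) * (e * y) = z := by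
      calc (e * y) * (e * y) = (e * y * e) * y := by group
        _ = z * y * y := by rw [← hey, inv_eq_of_mul_eq_one_right he2]
        _ = z := by rw [mul_assoc, hy2, mul_one]
    have hcomm : x * (e * y) = (e * y) * x :=
      ((show Commute x e from (mul_inv_eq_iff_eq_mul.1 hc).symm).mul_right
        (show Commute x y from (mul_inv_eq_iff_eq_mul.1 hc').symm)).eq
    have h2 := hprod x hx _ (mul_mem he hy) hx2 h1 hcomm
    have : x = x * (e * y) * (y * e) := by
      calc x = x * (e * e) := by rw [he2, mul_one]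
        _ = x * (e * (y * y) * e) := by rw [hy2, mul_one]
        _ = x * (e * y) * (y * e) := by group
    rw [this]
    exact mul_mem (hmem _ (mul_mem hx (mul_mem he hy)) h2) (mul_mem (hmem y hy hy2) (hmem e he he2))
  · -- `y` has order four, `y * e` is an involution
    have hfinv : (y * e) * (y * e) = 1 := by
      calc (y * e) * (y * e) = y * (e * y * e) := by group
        _ = y * (z * y) := by rw [← hey, inv_eq_of_mul_eq_one_right he2]
        _ = z * (y * y) := by rw [← mul_assoc, h.comm_z hy, mul_assoc]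
        _ = 1 := by rw [hy2, h.sq_one]
    rcases h.conj_cases (mul_mem hy he) hx with hc' | hc'
    swap
    · exact hstep x hx _ (mul_mem hy he) hx2 hfinv hc'
    have hcomm : x * y = y * x := by
      have c1 : Commute x e := (mul_inv_eq_iff_eq_mul.1 hc).symm
      have c2 : Commute x (y * e) := (mul_inv_eq_iff_eq_mul.1 hc').symm
      have : y = y * e * e := by rw [mul_assoc, he2, mul_one]
      rw [this]
      exact (c2.mul_right c1).eq
    have h2 := hprod x hx y hy hx2 hy2 hcomm
    have hy' : y ∈ M := hstep y hy e he hy2 he2 hey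
    have : x = x * y * y⁻¹ := by group
    rw [this]
    exact mul_mem (hmem _ (mul_mem hx hy) h2) (inv_mem hy')

/-- A homomorphism from `C(z)` with trivial transfer kills `E` when `|E| ≥ 32`. -/
theorem Setting.map_eq_one (S : Setting E z) (hcard : 32 ≤ Nat.card ↥E) {A : Type*} [CommGroup A]
    (φ : ↥(centralizer ({z} : Set G)) →* A) (hV : MonoidHom.transfer φ = 1)
    {x : G} (hx : x ∈ E) : φ ⟨x, S.le hx⟩ = 1 := by
  have hx' : x ∈ (φ.ker.map (centralizer ({z} : Set G)).subtype) := by
    refine (closure_le _).2 ?_ (S.le_closure_involutions hcard hx)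
    rintro e ⟨he, he2⟩
    exact ⟨⟨e, S.le he⟩, S.map_involution hcard φ hV he he2, rfl⟩
  obtain ⟨⟨y, hy⟩, hy1, rfl⟩ := hx'
  exact hy1

end CfsgLib.InvChar.LargeExtraTransfer
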