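import Cfsg.Agent.Lib.InvChar.M24SylowData
import Cfsg.Agent.Lib.InvChar.AbelianSixtyFour

/-!
The central quotient of a Sylow 2-subgroup of the group of the 24-point code.
-/

set_option autoImplicit false

namespace CfsgLib.InvChar.M24Syl

open Cfsg CfsgLib.Golay CfsgLib.FusionMathieu

theorem exists_top : ∀ (gs rest : List (List ℕ)), (∀ g ∈ gs, ∃ σ : Equiv.Perm GolayPt, toList σ = g) →
    (∀ l ∈ elts rest, ∃ σ : Equiv.Perm GolayPt, toList σ = l) → ∀ l ∈ elts (gs ++ rest),
      ∃ t a : Equiv.Perm GolayPt,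
        toList t ∈ elts gs ∧ toList a ∈ elts rest ∧ toList (t * a) = l := by
  intro gs
  induction gs with
  | nil =>
    intro rest _ hrest l hl
    obtain ⟨a, rfl⟩ := hrest l hl
    exact ⟨1, a, List.mem_singleton.mpr toList_one, hl, by rw [one_mul]⟩
  | cons g gs ih =>
    intro rest hgs hrest l hl
    simp only [List.cons_append, elts, List.mem_append, List.mem_map] at hl
    have hgs' : ∀ y ∈ gs, ∃ σ : Equiv.Perm GolayPt, toList σ = y :=
      fun y hy => hgs y (List.mem_cons_of_mem _ hy)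
    rcases hl with hl | ⟨l', hl', rfl⟩
    · obtain ⟨t, a, ht, ha, h⟩ := ih rest hgs' hrest l hl
      exact ⟨t, a, by simp [elts, ht], ha, h⟩
    · obtain ⟨t, a, ht, ha, h⟩ := ih rest hgs' hrest l' hl'
      obtain ⟨γ, rfl⟩ := hgs g List.mem_cons_self
      refine ⟨γ * t, a, ?_, ha, by rw [mul_assoc, toList_mul, h]⟩
      simp only [elts, List.mem_append, List.mem_map]
      exact Or.inr ⟨_, ht, (toList_mul γ t).symm⟩

/-- The abstract facts, and the elementary abelian subgroup. -/
theorem exists_hyp : ∃ (P : Subgroup M24), Nat.card P = 2 ^ 10 ∧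
    Nat.card (P ⧸ Subgroup.center P) = 512 ∧
    ∃ A : Subgroup (P ⧸ Subgroup.center P),
      AbelianSixtyFour.Hyp A ∧ ∀ a ∈ A, a * a = 1 := by
  classical
  have hok := ok_true
  simp only [ok, Bool.and_eq_true, List.all_eq_true, List.contains_iff_mem, beq_iff_eq,
    Bool.not_eq_true', beq_eq_false_iff_ne, List.any_eq_true, Bool.or_eq_true,
    Nat.ble_eq] at hok
  obtain ⟨⟨⟨hch, hchA⟩, hin⟩, ⟨⟨⟨⟨⟨⟨⟨⟨⟨hzE, hcen⟩, hzc⟩, hzne⟩, hzA⟩, hab⟩, hnorm⟩, hone⟩, htwo⟩,
    hall⟩⟩ := hok
  obtain ⟨P₀, hP₀, hP₀card, hP₀cl⟩ := exists_chain gens hch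
  obtain ⟨A₀, hA₀, hA₀card, hA₀cl⟩ := exists_chain (gens.drop 3) hchA
  have hP₀le : P₀ ≤ M24 := by
    rw [hP₀cl, Subgroup.closure_le]
    intro σ hσ
    exact (mem_M24_iff' σ).mpr (hin _ hσ)
  let T : Subgroup M24 := P₀.subgroupOf M24
  let v : T → List ℕ := fun s => toList s.1.1
  have hv : Function.Injective v := fun a b hab => Subtype.ext (Subtype.ext (toList_injective hab))
  have hvmul : ∀ a b : T, v (a * b) = comp (v a) (v b) := fun a b => toList_mul _ _
  have hvE : ∀ s : T, v s ∈ elts gens := fun s => (hP₀.1 _).mp s.2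
  have hlift : ∀ l ∈ elts gens, ∃ s : T, v s = l := by
    intro l hl
    obtain ⟨σ, rfl⟩ := hP₀.2 l hl
    exact ⟨⟨⟨σ, hP₀le ((hP₀.1 σ).mpr hl)⟩, (hP₀.1 σ).mpr hl⟩, rfl⟩
  have hTcard : Nat.card T = 2 ^ 10 :=
    (Nat.card_congr (Subgroup.subgroupOfEquivOfLe hP₀le).toEquiv).trans
      (hP₀card.trans (by rfl))
  obtain ⟨z₀, hz₀⟩ := hlift z hzE
  have hcl : Subgroup.closure {s : T | v s ∈ gens} = ⊤ := by
    rw [eq_top_iff]
    rintro ⟨⟨σ, hσM⟩, hσ⟩ -
    have hσ' : σ ∈ P₀ := hσ
    let f : T →* Equiv.Perm GolayPt := (M24.subtype).comp T.subtype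
    have hf : Function.Injective f := fun a b hab => Subtype.ext (Subtype.ext hab)
    have hle : Subgroup.closure {τ : Equiv.Perm GolayPt | toList τ ∈ gens} ≤
        (Subgroup.closure {s : T | v s ∈ gens}).map f := by
      rw [Subgroup.closure_le]
      intro τ hτ
      have hτP : τ ∈ P₀ := hP₀cl ▸ Subgroup.subset_closure hτ
      exact ⟨⟨⟨τ, hP₀le hτP⟩, hτP⟩, Subgroup.subset_closure hτ, rfl⟩
    rw [hP₀cl] at hσ'
    obtain ⟨s, hs, he⟩ := hle hσ'
    exact hf (show f s = f ⟨⟨σ, hσM⟩, hσ⟩ from he) ▸ hs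
  have hz₀c : z₀ ∈ Subgroup.center T := by
    rw [Subgroup.mem_center_iff]
    have hle : Subgroup.closure {s : T | v s ∈ gens} ≤ Subgroup.centralizer {z₀} := by
      rw [Subgroup.closure_le]
      intro s hs
      refine Subgroup.mem_centralizer_singleton_iff.mpr (hv ?_)
      rw [hvmul, hvmul, hz₀]
      exact (hzc _ hs).symm
    intro s
    exact Subgroup.mem_centralizer_singleton_iff.mp (hle (hcl ▸ Subgroup.mem_top s))
  have hz₀1 : z₀ ≠ 1 := fun he => hzne (by rw [← hz₀, he]; exact toList_one)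
  have hcenmem : ∀ s : T, s ∈ Subgroup.center T → s = 1 ∨ s = z₀ := by
    intro s hs
    have h := hcen
    simp only [centreOk, List.all_eq_true, Bool.or_eq_true, Bool.not_eq_true', beq_iff_eq] at h
    rcases h (v s) (hvE s) with h | h | h
    · exfalso
      rw [List.all_eq_false] at h
      obtain ⟨y, hy, hy'⟩ := h
      obtain ⟨σ, rfl⟩ := exists_valid_of_chainOk hch y hy
      have hσP : σ ∈ P₀ := hP₀cl ▸ Subgroup.subset_closure hy
      refine hy' (beq_iff_eq.mpr ?_)
      have := congrArg v (Subgroup.mem_center_iff.mp hs ⟨⟨σ, hP₀le hσP⟩, hσP⟩)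
      rw [hvmul, hvmul] at this
      exact this.symm
    · exact Or.inl (hv (h.trans toList_one.symm))
    · exact Or.inr (hv (h.trans hz₀.symm))
  have hcencard : Nat.card (Subgroup.center T) = 2 := by
    rw [Nat.card_eq_two_iff]
    refine ⟨1, ⟨z₀, hz₀c⟩, fun he => hz₀1 (congrArg Subtype.val he).symm, ?_⟩
    ext s
    simp only [Set.mem_insert_iff, Set.mem_singleton_iff, Set.mem_univ, iff_true]
    exact (hcenmem s.1 s.2).imp Subtype.ext Subtype.ext
  have hScard : Nat.card (T ⧸ Subgroup.center T) = 512 := by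
    have := Subgroup.card_eq_card_quotient_mul_card_subgroup (Subgroup.center T)
    rw [hTcard, hcencard] at this
    omega
  let A₁ : Subgroup T := A₀.comap ((M24.subtype).comp T.subtype)
  have hA₁mem : ∀ s : T, s ∈ A₁ ↔ v s ∈ aElts := fun s => hA₀.1 _
  have hA₀le : A₀ ≤ P₀ := by
    rw [hA₀cl, hP₀cl]
    exact Subgroup.closure_mono fun σ hσ => List.mem_of_mem_drop hσ
  have hA₁card : Nat.card A₁ = 128 := by
    refine (Nat.card_congr ?_).trans (hA₀card.trans (by rfl))
    exact ⟨fun s => ⟨s.1.1.1, s.2⟩,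
      fun a => ⟨⟨⟨a.1, hP₀le (hA₀le a.2)⟩, hA₀le a.2⟩, a.2⟩,
      fun _ => rfl, fun _ => rfl⟩
  have hclA : A₁ = Subgroup.closure {s : T | v s ∈ gens.drop 3} := by
    refine le_antisymm ?_ ?_
    · intro s hs
      let f : T →* Equiv.Perm GolayPt := (M24.subtype).comp T.subtype
      have hf : Function.Injective f := fun a b hab => Subtype.ext (Subtype.ext hab)
      have hle : A₀ ≤ (Subgroup.closure {s : T | v s ∈ gens.drop 3}).map f := by
        rw [hA₀cl, Subgroup.closure_le]
        intro τ hτ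
        have hτP : τ ∈ P₀ := hA₀le (hA₀cl ▸ Subgroup.subset_closure hτ)
        exact ⟨⟨⟨τ, hP₀le hτP⟩, hτP⟩, Subgroup.subset_closure hτ, rfl⟩
      obtain ⟨s', hs', he⟩ := hle (show f s ∈ A₀ from hs)
      exact hf he ▸ hs'
    · rw [Subgroup.closure_le]
      intro s hs
      show s.1.1 ∈ A₀
      rw [hA₀cl]
      exact Subgroup.subset_closure hs
  have hA₁n : A₁.Normal := by
    rw [← Subgroup.normalizer_eq_top_iff, eq_top_iff, ← hcl, Subgroup.closure_le]
    intro g hg
    suffices hsub : ∀ a ∈ A₁, g * a * g⁻¹ ∈ A₁ by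
      refine Subgroup.mem_normalizer_iff.mpr fun a => ⟨hsub a, fun ha => ?_⟩
      have heq : A₁.map (MulAut.conj g).toMonoidHom = A₁ := by
        refine Subgroup.eq_of_le_of_card_ge ?_ ?_
        · rintro _ ⟨b, hb, rfl⟩
          exact hsub b hb
        · exact (Nat.card_congr (Subgroup.equivMapOfInjective _ _
            (MulEquiv.injective _)).toEquiv).le
      rw [← heq] at ha
      obtain ⟨b, hb, he⟩ := ha
      have : b = a := mul_left_cancel (mul_right_cancel (he : g * b * g⁻¹ = g * a * g⁻¹))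
      exact this ▸ hb
    intro a ha
    have hle : A₁ ≤ A₁.comap (MulAut.conj g).toMonoidHom := by
      conv_lhs => rw [hclA]
      rw [Subgroup.closure_le]
      intro b hb
      show g * b * g⁻¹ ∈ A₁
      have hbA : b ∈ A₁ := by rw [hclA]; exact Subgroup.subset_closure hb
      rcases List.mem_append.mp ((List.take_append_drop 3 gens).symm ▸ hg :
          v g ∈ gens.take 3 ++ gens.drop 3) with hg' | hg'
      · obtain ⟨l, hl, he⟩ := hnorm _ hg' _ hb
        obtain ⟨c, rfl⟩ := hA₀.2 l hl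
        have hcA : c ∈ A₀ := (hA₀.1 c).mpr hl
        have : g * b * g⁻¹ = ⟨⟨c, hP₀le (hA₀le hcA)⟩, hA₀le hcA⟩ := by
          rw [mul_inv_eq_iff_eq_mul]
          apply hv
          rw [hvmul, hvmul]
          exact he
        rw [this]
        exact hcA
      · have hgA : g ∈ A₁ := by rw [hclA]; exact Subgroup.subset_closure hg'
        exact mul_mem (mul_mem hgA hbA) (inv_mem hgA)
    exact hle ha
  have hZle : Subgroup.center T ≤ A₁ := by
    intro s hs
    rcases hcenmem s hs with rfl | rfl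
    · exact one_mem _
    · rw [hA₁mem, hz₀]; exact hzA
  let π : T →* T ⧸ Subgroup.center T := QuotientGroup.mk' (Subgroup.center T)
  have hπ : Function.Surjective π := QuotientGroup.mk'_surjective _
  let A : Subgroup (T ⧸ Subgroup.center T) := A₁.map π
  have hcomap : A.comap π = A₁ := by
    rw [Subgroup.comap_map_eq, QuotientGroup.ker_mk', sup_eq_left.mpr hZle]
  have hdouble : ∀ B : Subgroup (T ⧸ Subgroup.center T),
      Nat.card (B.comap π) = 2 * Nat.card B := by
    intro B
    have h1 := (B.comap π).card_mul_index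
    rw [Subgroup.index_comap_of_surjective _ hπ, hTcard] at h1
    have h2 := B.card_mul_index
    rw [hScard] at h2
    have h3 : 0 < B.index := Nat.pos_of_ne_zero Subgroup.index_ne_zero_of_finite
    refine Nat.eq_of_mul_eq_mul_right h3 ?_
    rw [h1, Nat.mul_assoc, h2]
    norm_num
  have hAcard : Nat.card A = 64 := by
    have := hdouble A
    rw [hcomap, hA₁card] at this
    omega
  have hcommZ : ∀ a x : T, commZ (v a) (v x) = true ↔ π a * π x = π x * π a := by
    intro a x
    rw [commZ, Bool.or_eq_true, beq_iff_eq, beq_iff_eq, ← hz₀, ← hvmul, ← hvmul, ← hvmul,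
      hv.eq_iff, hv.eq_iff, ← map_mul, ← map_mul]
    constructor
    · rintro (he | he)
      · rw [he]
      · rw [he, map_mul]
        rw [show π z₀ = 1 from (QuotientGroup.eq_one_iff z₀).mpr hz₀c, mul_one]
    · intro he
      have hmem : (x * a)⁻¹ * (a * x) ∈ Subgroup.center T := by
        rw [← QuotientGroup.eq]
        exact he.symm
      rcases hcenmem _ hmem with h1 | h1
      · exact Or.inl (inv_mul_eq_one.mp h1).symm
      · exact Or.inr (inv_mul_eq_iff_eq_mul.mp h1)
  have hAcl : A = Subgroup.closure (π '' {s : T | v s ∈ gens.drop 3}) := by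
    show A₁.map π = _
    rw [hclA, MonoidHom.map_closure]
  have hcomm : ∀ a ∈ A, ∀ b ∈ A, a * b = b * a := by
    have h1 : ∀ b ∈ π '' {s : T | v s ∈ gens.drop 3}, A ≤ Subgroup.centralizer {b} := by
      rintro _ ⟨y, hy, rfl⟩
      rw [hAcl, Subgroup.closure_le]
      rintro _ ⟨x, hx, rfl⟩
      exact Subgroup.mem_centralizer_singleton_iff.mpr
        ((hcommZ x y).mp ((hab _ hx).1 _ hy))
    intro a ha b hb
    have h2 : A ≤ Subgroup.centralizer {a} := by
      conv_lhs => rw [hAcl]
      rw [Subgroup.closure_le]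
      intro y hy
      exact Subgroup.mem_centralizer_singleton_iff.mpr
        (Subgroup.mem_centralizer_singleton_iff.mp (h1 y hy ha)).symm
    exact (Subgroup.mem_centralizer_singleton_iff.mp (h2 hb)).symm
  have hexp : ∀ a ∈ A, a * a = 1 := by
    intro a ha
    rw [hAcl] at ha
    induction ha using Subgroup.closure_induction with
    | mem y hy =>
      obtain ⟨x, hx, rfl⟩ := hy
      rw [← map_mul]
      apply (QuotientGroup.eq_one_iff _).mpr
      rcases (hab _ hx).2 with h1 | h1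
      · have : x * x = 1 := hv (by rw [hvmul]; exact h1.trans toList_one.symm)
        rw [this]; exact one_mem _
      · have : x * x = z₀ := hv (by rw [hvmul, hz₀]; exact h1)
        rw [this]; exact hz₀c
    | one => exact one_mul 1
    | mul a b ha hb iha ihb =>
      rw [← hAcl] at ha hb
      rw [mul_assoc, ← mul_assoc b a b, hcomm b hb a ha, mul_assoc a b b, ihb, mul_one, iha]
    | inv a _ iha => rw [← mul_inv_rev, iha, inv_one]
  have hfixlen : ∀ (B : Subgroup (T ⧸ Subgroup.center T)) (xs : List (List ℕ)),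
      B ≤ A → (∀ l ∈ xs, ∃ x : T, v x = l ∧ ∀ b ∈ B, b * π x = π x * b) →
      2 * Nat.card B ≤ (fixZ xs).length := by
    intro B xs hBA hxs
    rw [← hdouble B]
    refine le_trans ?_ (List.toFinset_card_le _)
    rw [← Nat.card_eq_finsetCard]
    refine Nat.card_le_card_of_injective (fun s => ⟨v s.1, ?_⟩) (fun a b hab' =>
      Subtype.ext (hv (Subtype.mk.inj hab')))
    rw [List.mem_toFinset, fixZ, List.mem_filter]
    have hsA : s.1 ∈ A₁ := by rw [← hcomap]; exact hBA s.2
    refine ⟨(hA₁mem _).mp hsA, List.all_eq_true.mpr fun l hl => ?_⟩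
    obtain ⟨x, rfl, hx⟩ := hxs l hl
    exact (hcommZ _ _).mpr (hx _ s.2)
  have hrep : ∀ q : T ⧸ Subgroup.center T, ∃ t : T,
      v t ∈ tops ∧ (π t)⁻¹ * q ∈ A := by
    intro q
    obtain ⟨s, rfl⟩ := hπ q
    obtain ⟨t, a, ht, ha, he⟩ := exists_top (gens.take 3) (gens.drop 3)
      (fun g hg => exists_valid_of_chainOk hch g (List.mem_of_mem_take hg)) hA₀.2 (v s)
      (by rw [List.take_append_drop]; exact hvE s)
    have haA : a ∈ A₀ := (hA₀.1 a).mpr ha
    have hta : t * a = s.1.1 := toList_injective he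
    have htP : t ∈ P₀ := by
      have hs : t * a ∈ P₀ := hta ▸ s.2
      exact (Subgroup.mul_mem_cancel_right _ (hA₀le haA)).mp hs
    refine ⟨⟨⟨t, hP₀le htP⟩, htP⟩, ht, ?_⟩
    rw [← map_inv, ← map_mul]
    refine Subgroup.mem_map_of_mem π ?_
    show t⁻¹ * s.1.1 ∈ A₀
    rw [← hta, inv_mul_cancel_left]
    exact haA
  have hcrep : ∀ (q : T ⧸ Subgroup.center T) (t : T), (π t)⁻¹ * q ∈ A →
      ∀ b ∈ A ⊓ Subgroup.centralizer {q}, b * π t = π t * b := by
    intro q t hq b hb
    have h1 := hcomm b hb.1 _ hq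
    have h2 := Subgroup.mem_centralizer_singleton_iff.mp hb.2
    have h3 : π t = q * ((π t)⁻¹ * q)⁻¹ := by group
    have h4 : b * ((π t)⁻¹ * q)⁻¹ = ((π t)⁻¹ * q)⁻¹ * b :=
      hcomm b hb.1 _ (inv_mem hq)
    rw [h3, ← mul_assoc, h2, mul_assoc, h4, mul_assoc]
  refine ⟨T, hTcard, hScard, A, ⟨hScard, hAcard, hA₁n.map π hπ, hcomm, ?_, ?_, ?_⟩, hexp⟩
  · intro q hq
    obtain ⟨t, ht, htq⟩ := hrep q
    rcases hone _ ht with h1 | h1
    · exfalso
      have : t = 1 := hv (h1.trans toList_one.symm)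
      rw [this, map_one, inv_one, one_mul] at htq
      exact hq htq
    · have := hfixlen (A ⊓ Subgroup.centralizer {q}) [v t] inf_le_left fun l hl =>
        ⟨t, (List.mem_singleton.mp hl).symm, hcrep q t htq⟩
      omega
  · intro q r hq hr hqr
    obtain ⟨t, ht, htq⟩ := hrep q
    obtain ⟨u, hu, hur⟩ := hrep r
    rcases htwo _ ht _ hu with ((h1 | h1) | h1) | h1
    · have : t = 1 := hv (h1.trans toList_one.symm)
      rw [this, map_one, inv_one, one_mul] at htq
      exact absurd htq hq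
    · have : u = 1 := hv (h1.trans toList_one.symm)
      rw [this, map_one, inv_one, one_mul] at hur
      exact absurd hur hr
    · exfalso
      rw [hv h1] at htq
      have := mul_mem (inv_mem htq) hur
      rw [mul_inv_rev, inv_inv, mul_assoc, mul_inv_cancel_left] at this
      exact hqr this
    · have := hfixlen (A ⊓ Subgroup.centralizer {q, r}) [v t, v u] inf_le_left fun l hl => by
        have h2 : ∀ w ∈ ({q, r} : Set (T ⧸ Subgroup.center T)),
            A ⊓ Subgroup.centralizer {q, r} ≤ A ⊓ Subgroup.centralizer {w} := fun w hw =>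
          inf_le_inf_left _ (Subgroup.centralizer_le (Set.singleton_subset_iff.mpr hw))
        simp only [List.mem_cons, List.not_mem_nil, or_false] at hl
        rcases hl with rfl | rfl
        · exact ⟨t, rfl, fun b hb => hcrep q t htq b (h2 q (by simp) hb)⟩
        · exact ⟨u, rfl, fun b hb => hcrep r u hur b (h2 r (by simp) hb)⟩
      omega
  · have := hfixlen (A ⊓ Subgroup.center _) gens inf_le_left fun l hl => by
      obtain ⟨σ, rfl⟩ := exists_valid_of_chainOk hch l hl
      have hσP : σ ∈ P₀ := hP₀cl ▸ Subgroup.subset_closure hl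
      exact ⟨⟨⟨σ, hP₀le hσP⟩, hσP⟩, rfl, fun b hb => (Subgroup.mem_center_iff.mp hb.2 _).symm⟩
    omega

end CfsgLib.InvChar.M24Syl
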