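import Cfsg.Agent.Lib.FusionMathieu.Groups

/-!
A Sylow 2-subgroup of the group of the 24-point code, as a chain whose last seven generators give
the preimage of the abelian subgroup of order 64 of the central quotient.
-/

set_option autoImplicit false

namespace CfsgLib.InvChar.M24Syl

open Cfsg CfsgLib.Golay CfsgLib.FusionMathieu

/-- The chain. -/
def gens : List (List ℕ) := [
  [0, 3, 2, 1, 4, 23, 11, 12, 18, 9, 10, 6, 7, 15, 14, 13, 20, 17, 8, 21, 16, 19, 22, 5],
  [0, 8, 2, 3, 4, 13, 20, 21, 1, 10, 9, 11, 23, 5, 14, 19, 16, 22, 18, 15, 6, 7, 17, 12],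
  [0, 1, 2, 16, 4, 21, 6, 13, 8, 17, 22, 18, 23, 7, 14, 19, 3, 9, 11, 15, 20, 5, 10, 12],
  [4, 8, 14, 16, 0, 13, 20, 21, 1, 17, 22, 18, 15, 5, 2, 12, 3, 9, 11, 23, 6, 7, 10, 19],
  [3, 9, 11, 0, 16, 19, 22, 15, 17, 1, 20, 2, 21, 23, 18, 7, 4, 8, 14, 5, 10, 12, 6, 13],
  [1, 0, 6, 9, 8, 13, 2, 21, 4, 3, 18, 22, 15, 5, 20, 12, 17, 16, 10, 23, 14, 7, 11, 19],
  [0, 6, 2, 3, 4, 21, 1, 13, 20, 22, 17, 11, 19, 7, 14, 23, 16, 10, 18, 12, 8, 5, 9, 15],
  [0, 1, 2, 11, 4, 13, 6, 21, 8, 22, 17, 3, 15, 5, 14, 12, 18, 10, 16, 23, 20, 7, 9, 19],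
  [0, 1, 2, 3, 14, 12, 6, 23, 20, 9, 17, 11, 5, 15, 4, 13, 18, 10, 16, 21, 8, 19, 22, 7],
  [2, 6, 0, 11, 14, 5, 1, 7, 20, 22, 17, 3, 12, 13, 4, 15, 18, 10, 16, 19, 8, 21, 9, 23]]

/-- The central involution. -/
def z : List ℕ :=
  [2, 6, 0, 11, 14, 5, 1, 7, 20, 22, 17, 3, 12, 13, 4, 15, 18, 10, 16, 19, 8, 21, 9, 23]

/-- The elements over the abelian subgroup. -/
def aElts : List (List ℕ) := elts (gens.drop 3)

/-- Representatives of the cosets. -/
def tops : List (List ℕ) := elts (gens.take 3)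

/-- Commuting modulo the centre. -/
def commZ (a x : List ℕ) : Bool :=
  comp a x == comp x a || comp a x == comp (comp x a) z

/-- The elements over the abelian subgroup commuting with all of `xs` modulo the centre. -/
def fixZ (xs : List (List ℕ)) : List (List ℕ) := aElts.filter fun a => xs.all (commZ a)

/-- All that has to be checked. -/
def ok : Bool :=
  chainOk gens && chainOk (gens.drop 3) && gens.all inG24 &&
  (let E := elts gens
   let A := aElts
   E.contains z && centreOk E gens z && gens.all (fun y => comp z y == comp y z) &&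
   !(z == idL) && A.contains z &&
   (gens.drop 3).all (fun a => (gens.drop 3).all (commZ a) &&
     (comp a a == idL || comp a a == z)) &&
   (gens.take 3).all (fun g => (gens.drop 3).all fun a => A.any fun b => comp g a == comp b g) &&
   tops.all (fun x => (x == idL) || (!(A.contains x) && Nat.ble (fixZ [x]).length 32)) &&
   tops.all (fun x => tops.all fun y =>
     (x == idL) || (y == idL) || (x == y) || Nat.ble (fixZ [x, y]).length 16) &&
   Nat.ble (fixZ gens).length 8)

set_option maxRecDepth 100000 in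
theorem ok_true : ok = true := by decide +kernel

end CfsgLib.InvChar.M24Syl
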