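import Cfsg.Agent.Lib.InvChar.SolvableTwo
import Cfsg.Agent.Lib.InvChar.Q8Action
import Cfsg.Agent.Lib.TwoGroups.OneInvolution

/-! Solvable groups with trivial odd core and 2-core of rank one that are not 2-closed. -/

set_option autoImplicit false

namespace CfsgLib.InvChar

open Subgroup CfsgLib.InvChar.Q8Action

variable {K : Type*} [Group K] [Finite K]

/-- An odd element centralizes a normalized generalized quaternion group of order at least 16. -/
theorem commute_of_odd_of_quaternion {m : ℕ} [NeZero m] (hm : 4 ≤ m) {Q : Subgroup K} (hQn : Q.Normal)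
    (hQ2 : IsPGroup 2 ↥Q) (e : ↥Q ≃* QuaternionGroup m) {g : K} (hg : Odd (orderOf g)) {x : K}
    (hx : x ∈ Q) : g * x = x * g := by
  set c : K := ((e.symm (QuaternionGroup.a 1) : ↥Q) : K) with hc
  set R := zpowers c with hR
  have hcQ : c ∈ Q := SetLike.coe_mem _
  have hordc : orderOf c = 2 * m := by
    rw [hc, Subgroup.orderOf_coe, MulEquiv.orderOf_eq, QuaternionGroup.orderOf_a_one]
  have hRQ : R ≤ Q := zpowers_le.2 hcQ
  have hout : ∀ (y : K) (hy : y ∈ Q), y ∉ R → ∃ i, e ⟨y, hy⟩ = QuaternionGroup.xa i := by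
    intro y hy hyR
    rcases hq : e ⟨y, hy⟩ with i | i
    · exfalso
      refine hyR (mem_zpowers_iff.2 ⟨(i.val : ℤ), ?_⟩)
      have h2 : e.symm (QuaternionGroup.a 1) ^ i.val = ⟨y, hy⟩ := by
        rw [← map_pow, QuaternionGroup.a_one_pow, ZMod.natCast_zmod_val, ← hq, MulEquiv.symm_apply_apply]
      have h3 := congrArg Subtype.val h2
      rw [SubmonoidClass.coe_pow] at h3
      rw [zpow_natCast]; exact h3
    · exact ⟨i, rfl⟩
  have hgc : g * c * g⁻¹ ∈ R := by
    by_contra h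
    obtain ⟨i, hi⟩ := hout _ (hQn.conj_mem c hcQ g) h
    have h1 := congrArg orderOf hi
    have h2 : orderOf (g * c * g⁻¹) = orderOf c := MulEquiv.orderOf_eq (MulAut.conj g) c
    rw [MulEquiv.orderOf_eq, Subgroup.orderOf_mk, QuaternionGroup.orderOf_xa, h2, hordc] at h1
    omega
  have hgR : g ∈ normalizer (R : Set K) := by
    refine Subgroup.mem_normalizer_fintype fun y hy => ?_
    obtain ⟨k, rfl⟩ := mem_zpowers_iff.1 hy
    rw [← conj_zpow]; exact zpow_mem hgc k
  have hR2 : IsPGroup 2 ↥R := hQ2.to_le hRQ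
  by_cases hxR : x ∈ R
  · exact commute_of_odd_of_cyclic hg R hR2 hgR hxR
  have hgx : g * x * g⁻¹ ∈ Q := hQn.conj_mem x hx g
  have hgxR : g * x * g⁻¹ ∉ R := fun h => hxR ((Subgroup.mem_normalizer_iff.1 hgR x).2 h)
  have hr : x⁻¹ * (g * x * g⁻¹) ∈ R := by
    by_contra h
    obtain ⟨i, hi⟩ := hout x hx hxR
    obtain ⟨j, hj⟩ := hout _ hgx hgxR
    obtain ⟨l, hl⟩ := hout _ (Q.mul_mem (Q.inv_mem hx) hgx) h
    have h2 : (⟨x⁻¹ * (g * x * g⁻¹), Q.mul_mem (Q.inv_mem hx) hgx⟩ : ↥Q) = ⟨x, hx⟩⁻¹ * ⟨_, hgx⟩ :=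
      Subtype.ext rfl
    rw [h2, map_mul, map_inv, hi, hj, inv_mul_eq_iff_eq_mul, QuaternionGroup.xa_mul_xa] at hl
    simp at hl
  obtain ⟨k, hk⟩ := hR2 ⟨_, hr⟩
  exact commute_of_odd_of_chain hg ⟨k, congrArg Subtype.val hk⟩
    (commute_of_odd_of_cyclic hg R hR2 hgR hr) (by group)

set_option synthInstance.maxSize 1000 in
theorem perm_four_facts :
    (∀ σ τ : Equiv.Perm (Fin 4), σ * σ = 1 → τ ^ 3 = 1 → τ ≠ 1 → σ * τ = τ * σ → σ = 1) ∧
    (∀ σ : Equiv.Perm (Fin 4), σ * σ = 1 → (∀ i, σ i ≠ i) →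
      ∃ a b : Equiv.Perm (Fin 4), a ^ 3 = 1 ∧ b ^ 3 = 1 ∧ σ = a * b) := by
  refine ⟨?_, ?_⟩ <;> decide +kernel

/-- The structure obtained when a non-central element of odd order acts on a quaternion 2-core. -/
theorem octahedral [Group.IsSolvable K] (hO : Cfsg.oddCore K = ⊥)
    (hrank : ∀ a b : K, a ∈ Cfsg.pCore 2 K → b ∈ Cfsg.pCore 2 K → orderOf a = 2 → orderOf b = 2 → a = b)
    (hns : ∀ P : Sylow 2 K, ¬ (P : Subgroup K).Normal) :
    Nat.card K = 48 ∧ Nat.card ↥(center K) = 2 ∧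
      Nonempty ((K ⧸ center K) ≃* Equiv.Perm (Fin 4)) ∧
      (∀ P : Sylow 2 K, Nat.card ↥(P : Subgroup K) = 16 ∧ ¬ IsCyclic ↥(P : Subgroup K)) ∧
      ((∃ t : K, orderOf t = 2 ∧ t ∉ center K) → Nonempty (Octa ≃* K)) := by
  classical
  set Q := Cfsg.pCore 2 K with hQdef
  have hQn : Q.Normal := Cfsg.pCore_normal 2 K
  have hQ2 : IsPGroup 2 ↥Q := CfsgLib.PCore.pCore_isPGroup
  have hQS : ∀ P : Sylow 2 K, Q ≤ (P : Subgroup K) := fun P => CfsgLib.PCore.pCore_le_sylow P
  obtain ⟨P0⟩ : Nonempty (Sylow 2 K) := inferInstance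
  have hnot2 : ¬ IsPGroup 2 K := fun h => hns P0 (by
    rw [← P0.is_maximal' (h.of_equiv topEquiv.symm) le_top]; infer_instance)
  obtain ⟨g, hg, x0, hx0, hgx⟩ : ∃ g : K, Odd (orderOf g) ∧ ∃ x ∈ Q, g * x ≠ x * g := by
    by_contra h
    push Not at h
    exact hnot2 (isPGroup_two_of_odd_centralize hO h)
  -- `Q` is quaternion of order 8
  obtain hcyc | ⟨n, hn, ⟨e0⟩⟩ := CfsgLib.TwoGroups.OneInvolution.isCyclic_or_quaternion hQ2
    (fun a b ha hb => Subtype.ext (hrank a b a.2 b.2 (by rw [orderOf_coe, ha]) (by rw [orderOf_coe, hb])))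
  · have hgn : g ∈ normalizer (Q : Set K) := by rw [normalizer_eq_top_iff.2 hQn]; trivial
    exact absurd (commute_of_odd_of_cyclic hg Q hQ2 hgn hx0) hgx
  obtain rfl : n = 1 := by
    by_contra hn1
    refine hgx (commute_of_odd_of_quaternion (m := 2 ^ n) ?_ hQn hQ2 e0 hg hx0)
    calc 4 = 2 ^ 2 := by norm_num
      _ ≤ 2 ^ n := Nat.pow_le_pow_right (by norm_num) (by omega)
  obtain ⟨e⟩ : Nonempty (↥Q ≃* Q8) := ⟨e0⟩
  clear e0 hgx hx0 x0 hg g
  obtain ⟨f1, f2, f3, f4, f5, f6, f7⟩ := q8_facts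
  obtain ⟨z1, z2, z3, z4, z5⟩ := zz_facts
  set f : Q8 →* K := Q.subtype.comp e.symm.toMonoidHom with hf
  have hfi : Function.Injective f := Q.subtype_injective.comp e.symm.injective
  have hfQ : ∀ u, f u ∈ Q := fun u => (e.symm u).2
  have hfs : ∀ x ∈ Q, ∃ u, f u = x := fun x hx => ⟨e ⟨x, hx⟩, by simp [f]⟩
  have hQ8 : Nat.card ↥Q = 8 := by
    rw [Nat.card_congr e.toEquiv, Nat.card_eq_fintype_card, QuaternionGroup.card]
  set z := f zz with hz
  have hcentQ : ∀ k : K, (∀ x ∈ Q, k * x = x * k) → k = 1 ∨ k = z := by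
    intro k hk
    have hkQ : k ∈ Q := centralizer_pCore_le hO fun x hx => (hk x hx).symm
    obtain ⟨u, rfl⟩ := hfs k hkQ
    rcases f1 u ⟨hfi (by rw [map_mul, map_mul]; exact hk _ (hfQ _)),
      hfi (by rw [map_mul, map_mul]; exact hk _ (hfQ _))⟩ with h | h
    · exact Or.inl (by rw [h, map_one])
    · exact Or.inr (by rw [h])
  have hz2 : orderOf z = 2 := orderOf_eq_prime (by rw [pow_two, hz, ← map_mul, z2, map_one])
    fun h => z3 (hfi (h.trans (map_one f).symm))
  have hzQ : z ∈ Q := hfQ _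
  have hzc : ∀ k : K, k * z = z * k := by
    intro k
    have h := hrank (k * z * k⁻¹) z (hQn.conj_mem z hzQ k) hzQ
      ((MulEquiv.orderOf_eq (MulAut.conj k) z).trans hz2) hz2
    exact mul_inv_eq_iff_eq_mul.1 h
  have hcenter : center K = zpowers z := by
    refine le_antisymm (fun k hk => ?_) (zpowers_le.2 (mem_center_iff.2 hzc))
    rcases hcentQ k (fun x _ => (mem_center_iff.1 hk x).symm) with h | h
    · rw [h]; exact one_mem _
    · rw [h]; exact mem_zpowers z
  have hcardZ : Nat.card ↥(center K) = 2 := by rw [hcenter, Nat.card_zpowers, hz2]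
  -- the induced automorphisms
  have hact : ∀ k : K, ∃ φ : Q8 →* Q8, Function.Injective φ ∧ ∀ u, f (φ u) = k * f u * k⁻¹ := by
    intro k
    refine ⟨e.toMonoidHom.comp (((MulAut.conjNormal k : MulAut ↥Q).toMonoidHom).comp e.symm.toMonoidHom), ?_, fun u => ?_⟩
    · exact e.injective.comp ((MulAut.conjNormal k : MulAut ↥Q).injective.comp e.symm.injective)
    · simp [f, MulAut.conjNormal_apply]
  choose φ hφi hφ using hact
  have hpair : ∀ k, GenPair (φ k qa) (φ k qx) := by
    intro k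
    refine ⟨?_, ?_, ?_, ?_⟩
    · rw [← map_mul, ← map_one (φ k), (hφi k).ne_iff]; exact z5.1
    · rw [← map_mul, ← map_one (φ k), (hφi k).ne_iff]; exact z5.2.1
    · rw [(hφi k).ne_iff]; exact z5.2.2.1
    · rw [← map_inv, (hφi k).ne_iff]; exact z5.2.2.2
  have hgen : ∀ k, (∀ u : Q8, u = qa ∨ u = qx → k * f u = f u * k) → ∀ x ∈ Q, k * x = x * k := by
    intro k hk x hx
    obtain ⟨u, rfl⟩ := hfs x hx
    have hh : (MulAut.conj k).toMonoidHom.comp f = f := hom_ext _ _
      (mul_inv_eq_iff_eq_mul.2 (hk qa (Or.inl rfl))) (mul_inv_eq_iff_eq_mul.2 (hk qx (Or.inr rfl)))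
    exact mul_inv_eq_iff_eq_mul.1 (DFunLike.congr_fun hh u)
  have hker : ∀ k l : K, φ k qa = φ l qa → φ k qx = φ l qx → l⁻¹ * k ∈ center K := by
    intro k l h1 h2
    have hu : ∀ u : Q8, u = qa ∨ u = qx → l⁻¹ * k * f u = f u * (l⁻¹ * k) := by
      intro u hu
      have h : k * f u * k⁻¹ = l * f u * l⁻¹ := by
        rcases hu with rfl | rfl <;> rw [← hφ, ← hφ] <;> first | rw [h1] | rw [h2]
      calc l⁻¹ * k * f u = l⁻¹ * (k * f u * k⁻¹) * k := by group
        _ = l⁻¹ * (l * f u * l⁻¹) * k := by rw [h]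
        _ = f u * (l⁻¹ * k) := by group
    rcases hcentQ _ (hgen _ hu) with h | h
    · rw [h]; exact one_mem _
    · rw [h, hcenter]; exact mem_zpowers z
  -- the order is at most 48
  have hle48 : Nat.card K ≤ 48 := by
    have := Fintype.ofFinite K
    let T := Finset.univ.filter fun p : Q8 × Q8 => GenPair p.1 p.2
    have h1 : (Finset.univ : Finset K).card ≤ 2 * T.card := by
      refine Finset.card_le_mul_card_image_of_maps_to (f := fun k => (φ k qa, φ k qx))
        (fun k _ => Finset.mem_filter.2 ⟨Finset.mem_univ _, hpair k⟩) 2 fun p _ => ?_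
      by_cases hne : (Finset.univ.filter fun k => (φ k qa, φ k qx) = p).Nonempty
      · obtain ⟨l, hl⟩ := hne
        have hl' := (Finset.mem_filter.1 hl).2
        refine (Finset.card_le_card (t := {l, l * z}) fun k hk => ?_).trans (Finset.card_le_two)
        have hk' := (Finset.mem_filter.1 hk).2
        have hm := hker k l (congrArg Prod.fst (hk'.trans hl'.symm)) (congrArg Prod.snd (hk'.trans hl'.symm))
        rw [hcenter] at hm
        obtain ⟨i, hi⟩ := mem_zpowers_iff.1 hm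
        rw [← zpow_mod_orderOf, hz2] at hi
        rw [Finset.mem_insert, Finset.mem_singleton]
        rcases Int.emod_two_eq_zero_or_one i with h | h
        · left
          rw [show i % ((2 : ℕ) : ℤ) = 0 by exact_mod_cast h, zpow_zero] at hi
          exact (inv_mul_eq_one.1 hi.symm).symm
        · right
          rw [show i % ((2 : ℕ) : ℤ) = 1 by exact_mod_cast h, zpow_one] at hi
          rw [hi, mul_inv_cancel_left]
      · rw [Finset.not_nonempty_iff_eq_empty.1 hne]; simp
    rw [Nat.card_eq_fintype_card, ← Finset.card_univ]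
    exact h1.trans (by rw [card_genPairs])
  -- an element of order 3
  have hQlt : ∀ P : Sylow 2 K, Q < (P : Subgroup K) := fun P =>
    lt_of_le_of_ne (hQS P) fun h => hns P (h ▸ hQn)
  obtain ⟨b, hb⟩ := P0.isPGroup'.exists_card_eq
  have hb16 : 16 ∣ Nat.card ↥(P0 : Subgroup K) := by
    have h1 : 8 < Nat.card ↥(P0 : Subgroup K) := by
      by_contra h
      exact (hQlt P0).ne (eq_of_le_of_card_ge (hQS P0) (by omega))
    rw [hb] at h1 ⊢
    have hb4 : 4 ≤ b := by
      by_contra h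
      have := Nat.pow_le_pow_right (show 1 ≤ 2 by norm_num) (show b ≤ 3 by omega)
      omega
    exact pow_dvd_pow 2 hb4
  have h16 : 16 ∣ Nat.card K := hb16.trans (card_subgroup_dvd_card _)
  have h48 : Nat.card K = 48 := by
    obtain ⟨c, hc⟩ := h16
    have hc3 : c ≤ 3 := by omega
    have hpos : 0 < Nat.card K := Nat.card_pos
    interval_cases c
    · omega
    · exact absurd (IsPGroup.of_card (n := 4) (by rw [hc]; norm_num)) hnot2
    · exact absurd (IsPGroup.of_card (n := 5) (by rw [hc]; norm_num)) hnot2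
    · rw [hc]
  have hP16 : ∀ P : Sylow 2 K, Nat.card ↥(P : Subgroup K) = 16 ∧ ¬ IsCyclic ↥(P : Subgroup K) := by
    intro P
    refine ⟨?_, fun h => ?_⟩
    · rw [P.card_eq_multiplicity, h48, show (48 : ℕ) = 2 ^ 4 * 3 by norm_num,
        Nat.factorization_mul (by norm_num) (by norm_num)]
      rw [Finsupp.add_apply, Nat.factorization_eq_zero_of_not_dvd (show ¬ 2 ∣ 3 by norm_num),
        Nat.Prime.factorization_pow Nat.prime_two, Finsupp.single_eq_same]
      norm_num
    · have hQc : IsCyclic ↥Q :=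
        isCyclic_of_injective (inclusion (hQS P)) (inclusion_injective (hQS P))
      have := (isCyclic_of_surjective (e : ↥Q →* Q8) e.surjective).exists_generator
      revert this
      simp only [← Submonoid.mem_powers_iff, ← mem_powers_iff_mem_zpowers]
      rintro ⟨u, hu⟩
      have hh : ∀ u : Q8, u * qa = qa * u → u * qx = qx * u → u * u = 1 := by decide +kernel
      obtain ⟨i, hi⟩ := hu qa
      obtain ⟨j, hj⟩ := hu qx
      have huc : u * u = 1 := hh u (by rw [← hi]; exact ((Commute.refl u).pow_right i).eq)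
        (by rw [← hj]; exact ((Commute.refl u).pow_right j).eq)
      apply z5.1
      rw [← hi, ← pow_two, ← pow_mul, mul_comm, pow_mul, pow_two, huc, one_pow]
  have : Fact (Nat.Prime 3) := ⟨Nat.prime_three⟩
  obtain ⟨w0, hw0⟩ := exists_prime_orderOf_dvd_card' (G := K) 3 (by rw [h48]; norm_num)
  -- elements of order 3 fix no element of order 4 of `Q` up to inversion
  have hnofix : ∀ w : K, orderOf w = 3 → ∀ p : Q8, p * p ≠ 1 →
      φ w p ≠ p ∧ φ w p ≠ p⁻¹ := by
    intro w hw p hp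
    have hφ3 : ∀ u, φ w (φ w (φ w u)) = u := by
      intro u
      apply hfi
      rw [hφ, hφ, hφ]
      calc w * (w * (w * f u * w⁻¹) * w⁻¹) * w⁻¹ = w ^ 3 * f u * (w ^ 3)⁻¹ := by rw [pow_succ w, pow_two]; group
        _ = f u := by rw [← hw, pow_orderOf_eq_one, one_mul, inv_one, mul_one]
    have hne : φ w p ≠ p := by
      intro hfix
      -- then `w` stabilises the cyclic subgroup of order 4 and centralises `Q`
      have hodd : Odd (orderOf w) := by rw [hw]; decide
      have hwp : w * f p = f p * w := mul_inv_eq_iff_eq_mul.1 (by rw [← hφ, hfix])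
      have hall : ∀ x ∈ Q, w * x = x * w := by
        intro x hx
        obtain ⟨u, rfl⟩ := hfs x hx
        have hq : ∀ u v : Q8, v * v ≠ 1 → (u ∈ ({1, zz, v, v⁻¹} : Finset Q8) ∨ GenPair v u) := by decide +kernel
        rcases hq u p hp with h | h
        · simp only [Finset.mem_insert, Finset.mem_singleton] at h
          rcases h with rfl | rfl | rfl | rfl
          · simp
          · exact hzc w
          · exact hwp
          · rw [map_inv]; exact (show Commute w (f p) from hwp).inv_right.eq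
        · have hsq : ∀ u : Q8, u * u ≠ 1 → u * u = zz := f3
          have him : φ w u ≠ p ∧ φ w u ≠ p⁻¹ := by
            constructor
            · intro hu'; exact h.2.2.1 (hφi w (hu'.trans hfix.symm))
            · intro hu'; exact h.2.2.2 (hφi w (hu'.trans (by rw [map_inv, hfix])))
          have hd : ∀ p u v : Q8, GenPair p u → v * v ≠ 1 → v ≠ p → v ≠ p⁻¹ →
              u⁻¹ * v = 1 ∨ u⁻¹ * v = zz ∨ u⁻¹ * v = p ∨ u⁻¹ * v = p⁻¹ := by decide +kernel
          have hv : φ w u * φ w u ≠ 1 := by rw [← map_mul, ← map_one (φ w), (hφi w).ne_iff]; exact h.2.1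
          have hr : w * f (u⁻¹ * φ w u) = f (u⁻¹ * φ w u) * w := by
            rcases hd p u _ h hv him.1 him.2 with h' | h' | h' | h' <;> rw [h']
            · simp
            · exact hzc w
            · exact hwp
            · rw [map_inv]; exact (show Commute w (f p) from hwp).inv_right.eq
          refine commute_of_odd_of_chain hodd ⟨2, ?_⟩ hr ?_
          · rw [← map_pow]
            have : ∀ u : Q8, u ^ (2 ^ 2) = 1 := by decide +kernel
            rw [this, map_one]
          · rw [← hφ, map_mul, map_inv, mul_inv_cancel_left]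
      have := hcentQ w hall
      rcases this with h | h
      · rw [h, orderOf_one] at hw; omega
      · rw [h, hz2] at hw; omega
    refine ⟨hne, fun h => hne ?_⟩
    have h2 : φ w (φ w p) = p := by rw [h, map_inv, h, inv_inv]
    have := hφ3 p
    rw [h2] at this
    exact this
  -- the action on the Sylow 3-subgroups
  have hwQ : ∀ w : K, orderOf w = 3 → ∀ x ∈ Q, w * x = x * w → x ∈ center K := by
    intro w hw x hx hwx
    obtain ⟨u, rfl⟩ := hfs x hx
    by_cases hu : u * u = 1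
    · rcases f2 u hu with rfl | rfl
      · rw [map_one]; exact one_mem _
      · rw [hcenter]; exact mem_zpowers z
    · exact absurd (hfi (by rw [hφ, hwx, mul_inv_cancel_right])) (hnofix w hw u hu).1
  have hS3 : ∀ S : Sylow 3 K, ∃ w, orderOf w = 3 ∧ (S : Subgroup K) = zpowers w := by
    intro S
    have hc : Nat.card ↥(S : Subgroup K) = 3 := by
      rw [S.card_eq_multiplicity, h48, show (48 : ℕ) = 16 * 3 ^ 1 by norm_num,
        Nat.factorization_mul (by norm_num) (by norm_num)]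
      simp [Nat.Prime.factorization Nat.prime_three, Nat.factorization_eq_zero_of_not_dvd (show ¬ 3 ∣ 16 by norm_num)]
    obtain ⟨⟨w, hw⟩, hwo⟩ := exists_prime_orderOf_dvd_card' (G := ↥(S : Subgroup K)) 3 (by rw [hc])
    rw [Subgroup.orderOf_mk] at hwo
    exact ⟨w, hwo, (eq_of_le_of_card_ge (zpowers_le.2 hw) (by rw [Nat.card_zpowers, hwo, hc])).symm⟩
  have hcomm : ∀ (S : Sylow 3 K) (k : K), k ∈ normalizer ((S : Subgroup K) : Set K) → k ∈ Q →
      k ∈ center K := by
    intro S k hk hkQ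
    obtain ⟨w, hw, hS⟩ := hS3 S
    refine hwQ w hw k hkQ ?_
    have hwS : w ∈ (S : Subgroup K) := hS ▸ mem_zpowers w
    have h1 : w * k * w⁻¹ * k⁻¹ ∈ Q := Q.mul_mem (hQn.conj_mem k hkQ w) (Q.inv_mem hkQ)
    have h2 : w * k * w⁻¹ * k⁻¹ ∈ (S : Subgroup K) := by
      rw [mul_assoc, mul_assoc, ← mul_assoc k]
      exact (S : Subgroup K).mul_mem hwS ((Subgroup.mem_normalizer_iff.1 hk _).1 ((S : Subgroup K).inv_mem hwS))
    have h3 : w * k * w⁻¹ * k⁻¹ = 1 := by
      have hd : Q ⊓ (S : Subgroup K) = ⊥ := disjoint_iff.1 (IsPGroup.disjoint_of_ne 2 3 (by norm_num) _ _ hQ2 S.isPGroup')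
      exact Subgroup.mem_bot.1 (hd ▸ ⟨h1, h2⟩)
    exact mul_inv_eq_iff_eq_mul.1 (mul_inv_eq_one.1 h3)
  obtain ⟨S0⟩ : Nonempty (Sylow 3 K) := inferInstance
  have hn4 : Nat.card (Sylow 3 K) = 4 := by
    have hidx : Nat.card (Sylow 3 K) = (normalizer ((S0 : Subgroup K) : Set K)).index :=
      S0.card_eq_index_normalizer
    have hmul := card_mul_index (normalizer ((S0 : Subgroup K) : Set K))
    rw [h48, ← hidx] at hmul
    obtain ⟨w, hw, hS⟩ := hS3 S0
    have h6 : 6 ∣ Nat.card ↥(normalizer ((S0 : Subgroup K) : Set K)) := by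
      have hzN : z ∈ normalizer ((S0 : Subgroup K) : Set K) :=
        Subgroup.mem_normalizer_fintype fun x hx => by rw [(hzc x).symm, mul_inv_cancel_right]; exact hx
      have d2 := Subgroup.orderOf_dvd_natCard _ hzN
      have d3 := Subgroup.orderOf_dvd_natCard _
        ((Subgroup.le_normalizer : (S0 : Subgroup K) ≤ _) (show w ∈ (S0 : Subgroup K) from hS ▸ mem_zpowers w))
      rw [hz2] at d2
      rw [hw] at d3
      exact Nat.Coprime.mul_dvd_of_dvd_of_dvd (by norm_num) d2 d3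
    have hne1 : Nat.card (Sylow 3 K) ≠ 1 := by
      intro h1
      rw [hidx, index_eq_one] at h1
      have h2 := hcomm S0 (f qa) (h1 ▸ mem_top _) (hfQ _)
      rw [hcenter] at h2
      have h3 := Subgroup.orderOf_dvd_natCard _ h2
      rw [Nat.card_zpowers, hz2, orderOf_injective f hfi] at h3
      have : orderOf qa = 4 := QuaternionGroup.orderOf_a_one
      rw [this] at h3
      norm_num at h3
    have hmod := card_sylow_modEq_one 3 K
    obtain ⟨c, hc⟩ := h6
    rw [hc] at hmul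
    generalize Nat.card (Sylow 3 K) = N at *
    unfold Nat.ModEq at hmod
    have hN : N ∣ 8 := ⟨c, by nlinarith⟩
    have := Nat.le_of_dvd (by norm_num) hN
    interval_cases N <;> omega
  let σ : Sylow 3 K ≃ Fin 4 := Finite.equivFinOfCardEq hn4
  let ρ : K →* Equiv.Perm (Fin 4) := σ.permCongrHom.toMonoidHom.comp (MulAction.toPermHom K (Sylow 3 K))
  have hρ : ∀ k : K, ρ k = 1 ↔ ∀ S : Sylow 3 K, k • S = S := by
    intro k
    simp only [ρ, MonoidHom.comp_apply, MulEquiv.coe_toMonoidHom, MulEquiv.map_eq_one_iff]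
    exact Equiv.ext_iff
  have hkerρ : ρ.ker = center K := by
    refine le_antisymm ?_ fun k hk => (hρ k).2 fun S => ?_
    · have hL : ∀ k : K, ρ k = 1 → k ∈ Q → k ∈ center K := fun k hk hkQ =>
        hcomm S0 k (Sylow.smul_eq_iff_mem_normalizer.1 ((hρ k).1 hk S0)) hkQ
      have hodd : ∀ k : K, ρ k = 1 → Odd (orderOf k) → k = 1 := by
        intro k hk hko
        have : ∀ x ∈ Q, k * x = x * k := by
          intro x hx
          have h1 : x⁻¹ * (k * x * k⁻¹) ∈ center K := by
            refine hL _ ?_ (Q.mul_mem (Q.inv_mem hx) (hQn.conj_mem x hx k))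
            simp [hk]
          have h2 : (x⁻¹ * (k * x * k⁻¹)) ^ 2 ^ 1 = 1 := by
            have h3 := orderOf_dvd_iff_pow_eq_one.1 (Subgroup.orderOf_dvd_natCard _ h1)
            rwa [hcardZ] at h3
          exact commute_of_odd_of_chain hko ⟨1, h2⟩ (mem_center_iff.1 h1 k) (by group)
        rcases hcentQ k this with h | h
        · exact h
        · rw [h, hz2] at hko; exact absurd hko (by decide)
      have h2 : IsPGroup 2 ↥ρ.ker := by
        intro ⟨k, hk⟩
        obtain ⟨a, m, hm, hkm⟩ := Nat.exists_eq_two_pow_mul_odd (orderOf_pos k).ne'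
        refine ⟨a, Subtype.ext ?_⟩
        change k ^ 2 ^ a = 1
        refine hodd _ (by rw [map_pow, MonoidHom.mem_ker.1 hk, one_pow]) ?_
        rw [orderOf_pow_of_dvd (by positivity) (hkm ▸ dvd_mul_right _ _), hkm,
          Nat.mul_div_cancel_left _ (by positivity)]
        exact hm
      intro k hk
      exact hL k hk (CfsgLib.PCore.le_pCore inferInstance h2 hk)
    · rw [Sylow.smul_eq_iff_mem_normalizer]
      exact Subgroup.mem_normalizer_fintype fun x hx => by
        rw [(mem_center_iff.1 hk x).symm, mul_inv_cancel_right]; exact hx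
  refine ⟨h48, hcardZ, ?_, hP16, ?_⟩
  · have hq : Nat.card (K ⧸ center K) = 24 := by
      have := card_eq_card_quotient_mul_card_subgroup (center K)
      rw [h48, hcardZ] at this
      omega
    refine ⟨(QuotientGroup.quotientMulEquivOfEq hkerρ.symm).trans
      ((QuotientGroup.quotientKerEquivRange ρ).trans ((MulEquiv.subgroupCongr ?_).trans topEquiv))⟩
    apply eq_top_of_card_eq
    rw [← Nat.card_congr (QuotientGroup.quotientKerEquivRange ρ).toEquiv,
      Nat.card_congr (QuotientGroup.quotientMulEquivOfEq hkerρ).toEquiv, hq, Nat.card_perm, Nat.card_fin]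
    rfl
  rintro ⟨t, ht, htc⟩
  have ht2 : t * t = 1 := by rw [← pow_two, ← ht, pow_orderOf_eq_one]
  have htQ : t ∉ Q := fun h => htc (hrank t z h hzQ ht hz2 ▸ mem_center_iff.2 hzc)
  -- `t` fixes a Sylow 3-subgroup
  obtain ⟨S, hS⟩ : ∃ S : Sylow 3 K, t • S = S := by
    by_contra hno
    push Not at hno
    obtain ⟨p4, q4⟩ := perm_four_facts
    obtain ⟨a, b, ha, hb, hab⟩ := q4 (ρ t) (by rw [← map_mul, ht2, map_one]) (by
      intro i hi
      apply hno (σ.symm i)
      apply σ.injective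
      simpa [ρ, Equiv.permCongrHom, Equiv.permCongr_apply] using hi)
    -- preimages of `a` and `b` have trivial square class in `K ⧸ Q`
    have hrange : ρ.range = ⊤ := by
      apply eq_top_of_card_eq
      rw [← index_ker, hkerρ, Nat.card_perm, Nat.card_fin]
      have := card_mul_index (center K)
      rw [hcardZ, h48] at this
      rw [show Nat.factorial 4 = 24 from rfl]
      omega
    obtain ⟨ka, hka⟩ : a ∈ ρ.range := hrange ▸ mem_top a
    obtain ⟨kb, hkb⟩ : b ∈ ρ.range := hrange ▸ mem_top b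
    have hq : (ka * kb)⁻¹ * t ∈ Q := by
      have hmem : (ka * kb)⁻¹ * t ∈ center K := by
        rw [← hkerρ, MonoidHom.mem_ker, map_mul, map_inv, map_mul, hka, hkb, ← hab, inv_mul_cancel]
      rw [hcenter] at hmem
      exact zpowers_le.2 hzQ hmem
    have hq6 : Nat.card (K ⧸ Q) = 6 := by
      have := card_eq_card_quotient_mul_card_subgroup Q
      rw [h48, hQ8] at this
      omega
    have hcube : ∀ k : K, ρ k ^ 3 = 1 → (k : K ⧸ Q) ^ 3 = 1 := by
      intro k hk
      rw [← map_pow] at hk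
      have h1 : k ^ 3 ∈ center K := hkerρ ▸ MonoidHom.mem_ker.2 hk
      rw [hcenter] at h1
      rw [← QuotientGroup.mk_pow, QuotientGroup.eq_one_iff]
      exact zpowers_le.2 hzQ h1
    have h3a := hcube ka (by rw [hka, ha])
    have h3b := hcube kb (by rw [hkb, hb])
    have htab : ((t : K) : K ⧸ Q) = (ka : K ⧸ Q) * kb := by
      rw [← QuotientGroup.mk_mul]; exact (QuotientGroup.eq.2 hq).symm
    obtain ⟨R⟩ : Nonempty (Sylow 3 (K ⧸ Q)) := inferInstance
    have hR : Subsingleton (Sylow 3 (K ⧸ Q)) := by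
      refine (Nat.card_eq_one_iff_unique.1 ?_).1
      have h1 := R.card_dvd_index
      have h2 := card_mul_index (R : Subgroup (K ⧸ Q))
      have hRc : Nat.card ↥(R : Subgroup (K ⧸ Q)) = 3 := by
        rw [R.card_eq_multiplicity, hq6, show (6 : ℕ) = 2 * 3 ^ 1 by norm_num,
          Nat.factorization_mul (by norm_num) (by norm_num)]
        simp [Nat.Prime.factorization Nat.prime_three,
          Nat.factorization_eq_zero_of_not_dvd (show ¬ 3 ∣ 2 by norm_num)]
      rw [hRc, hq6] at h2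
      rw [show (R : Subgroup (K ⧸ Q)).index = 2 by omega] at h1
      have h3 := card_sylow_modEq_one 3 (K ⧸ Q)
      have h4 := Nat.le_of_dvd (by norm_num) h1
      unfold Nat.ModEq at h3
      generalize Nat.card (Sylow 3 (K ⧸ Q)) = N at *
      omega
    have hinR : ∀ y : K ⧸ Q, y ^ 3 = 1 → y ∈ (R : Subgroup (K ⧸ Q)) := by
      intro y hy
      obtain ⟨i, -, hi⟩ := (Nat.dvd_prime_pow Nat.prime_three).1
        (show orderOf y ∣ 3 ^ 1 from orderOf_dvd_of_pow_eq_one (by rwa [pow_one]))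
      obtain ⟨R', hR'⟩ := (IsPGroup.of_card (n := i) (by rw [Nat.card_zpowers, hi]) :
        IsPGroup 3 ↥(zpowers y)).exists_le_sylow
      rw [← Subsingleton.elim R' R]
      exact hR' (mem_zpowers y)
    have htR : ((t : K) : K ⧸ Q) ∈ (R : Subgroup (K ⧸ Q)) :=
      htab ▸ (R : Subgroup (K ⧸ Q)).mul_mem (hinR _ h3a) (hinR _ h3b)
    obtain ⟨i, hi⟩ := R.isPGroup' ⟨_, htR⟩
    have hi' : (t : K ⧸ Q) ^ 3 ^ i = 1 := congrArg Subtype.val hi
    have hodd : Odd (3 ^ i) := Odd.pow (by decide)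
    obtain ⟨j, hj⟩ := hodd
    rw [hj, pow_succ, pow_mul, ← QuotientGroup.mk_pow, pow_two, ht2, QuotientGroup.mk_one, one_pow,
      one_mul, QuotientGroup.eq_one_iff] at hi'
    exact htQ hi'
  obtain ⟨w, hw, hSw⟩ := hS3 S
  have htw : t * w * t⁻¹ = w⁻¹ := by
    have hN := Sylow.smul_eq_iff_mem_normalizer.1 hS
    have h1 : t * w * t⁻¹ ∈ zpowers w := by
      rw [← hSw]; exact (Subgroup.mem_normalizer_iff.1 hN w).1 (hSw ▸ mem_zpowers w)
    obtain ⟨i, hi⟩ := mem_zpowers_iff.1 h1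
    rw [← zpow_mod_orderOf, hw] at hi
    have hcases : i % 3 = 0 ∨ i % 3 = 1 ∨ i % 3 = 2 := by omega
    rcases hcases with h | h | h <;> rw [show i % ((3 : ℕ) : ℤ) = i % 3 from rfl, h] at hi
    · rw [zpow_zero] at hi
      have := conj_eq_one_iff.1 hi.symm
      rw [this, orderOf_one] at hw
      omega
    · exfalso
      rw [zpow_one] at hi
      have hc := perm_four_facts.1 (ρ t) (ρ w) (by rw [← map_mul, ht2, map_one])
        (by rw [← map_pow, ← hw, pow_orderOf_eq_one, map_one]) ?_ ?_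
      · exact htc (hkerρ ▸ MonoidHom.mem_ker.2 hc)
      · intro hw1
        have hmem : w ∈ center K := hkerρ ▸ MonoidHom.mem_ker.2 hw1
        have := Subgroup.orderOf_dvd_natCard _ hmem
        rw [hw, hcardZ] at this
        norm_num at this
      · rw [← map_mul, ← map_mul, mul_inv_eq_iff_eq_mul.1 hi.symm]
    · rw [← hi, show ((2 : ℤ)) = ((2 : ℕ) : ℤ) from rfl, zpow_natCast]
      refine eq_inv_of_mul_eq_one_left ?_
      rw [← pow_succ]
      show w ^ 3 = 1
      rw [← hw, pow_orderOf_eq_one]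
  -- choose the generators
  have hγ3 : ∀ u, φ w (φ w (φ w u)) = u := fun u => hfi (by
    rw [hφ, hφ, hφ]
    calc w * (w * (w * f u * w⁻¹) * w⁻¹) * w⁻¹ = w ^ 3 * f u * (w ^ 3)⁻¹ := by rw [pow_succ w, pow_two]; group
      _ = f u := by rw [← hw, pow_orderOf_eq_one, one_mul, inv_one, mul_one])
  have hδ2 : ∀ u, φ t (φ t u) = u := fun u => hfi (by
    rw [hφ, hφ]
    calc t * (t * f u * t⁻¹) * t⁻¹ = (t * t) * f u * (t * t)⁻¹ := by group
      _ = f u := by rw [ht2, one_mul, inv_one, mul_one])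
  have hδγ : ∀ u, φ t (φ w u) = φ w (φ w (φ t u)) := fun u => hfi (by
    rw [hφ, hφ, hφ, hφ, hφ]
    have h2 : w * w = w⁻¹ := eq_inv_of_mul_eq_one_left (by
      rw [← pow_two, ← pow_succ]
      show w ^ 3 = 1
      rw [← hw, pow_orderOf_eq_one])
    calc t * (w * f u * w⁻¹) * t⁻¹ = (t * w * t⁻¹) * (t * f u * t⁻¹) * (t * w * t⁻¹)⁻¹ := by group
      _ = w⁻¹ * (t * f u * t⁻¹) * (w⁻¹)⁻¹ := by rw [htw]
      _ = (w * w) * (t * f u * t⁻¹) * (w * w)⁻¹ := by rw [h2]
      _ = w * (w * (t * f u * t⁻¹) * w⁻¹) * w⁻¹ := by group)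
  have hsqne : ∀ k p, p * p ≠ 1 → φ k p * φ k p ≠ 1 := fun k p hp => by
    rw [← map_mul, ← map_one (φ k), (hφi k).ne_iff]; exact hp
  obtain ⟨a, ha, hta⟩ : ∃ a : Q8, a * a ≠ 1 ∧ (φ t a = a ∨ φ t a = a⁻¹) := by
    by_contra hcon
    push Not at hcon
    have hp : GenPair qa (φ t qa) :=
      ⟨z5.1, hsqne t qa z5.1, (hcon qa z5.1).1, (hcon qa z5.1).2⟩
    obtain ⟨-, h2, h3⟩ := f4 _ _ hp
    refine (hcon (qa * φ t qa) h2).2 ?_
    rw [map_mul, hδ2, h3]
  have hax : GenPair a (φ w a) :=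
    ⟨ha, hsqne w a ha, (hnofix w hw a ha).1, (hnofix w hw a ha).2⟩
  -- normalise the sign
  obtain ⟨a, ha, hta, hprod⟩ : ∃ a : Q8, a * a ≠ 1 ∧ (φ t a = a ∨ φ t a = a⁻¹) ∧
      φ w (φ w a) = a * φ w a := by
    have hr1 := hsqne w _ (hsqne w a ha)
    have h1 : φ w (φ w a) ≠ a := fun h => by
      have := hγ3 a
      rw [h] at this
      exact (hnofix w hw a ha).1 this
    have h2 : φ w (φ w a) ≠ a⁻¹ := fun h => by
      have := hγ3 a
      rw [h, map_inv, inv_eq_iff_eq_inv] at this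
      exact (hnofix w hw a ha).2 this
    rcases f5 a (φ w a) (φ w (φ w a)) hax hr1 h1 h2 (hnofix w hw _ hax.2.1).1
      (hnofix w hw _ hax.2.1).2 with h | h
    · exact ⟨a, ha, hta, h⟩
    · refine ⟨a⁻¹, by rw [← mul_inv_rev, ne_eq, inv_eq_one]; exact ha, ?_, ?_⟩
      · rcases hta with h' | h'
        · left; rw [map_inv, h']
        · right; rw [map_inv, h']
      · rw [map_inv, map_inv, h, inv_inv, (f6 _ _ hax).2]
  set x := φ w a with hxdef
  have hax : GenPair a x := ⟨ha, hsqne w a ha, (hnofix w hw a ha).1, (hnofix w hw a ha).2⟩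
  have hta' : φ t a = a⁻¹ := by
    rcases hta with h | h
    · exfalso
      have h1 : φ t x = a * x := by rw [hxdef, hδγ, h, hprod]
      have h2 : φ t (a * x) = a * (a * x) := by rw [map_mul, h, h1]
      have h3 : φ t (φ t x) = a * (a * x) := by rw [h1, h2]
      rw [hδ2] at h3
      exact f7 a x hax h3.symm
    · exact h
  have htx : φ t x = (a * x)⁻¹ := by rw [hxdef, hδγ, hta', map_inv, map_inv, hprod]
  let ψ : Q8 →* Q8 := MonoidHom.mk' (genFun a x) (genFun_hom a x hax)
  have hψi : Function.Injective ψ := Finite.injective_iff_surjective.2 (genFun_bijective a x hax)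
  set F : Q8 →* K := f.comp ψ with hF
  have hψa : ψ qa = a := (genFun_gens a x).1
  have hψx : ψ qx = x := (genFun_gens a x).2
  have hαv : alphaFun qa = qx ∧ alphaFun qx = qa * qx ∧ betaFun qa = qa⁻¹ ∧ betaFun qx = (qa * qx)⁻¹ := by
    refine ⟨?_, ?_, ?_, ?_⟩ <;> decide +kernel
  have hFw : ∀ u, w * F u * w⁻¹ = F (alphaFun u) := by
    intro u
    have hh : (MulAut.conj w).toMonoidHom.comp F = F.comp alphaEquiv.toMonoidHom := by
      apply hom_ext
      · change w * f (ψ qa) * w⁻¹ = f (ψ (alphaFun qa))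
        rw [hαv.1, hψa, hψx, hxdef, hφ]
      · change w * f (ψ qx) * w⁻¹ = f (ψ (alphaFun qx))
        rw [hαv.2.1, map_mul ψ, hψa, hψx, ← hprod]
        exact (hφ w x).symm
    exact DFunLike.congr_fun hh u
  have hFt : ∀ u, t * F u * t⁻¹ = F (betaFun u) := by
    intro u
    have hh : (MulAut.conj t).toMonoidHom.comp F = F.comp betaEquiv.toMonoidHom := by
      apply hom_ext
      · change t * f (ψ qa) * t⁻¹ = f (ψ (betaFun qa))
        rw [hαv.2.2.1, map_inv ψ, hψa, ← hta', hφ]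
      · change t * f (ψ qx) * t⁻¹ = f (ψ (betaFun qx))
        rw [hαv.2.2.2, map_inv ψ, map_mul ψ, hψa, hψx, ← htx]
        exact (hφ t x).symm
    exact DFunLike.congr_fun hh u
  have hw3 : w ^ 3 = 1 := by rw [← hw, pow_orderOf_eq_one]
  have hwt : w * t = t * w ^ 2 := by
    have hwi : w⁻¹ = w ^ 2 := inv_eq_of_mul_eq_one_right (by rw [← pow_succ', hw3])
    rw [← hwi, ← htw, ← mul_assoc, ← mul_assoc, ht2, one_mul]
    rw [inv_eq_of_mul_eq_one_right ht2]
  refine nonempty_equiv h48 F w t hw3 ht2 hwt hFw hFt fun u d hud => ?_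
  have hdQ : dihFun w t d ∈ Q := by
    rw [eq_inv_of_mul_eq_one_right hud]; exact Q.inv_mem (hfQ _)
  have hwQ' : ∀ i : ℕ, w ^ i ∈ Q → 3 ∣ i := by
    intro i hi
    obtain ⟨j, hj⟩ := hQ2 ⟨_, hi⟩
    have hj' : w ^ (i * 2 ^ j) = 1 := by rw [pow_mul]; exact congrArg Subtype.val hj
    have h := orderOf_dvd_of_pow_eq_one hj'
    rw [hw] at h
    exact (Nat.Coprime.pow_right j (show Nat.Coprime 3 2 by norm_num)).dvd_of_dvd_mul_right h
  have hd : d = 1 := by
    rcases d with i | i
    · have h3 := Nat.eq_zero_of_dvd_of_lt (hwQ' _ hdQ) (ZMod.val_lt i)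
      rw [ZMod.val_eq_zero] at h3
      rw [h3]; rfl
    · exfalso
      apply htQ
      -- a conjugate of `t` lies in `Q`
      have key : ∀ i : ℕ, t * w ^ i ∈ Q → t ∈ Q := by
        intro i hi
        have h1 : t * (t * w ^ i) * t⁻¹ ∈ Q := hQn.conj_mem _ hi t
        rw [← mul_assoc, ht2, one_mul, inv_eq_of_mul_eq_one_right ht2] at h1
        have h2 := Q.mul_mem h1 hi
        rw [mul_assoc, ← mul_assoc t, ht2, one_mul, ← pow_add, ← two_mul] at h2
        obtain ⟨j, rfl⟩ := (show Nat.Coprime 3 2 by norm_num).dvd_of_dvd_mul_left (hwQ' _ h2)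
        rwa [pow_mul, hw3, one_pow, mul_one] at hi
      exact key _ hdQ
  refine ⟨?_, hd⟩
  rw [hd] at hud
  have h1 : dihFun w t (1 : DihedralGroup 3) = 1 := by
    change w ^ (0 : ZMod 3).val = 1
    simp
  rw [h1, mul_one] at hud
  exact hψi (hfi (hud.trans (by rw [map_one, map_one])))

end CfsgLib.InvChar
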