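import Cfsg.Agent.Lib.AutPSL.Unitriangular

/-!
The upper unitriangular subgroup `U` of `SL_n(2)`: it is self-normalizing and the conjugates of `U`
meeting it trivially are conjugate under `U` (they are the unitriangular groups of opposite flags).
-/

set_option autoImplicit false

namespace CfsgLib.OppositeUni

open Matrix CfsgLib.AutPSL

variable {n : ℕ}

local notation "𝔽" => ZMod 2

/-- Upper triangular matrices. -/
def Tri (s : SLG n 𝔽) : Prop := ∀ i j : Fin n, j < i → s.1 i j = 0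

theorem eq_one_of_ne_zero : ∀ a : 𝔽, a ≠ 0 → a = 1 := by decide

theorem mem_uni_iff {s : SLG n 𝔽} : s ∈ uni n 𝔽 ↔ Tri s := by
  refine ⟨fun h i j hji => by rw [h i j hji.le, if_neg hji.ne'], fun h i j hji => ?_⟩
  rcases hji.eq_or_lt with rfl | hlt
  · rw [if_pos rfl]
    refine eq_one_of_ne_zero _ fun h0 => ?_
    have hd : s.1.det = ∏ i : Fin n, s.1 i i :=
      Matrix.det_of_isUpperTriangular fun a b hab => h a b hab
    have hp : (∏ i : Fin n, s.1 i i) = 0 := Finset.prod_eq_zero (Finset.mem_univ j) h0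
    exact one_ne_zero ((s.2.symm.trans hd).trans hp)
  · rw [if_neg hlt.ne', h i j hlt]

/-- The standard flag. -/
def V (k : ℕ) : Submodule 𝔽 (Fin n → 𝔽) where
  carrier := {v | ∀ j : Fin n, k ≤ (j : ℕ) → v j = 0}
  add_mem' := fun ha hb j hj => by rw [Pi.add_apply, ha j hj, hb j hj, add_zero]
  zero_mem' := fun _ _ => rfl
  smul_mem' := fun c v hv j hj => by rw [Pi.smul_apply, hv j hj, smul_zero]

theorem mem_V {k : ℕ} {v : Fin n → 𝔽} : v ∈ V k ↔ ∀ j : Fin n, k ≤ (j : ℕ) → v j = 0 := Iff.rfl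

theorem finrank_V {k : ℕ} (hk : k ≤ n) : Module.finrank 𝔽 (V (n := n) k) = k := by
  let e : V (n := n) k ≃ₗ[𝔽] (Fin k → 𝔽) :=
    { toFun := fun v i => v.1 (Fin.castLE hk i)
      map_add' := fun _ _ => rfl
      map_smul' := fun _ _ => rfl
      invFun := fun f => ⟨fun j => if h : (j : ℕ) < k then f ⟨j, h⟩ else 0,
        fun j hj => dif_neg (not_lt.2 hj)⟩
      left_inv := fun v => by
        apply Subtype.ext
        funext j
        by_cases h : (j : ℕ) < k
        · exact dif_pos h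
        · exact (dif_neg h).trans (v.2 j (not_lt.1 h)).symm
      right_inv := fun f => by
        funext i
        exact dif_pos i.2 }
  rw [e.finrank_eq, Module.finrank_pi, Fintype.card_fin]

theorem mul_inv_val (x : SLG n 𝔽) : x.1 * (x⁻¹ : SLG n 𝔽).1 = 1 := by
  rw [← Matrix.SpecialLinearGroup.coe_mul, mul_inv_cancel, Matrix.SpecialLinearGroup.coe_one]

theorem inv_mul_val (x : SLG n 𝔽) : (x⁻¹ : SLG n 𝔽).1 * x.1 = 1 := by
  rw [← Matrix.SpecialLinearGroup.coe_mul, inv_mul_cancel, Matrix.SpecialLinearGroup.coe_one]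

/-- An element normalizing `U` is upper triangular. -/
theorem mem_uni_of_normalizes (x : SLG n 𝔽) (hx : ∀ s ∈ uni n 𝔽, x * s * x⁻¹ ∈ uni n 𝔽) :
    x ∈ uni n 𝔽 := by
  classical
  rw [mem_uni_iff]
  intro k c hck
  by_contra hne
  -- the rows below `c` of the inverse vanish on the columns up to `k`
  have hrow : ∀ b : Fin n, c < b → ∀ j : Fin n, j ≤ k → (x⁻¹ : SLG n 𝔽).1 b j = 0 := by
    intro b hb j hj
    have hdet : (1 + Matrix.single c b (1 : 𝔽)).det = 1 := det_transvection_of_ne c b hb.ne 1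
    let s : SLG n 𝔽 := ⟨1 + Matrix.single c b 1, hdet⟩
    have hs : s ∈ uni n 𝔽 := mem_uni_iff.2 fun i l hli => by
      show (1 + Matrix.single c b (1 : 𝔽)) i l = 0
      rw [Matrix.add_apply, Matrix.one_apply_ne hli.ne', Matrix.single_apply,
        if_neg (fun h : c = i ∧ b = l => (h.1 ▸ h.2 ▸ hli).not_gt hb), add_zero]
    have h1 := hx s hs k j hj
    rw [Matrix.SpecialLinearGroup.coe_mul, Matrix.SpecialLinearGroup.coe_mul] at h1
    have h2 : x.1 * (1 + Matrix.single c b (1 : 𝔽)) * (x⁻¹ : SLG n 𝔽).1 =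
        1 + x.1 * Matrix.single c b (1 : 𝔽) * (x⁻¹ : SLG n 𝔽).1 := by
      rw [mul_add, mul_one, add_mul, mul_inv_val]
    rw [show s.1 = 1 + Matrix.single c b (1 : 𝔽) from rfl, h2, Matrix.add_apply, Matrix.one_apply,
      add_eq_left, Matrix.mul_apply] at h1
    rw [Finset.sum_eq_single b, Matrix.mul_single_apply_same, mul_one] at h1
    · exact (mul_eq_zero.1 h1).resolve_left hne
    · intro l _ hl
      rw [Matrix.mul_single_apply_of_ne (hbj := hl), zero_mul]
    · exact fun h => absurd (Finset.mem_univ b) h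
  let L : V (n := n) (k + 1) →ₗ[𝔽] V (n := n) (c + 1) :=
    { toFun := fun u => ⟨(x⁻¹ : SLG n 𝔽).1 *ᵥ u.1, fun b hb => by
        rw [Matrix.mulVec, dotProduct]
        refine Finset.sum_eq_zero fun j _ => ?_
        rcases le_or_gt j k with hjk | hjk
        · rw [hrow b (Fin.lt_def.2 (by omega)) j hjk, zero_mul]
        · rw [u.2 j (by have := Fin.lt_def.1 hjk; omega), mul_zero]⟩
      map_add' := fun u v => Subtype.ext (by simp [Matrix.mulVec_add])
      map_smul' := fun r u => Subtype.ext (by simp [Matrix.mulVec_smul]) }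
  have hL : Function.Injective L := fun u v h => Subtype.ext (by
    have h1 : (x⁻¹ : SLG n 𝔽).1 *ᵥ u.1 = (x⁻¹ : SLG n 𝔽).1 *ᵥ v.1 :=
      congrArg (fun w : V (n := n) (c + 1) => w.1) h
    have h2 := congrArg (fun w => x.1 *ᵥ w) h1
    simp only [Matrix.mulVec_mulVec, mul_inv_val, Matrix.one_mulVec] at h2
    exact h2)
  have := LinearMap.finrank_le_finrank_of_injective hL
  rw [finrank_V (by omega), finrank_V (by omega)] at this
  have := Fin.lt_def.1 hck
  omega

/-- Conjugates meeting `U` trivially come from opposite flags. -/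
theorem eq_zero_of_inf_eq_bot (x : SLG n 𝔽)
    (hx : ∀ s ∈ uni n 𝔽, x * s * x⁻¹ ∈ uni n 𝔽 → s = 1) (i : ℕ) (hi : i ≤ n)
    (v : Fin n → 𝔽) (hv : v ∈ V i) (hy : (x⁻¹ : SLG n 𝔽).1 *ᵥ v ∈ V (n - i)) : v = 0 := by
  classical
  by_contra hv0
  set y := (x⁻¹ : SLG n 𝔽).1 *ᵥ v with hy'
  have hxy : x.1 *ᵥ y = v := by rw [hy', Matrix.mulVec_mulVec, mul_inv_val, Matrix.one_mulVec]
  let ext' : (Fin (n - i) → 𝔽) →ₗ[𝔽] (Fin n → 𝔽) :=
    { toFun := fun g j => if h : i ≤ (j : ℕ) then g ⟨j - i, by omega⟩ else 0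
      map_add' := fun a b => by funext j; by_cases h : i ≤ (j : ℕ) <;> simp [h]
      map_smul' := fun r a => by funext j; by_cases h : i ≤ (j : ℕ) <;> simp [h] }
  let L : (Fin (n - i) → 𝔽) →ₗ[𝔽] (Fin (n - i) → 𝔽) :=
    { toFun := fun g a => (ext' g ᵥ* x.1) ⟨a, by omega⟩
      map_add' := fun a b => by funext c; simp [Matrix.add_vecMul]
      map_smul' := fun r a => by funext c; simp [Matrix.smul_vecMul] }
  have hdisj : ∀ g, ext' g ⬝ᵥ v = 0 := fun g => Finset.sum_eq_zero fun j _ => by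
    by_cases h : i ≤ (j : ℕ)
    · rw [hv j h, mul_zero]
    · simp [ext', h]
  have hnot : ¬ Function.Injective L := by
    intro hinj
    obtain ⟨a, ha⟩ : ∃ a : Fin n, y a ≠ 0 := by
      by_contra h
      push Not at h
      exact hv0 (by rw [← hxy, show y = 0 from funext h, Matrix.mulVec_zero])
    have han : (a : ℕ) < n - i := by
      by_contra h
      exact ha (hy a (not_lt.1 h))
    obtain ⟨g, hg⟩ := LinearMap.injective_iff_surjective.1 hinj (Pi.single ⟨a, han⟩ 1)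
    have h1 : (ext' g ᵥ* x.1) ⬝ᵥ y = 0 := by
      rw [← Matrix.dotProduct_mulVec, hxy, hdisj]
    rw [dotProduct, Finset.sum_eq_single a] at h1
    · have h2 := congrFun hg ⟨a, han⟩
      rw [Pi.single_eq_same] at h2
      have h3 : (ext' g ᵥ* x.1) a = 1 := h2
      rw [h3, one_mul] at h1
      exact ha h1
    · intro b _ hb
      by_cases hbn : (b : ℕ) < n - i
      · have h2 := congrFun hg ⟨b, hbn⟩
        rw [Pi.single_eq_of_ne (fun h => hb (Fin.ext (Fin.mk.inj h)))] at h2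
        have h3 : (ext' g ᵥ* x.1) b = 0 := h2
        rw [h3, zero_mul]
      · rw [hy b (not_lt.1 hbn), mul_zero]
    · exact fun h => absurd (Finset.mem_univ a) h
  obtain ⟨g, hg0, hgne⟩ : ∃ g, L g = 0 ∧ g ≠ 0 := by
    by_contra h
    push Not at h
    exact hnot ((injective_iff_map_eq_zero L).2 h)
  set f := ext' g with hf
  have hfne : f ≠ 0 := fun h => hgne (funext fun a => by
    have := congrFun h ⟨a + i, by omega⟩
    simpa [hf, ext'] using this)
  have hfx : ∀ a : Fin n, (a : ℕ) < n - i → (f ᵥ* x.1) a = 0 := fun a ha => congrFun hg0 ⟨a, ha⟩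
  have hfy : (f ᵥ* x.1) ⬝ᵥ y = 0 := by rw [← Matrix.dotProduct_mulVec, hxy, hdisj]
  have mk : ∀ (u φ : Fin n → 𝔽), φ ⬝ᵥ u = 0 → (1 + Matrix.vecMulVec u φ).det = 1 := by
    intro u φ h
    rw [Matrix.vecMulVec_eq Unit, Matrix.det_one_add_replicateCol_mul_replicateRow, h, add_zero]
  let t' : SLG n 𝔽 := ⟨1 + Matrix.vecMulVec y (f ᵥ* x.1), mk _ _ hfy⟩
  let t : SLG n 𝔽 := ⟨1 + Matrix.vecMulVec v f, mk _ _ (hdisj g)⟩
  have ht' : t' ∈ uni n 𝔽 := mem_uni_iff.2 fun a b hba => by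
    show (1 + Matrix.vecMulVec y (f ᵥ* x.1)) a b = 0
    rw [Matrix.add_apply, Matrix.one_apply_ne hba.ne', zero_add, Matrix.vecMulVec_apply]
    by_cases ha : (a : ℕ) < n - i
    · rw [hfx b (lt_trans (Fin.lt_def.1 hba) ha), mul_zero]
    · rw [hy a (not_lt.1 ha), zero_mul]
  have ht : t ∈ uni n 𝔽 := mem_uni_iff.2 fun a b hba => by
    show (1 + Matrix.vecMulVec v f) a b = 0
    rw [Matrix.add_apply, Matrix.one_apply_ne hba.ne', zero_add, Matrix.vecMulVec_apply]
    by_cases ha : i ≤ (a : ℕ)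
    · rw [hv a ha, zero_mul]
    · have hb : ¬ i ≤ (b : ℕ) := by have := Fin.lt_def.1 hba; omega
      simp [hf, ext', hb]
  have hconj : x * t' * x⁻¹ = t := by
    rw [mul_inv_eq_iff_eq_mul]
    apply Subtype.ext
    show x.1 * (1 + Matrix.vecMulVec y (f ᵥ* x.1)) = (1 + Matrix.vecMulVec v f) * x.1
    rw [mul_add, mul_one, add_mul, one_mul, Matrix.mul_vecMulVec, hxy, Matrix.vecMulVec_mul]
  have h1 := hx t' ht' (hconj ▸ ht)
  have h2 : t = 1 := by rw [← hconj, h1, mul_one, mul_inv_cancel]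
  obtain ⟨a, ha⟩ : ∃ a, v a ≠ 0 := Function.ne_iff.1 hv0
  obtain ⟨b, hb⟩ : ∃ b, f b ≠ 0 := Function.ne_iff.1 hfne
  have h3 := congrArg (fun M : SLG n 𝔽 => M.1 a b) h2
  simp only [t, Matrix.SpecialLinearGroup.coe_one, Matrix.add_apply, add_eq_left,
    Matrix.vecMulVec_apply] at h3
  exact mul_ne_zero ha hb h3

/-- The reversal of the coordinates. -/
def revMat : SLG n 𝔽 :=
  ⟨Matrix.of fun i j => if j = Fin.rev i then 1 else 0, by
    refine eq_one_of_ne_zero _ (Ne.isUnit ?_).ne_zero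
    intro h
    have h2 : (Matrix.of fun i j : Fin n => if j = Fin.rev i then (1 : 𝔽) else 0) *
        (Matrix.of fun i j : Fin n => if j = Fin.rev i then (1 : 𝔽) else 0) = 1 := by
      ext i j
      rw [Matrix.mul_apply, Finset.sum_eq_single (Fin.rev i)]
      · simp [Matrix.one_apply, eq_comm]
      · intro l _ hl; simp [hl]
      · exact fun h => absurd (Finset.mem_univ _) h
    have h3 := congrArg Matrix.det h2
    rw [Matrix.det_mul, h, zero_mul, Matrix.det_one] at h3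
    exact zero_ne_one h3⟩

theorem exists_factor (x : SLG n 𝔽) (hx : ∀ s ∈ uni n 𝔽, x * s * x⁻¹ ∈ uni n 𝔽 → s = 1) :
    ∃ g ∈ uni n 𝔽, ∃ u ∈ uni n 𝔽, x = g * revMat * u := by
  classical
  have key := eq_zero_of_inf_eq_bot x hx
  have hb : ∀ i : Fin n, ∃ b : Fin n → 𝔽, b ∈ V ((i : ℕ) + 1) ∧
      (x⁻¹ : SLG n 𝔽).1 *ᵥ b ∈ V (n - i) ∧ b i = 1 := by
    intro i
    let A : Submodule 𝔽 (Fin n → 𝔽) := V ((i : ℕ) + 1)
    let B : Submodule 𝔽 (Fin n → 𝔽) := (V (n - (i : ℕ))).map (Matrix.mulVecLin x.1)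
    have hinj : Function.Injective (Matrix.mulVecLin x.1) := fun u v h => by
      have := congrArg (fun w => (x⁻¹ : SLG n 𝔽).1 *ᵥ w) h
      simp only [Matrix.mulVecLin_apply, Matrix.mulVec_mulVec, inv_mul_val, Matrix.one_mulVec] at this
      exact this
    have hB : Module.finrank 𝔽 B = n - i := by
      rw [← (Submodule.equivMapOfInjective _ hinj _).finrank_eq, finrank_V (by omega)]
    have hA : Module.finrank 𝔽 A = (i : ℕ) + 1 := finrank_V (by omega)
    have hsum := Submodule.finrank_sup_add_finrank_inf_eq A B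
    have hle : Module.finrank 𝔽 ↥(A ⊔ B) ≤ n := by
      simpa using Submodule.finrank_le (A ⊔ B)
    obtain ⟨b, ⟨hbA, hbB⟩, hb0⟩ : ∃ b ∈ A ⊓ B, b ≠ 0 := by
      apply Submodule.exists_mem_ne_zero_of_ne_bot
      intro h
      rw [h, finrank_bot, hA, hB] at hsum
      omega
    obtain ⟨w, hw, rfl⟩ := hbB
    have hinv : (x⁻¹ : SLG n 𝔽).1 *ᵥ (Matrix.mulVecLin x.1 w) = w := by
      rw [Matrix.mulVecLin_apply, Matrix.mulVec_mulVec, inv_mul_val, Matrix.one_mulVec]
    refine ⟨_, hbA, by rw [hinv]; exact hw, eq_one_of_ne_zero _ fun h0 => hb0 (key i (by omega) _ ?_ ?_)⟩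
    · intro j hj
      rcases eq_or_lt_of_le hj with h | h
      · rw [show j = i from Fin.ext h.symm, h0]
      · exact hbA j (by omega)
    · rw [hinv]; exact hw
  choose b hb1 hb2 hb3 using hb
  let g : SLG n 𝔽 := ⟨Matrix.of fun r c => b c r, by
    rw [Matrix.det_of_isUpperTriangular (M := Matrix.of fun r c => b c r)
      fun r c (h : c < r) => hb1 c r (Fin.lt_def.1 h)]
    simp [hb3]⟩
  have hg : g ∈ uni n 𝔽 := mem_uni_iff.2 fun r c h => hb1 c r (Fin.lt_def.1 h)
  refine ⟨g, hg, (g * revMat)⁻¹ * x, ?_, by rw [mul_inv_cancel_left]⟩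
  rw [← inv_mem_iff, _root_.mul_inv_rev, inv_inv, mem_uni_iff]
  intro r c hcr
  have hcol : ∀ l, (g * revMat).1 l c = b (Fin.rev c) l := by
    intro l
    rw [Matrix.SpecialLinearGroup.coe_mul, Matrix.mul_apply, Finset.sum_eq_single (Fin.rev c)]
    · simp [g, revMat]
    · intro m _ hm
      have : ¬ c = Fin.rev m := fun h => hm (by rw [h, Fin.rev_rev])
      simp [revMat, this]
    · exact fun h => absurd (Finset.mem_univ _) h
  rw [Matrix.SpecialLinearGroup.coe_mul, Matrix.mul_apply]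
  simp only [hcol]
  have := hb2 (Fin.rev c) r (by have := Fin.lt_def.1 hcr; rw [Fin.val_rev]; omega)
  simpa [Matrix.mulVec, dotProduct] using this

/-- The trivially meeting conjugates of `U` are conjugate under `U`. -/
theorem exists_conj (x z : SLG n 𝔽) (hx : ∀ s ∈ uni n 𝔽, x * s * x⁻¹ ∈ uni n 𝔽 → s = 1)
    (hz : ∀ s ∈ uni n 𝔽, z * s * z⁻¹ ∈ uni n 𝔽 → s = 1) :
    ∃ a ∈ uni n 𝔽, x⁻¹ * a * z ∈ uni n 𝔽 := by
  obtain ⟨g, hg, u, hu, rfl⟩ := exists_factor x hx
  obtain ⟨g', hg', u', hu', rfl⟩ := exists_factor z hz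
  refine ⟨g * g'⁻¹, mul_mem hg (inv_mem hg'), ?_⟩
  rw [show (g * revMat * u)⁻¹ * (g * g'⁻¹) * (g' * revMat * u') = u⁻¹ * u' by group]
  exact mul_mem (inv_mem hu) hu'

end CfsgLib.OppositeUni
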