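import Cfsg.Agent.Lib.InvChar.SylowThree

/-!
# Groups of order 64 with a fixed-point-free automorphism of order 3 inverted by an involution
-/

set_option autoImplicit false

namespace CfsgLib.InvCharSixtyFour

variable {T : Type*} [Group T] [Finite T]

/-- The commutator `u w u⁻¹ w⁻¹`. -/
def cm (u w : T) : T := u * w * u⁻¹ * w⁻¹

/-- A fixed point free automorphism of order three: `y, ρ y` commute and `y ρy ρ²y = 1`. -/
theorem fpf_three (ρ : MulAut T) (h3 : ∀ y, ρ (ρ (ρ y)) = y) (hfp : ∀ y, ρ y = y → y = 1) (y : T) :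
    y * ρ y * ρ (ρ y) = 1 ∧ y * ρ y = ρ y * y := by
  have hinj1 : Function.Injective fun z => z⁻¹ * ρ z := by
    intro z w (h : z⁻¹ * ρ z = w⁻¹ * ρ w)
    have : ρ (z * w⁻¹) = z * w⁻¹ := by
      rw [map_mul, map_inv]
      calc ρ z * (ρ w)⁻¹ = z * (z⁻¹ * ρ z) * (ρ w)⁻¹ := by group
        _ = z * (w⁻¹ * ρ w) * (ρ w)⁻¹ := by rw [h]
        _ = z * w⁻¹ := by group
    exact mul_inv_eq_one.1 (hfp _ this)
  have hinj2 : Function.Injective fun z => ρ z * z⁻¹ := by
    intro z w (h : ρ z * z⁻¹ = ρ w * w⁻¹)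
    have : ρ (w⁻¹ * z) = w⁻¹ * z := by
      rw [map_mul, map_inv]
      calc (ρ w)⁻¹ * ρ z = (ρ w)⁻¹ * (ρ z * z⁻¹) * z := by group
        _ = (ρ w)⁻¹ * (ρ w * w⁻¹) * z := by rw [h]
        _ = w⁻¹ * z := by group
    exact (inv_mul_eq_one.1 (hfp _ this)).symm
  obtain ⟨z, hz⟩ := Finite.surjective_of_injective hinj1 y
  obtain ⟨w, hw⟩ := Finite.surjective_of_injective hinj2 y
  have e1 : y * ρ y * ρ (ρ y) = 1 := by
    rw [← hz]; simp only [map_mul, map_inv, h3]; group
  have e2 : ρ (ρ y) * ρ y * y = 1 := by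
    rw [← hw]; simp only [map_mul, map_inv, h3]; group
  refine ⟨e1, ?_⟩
  have e1' : ρ (ρ y) = (y * ρ y)⁻¹ := eq_inv_of_mul_eq_one_right e1
  have e2' : ρ (ρ y) = (ρ y * y)⁻¹ := eq_inv_of_mul_eq_one_left (by rw [← mul_assoc]; exact e2)
  exact inv_injective (e1'.symm.trans e2')

/-- An invariant subset fixed only at `1` has `≡ 1 (mod 3)` points. -/
theorem card_mod_three (ρ : MulAut T) (h3 : ∀ y, ρ (ρ (ρ y)) = y) (hfp : ∀ y, ρ y = y → y = 1)
    (S : Subgroup T) (hS : ∀ y ∈ S, ρ y ∈ S) : Nat.card S % 3 = 1 := by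
  classical
  have := Fintype.ofFinite S
  have : Fact (Nat.Prime 3) := ⟨Nat.prime_three⟩
  let σ : Function.End S := fun y => ⟨ρ y, hS y y.2⟩
  have hσ : σ ^ (3 ^ 1) = 1 := by
    funext y; apply Subtype.ext; exact h3 y
  have h := Equiv.Perm.card_fixedPoints_modEq (p := 3) (n := 1) hσ
  have h1 : Fintype.card (Function.fixedPoints σ) = 1 := by
    rw [Fintype.card_eq_one_iff]
    refine ⟨⟨1, Subtype.ext (map_one ρ)⟩, fun y => Subtype.ext (Subtype.ext ?_)⟩
    exact hfp _ (congrArg Subtype.val y.2)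
  rw [h1] at h
  rw [Nat.card_eq_fintype_card]
  exact h

/-- The orders of invariant subgroups. -/
theorem card_invariant (hT : Nat.card T = 64) (ρ : MulAut T) (h3 : ∀ y, ρ (ρ (ρ y)) = y)
    (hfp : ∀ y, ρ y = y → y = 1) (S : Subgroup T) (hS : ∀ y ∈ S, ρ y ∈ S) :
    Nat.card S = 1 ∨ Nat.card S = 4 ∨ Nat.card S = 16 ∨ Nat.card S = 64 := by
  have h := card_mod_three ρ h3 hfp S hS
  have hd : Nat.card S ∣ 2 ^ 6 := by
    have := Subgroup.card_subgroup_dvd_card S; rwa [hT] at this
  obtain ⟨i, hi, he⟩ := (Nat.dvd_prime_pow Nat.prime_two).1 hd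
  rw [he] at h ⊢
  interval_cases i <;> simp at h ⊢

/-- In an invariant subgroup of order 4 every element is `1` or an iterate of a given one. -/
theorem four_cases (ρ : MulAut T) (h3 : ∀ y, ρ (ρ (ρ y)) = y) (hfp : ∀ y, ρ y = y → y = 1)
    (S : Subgroup T) (hS : ∀ y ∈ S, ρ y ∈ S) (h4 : Nat.card S = 4) {z : T} (hz : z ∈ S) (hz1 : z ≠ 1)
    {w : T} (hw : w ∈ S) : w = 1 ∨ w = z ∨ w = ρ z ∨ w = ρ (ρ z) := by
  classical
  have := Fintype.ofFinite S
  by_contra! hc
  have hρz : ρ z ≠ z := fun e => hz1 (hfp z e)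
  have hρρz : ρ (ρ z) ≠ z := fun e => hρz (by
    have := congrArg ρ e; rw [h3] at this; exact this.symm)
  have hne : ρ z ≠ 1 := fun e => hz1 (ρ.injective (e.trans (map_one ρ).symm))
  have hne2 : ρ (ρ z) ≠ 1 := fun e => hne (ρ.injective (e.trans (map_one ρ).symm))
  have hcard : ({⟨1, one_mem S⟩, ⟨z, hz⟩, ⟨ρ z, hS z hz⟩, ⟨ρ (ρ z), hS _ (hS z hz)⟩, ⟨w, hw⟩} : Finset S).card = 5 := by
    have h12 : ρ (ρ z) ≠ ρ z := fun e => hρz (ρ.injective e)
    rw [Finset.card_insert_of_notMem, Finset.card_insert_of_notMem, Finset.card_insert_of_notMem,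
      Finset.card_insert_of_notMem, Finset.card_singleton]
    · simp [Subtype.ext_iff, hc.2.2.2.symm]
    · simp [Subtype.ext_iff, h12.symm, hc.2.2.1.symm]
    · simp [Subtype.ext_iff, hρz.symm, hρρz.symm, hc.2.1.symm]
    · simp [Subtype.ext_iff, hz1.symm, hne.symm, hne2.symm, hc.1.symm]
  have := Finset.card_le_univ ({⟨1, one_mem S⟩, ⟨z, hz⟩, ⟨ρ z, hS z hz⟩, ⟨ρ (ρ z), hS _ (hS z hz)⟩, ⟨w, hw⟩} : Finset S)
  rw [hcard, ← Nat.card_eq_fintype_card, h4] at this
  omega

section Main

variable (hT : Nat.card T = 64) (hna : ¬ ∀ a b : T, a * b = b * a) (ρ : MulAut T)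
  (h3 : ∀ y, ρ (ρ (ρ y)) = y) (hfp : ∀ y, ρ y = y → y = 1)

include hT hna h3 hfp

omit hT hna h3 hfp in
theorem center_invariant (φ : MulAut T) : ∀ z ∈ Subgroup.center T, φ z ∈ Subgroup.center T := by
  intro z hz
  rw [Subgroup.mem_center_iff] at hz ⊢
  intro g
  obtain ⟨g, rfl⟩ := φ.surjective g
  rw [← map_mul, ← map_mul, hz]

/-- The abelian invariant subgroup spanned by `a`, `ρ a` and the centre. -/
theorem span_card (hZ : Nat.card (Subgroup.center T) = 4) {a : T} (ha : a ∉ Subgroup.center T) :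
    let K := Subgroup.closure (insert a (insert (ρ a) (Subgroup.center T : Set T)))
    Nat.card K = 16 ∧ (∀ y ∈ K, ρ y ∈ K) := by
  intro K
  have haK : a ∈ K := Subgroup.subset_closure (Set.mem_insert _ _)
  have hρaK : ρ a ∈ K := Subgroup.subset_closure (Set.mem_insert_of_mem _ (Set.mem_insert _ _))
  have hρρaK : ρ (ρ a) ∈ K := by
    rw [eq_inv_of_mul_eq_one_right (fpf_three ρ h3 hfp a).1]
    exact K.inv_mem (K.mul_mem haK hρaK)
  have hZK : Subgroup.center T ≤ K := fun z hz =>
    Subgroup.subset_closure (Set.mem_insert_of_mem _ (Set.mem_insert_of_mem _ hz))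
  have hinv : ∀ y ∈ K, ρ y ∈ K := by
    intro y hy
    induction hy using Subgroup.closure_induction with
    | mem z hz =>
      rcases hz with rfl | rfl | hz
      · exact hρaK
      · exact hρρaK
      · exact hZK (center_invariant ρ z hz)
    | one => rw [map_one]; exact one_mem K
    | mul _ _ _ _ ih ih' => rw [map_mul]; exact K.mul_mem ih ih'
    | inv _ _ ih => rw [map_inv]; exact K.inv_mem ih
  have hcomm : K ≠ ⊤ := by
    intro htop
    have hle : K ≤ Subgroup.centralizer (insert a (insert (ρ a) (Subgroup.center T : Set T))) := by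
      refine (Subgroup.closure_le _).2 ?_
      intro y hy w hw
      rcases hw with rfl | rfl | hw
      · rcases hy with rfl | rfl | hy
        · rfl
        · exact (fpf_three ρ h3 hfp w).2
        · exact Subgroup.mem_center_iff.1 hy w
      · rcases hy with rfl | rfl | hy
        · exact (fpf_three ρ h3 hfp y).2.symm
        · rfl
        · exact Subgroup.mem_center_iff.1 hy _
      · exact (Subgroup.mem_center_iff.1 hw y).symm
    refine hna fun u v => ?_
    have h2 : K ≤ Subgroup.centralizer (K : Set T) :=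
      (Subgroup.closure_le _).2 fun w hw y hy => (hle hy w hw).symm
    exact (h2 (htop ▸ Subgroup.mem_top u) v (htop ▸ Subgroup.mem_top v)).symm
  refine ⟨?_, hinv⟩
  have hlt : Nat.card (Subgroup.center T) < Nat.card K := by
    refine lt_of_le_of_ne (Subgroup.card_le_of_le hZK) fun e => ha ?_
    rw [Subgroup.eq_of_le_of_card_ge hZK e.ge]; exact haK
  rcases card_invariant hT ρ h3 hfp K hinv with h | h | h | h
  · omega
  · omega
  · exact h
  · exact absurd (Subgroup.eq_top_of_card_eq K (h.trans hT.symm)) hcomm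

theorem card_center : Nat.card (Subgroup.center T) = 4 := by
  have : Fact (Nat.Prime 2) := ⟨Nat.prime_two⟩
  have : Nontrivial T := Finite.one_lt_card_iff_nontrivial.1 (by omega)
  have hne := (IsPGroup.of_card (p := 2) (n := 6) (G := T) (by rw [hT]; rfl)).center_nontrivial
  have h1 := Finite.one_lt_card_iff_nontrivial.2 hne
  rcases card_invariant hT ρ h3 hfp (Subgroup.center T) (center_invariant ρ) with h | h | h | h
  · omega
  · exact h
  · exfalso
    obtain ⟨a, ha⟩ : ∃ a : T, a ∉ Subgroup.center T := by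
      by_contra! hall
      exact hna fun u v => (Subgroup.mem_center_iff.1 (hall u) v).symm
    let K := Subgroup.closure (insert a (insert (ρ a) (Subgroup.center T : Set T)))
    have hZK : Subgroup.center T ≤ K := fun z hz =>
      Subgroup.subset_closure (Set.mem_insert_of_mem _ (Set.mem_insert_of_mem _ hz))
    have haK : a ∈ K := Subgroup.subset_closure (Set.mem_insert _ _)
    have hρaK : ρ a ∈ K := Subgroup.subset_closure (Set.mem_insert_of_mem _ (Set.mem_insert _ _))
    have hρρaK : ρ (ρ a) ∈ K := by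
      rw [eq_inv_of_mul_eq_one_right (fpf_three ρ h3 hfp a).1]
      exact K.inv_mem (K.mul_mem haK hρaK)
    have hinv : ∀ y ∈ K, ρ y ∈ K := by
      intro y hy
      induction hy using Subgroup.closure_induction with
      | mem z hz =>
        rcases hz with rfl | rfl | hz
        · exact hρaK
        · exact hρρaK
        · exact hZK (center_invariant ρ z hz)
      | one => rw [map_one]; exact one_mem K
      | mul _ _ _ _ ih ih' => rw [map_mul]; exact K.mul_mem ih ih'
      | inv _ _ ih => rw [map_inv]; exact K.inv_mem ih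
    have htop : K = ⊤ := by
      rcases card_invariant hT ρ h3 hfp K hinv with h' | h' | h' | h'
      · have := Subgroup.card_le_of_le hZK; omega
      · have := Subgroup.card_le_of_le hZK; omega
      · exfalso
        exact ha (by rw [Subgroup.eq_of_le_of_card_ge hZK (by omega)]; exact haK)
      · exact Subgroup.eq_top_of_card_eq K (h'.trans hT.symm)
    have hle : K ≤ Subgroup.centralizer (insert a (insert (ρ a) (Subgroup.center T : Set T))) := by
      refine (Subgroup.closure_le _).2 ?_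
      intro y hy w hw
      rcases hw with rfl | rfl | hw
      · rcases hy with rfl | rfl | hy
        · rfl
        · exact (fpf_three ρ h3 hfp w).2
        · exact Subgroup.mem_center_iff.1 hy w
      · rcases hy with rfl | rfl | hy
        · exact (fpf_three ρ h3 hfp y).2.symm
        · rfl
        · exact Subgroup.mem_center_iff.1 hy _
      · exact (Subgroup.mem_center_iff.1 hw y).symm
    refine hna fun u v => ?_
    have h2 : K ≤ Subgroup.centralizer (K : Set T) :=
      (Subgroup.closure_le _).2 fun w hw y hy => (hle hy w hw).symm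
    exact (h2 (htop ▸ Subgroup.mem_top u) v (htop ▸ Subgroup.mem_top v)).symm
  · exact absurd (Subgroup.eq_top_of_card_eq _ (h.trans hT.symm))
      (fun e => hna fun u v => (Subgroup.mem_center_iff.1 (e ▸ Subgroup.mem_top u) v).symm)

theorem span_four {a : T} (ha : a ∉ Subgroup.center T) {y : T}
    (hy : y ∈ Subgroup.closure (insert a (insert (ρ a) (Subgroup.center T : Set T)))) :
    y ∈ Subgroup.center T ∨ a⁻¹ * y ∈ Subgroup.center T ∨ (ρ a)⁻¹ * y ∈ Subgroup.center T ∨
      (ρ (ρ a))⁻¹ * y ∈ Subgroup.center T := by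
  classical
  obtain ⟨hK, hinv⟩ := span_card hT hna ρ h3 hfp (card_center hT hna ρ h3 hfp) ha
  set K := Subgroup.closure (insert a (insert (ρ a) (Subgroup.center T : Set T)))
  have hZK : Subgroup.center T ≤ K := fun z hz =>
    Subgroup.subset_closure (Set.mem_insert_of_mem _ (Set.mem_insert_of_mem _ hz))
  have haK : a ∈ K := Subgroup.subset_closure (Set.mem_insert _ _)
  let Q := K ⧸ (Subgroup.center T).subgroupOf K
  have := Fintype.ofFinite Q
  have hQ : Nat.card Q = 4 := by
    have h := Subgroup.card_mul_index ((Subgroup.center T).subgroupOf K)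
    rw [Nat.card_congr (Subgroup.subgroupOfEquivOfLe hZK).toEquiv, card_center hT hna ρ h3 hfp, hK] at h
    show ((Subgroup.center T).subgroupOf K).index = 4
    omega
  have hfix : ∀ w : T, w⁻¹ * ρ w ∈ Subgroup.center T → w ∈ Subgroup.center T := by
    intro w hw
    let g : Subgroup.center T → Subgroup.center T := fun z =>
      ⟨(z : T)⁻¹ * ρ z, mul_mem (inv_mem z.2) (center_invariant ρ z z.2)⟩
    have hg : Function.Injective g := by
      intro u v h
      have h' : (u : T)⁻¹ * ρ u = (v : T)⁻¹ * ρ v := congrArg Subtype.val h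
      have : ρ ((u : T) * (v : T)⁻¹) = u * (v : T)⁻¹ := by
        rw [map_mul, map_inv]
        calc ρ u * (ρ v)⁻¹ = u * ((u : T)⁻¹ * ρ u) * (ρ v)⁻¹ := by group
          _ = u * ((v : T)⁻¹ * ρ v) * (ρ v)⁻¹ := by rw [h']
          _ = u * (v : T)⁻¹ := by group
      exact Subtype.ext (mul_inv_eq_one.1 (hfp _ this))
    obtain ⟨z, hz⟩ := Finite.surjective_of_injective hg ⟨_, hw⟩
    have hz' : (z : T)⁻¹ * ρ z = w⁻¹ * ρ w := congrArg Subtype.val hz
    have : ρ ((z : T) * w⁻¹) = z * w⁻¹ := by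
      rw [map_mul, map_inv]
      calc ρ z * (ρ w)⁻¹ = z * ((z : T)⁻¹ * ρ z) * (ρ w)⁻¹ := by group
        _ = z * (w⁻¹ * ρ w) * (ρ w)⁻¹ := by rw [hz']
        _ = z * w⁻¹ := by group
    rw [← mul_inv_eq_one.1 (hfp _ this)]; exact z.2
  by_contra! hc
  let f : Fin 5 → K := ![1, ⟨a, haK⟩, ⟨ρ a, hinv a haK⟩, ⟨ρ (ρ a), hinv _ (hinv a haK)⟩, ⟨y, hy⟩]
  let e : Fin 5 → Q := fun i => QuotientGroup.mk (f i)
  have hρa : ρ a ∉ Subgroup.center T := fun h => ha (by
    have := center_invariant ρ _ (center_invariant ρ _ h); rwa [h3] at this)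
  have hρρa : ρ (ρ a) ∉ Subgroup.center T := fun h => ha (by
    have := center_invariant ρ _ h; rwa [h3] at this)
  have h01 : a⁻¹ * ρ a ∉ Subgroup.center T := fun h => ha (hfix a h)
  have h12 : (ρ a)⁻¹ * ρ (ρ a) ∉ Subgroup.center T := fun h => hρa (hfix _ h)
  have h02 : a⁻¹ * ρ (ρ a) ∉ Subgroup.center T := fun h => h01 (by
    have := center_invariant ρ _ h
    rw [map_mul, map_inv, h3] at this
    have := inv_mem this
    rwa [mul_inv_rev, inv_inv] at this)
  have he : ∀ i j, i < j → e i ≠ e j := by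
    intro i j hij heq
    have heq : ((f i : T))⁻¹ * (f j : T) ∈ Subgroup.center T := by
      have := Subgroup.mem_subgroupOf.1 (QuotientGroup.eq.1 heq)
      simpa using this
    fin_cases i <;> fin_cases j <;> simp [f] at hij heq <;>
      first
        | exact ha heq | exact hρa heq | exact hρρa heq | exact hc.1 heq | exact h01 heq | exact h02 heq
        | exact hc.2.1 heq | exact h12 heq | exact hc.2.2.1 heq | exact hc.2.2.2 heq
  have hinj : Function.Injective e := by
    intro i j h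
    rcases lt_trichotomy i j with hl | hl | hl
    · exact absurd h (he i j hl)
    · exact hl
    · exact absurd h.symm (he j i hl)
  have := Fintype.card_le_of_injective e hinj
  rw [Fintype.card_fin, ← Nat.card_eq_fintype_card, hQ] at this
  omega

theorem sq_mem_center (y : T) : y ^ 2 ∈ Subgroup.center T := by
  by_cases hy : y ∈ Subgroup.center T
  · exact pow_mem hy 2
  have hyK : y ∈ Subgroup.closure (insert y (insert (ρ y) (Subgroup.center T : Set T))) :=
    Subgroup.subset_closure (Set.mem_insert _ _)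
  rcases span_four hT hna ρ h3 hfp hy (pow_mem hyK 2) with h | h | h | h
  · exact h
  · exact absurd (by rwa [pow_two, inv_mul_cancel_left] at h) hy
  all_goals
    exfalso
    apply hy
    let π := QuotientGroup.mk' (Subgroup.center T)
    have hZmap : (Subgroup.center T).map ρ.toMonoidHom = Subgroup.center T := le_antisymm
      (Subgroup.map_le_iff_le_comap.2 fun z hz => center_invariant ρ z hz)
      (fun z hz => ⟨ρ.symm z, center_invariant ρ.symm z hz, ρ.apply_symm_apply z⟩)
    let ρ' := QuotientGroup.congr (Subgroup.center T) (Subgroup.center T) ρ hZmap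
    have hρ' : ∀ w, π (ρ w) = ρ' (π w) := fun w => rfl
    have hpow : ∃ i, π y = π y ^ (i + 1) ∧ i % 2 = 1 := by
      have h' : π (y ^ 2) = _ := ((QuotientGroup.eq).2 h).symm
      first
        | (refine ⟨7, ?_, rfl⟩
           have e1 : π y ^ 2 = ρ' (π y) := by rw [← map_pow, h', ← hρ']; rfl
           calc π y = ρ' (ρ' (ρ' (π y))) := by rw [← hρ', ← hρ', ← hρ', h3]
             _ = π y ^ 8 := by rw [← e1, map_pow, ← e1, map_pow, map_pow, ← e1]; group)
        | (refine ⟨63, ?_, rfl⟩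
           have e2 : π y ^ 2 = ρ' (ρ' (π y)) := by rw [← map_pow, h', ← hρ', ← hρ']; rfl
           have e1 : π y ^ 4 = ρ' (π y) := by
             calc π y ^ 4 = (π y ^ 2) ^ 2 := by group
               _ = ρ' (ρ' (π y ^ 2)) := by rw [map_pow, map_pow, ← e2]
               _ = ρ' (ρ' (ρ' (ρ' (π y)))) := by rw [e2]
               _ = ρ' (π y) := by rw [← hρ', ← hρ', ← hρ', ← hρ', h3]
           calc π y = ρ' (ρ' (ρ' (π y))) := by rw [← hρ', ← hρ', ← hρ', h3]
             _ = π y ^ 64 := by rw [← e1, map_pow, ← e1, map_pow, map_pow, ← e1]; group)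
    obtain ⟨i, hi, hi2⟩ := hpow
    have hi' : π y ^ i = 1 := by rwa [pow_succ, right_eq_mul] at hi
    have hd : orderOf (π y) ∣ Nat.gcd 64 i := Nat.dvd_gcd
      (hT ▸ (orderOf_map_dvd π y).trans (orderOf_dvd_natCard y)) (orderOf_dvd_of_pow_eq_one hi')
    rw [show 64 = 2 ^ 6 from rfl, (Nat.coprime_two_left.2 (Nat.odd_iff.2 hi2)).pow_left 6, Nat.dvd_one,
      orderOf_eq_one_iff] at hd
    exact (QuotientGroup.eq_one_iff y).1 hd

theorem center_sq {z : T} (hz : z ∈ Subgroup.center T) : z * z = 1 := by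
  have h4 := card_center hT hna ρ h3 hfp
  by_cases hz1 : z = 1
  · rw [hz1, one_mul]
  rcases four_cases ρ h3 hfp _ (center_invariant ρ) h4 hz hz1 (mul_mem hz hz) with h | h | h | h
  · exact h
  · exact absurd (mul_eq_left.1 h) hz1
  all_goals
    exfalso
    have hd : orderOf z ∣ 4 := h4 ▸ Subgroup.orderOf_dvd_natCard _ hz
    have ho : orderOf (z * z) = orderOf z := by
      rw [h]; simp [MulEquiv.orderOf_eq]
    have h2 : orderOf (z * z) = orderOf z / Nat.gcd (orderOf z) 2 := by rw [← pow_two, orderOf_pow]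
    rw [ho] at h2
    have hne : orderOf z ≠ 1 := fun e => hz1 (orderOf_eq_one_iff.1 e)
    have hle : orderOf z ≤ 4 := Nat.le_of_dvd (by norm_num) hd
    have hpos := orderOf_pos z
    interval_cases orderOf z <;> simp at h2 hd hne ⊢

theorem cm_mem (u w : T) : cm u w ∈ Subgroup.center T := by
  rw [← QuotientGroup.eq_one_iff]
  have h2 : ∀ g : T ⧸ Subgroup.center T, g⁻¹ = g := by
    intro g
    induction g using QuotientGroup.induction_on with
    | _ g =>
      rw [inv_eq_iff_mul_eq_one, ← QuotientGroup.mk_mul, QuotientGroup.eq_one_iff, ← pow_two]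
      exact sq_mem_center hT hna ρ h3 hfp g
  simp only [cm, QuotientGroup.mk_mul, QuotientGroup.mk_inv, h2]
  rw [show (QuotientGroup.mk u : T ⧸ Subgroup.center T) * QuotientGroup.mk w * QuotientGroup.mk u * QuotientGroup.mk w =
    (QuotientGroup.mk u * QuotientGroup.mk w) * (QuotientGroup.mk u * QuotientGroup.mk w) by group]
  exact mul_eq_one_iff_eq_inv.2 (h2 _).symm

theorem cm_mul_right (u v w : T) : cm u (v * w) = cm u v * cm u w := by
  have h := Subgroup.mem_center_iff.1 (cm_mem hT hna ρ h3 hfp u w) v⁻¹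
  calc cm u (v * w) = u * v * u⁻¹ * (cm u w * v⁻¹) := by unfold cm; group
    _ = u * v * u⁻¹ * (v⁻¹ * cm u w) := by rw [h]
    _ = cm u v * cm u w := by unfold cm; group

theorem cm_symm (u v : T) : cm v u = cm u v := by
  have h := center_sq hT hna ρ h3 hfp (cm_mem hT hna ρ h3 hfp u v)
  rw [mul_eq_one_iff_eq_inv] at h
  rw [h]; unfold cm; group

theorem cm_mul_left (u v w : T) : cm (u * v) w = cm u w * cm v w := by
  rw [cm_symm hT hna ρ h3 hfp w (u * v), cm_mul_right hT hna ρ h3 hfp,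
    cm_symm hT hna ρ h3 hfp u w, cm_symm hT hna ρ h3 hfp v w]

theorem mul_self_mul (u v : T) : u * v * (u * v) = u * u * (v * v) * cm u v := by
  have h := Subgroup.mem_center_iff.1 (cm_mem hT hna ρ h3 hfp v u) u
  calc u * v * (u * v) = u * (cm v u * u) * (v * v) := by unfold cm; group
    _ = u * u * cm v u * (v * v) := by rw [← h]; group
    _ = _ := by
      rw [cm_symm hT hna ρ h3 hfp u v]
      have h' := Subgroup.mem_center_iff.1 (cm_mem hT hna ρ h3 hfp u v) (v * v)
      rw [mul_assoc (u * u), ← h', ← mul_assoc]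

omit hT hna h3 hfp in
theorem cm_map (φ : MulAut T) (u v : T) : φ (cm u v) = cm (φ u) (φ v) := by simp [cm]

theorem cm_equivariant (a b : T) :
    cm a (ρ b) = ρ (ρ (cm a b)) ∧ cm (ρ a) b = ρ (ρ (cm a b)) ∧ cm (ρ (ρ a)) b = ρ (cm a b) ∧
      cm (ρ a) (ρ b) = ρ (cm a b) := by
  have hlin : ∀ u y : T, cm u (ρ (ρ y)) = cm u y * cm u (ρ y) := by
    intro u y
    have h1 := (fpf_three ρ h3 hfp y).1
    have h2 : cm u (y * ρ y * ρ (ρ y)) = 1 := by rw [h1]; simp [cm]
    rw [cm_mul_right hT hna ρ h3 hfp, cm_mul_right hT hna ρ h3 hfp, mul_eq_one_iff_inv_eq] at h2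
    rw [← h2]
    exact inv_eq_of_mul_eq_one_right (center_sq hT hna ρ h3 hfp (mul_mem (cm_mem hT hna ρ h3 hfp _ _) (cm_mem hT hna ρ h3 hfp _ _)))
  have hsum : ∀ u, ρ (ρ (cm a u)) = cm a u * ρ (cm a u) := by
    intro u
    have h1 := (fpf_three ρ h3 hfp (cm a u)).1
    rw [mul_eq_one_iff_inv_eq] at h1
    rw [← h1]
    exact inv_eq_of_mul_eq_one_right (center_sq hT hna ρ h3 hfp (mul_mem (cm_mem hT hna ρ h3 hfp _ _) (center_invariant ρ _ (cm_mem hT hna ρ h3 hfp _ _))))
  have hcz : ∀ {u v : T}, u ∈ Subgroup.center T → u * (u * v) = v := fun hu => by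
    rw [← mul_assoc, center_sq hT hna ρ h3 hfp hu, one_mul]
  have hd : cm (ρ a) b = ρ (cm a (ρ b)) * ρ (cm a b) := by
    have h := hlin (ρ a) b
    rw [← cm_map, ← cm_map] at h
    rw [h, mul_assoc, center_sq hT hna ρ h3 hfp (center_invariant ρ _ (cm_mem hT hna ρ h3 hfp _ _)), mul_one]
  have hρρ : cm (ρ (ρ a)) b = cm a b * cm (ρ a) b := by
    have h := hlin b a
    rwa [cm_symm hT hna ρ h3 hfp (ρ (ρ a)) b, cm_symm hT hna ρ h3 hfp a b, cm_symm hT hna ρ h3 hfp (ρ a) b] at h
  have he : ρ (ρ (cm a (ρ b))) = cm (ρ (ρ a)) b := by rw [cm_map, cm_map, h3]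
  have hc2 : cm a (ρ b) = ρ (ρ (cm a b)) := by
    have h := he.trans (hρρ.trans (by rw [hd]))
    rw [hsum (ρ b)] at h
    rw [hsum b]
    have hz1 := cm_mem hT hna ρ h3 hfp a (ρ b)
    have hz2 := cm_mem hT hna ρ h3 hfp a b
    have hz1' := Subgroup.mem_center_iff.1 (center_invariant ρ _ hz1)
    rw [hz1' (cm a (ρ b)), ← mul_assoc (cm a b), hz1' (cm a b), mul_assoc] at h
    exact mul_left_cancel h
  have hd' : cm (ρ a) b = ρ (ρ (cm a b)) := by
    rw [hd, hc2, h3, hsum b]
  refine ⟨hc2, hd', ?_, (cm_map ρ a b).symm⟩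
  rw [hρρ, hd', hsum b, hcz (cm_mem hT hna ρ h3 hfp a b)]

end Main

end CfsgLib.InvCharSixtyFour
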