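import Cfsg.Agent.Lib.InvChar.SylowThree

/-!
# The maximal elementary abelian subgroups of a Sylow 2-subgroup of `PSL₃(4)`
-/

set_option autoImplicit false
set_option linter.unusedSectionVars false

namespace CfsgLib.InvCharPSLThree

open Matrix CfsgLib.InvCharThree

variable {F : Type*} [Field F] [Fintype F] [hF : Fact (Fintype.card F = 4)]

include hF

theorem two_zero : (2 : F) = 0 := by
  obtain ⟨p, hp⟩ := CharP.exists F
  obtain ⟨n, hpp, hn⟩ := FiniteField.card F p
  have : p = 2 := by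
    have h2 : 2 ∣ p ^ (n : ℕ) := by rw [← hn, hF.out]; norm_num
    exact ((Nat.prime_dvd_prime_iff_eq Nat.prime_two hpp).1 (Nat.prime_two.dvd_of_dvd_pow h2)).symm
  subst this
  exact_mod_cast CharP.cast_eq_zero F 2

theorem add_self' (a : F) : a + a = 0 := by rw [← two_mul, two_zero, zero_mul]

theorem neg_self' (a : F) : -a = a := neg_eq_of_add_eq_zero_left (add_self' a)

theorem cube_eq_one {a : F} (ha : a ≠ 0) : a ^ 3 = 1 := by
  have := FiniteField.pow_card_sub_one_eq_one a ha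
  rwa [hF.out] at this

theorem odd_center : Odd (Nat.card (Subgroup.center (SpecialLinearGroup (Fin 3) F))) := by
  rw [Cfsg.Agent.Classical.card_center_sl 3 (by norm_num)]
  exact Odd.of_dvd_nat (by decide : Odd 3) (Nat.gcd_dvd_left _ _)

/-- The projection. -/
def proj : SpecialLinearGroup (Fin 3) F →* ProjectiveSpecialLinearGroup (Fin 3) F :=
  QuotientGroup.mk' _

theorem proj_eq_iff {g h : SpecialLinearGroup (Fin 3) F} :
    proj g = proj h ↔ g⁻¹ * h ∈ Subgroup.center _ := QuotientGroup.eq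

theorem uniToSL_coe (x : Uni F) : (uniToSL x).1 = !![1, x.v, x.w; 0, 1, x.u; 0, 0, 1] := rfl

/-- The unipotent radical. -/
def bar : Uni F →* ProjectiveSpecialLinearGroup (Fin 3) F := proj.comp uniToSL

theorem bar_injective : Function.Injective (bar (F := F)) :=
  mk_comp_injective (isPGroup_uni (n := 2) (by rw [hF.out]; norm_num)) uniToSL uniToSL_injective odd_center

/-- `u = 0`. -/
def axisU : Subgroup (Uni F) where
  carrier := {x | x.u = 0}
  one_mem' := rfl
  mul_mem' := fun {x y} (hx : x.u = 0) (hy : y.u = 0) => show (x * y).u = 0 by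
    rw [uni_mul_u, hx, hy, add_zero]
  inv_mem' := fun {x} (hx : x.u = 0) => show (x⁻¹).u = 0 by rw [uni_inv_u, hx, neg_zero]

/-- `v = 0`. -/
def axisV : Subgroup (Uni F) where
  carrier := {x | x.v = 0}
  one_mem' := rfl
  mul_mem' := fun {x y} (hx : x.v = 0) (hy : y.v = 0) => show (x * y).v = 0 by
    rw [uni_mul_v, hx, hy, add_zero]
  inv_mem' := fun {x} (hx : x.v = 0) => show (x⁻¹).v = 0 by rw [uni_inv_v, hx, neg_zero]

variable (F) in
/-- The first elementary abelian subgroup of order 16. -/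
def eOne : Subgroup (ProjectiveSpecialLinearGroup (Fin 3) F) := axisU.map bar

variable (F) in
/-- The second elementary abelian subgroup of order 16. -/
def eTwo : Subgroup (ProjectiveSpecialLinearGroup (Fin 3) F) := axisV.map bar

variable (F) in
/-- The standard Sylow 2-subgroup. -/
def sylowU : Subgroup (ProjectiveSpecialLinearGroup (Fin 3) F) := (bar (F := F)).range

theorem isPGroup_sylowU : IsPGroup 2 (sylowU F) :=
  IsPGroup.of_equiv (isPGroup_uni (n := 2) (by rw [hF.out]; norm_num)) (MonoidHom.ofInjective bar_injective)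

theorem card_sylowU : Nat.card (sylowU F) = 64 := by
  rw [sylowU, ← Nat.card_congr (MonoidHom.ofInjective bar_injective).toEquiv, natCard_uni, hF.out]; norm_num

theorem card_axisU : Nat.card (axisU (F := F)) = 16 := by
  have e : axisU (F := F) ≃ F × F :=
    { toFun := fun x => (x.1.v, x.1.w)
      invFun := fun p => ⟨⟨0, p.1, p.2⟩, rfl⟩
      left_inv := fun x => Subtype.ext (Uni.ext x.2.symm rfl rfl)
      right_inv := fun p => rfl }
  rw [Nat.card_congr e, Nat.card_prod, Nat.card_eq_fintype_card, hF.out]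

theorem card_axisV : Nat.card (axisV (F := F)) = 16 := by
  have e : axisV (F := F) ≃ F × F :=
    { toFun := fun x => (x.1.u, x.1.w)
      invFun := fun p => ⟨⟨p.1, 0, p.2⟩, rfl⟩
      left_inv := fun x => Subtype.ext (Uni.ext rfl x.2.symm rfl)
      right_inv := fun p => rfl }
  rw [Nat.card_congr e, Nat.card_prod, Nat.card_eq_fintype_card, hF.out]

theorem card_eOne : Nat.card (eOne F) = 16 := by
  rw [eOne, Subgroup.card_map_of_injective bar_injective, card_axisU]

theorem card_eTwo : Nat.card (eTwo F) = 16 := by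
  rw [eTwo, Subgroup.card_map_of_injective bar_injective, card_axisV]

theorem eOne_le : eOne F ≤ sylowU F := Subgroup.map_le_range _ _

theorem eTwo_le : eTwo F ≤ sylowU F := Subgroup.map_le_range _ _

theorem mul_decomp (x : Uni F) : x = ⟨0, x.v, x.w + x.v * x.u⟩ * ⟨x.u, 0, 0⟩ := by
  refine Uni.ext ?_ ?_ ?_
  · rw [uni_mul_u, zero_add]
  · rw [uni_mul_v, add_zero]
  · rw [uni_mul_w, add_zero, add_assoc, add_self', add_zero]

theorem sup_eq : eOne F ⊔ eTwo F = sylowU F := by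
  refine le_antisymm (sup_le eOne_le eTwo_le) ?_
  rintro _ ⟨x, rfl⟩
  rw [mul_decomp x, map_mul]
  exact Subgroup.mul_mem_sup ⟨_, rfl, rfl⟩ ⟨_, rfl, rfl⟩

theorem eOne_ne_eTwo : eOne F ≠ eTwo F := by
  intro h
  have h1 : bar (⟨0, 1, 0⟩ : Uni F) ∈ eTwo F := h ▸ ⟨_, rfl, rfl⟩
  obtain ⟨y, hy, he⟩ := h1
  have : y.v = 0 := hy
  rw [bar_injective he] at this
  exact one_ne_zero this

/-- Elementary abelian subgroups of order 16. -/
theorem eq_eOne_or_eTwo (A : Subgroup (ProjectiveSpecialLinearGroup (Fin 3) F)) (hA : A ≤ sylowU F)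
    (hAc : ∀ a ∈ A, a * a = 1) (h16 : Nat.card A = 16) : A = eOne F ∨ A = eTwo F := by
  have hsplit : ∀ x : Uni F, bar x ∈ A → x.u = 0 ∨ x.v = 0 := by
    intro x hx
    have h : x * x = 1 := bar_injective (by rw [map_mul, map_one, hAc _ hx])
    have h' := congrArg Uni.w h
    rw [uni_mul_w, uni_one_w, add_self', zero_add] at h'
    exact (mul_eq_zero.1 h').symm
  have hone : A ≤ eOne F ∨ A ≤ eTwo F := by
    by_contra! h
    obtain ⟨a, haA, ha⟩ := SetLike.not_le_iff_exists.1 h.1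
    obtain ⟨b, hbA, hb⟩ := SetLike.not_le_iff_exists.1 h.2
    obtain ⟨x, rfl⟩ := hA haA
    obtain ⟨y, rfl⟩ := hA hbA
    have hxu : x.u ≠ 0 := fun e => ha ⟨x, e, rfl⟩
    have hyv : y.v ≠ 0 := fun e => hb ⟨y, e, rfl⟩
    have hxv : x.v = 0 := (hsplit x haA).resolve_left hxu
    have hyu : y.u = 0 := (hsplit y hbA).resolve_right hyv
    rcases hsplit (x * y) (by rw [map_mul]; exact mul_mem haA hbA) with e | e
    · rw [uni_mul_u, hyu, add_zero] at e; exact hxu e
    · rw [uni_mul_v, hxv, zero_add] at e; exact hyv e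
  rcases hone with h | h
  · exact Or.inl (Subgroup.eq_of_le_of_card_ge h (by rw [card_eOne, h16]))
  · exact Or.inr (Subgroup.eq_of_le_of_card_ge h (by rw [card_eTwo, h16]))

/-- The centre of the standard Sylow subgroup is `eOne ⊓ eTwo`. -/
theorem center_le {z : ProjectiveSpecialLinearGroup (Fin 3) F} (hz : z ∈ sylowU F)
    (hc : ∀ g ∈ sylowU F, g * z = z * g) : z ∈ eOne F ⊓ eTwo F := by
  obtain ⟨x, rfl⟩ := hz
  have h1 := bar_injective (by rw [map_mul, map_mul]; exact hc _ ⟨⟨0, 1, 0⟩, rfl⟩ :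
    bar (⟨0, 1, 0⟩ * x) = bar (x * ⟨0, 1, 0⟩))
  have h2 := bar_injective (by rw [map_mul, map_mul]; exact hc _ ⟨⟨1, 0, 0⟩, rfl⟩ :
    bar (⟨1, 0, 0⟩ * x) = bar (x * ⟨1, 0, 0⟩))
  have e1 := congrArg Uni.w h1
  have e2 := congrArg Uni.w h2
  simp at e1 e2
  exact ⟨⟨x, e1, rfl⟩, ⟨x, e2, rfl⟩⟩

/-! ### The Levi complement -/

/-- The block matrix. -/
def blk (A : SpecialLinearGroup (Fin 2) F) : Matrix (Fin 3) (Fin 3) F :=
  !![1, 0, 0; 0, A.1 0 0, A.1 0 1; 0, A.1 1 0, A.1 1 1]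

theorem blk_det (A : SpecialLinearGroup (Fin 2) F) : (blk A).det = 1 := by
  have h := A.2
  rw [det_fin_two] at h
  simp [blk, det_fin_three]
  linear_combination h

theorem blk_mul (A B : SpecialLinearGroup (Fin 2) F) : blk (A * B) = blk A * blk B := by
  ext i j
  fin_cases i <;> fin_cases j <;> simp [blk, mul_apply, Fin.sum_univ_three, Fin.sum_univ_two]

/-- The Levi embedding into `SL₃`. -/
def levSL : SpecialLinearGroup (Fin 2) F →* SpecialLinearGroup (Fin 3) F :=
  MonoidHom.mk' (fun A => ⟨blk A, blk_det A⟩) (fun A B => Subtype.ext (blk_mul A B))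

theorem levSL_coe (A : SpecialLinearGroup (Fin 2) F) :
    (levSL A).1 = !![1, 0, 0; 0, A.1 0 0, A.1 0 1; 0, A.1 1 0, A.1 1 1] := rfl

/-- The Levi embedding. -/
def lev : SpecialLinearGroup (Fin 2) F →* ProjectiveSpecialLinearGroup (Fin 3) F := proj.comp levSL

theorem scalar_entries {g : SpecialLinearGroup (Fin 3) F} (hg : g ∈ Subgroup.center _) :
    ∀ i j, g.1 i j = if i = j then g.1 0 0 else 0 := by
  obtain ⟨r, -, hr⟩ := Matrix.SpecialLinearGroup.mem_center_iff.1 hg
  have h00 : g.1 0 0 = r := by rw [← hr]; simp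
  intro i j
  rw [h00, ← hr, scalar_apply, diagonal_apply]

theorem lev_injective : Function.Injective (lev (F := F)) := by
  rw [injective_iff_map_eq_one]
  intro A hA
  have hs := scalar_entries ((QuotientGroup.eq_one_iff _).1 (hA : proj (levSL A) = 1))
  have e00 : A.1 0 0 = 1 := by simpa [levSL_coe] using hs 1 1
  have e01 : A.1 0 1 = 0 := by simpa [levSL_coe] using hs 1 2
  have e10 : A.1 1 0 = 0 := by simpa [levSL_coe] using hs 2 1
  have e11 : A.1 1 1 = 1 := by simpa [levSL_coe] using hs 2 2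
  refine Matrix.SpecialLinearGroup.ext _ _ fun i j => ?_
  fin_cases i <;> fin_cases j <;> simp [e00, e01, e10, e11]

theorem conj_transvection (A : SpecialLinearGroup (Fin 2) F) (v w : F) :
    uniToSL (⟨0, v, w⟩ : Uni F) * levSL A =
      levSL A * uniToSL ⟨0, v * A.1 0 0 + w * A.1 1 0, v * A.1 0 1 + w * A.1 1 1⟩ := by
  refine Matrix.SpecialLinearGroup.ext _ _ fun i j => ?_
  fin_cases i <;> fin_cases j <;>
    simp [levSL_coe, uniToSL_coe, mul_apply, Fin.sum_univ_three]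

theorem lev_conj (A : SpecialLinearGroup (Fin 2) F) (v w : F) :
    lev A * bar (⟨0, v * A.1 0 0 + w * A.1 1 0, v * A.1 0 1 + w * A.1 1 1⟩ : Uni F) * (lev A)⁻¹ =
      bar ⟨0, v, w⟩ := by
  rw [mul_inv_eq_iff_eq_mul]
  show proj (levSL A) * proj (uniToSL _) = proj (uniToSL _) * proj (levSL A)
  rw [← map_mul, ← map_mul, conj_transvection]

theorem lev_normalizes (A : SpecialLinearGroup (Fin 2) F) : lev A ∈ Subgroup.normalizer (eOne F : Set _) := by
  have key : ∀ B : SpecialLinearGroup (Fin 2) F, ∀ n ∈ eOne F, lev B * n * (lev B)⁻¹ ∈ eOne F := by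
    intro B n hn
    obtain ⟨x, hx, rfl⟩ := hn
    have hxu : x.u = 0 := hx
    have e : x = ⟨0, (x.v * (B⁻¹).1 0 0 + x.w * (B⁻¹).1 1 0) * B.1 0 0 + (x.v * (B⁻¹).1 0 1 + x.w * (B⁻¹).1 1 1) * B.1 1 0,
        (x.v * (B⁻¹).1 0 0 + x.w * (B⁻¹).1 1 0) * B.1 0 1 + (x.v * (B⁻¹).1 0 1 + x.w * (B⁻¹).1 1 1) * B.1 1 1⟩ := by
      have h := B.2
      rw [det_fin_two] at h
      refine Uni.ext hxu ?_ ?_ <;> simp [SpecialLinearGroup.coe_inv, adjugate_fin_two]
      · linear_combination -x.v * h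
      · linear_combination -x.w * h
    rw [e, lev_conj]
    exact ⟨_, rfl, rfl⟩
  rw [Subgroup.mem_normalizer_iff]
  intro n
  refine ⟨key A n, fun h => ?_⟩
  have := key A⁻¹ _ h
  rwa [map_inv, inv_inv, ← mul_assoc, ← mul_assoc, inv_mul_cancel, one_mul, mul_assoc, inv_mul_cancel,
    mul_one] at this

theorem transitive {v w : F} (h : v ≠ 0 ∨ w ≠ 0) :
    ∃ g, g * bar (⟨0, v, w⟩ : Uni F) * g⁻¹ = bar ⟨0, 1, 0⟩ := by
  rcases h with h | h
  · refine ⟨lev ⟨!![v, w; 0, v⁻¹], by simp [det_fin_two, mul_inv_cancel₀ h]⟩, ?_⟩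
    have := lev_conj (⟨!![v, w; 0, v⁻¹], by simp [det_fin_two, mul_inv_cancel₀ h]⟩ : SpecialLinearGroup (Fin 2) F) 1 0
    simpa using this
  · refine ⟨lev ⟨!![v, w; w⁻¹, 0], by simp [det_fin_two, mul_inv_cancel₀ h, neg_self']⟩, ?_⟩
    have := lev_conj (⟨!![v, w; w⁻¹, 0], by simp [det_fin_two, mul_inv_cancel₀ h, neg_self']⟩ : SpecialLinearGroup (Fin 2) F) 1 0
    simpa using this

theorem eOne_inf_range : eOne F ⊓ (lev (F := F)).range = ⊥ := by
  rw [eq_bot_iff]
  rintro z ⟨⟨x, hx, rfl⟩, A, hA⟩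
  have hxu : x.u = 0 := hx
  have hs := scalar_entries (proj_eq_iff.1 (hA : proj (levSL A) = proj (uniToSL x)))
  -- `uniToSL x = levSL A * s`
  set s := (levSL A)⁻¹ * uniToSL x with hsdef
  have hmul : levSL A * s = uniToSL x := mul_inv_cancel_left _ _
  have hent : ∀ i j, (blk A) i j * s.1 0 0 = (uniToSL x).1 i j := by
    intro i j
    rw [← hmul]
    show _ = ((blk A) * s.1) i j
    rw [mul_apply, Finset.sum_eq_single j]
    · rw [hs j j, if_pos rfl]
    · intro k _ hk; rw [hs k j, if_neg hk, mul_zero]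
    · simp
  have hv : x.v = 0 := by have := hent 0 1; simp [blk, uniToSL_coe] at this; exact this.symm
  have hw : x.w = 0 := by have := hent 0 2; simp [blk, uniToSL_coe] at this; exact this.symm
  rw [Subgroup.mem_bot, show x = 1 from Uni.ext hxu hv hw, map_one]

theorem radical_mul_lev (A : SpecialLinearGroup (Fin 2) F) (v w : F) :
    (uniToSL (⟨0, v, w⟩ : Uni F) * levSL A).1 = !![1, v * A.1 0 0 + w * A.1 1 0, v * A.1 0 1 + w * A.1 1 1;
      0, A.1 0 0, A.1 0 1; 0, A.1 1 0, A.1 1 1] := by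
  ext i j
  fin_cases i <;> fin_cases j <;> simp [levSL_coe, uniToSL_coe, mul_apply, Fin.sum_univ_three]

theorem exists_row (A : SpecialLinearGroup (Fin 2) F) (r₁ r₂ : F) :
    ∃ v w : F, v * A.1 0 0 + w * A.1 1 0 = r₁ ∧ v * A.1 0 1 + w * A.1 1 1 = r₂ := by
  have h := A.2
  rw [det_fin_two] at h
  exact ⟨r₁ * A.1 1 1 - r₂ * A.1 1 0, r₂ * A.1 0 0 - r₁ * A.1 0 1,
    by linear_combination r₁ * h, by linear_combination r₂ * h⟩

theorem normalizer_le {g : ProjectiveSpecialLinearGroup (Fin 3) F} (hg : g ∈ Subgroup.normalizer (eOne F : Set _)) :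
    ∃ e ∈ eOne F, ∃ A, g = e * lev A := by
  obtain ⟨g, rfl⟩ := QuotientGroup.mk'_surjective _ g
  have key : ∀ v w : F, ∃ y : Uni F, y.u = 0 ∧ g * uniToSL (⟨0, v, w⟩ : Uni F) = uniToSL y * g := by
    intro v w
    obtain ⟨y, hy, he⟩ := (Subgroup.mem_normalizer_iff.1 hg (bar ⟨0, v, w⟩)).1 ⟨_, rfl, rfl⟩
    refine ⟨y, hy, ?_⟩
    set t := uniToSL (⟨0, v, w⟩ : Uni F)
    set t' := uniToSL y
    have hy2 : y * y = 1 := by
      refine Uni.ext ?_ ?_ ?_
      · rw [uni_mul_u]; exact add_self' _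
      · rw [uni_mul_v]; exact add_self' _
      · rw [uni_mul_w, (hy : y.u = 0), mul_zero, add_zero]; exact add_self' _
    have ht : t * t = 1 := by
      rw [← map_mul, ← map_one uniToSL]
      congr 1
      refine Uni.ext ?_ ?_ ?_ <;> simp [add_self']
    have hs : t'⁻¹ * (g * t * g⁻¹) ∈ Subgroup.center _ := proj_eq_iff.1 (he.trans (by
      show proj g * proj t * (proj g)⁻¹ = proj (g * t * g⁻¹)
      rw [map_mul, map_mul, map_inv]))
    set s := t'⁻¹ * (g * t * g⁻¹)
    have hts : t' * s = g * t * g⁻¹ := mul_inv_cancel_left _ _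
    have hs2 : s * s = 1 := by
      have h1 : t' * s * (t' * s) = 1 := by
        rw [hts, show g * t * g⁻¹ * (g * t * g⁻¹) = g * (t * t) * g⁻¹ by group, ht]; group
      have h2 : t' * s * (t' * s) = t' * t' * (s * s) := by
        rw [mul_assoc, ← mul_assoc s, ← Subgroup.mem_center_iff.1 hs t']; group
      rw [h2, ← map_mul, hy2, map_one, one_mul] at h1
      exact h1
    have hs1 : s = 1 := by
      have hd : orderOf s ∣ Nat.gcd 2 (Nat.card (Subgroup.center (SpecialLinearGroup (Fin 3) F))) :=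
        Nat.dvd_gcd (orderOf_dvd_of_pow_eq_one (by rw [pow_two]; exact hs2)) (Subgroup.orderOf_dvd_natCard _ hs)
      rw [Nat.coprime_two_left.2 odd_center, Nat.dvd_one] at hd
      exact orderOf_eq_one_iff.1 hd
    rw [hs1, mul_one] at hts
    rw [hts]; group
  have h10 : g.1 1 0 = 0 := by
    obtain ⟨y, hy, he⟩ := key 1 0
    have := congrArg (fun M : SpecialLinearGroup (Fin 3) F => M.1 1 1) he
    simp [uniToSL_coe, mul_apply, Fin.sum_univ_three, hy] at this
    exact this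
  have h20 : g.1 2 0 = 0 := by
    obtain ⟨y, hy, he⟩ := key 1 0
    have := congrArg (fun M : SpecialLinearGroup (Fin 3) F => M.1 2 1) he
    simp [uniToSL_coe, mul_apply, Fin.sum_univ_three, hy] at this
    exact this
  have hdet := g.2
  rw [det_fin_three, h10, h20] at hdet
  simp at hdet
  have hl : g.1 0 0 ≠ 0 := fun h => by simp [h] at hdet
  set c := (g.1 0 0)⁻¹ with hc
  have hc3 : c ^ 3 = 1 := cube_eq_one (inv_ne_zero hl)
  let A : SpecialLinearGroup (Fin 2) F := ⟨!![c * g.1 1 1, c * g.1 1 2; c * g.1 2 1, c * g.1 2 2], by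
    simp only [det_fin_two_of]
    calc c * g.1 1 1 * (c * g.1 2 2) - c * g.1 1 2 * (c * g.1 2 1)
        = c ^ 2 * (g.1 1 1 * g.1 2 2 - g.1 1 2 * g.1 2 1) := by ring
      _ = c ^ 2 * (c * (g.1 0 0 * g.1 1 1 * g.1 2 2 - g.1 0 0 * g.1 1 2 * g.1 2 1)) := by
        rw [hc]; field_simp
      _ = 1 := by rw [hdet, mul_one, ← pow_succ, hc3]⟩
  obtain ⟨v, w, hv, hw⟩ := exists_row A (c * g.1 0 1) (c * g.1 0 2)
  refine ⟨bar ⟨0, v, w⟩, ⟨_, rfl, rfl⟩, A, ?_⟩
  show proj g = proj (uniToSL ⟨0, v, w⟩) * proj (levSL A)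
  rw [← map_mul, proj_eq_iff]
  have hprod : (uniToSL (⟨0, v, w⟩ : Uni F) * levSL A).1 = c • g.1 := by
    have hcl : c * g.1 0 0 = 1 := inv_mul_cancel₀ hl
    have e11 : A.1 0 0 = c * g.1 1 1 := rfl
    have e12 : A.1 0 1 = c * g.1 1 2 := rfl
    have e21 : A.1 1 0 = c * g.1 2 1 := rfl
    have e22 : A.1 1 1 = c * g.1 2 2 := rfl
    rw [radical_mul_lev, hv, hw, e11, e12, e21, e22]
    ext i j
    fin_cases i <;> fin_cases j <;> simp [h10, h20, hcl]
  rw [Matrix.SpecialLinearGroup.mem_center_iff]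
  refine ⟨c, by rw [Fintype.card_fin]; exact hc3, ?_⟩
  show scalar (Fin 3) c = (g⁻¹).1 * (uniToSL (⟨0, v, w⟩ : Uni F) * levSL A).1
  rw [hprod, mul_smul_comm, ← Matrix.SpecialLinearGroup.coe_mul, inv_mul_cancel,
    Matrix.SpecialLinearGroup.coe_one, smul_one_eq_diagonal]
  rfl

theorem natCard_slTwo_four : Nat.card (SpecialLinearGroup (Fin 2) F) = 60 := by
  have h := Cfsg.Agent.Classical.card_sl_mul (F := F) 2 (by norm_num)
  rw [hF.out, Fin.prod_univ_two] at h
  simp at h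
  omega

/-! ### The graph automorphism -/

/-- The antidiagonal matrix. -/
def flip : SpecialLinearGroup (Fin 3) F :=
  ⟨!![0, 0, 1; 0, 1, 0; 1, 0, 0], by simp [det_fin_three, neg_self']⟩

/-- Transpose inverse. -/
def dual : MulAut (SpecialLinearGroup (Fin 3) F) where
  toFun g := (g⁻¹).transpose
  invFun g := (g.transpose)⁻¹
  left_inv g := by
    show (((g⁻¹).transpose).transpose)⁻¹ = g
    have : ((g⁻¹).transpose).transpose = g⁻¹ := Subtype.ext (Matrix.transpose_transpose _)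
    rw [this, inv_inv]
  right_inv g := by
    show (((g.transpose)⁻¹)⁻¹).transpose = g
    rw [inv_inv]
    exact Subtype.ext (Matrix.transpose_transpose _)
  map_mul' g h := by
    refine Subtype.ext ?_
    show ((g * h)⁻¹).1ᵀ = (g⁻¹).1ᵀ * (h⁻¹).1ᵀ
    rw [_root_.mul_inv_rev, Matrix.SpecialLinearGroup.coe_mul, transpose_mul]

/-- The graph automorphism. -/
def graphSL : MulAut (SpecialLinearGroup (Fin 3) F) := MulAut.conj flip * dual

theorem graphSL_axisV (y : Uni F) (hy : y.v = 0) :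
    graphSL (uniToSL y) = uniToSL ⟨0, y.u, y.w⟩ := by
  show flip * ((uniToSL y)⁻¹).transpose * flip⁻¹ = _
  rw [mul_inv_eq_iff_eq_mul, ← map_inv]
  refine Matrix.SpecialLinearGroup.ext _ _ fun i j => ?_
  show ((flip (F := F)).1 * ((uniToSL y⁻¹).1)ᵀ) i j = ((uniToSL ⟨0, y.u, y.w⟩).1 * (flip (F := F)).1) i j
  fin_cases i <;> fin_cases j <;>
    simp [flip, uniToSL_coe, mul_apply, Fin.sum_univ_three, hy, neg_self']

theorem exists_graph : ∃ φ : MulAut (ProjectiveSpecialLinearGroup (Fin 3) F),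
    (eTwo F).map φ.toMonoidHom = eOne F := by
  refine ⟨QuotientGroup.congr _ _ (graphSL (F := F))
    ((Subgroup.characteristic_iff_map_eq.1 Subgroup.centerCharacteristic) _), ?_⟩
  refine Subgroup.eq_of_le_of_card_ge ?_ (by
    rw [Subgroup.card_map_of_injective (MulEquiv.injective _), card_eTwo, card_eOne])
  rintro _ ⟨_, ⟨y, hy, rfl⟩, rfl⟩
  refine ⟨⟨0, y.u, y.w⟩, rfl, ?_⟩
  show proj (uniToSL _) = proj (graphSL (uniToSL y))
  rw [graphSL_axisV y hy]

end CfsgLib.InvCharPSLThree
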