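import Cfsg.Agent.Lib.InvChar.PSLThreeFour
import Cfsg.Agent.Lib.Solvable.Gaschutz
import Cfsg.Agent.Lib.InvChar.OrderSixtyFour
import Cfsg.Prelude.Def_Transfer

/-!
# Central 2-extensions of `PSL₃(4)`: the preimages of the maximal parabolic radicals
-/

set_option autoImplicit false

namespace CfsgLib.InvCharPSLThree

open Subgroup CfsgLib.InvCharThree

variable {F : Type*} [Field F] [Fintype F] [hF : Fact (Fintype.card F = 4)]
  {X : Type*} [Group X] [Finite X]
  (π : X →* Matrix.ProjectiveSpecialLinearGroup (Fin 3) F) (hπ : Function.Surjective π)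
  (hker : π.ker = center X) (hZ : ∀ z ∈ center X, z * z = 1)

include hF hπ hker hZ

/-- The preimage of `eOne` is elementary abelian. -/
theorem elementary_comap : Cfsg.IsElementaryAbelian 2 ((eOne F).comap π) := by
  set H := (eOne F).comap π
  have hzker : ∀ z : X, π z = 1 → z ∈ center X := fun z hz => hker ▸ hz
  have hcen : ∀ {z : X}, z ∈ center X → ∀ g, g * z = z * g := fun hz g => mem_center_iff.1 hz g
  have hEsq : ∀ p ∈ eOne F, p * p = 1 := by
    rintro _ ⟨x, hx, rfl⟩
    have hxu : x.u = 0 := hx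
    rw [← map_mul, ← map_one bar]
    congr 1
    refine Uni.ext ?_ ?_ ?_ <;> simp [hxu, add_self']
  have hsq : ∀ h ∈ H, h * h ∈ center X := fun h hh => hzker _ (by rw [map_mul, hEsq _ hh])
  have hinv : ∀ h z : X, z ∈ center X → h * z * (h * z) = h * h := by
    intro h z hz
    calc h * z * (h * z) = h * (z * h) * z := by group
      _ = h * (h * z) * z := by rw [hcen hz h]
      _ = h * h * (z * z) := by group
      _ = h * h := by rw [hZ z hz, mul_one]
  -- preimages of the transvections
  choose l hl using hπ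
  have hlH : ∀ v w : F, l (bar ⟨0, v, w⟩) ∈ H := fun v w => by
    show π (l _) ∈ eOne F
    rw [hl]; exact ⟨_, rfl, rfl⟩
  set a := l (bar (⟨0, 1, 0⟩ : Uni F))
  set s := a * a with hs
  have hconst : ∀ h ∈ H, π h ≠ 1 → h * h = s := by
    intro h hh hne
    obtain ⟨x, hx, hxh⟩ := hh
    obtain ⟨u, v, w⟩ := x
    obtain rfl : u = 0 := hx
    have hvw : v ≠ 0 ∨ w ≠ 0 := by
      by_contra! e
      exact hne (by rw [← hxh, e.1, e.2]; exact map_one bar)
    obtain ⟨g, hg⟩ := transitive hvw
    set g' := l g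
    have hz : (g' * h * g'⁻¹)⁻¹ * a ∈ center X := hzker _ (by
      simp only [map_mul, map_inv, g', a, hl]
      rw [← hxh, hg, inv_mul_cancel])
    have hh2 : h * h ∈ center X := hsq h (show π h ∈ eOne F from ⟨_, rfl, hxh⟩)
    have e : g' * h * g'⁻¹ * (g' * h * g'⁻¹) = h * h := by
      calc g' * h * g'⁻¹ * (g' * h * g'⁻¹) = g' * (h * h) * g'⁻¹ := by group
        _ = h * h := by rw [hcen hh2 g']; group
    rw [hs, ← e]
    conv_rhs => rw [show a = g' * h * g'⁻¹ * ((g' * h * g'⁻¹)⁻¹ * a) by group]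
    rw [hinv _ _ hz]
  open CfsgLib.InvCharSixtyFour in
  have hcm : ∀ v w v' w' : F, cm (l (bar ⟨0, v, w⟩)) (l (bar ⟨0, v', w'⟩)) ∈ center X := by
    intro v w v' w'
    refine hzker _ ?_
    rw [cm, map_mul, map_mul, map_mul, map_inv, map_inv, hl, hl, ← map_inv, ← map_inv, ← map_mul, ← map_mul, ← map_mul, ← map_one bar]
    congr 1
    refine Uni.ext ?_ ?_ ?_ <;> simp
  have hs1 : s = 1 := by
    open CfsgLib.InvCharSixtyFour in
    obtain ⟨ω, -, hω⟩ := Finset.exists_mem_notMem_of_card_lt_card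
      (s := (by classical exact ({0, 1} : Finset F))) (t := Finset.univ) (by
        classical
        rw [Finset.card_univ, hF.out, Finset.card_pair zero_ne_one]; norm_num)
    simp only [Finset.mem_insert, Finset.mem_singleton, not_or] at hω
    set b := l (bar (⟨0, 0, 1⟩ : Uni F))
    set b' := l (bar (⟨0, ω, 0⟩ : Uni F))
    have hne : ∀ x : Uni F, x ≠ 1 → bar x ≠ 1 := fun x hx e => hx (bar_injective (e.trans (map_one bar).symm))
    have hst : s ∈ center X := hsq a (hlH 1 0)
    have hsi : s⁻¹ = s := inv_eq_of_mul_eq_one_right (hZ s hst)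
    -- `(xy)² = x² y² [y, x]`
    have hc : ∀ x y : X, x ∈ H → y ∈ H → π x ≠ 1 → π y ≠ 1 → π (x * y) ≠ 1 →
        CfsgLib.InvCharSixtyFour.cm y x = s := by
      intro x y hx hy hx1 hy1 hxy1
      have h := hconst _ (mul_mem hx hy) hxy1
      have e : CfsgLib.InvCharSixtyFour.cm y x = x⁻¹ * (x * y * (x * y)) * (y * y)⁻¹ * x⁻¹ := by
        unfold CfsgLib.InvCharSixtyFour.cm; group
      rw [e, h, hconst y hy hy1, mul_inv_cancel_right, ← mul_inv_rev, hconst x hx hx1, hsi]
    have hπbar : ∀ v w : F, (v ≠ 0 ∨ w ≠ 0) → π (l (bar (⟨0, v, w⟩ : Uni F))) ≠ 1 := by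
      intro v w h
      rw [hl]
      refine hne _ fun e => ?_
      rcases h with h | h
      · exact h (congrArg Uni.v e)
      · exact h (congrArg Uni.w e)
    have hπmul : ∀ x y : Uni F, π (l (bar x) * l (bar y)) = bar (x * y) := fun x y => by
      rw [map_mul, hl, hl, map_mul]
    have c1 : CfsgLib.InvCharSixtyFour.cm b a = s := hc a b (hlH 1 0) (hlH 0 1) (hπbar 1 0 (Or.inl one_ne_zero))
      (hπbar 0 1 (Or.inr one_ne_zero)) (by
        rw [hπmul]; refine hne _ fun e => ?_
        simpa using congrArg Uni.w e)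
    have c2 : CfsgLib.InvCharSixtyFour.cm b' a = s := hc a b' (hlH 1 0) (hlH ω 0) (hπbar 1 0 (Or.inl one_ne_zero))
      (hπbar ω 0 (Or.inl hω.1)) (by
        rw [hπmul]; refine hne _ fun e => ?_
        have hv := congrArg Uni.v e
        simp at hv
        exact hω.2 (by rw [← neg_self' ω]; exact (eq_neg_of_add_eq_zero_left hv).symm))
    have c3 : CfsgLib.InvCharSixtyFour.cm (b * b') a = s := hc a (b * b') (hlH 1 0) (mul_mem (hlH 0 1) (hlH ω 0))
      (hπbar 1 0 (Or.inl one_ne_zero)) (by
        rw [hπmul]; refine hne _ fun e => ?_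
        exact hω.1 (by simpa using congrArg Uni.v e)) (by
        rw [map_mul, hl, hπmul, ← map_mul]
        refine hne _ fun e => ?_
        simpa using congrArg Uni.w e)
    have hmul : CfsgLib.InvCharSixtyFour.cm (b * b') a =
        CfsgLib.InvCharSixtyFour.cm b a * CfsgLib.InvCharSixtyFour.cm b' a := by
      have h := hcen (hcm ω 0 1 0) b
      calc CfsgLib.InvCharSixtyFour.cm (b * b') a
          = b * CfsgLib.InvCharSixtyFour.cm b' a * a * b⁻¹ * a⁻¹ := by
            unfold CfsgLib.InvCharSixtyFour.cm; group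
        _ = CfsgLib.InvCharSixtyFour.cm b' a * b * a * b⁻¹ * a⁻¹ := by rw [h]
        _ = CfsgLib.InvCharSixtyFour.cm b' a * CfsgLib.InvCharSixtyFour.cm b a := by
            unfold CfsgLib.InvCharSixtyFour.cm; group
        _ = _ := hcen (hcm 0 1 1 0) _
    rw [c1, c2, c3] at hmul
    exact left_eq_mul.1 hmul
  have hall : ∀ h ∈ H, h * h = 1 := fun h hh => by
    by_cases h1 : π h = 1
    · exact hZ h (hzker h h1)
    · rw [hconst h hh h1, hs1]
  refine ⟨⟨⟨fun x y => Subtype.ext ?_⟩⟩, fun h hh => by rw [pow_two]; exact hall h hh⟩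
  have h1 := inv_eq_of_mul_eq_one_right (hall x x.2)
  have h2 := inv_eq_of_mul_eq_one_right (hall y y.2)
  have h3 := inv_eq_of_mul_eq_one_right (hall (x * y : X) (mul_mem x.2 y.2))
  rw [mul_inv_rev, h1, h2] at h3
  exact h3.symm

theorem elementary_comap_two : Cfsg.IsElementaryAbelian 2 ((eTwo F).comap π) := by
  obtain ⟨φ, hφ⟩ := exists_graph (F := F)
  have h := elementary_comap (φ.toMonoidHom.comp π) (φ.surjective.comp hπ)
    (by rw [← hker]; ext g; simp [MonoidHom.mem_ker]) hZ
  have e : (eOne F).comap (φ.toMonoidHom.comp π) = (eTwo F).comap π := by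
    rw [← hφ, ← Subgroup.comap_comap, Subgroup.comap_map_eq_self_of_injective (f := φ.toMonoidHom) φ.injective]
  rwa [e] at h

theorem exists_complement :
    ∃ C : Subgroup X, C ≤ normalizer ((eOne F).comap π : Set X) ∧ C ⊓ (eOne F).comap π = ⊥ ∧
      (eOne F).comap π ⊔ C = normalizer ((eOne F).comap π : Set X) ∧
      Nonempty (C ≃* Matrix.SpecialLinearGroup (Fin 2) F) := by
  classical
  set H := (eOne F).comap π with hHdef
  set K := (eTwo F).comap π with hKdef
  set M := normalizer (H : Set X) with hMdef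
  have hM : M = (normalizer (eOne F : Set _)).comap π :=
    (comap_normalizer_eq_of_surjective _ hπ).symm
  have hHab := elementary_comap π hπ hker hZ
  have hKab := elementary_comap_two π hπ hker hZ
  have hHM : H ≤ M := le_normalizer
  have hKM : K ≤ M := by
    rw [hM]
    refine comap_mono ?_
    rintro _ ⟨x, hx, rfl⟩
    rw [mem_normalizer_iff]
    intro n
    have key : ∀ y : Uni F, ∀ n ∈ eOne F, bar y * n * (bar y)⁻¹ ∈ eOne F := by
      rintro y _ ⟨m, hm, rfl⟩
      refine ⟨y * m * y⁻¹, ?_, by simp⟩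
      show (y * m * y⁻¹).u = 0
      simp
      exact hm
    refine ⟨key x n, fun h => ?_⟩
    have := key x⁻¹ _ h
    rwa [map_inv, inv_inv, ← mul_assoc, ← mul_assoc, inv_mul_cancel, one_mul, mul_assoc, inv_mul_cancel,
      mul_one] at this
  -- a complement of `H ⊓ K` in `K`
  obtain ⟨A, hA, hAmax⟩ := (Set.toFinite {A : Subgroup X | A ≤ K ∧ A ⊓ H = ⊥}).exists_maximal
    ⟨⊥, bot_le, bot_inf_eq _⟩
  have hKc : ∀ p ∈ K, ∀ r ∈ K, p * r = r * p := fun p hp r hr =>
    congrArg Subtype.val (hKab.1.is_comm.comm (⟨p, hp⟩ : K) ⟨r, hr⟩)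
  have hKexp : ∀ p ∈ K, p * p = 1 := fun p hp => by rw [← pow_two]; exact hKab.2 p hp
  have hKle : K ≤ H ⊔ A := by
    intro k hk
    by_contra hk'
    have hkA : k ∉ A := fun h => hk' (mem_sup_right h)
    let A' : Subgroup X :=
      { carrier := {x | x ∈ A ∨ k * x ∈ A}
        one_mem' := Or.inl (one_mem A)
        mul_mem' := by
          rintro p r (hp | hp) (hr | hr)
          · exact Or.inl (mul_mem hp hr)
          · right
            rw [← mul_assoc, hKc k hk p (hA.1 hp), mul_assoc]
            exact mul_mem hp hr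
          · right; rw [← mul_assoc]; exact mul_mem hp hr
          · left
            have hp' : p ∈ K := by
              have := mul_mem (inv_mem hk) (hA.1 hp)
              rwa [inv_mul_cancel_left] at this
            have := mul_mem hp hr
            rwa [show k * p * (k * r) = k * (p * k) * r by group, ← hKc k hk p hp', ← mul_assoc,
              hKexp k hk, one_mul] at this
        inv_mem' := by
          rintro p (hp | hp)
          · exact Or.inl (inv_mem hp)
          · right
            have hp' : p ∈ K := by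
              have := mul_mem (inv_mem hk) (hA.1 hp)
              rwa [inv_mul_cancel_left] at this
            have := inv_mem hp
            rwa [mul_inv_rev, inv_eq_of_mul_eq_one_right (hKexp k hk), ← hKc k hk _ (inv_mem hp')] at this }
    have hA'K : A' ≤ K := by
      rintro p (hp | hp)
      · exact hA.1 hp
      · have := mul_mem (inv_mem hk) (hA.1 hp)
        rwa [inv_mul_cancel_left] at this
    have hd : A' ⊓ H = ⊥ := by
      rw [eq_bot_iff]
      rintro p ⟨hp | hp, hpH⟩
      · exact hA.2.le ⟨hp, hpH⟩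
      · exfalso
        apply hk'
        have : k = (k * p) * p⁻¹ := by group
        rw [this]
        exact mul_mem (mem_sup_right hp) (mem_sup_left (inv_mem hpH))
    have := hAmax (y := A') ⟨hA'K, hd⟩ (fun p hp => Or.inl hp)
      (show k ∈ A' from Or.inr (by rw [hKexp k hk]; exact one_mem A))
    exact hkA this
  have hUeq : H ⊔ A = H ⊔ K := le_antisymm (sup_le le_sup_left (hA.1.trans le_sup_right)) (sup_le le_sup_left hKle)
  have hUM : H ⊔ A ≤ M := sup_le hHM (hA.1.trans hKM)
  let U := (H ⊔ A).subgroupOf M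
  let H' := H.subgroupOf M
  let A' := A.subgroupOf M
  have hH'n : H'.Normal := normal_in_normalizer
  have hH'c : IsMulCommutative H' := ⟨⟨fun p r => Subtype.ext (Subtype.ext (by
    show (p.1.1 : X) * r.1.1 = r.1.1 * p.1.1
    exact congrArg Subtype.val (hHab.1.is_comm.comm (⟨p.1.1, p.2⟩ : H) ⟨r.1.1, r.2⟩)))⟩⟩
  have D : CfsgLib.Gaschutz.Data H' U A' :=
    ⟨fun p hp => mem_sup_left (T := A) hp, fun p hp => mem_sup_right (S := H) hp,
      by
        rw [eq_bot_iff]; intro p hp
        exact Subgroup.mem_bot.2 (Subtype.ext (hA.2.le ⟨hp.1, hp.2⟩)),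
      (subgroupOf_sup hHM (hA.1.trans hKM)).symm⟩
  -- orders
  have hZcard : ∀ S : Subgroup (Matrix.ProjectiveSpecialLinearGroup (Fin 3) F),
      Nat.card (S.comap π) = Nat.card (center X) * Nat.card S := by
    intro S
    let f : S.comap π →* S := π.subgroupComap S
    have hf : Function.Surjective f := fun p => by
      obtain ⟨g, hg⟩ := hπ p.1
      exact ⟨⟨g, by show π g ∈ S; rw [hg]; exact p.2⟩, Subtype.ext hg⟩
    rw [← f.ker.card_mul_index, index_ker, MonoidHom.range_eq_top.2 hf, card_top]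
    congr 1
    rw [← hker]
    exact Nat.card_congr
      { toFun := fun p => ⟨p.1.1, congrArg Subtype.val p.2⟩
        invFun := fun p => ⟨⟨p.1, by show π p.1 ∈ S; rw [(p.2 : π p.1 = 1)]; exact one_mem S⟩, Subtype.ext p.2⟩
        left_inv := fun p => rfl
        right_inv := fun p => rfl }
  let N := normalizer (eOne F : Set (Matrix.ProjectiveSpecialLinearGroup (Fin 3) F))
  have hNcard : Nat.card N = 16 * 60 := by
    let f : eOne F × Matrix.SpecialLinearGroup (Fin 2) F → N := fun p =>
      ⟨p.1.1 * lev p.2, mul_mem (le_normalizer p.1.2) (lev_normalizes p.2)⟩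
    have hf : Function.Bijective f := by
      constructor
      · rintro ⟨p, A⟩ ⟨r, B⟩ h
        have h' : p.1 * lev A = r.1 * lev B := congrArg Subtype.val h
        have hm : r.1⁻¹ * p.1 ∈ eOne F ⊓ (lev (F := F)).range := by
          refine ⟨(eOne F).mul_mem ((eOne F).inv_mem r.2) p.2, B * A⁻¹, ?_⟩
          rw [map_mul, map_inv, mul_inv_eq_iff_eq_mul, mul_assoc, h', inv_mul_cancel_left]
        rw [eOne_inf_range, mem_bot, inv_mul_eq_one] at hm
        rw [hm] at h'
        exact Prod.ext (Subtype.ext hm.symm) (lev_injective (mul_left_cancel h'))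
      · rintro ⟨g, hg⟩
        obtain ⟨e, he, A, rfl⟩ := normalizer_le hg
        exact ⟨(⟨e, he⟩, A), rfl⟩
    rw [← Nat.card_congr (Equiv.ofBijective f hf), Nat.card_prod, card_eOne, natCard_slTwo_four]
  have hMcard : Nat.card M = Nat.card (center X) * (16 * 60) := by rw [hM, hZcard, hNcard]
  have hHK : H ⊔ K = (sylowU F).comap π := by
    rw [← sup_eq]
    refine (comap_sup_eq π _ _ hπ).symm ▸ le_antisymm le_rfl le_rfl
  have hidx : U.index = 15 := by
    have h1 := U.card_mul_index
    rw [Nat.card_congr (subgroupOfEquivOfLe hUM).toEquiv, hUeq, hHK, hZcard, card_sylowU, hMcard] at h1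
    have hpos : 0 < Nat.card (center X) := Nat.card_pos
    have : Nat.card (center X) * (64 * U.index) = Nat.card (center X) * (64 * 15) := by
      rw [← mul_assoc, h1]
    have := Nat.eq_of_mul_eq_mul_left hpos this
    omega
  have hcop : (Nat.card H').Coprime U.index := by
    rw [hidx, Nat.card_congr (subgroupOfEquivOfLe hHM).toEquiv]
    have hH2 : IsPGroup 2 H := fun p => ⟨1, Subtype.ext (by rw [SubmonoidClass.coe_pow, pow_one]; exact hHab.2 p p.2)⟩
    have : Fact (Nat.Prime 2) := ⟨Nat.prime_two⟩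
    obtain ⟨k, hk⟩ := IsPGroup.iff_card.1 hH2
    rw [hk]
    exact Nat.Coprime.pow_left k (by norm_num)
  obtain ⟨C', hC'⟩ := CfsgLib.Gaschutz.exists_complement D hcop
  let C := C'.map M.subtype
  refine ⟨C, map_subtype_le _, ?_, ?_, ?_⟩
  · rw [eq_bot_iff]
    rintro _ ⟨⟨c, hc, rfl⟩, hcH⟩
    exact Subgroup.mem_bot.2 (by rw [show c = 1 from hC'.disjoint.le_bot ⟨hcH, hc⟩]; rfl)
  · have h := hC'.sup_eq_top
    have h2 := congrArg (Subgroup.map M.subtype) h
    rw [Subgroup.map_sup, subgroupOf_map_subtype, inf_of_le_left hHM, ← MonoidHom.range_eq_map, range_subtype] at h2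
    exact h2
  · -- `C ≅ SL₂`
    have hdec : ∀ c : C', ∃ A : Matrix.SpecialLinearGroup (Fin 2) F, π (c.1 : X) * (lev A)⁻¹ ∈ eOne F := by
      intro c
      have : π (c.1 : X) ∈ N := by
        have h : (c.1 : X) ∈ M := c.1.2
        exact hM.le h
      obtain ⟨e, he, A, hA'⟩ := normalizer_le this
      exact ⟨A, by rwa [hA', mul_inv_cancel_right]⟩
    choose ψ hψ using hdec
    have hu : ∀ (c : C') A, π (c.1 : X) * (lev A)⁻¹ ∈ eOne F → A = ψ c := by
      intro c A hA'
      have hm : lev (ψ c) * (lev A)⁻¹ ∈ eOne F ⊓ (lev (F := F)).range := by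
        refine ⟨?_, ψ c * A⁻¹, by simp⟩
        have e : lev (ψ c) * (lev A)⁻¹ = (π (c.1 : X) * (lev (ψ c))⁻¹)⁻¹ * (π (c.1 : X) * (lev A)⁻¹) := by group
        rw [e]; exact (eOne F).mul_mem ((eOne F).inv_mem (hψ c)) hA'
      rw [eOne_inf_range, mem_bot, mul_inv_eq_one] at hm
      exact (lev_injective hm).symm
    have hψmul : ∀ c d : C', ψ (c * d) = ψ c * ψ d := fun c d => by
      symm
      apply hu
      have e : π (((c * d : C').1 : X)) * (lev (ψ c * ψ d))⁻¹ =
          π (c.1 : X) * (lev (ψ c))⁻¹ * (lev (ψ c) * (π (d.1 : X) * (lev (ψ d))⁻¹) * (lev (ψ c))⁻¹) := by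
        rw [map_mul]
        show π ((c.1 : X) * (d.1 : X)) * _ = _
        rw [map_mul]; group
      rw [e]
      exact mul_mem (hψ c) ((mem_normalizer_iff.1 (lev_normalizes (ψ c)) _).1 (hψ d))
    let Ψ : C' →* Matrix.SpecialLinearGroup (Fin 2) F := MonoidHom.mk' ψ hψmul
    have hinj : Function.Injective Ψ := by
      rw [injective_iff_map_eq_one]
      intro c hc
      have h := hψ c
      rw [show ψ c = 1 from hc, map_one, inv_one, mul_one] at h
      exact Subtype.ext (hC'.disjoint.le_bot ⟨h, c.2⟩)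
    have hcard : Nat.card C' = 60 := by
      have h := hC'.card_mul
      rw [Nat.card_congr (subgroupOfEquivOfLe hHM).toEquiv, hHdef, hZcard, card_eOne, hMcard] at h
      have hpos : 0 < Nat.card (center X) * 16 := Nat.mul_pos Nat.card_pos (by norm_num)
      exact Nat.eq_of_mul_eq_mul_left hpos (h.trans (by ring))
    exact ⟨(C'.equivMapOfInjective _ (subtype_injective M)).symm.trans (MulEquiv.ofBijective Ψ
      ((Nat.bijective_iff_injective_and_card Ψ).2 ⟨hinj, by rw [hcard, natCard_slTwo_four]⟩))⟩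

end CfsgLib.InvCharPSLThree
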