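import Mathlib
import Cfsg.Prelude.Def_TwoFusion
import Cfsg.Prelude.Def_IsolatedElements
import Cfsg.Agent.Lib.Involutions.Fusion
import Cfsg.Agent.Lib.InvChar.InvolutionCount
import Cfsg.Agent.Lib.Transfer.Basic

/-! A Sylow 2-subgroup with a generalized quaternion direct factor and central involutions
gives an isolated involution. -/

set_option autoImplicit false

namespace CfsgLib.InvChar.QuaternionFactor

open Subgroup CfsgLib.Involutions
open scoped IsMulCommutative

theorem quaternion_zmod {m : ℕ} (hm : 2 ≤ m) (i : ZMod (2 * m)) (h : i + i = 0) :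
    i = 0 ∨ i = (m : ZMod (2 * m)) := by
  haveI : NeZero (2 * m) := ⟨by omega⟩
  obtain ⟨k, hk, rfl⟩ : ∃ k : ℕ, k < 2 * m ∧ i = (k : ZMod (2 * m)) :=
    ⟨i.val, i.val_lt, (ZMod.natCast_zmod_val i).symm⟩
  rw [← Nat.cast_add, ZMod.natCast_eq_zero_iff] at h
  obtain ⟨c, hc⟩ := h
  rcases c with _ | _ | c
  · left; rw [show k = 0 by omega, Nat.cast_zero]
  · right; rw [show k = m by omega]
  · exfalso
    have : 2 * m * (c + 1 + 1) = 2 * m * c + 4 * m := by ring
    omega

/-- The facts used about a generalized quaternion group. -/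
theorem quaternion_props {Q : Type*} [Group Q] {m : ℕ} (hm : 2 ≤ m) (e : Q ≃* QuaternionGroup m) :
    ∃ ζ : Q, ζ ≠ 1 ∧ ζ * ζ = 1 ∧ (∀ q : Q, q * q = 1 → q = 1 ∨ q = ζ) ∧
      (∀ c : Q, (∀ q : Q, q * c = c * q) → c = 1 ∨ c = ζ) ∧ ∃ q : Q, q * q = ζ := by
  haveI : NeZero (2 * m) := ⟨by omega⟩
  have hm0 : ((m : ℕ) : ZMod (2 * m)) ≠ 0 := by
    intro h
    rw [ZMod.natCast_eq_zero_iff] at h
    have := Nat.le_of_dvd (by omega) h
    omega
  have h2 : ((2 : ℕ) : ZMod (2 * m)) ≠ 0 := by
    intro h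
    rw [ZMod.natCast_eq_zero_iff] at h
    have := Nat.le_of_dvd (by omega) h
    omega
  have hmm : (m : ZMod (2 * m)) + m = 0 := by
    rw [← Nat.cast_add, ← two_mul, ZMod.natCast_self]
  refine ⟨e.symm (.a (m : ZMod (2 * m))), ?_, ?_, ?_, ?_, ⟨e.symm (.xa 0), ?_⟩⟩
  · intro h
    have := congrArg e h
    rw [e.apply_symm_apply, map_one, QuaternionGroup.one_def] at this
    exact hm0 (QuaternionGroup.a.inj this)
  · apply e.injective
    rw [map_mul, e.apply_symm_apply, map_one, QuaternionGroup.a_mul_a, QuaternionGroup.one_def, hmm]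
  · intro q hq
    have hq' : e q * e q = 1 := by rw [← map_mul, hq, map_one]
    generalize hg : e q = g at hq'
    cases g with
    | a i =>
      rw [QuaternionGroup.a_mul_a, QuaternionGroup.one_def] at hq'
      rcases quaternion_zmod hm i (QuaternionGroup.a.inj hq') with h | h
      · left; apply e.injective; rw [hg, h, map_one, QuaternionGroup.one_def]
      · right; apply e.injective; rw [hg, h, e.apply_symm_apply]
    | xa i =>
      rw [QuaternionGroup.xa_mul_xa, QuaternionGroup.one_def, add_sub_cancel_right] at hq'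
      exact absurd (QuaternionGroup.a.inj hq') hm0
  · intro c hc
    have hc' : ∀ g, g * e c = e c * g := fun g => by
      rw [← e.apply_symm_apply g, ← map_mul, ← map_mul, hc]
    generalize hg : e c = g at hc'
    cases g with
    | a i =>
      have h := hc' (.xa 0)
      rw [QuaternionGroup.xa_mul_a, QuaternionGroup.a_mul_xa] at h
      have h' := QuaternionGroup.xa.inj h
      rcases quaternion_zmod hm i (by linear_combination h') with h'' | h''
      · left; apply e.injective; rw [hg, h'', map_one, QuaternionGroup.one_def]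
      · right; apply e.injective; rw [hg, h'', e.apply_symm_apply]
    | xa i =>
      exfalso
      have h := hc' (.a 1)
      rw [QuaternionGroup.xa_mul_a, QuaternionGroup.a_mul_xa] at h
      have h' := QuaternionGroup.xa.inj h
      exact h2 (by push_cast; linear_combination -h')
  · apply e.injective
    rw [map_mul, e.apply_symm_apply, e.apply_symm_apply, QuaternionGroup.xa_mul_xa, add_sub_cancel_right]

variable {T : Type*} [Group T] [Finite T]

/-- The key lemma: with a quaternion direct factor, a product of an odd number of automorphic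
images of its involution is nontrivial. -/
theorem prod_ne_one (hT : IsPGroup 2 T) (Q R : Subgroup T) (hcomm : ∀ a ∈ Q, ∀ b ∈ R, a * b = b * a)
    (hinf : Q ⊓ R = ⊥) (hsup : Q ⊔ R = ⊤) {ζ : T} (hζQ : ζ ∈ Q) (hζ1 : ζ ≠ 1)
    (hinv : ∀ q ∈ Q, q * q = 1 → q = 1 ∨ q = ζ)
    (hcen : ∀ c ∈ Q, (∀ q ∈ Q, q * c = c * q) → c = 1 ∨ c = ζ)
    (hsq : ∃ q ∈ Q, q * q = ζ) (hζ2 : ζ * ζ = 1)
    (hallc : ∀ t : T, t * t = 1 → ∀ s : T, s * t = t * s)
    (O : Finset T) (hO : Odd O.card) (hOaut : ∀ o ∈ O, ∃ φ : MulAut T, φ ζ = o)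
    (c : T → ↥(center T)) (hc : ∀ o ∈ O, ((c o) : T) = o) :
    ∏ o ∈ O, c o ≠ 1 := by
  classical
  -- the projection onto `Q`
  have hcommute : ∀ (a : ↥Q) (b : ↥R), Commute (Q.subtype a) (R.subtype b) := fun a b =>
    hcomm a a.2 b b.2
  let F : ↥Q × ↥R →* T := MonoidHom.noncommCoprod Q.subtype R.subtype hcommute
  have hF : Function.Bijective F := by
    refine ⟨(injective_iff_map_eq_one F).2 fun x hx => ?_, fun t => ?_⟩
    · have hx' : (x.1 : T) * x.2 = 1 := hx
      have h1 : (x.1 : T) ∈ Q ⊓ R :=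
        ⟨x.1.2, (eq_inv_of_mul_eq_one_left hx') ▸ R.inv_mem x.2.2⟩
      rw [hinf, mem_bot] at h1
      rw [h1, one_mul] at hx'
      exact Prod.ext (Subtype.ext h1) (Subtype.ext hx')
    · have hn : Q ≤ normalizer (R : Set T) := fun a ha => by
        rw [mem_normalizer_iff]
        intro b
        constructor
        · intro hb; rwa [hcomm a ha b hb, mul_inv_cancel_right]
        · intro hb
          have h1 := hcomm a ha _ hb
          have h2 : a * b * a⁻¹ = b := by
            have h3 : a * (a * b * a⁻¹) * a⁻¹ = a * b * a⁻¹ := by rw [h1, mul_inv_cancel_right]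
            exact mul_left_cancel (mul_right_cancel h3)
          rwa [h2] at hb
      have ht : t ∈ ((Q ⊔ R : Subgroup T) : Set T) := by rw [hsup]; trivial
      rw [coe_mul_of_left_le_normalizer_right Q R hn] at ht
      obtain ⟨a, ha, b, hb, rfl⟩ := ht
      exact ⟨(⟨a, ha⟩, ⟨b, hb⟩), rfl⟩
  let eF := MulEquiv.ofBijective F hF
  let π : T →* ↥Q := (MonoidHom.fst ↥Q ↥R).comp eF.symm.toMonoidHom
  have hπ : ∀ a (ha : a ∈ Q), π a = ⟨a, ha⟩ := by
    intro a ha
    have : eF.symm a = (⟨a, ha⟩, 1) := eF.injective (by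
      rw [eF.apply_symm_apply]; exact (mul_one a).symm)
    show (eF.symm a).1 = _
    rw [this]
  have hdec : ∀ t : T, ∃ r ∈ R, t = (π t : T) * r := fun t =>
    ⟨((eF.symm t).2 : T), (eF.symm t).2.2, (eF.apply_symm_apply t).symm⟩
  -- involutions in the subgroup generated by squares
  let Sq : Subgroup T := closure (Set.range fun x : T => x * x)
  let Ω : Subgroup ↥(center T) :=
    { carrier := {x | x * x = 1 ∧ (x : T) ∈ Sq}
      mul_mem' := fun {a b} ha hb => ⟨by rw [mul_mul_mul_comm, ha.1, hb.1, one_mul],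
        mul_mem ha.2 hb.2⟩
      one_mem' := ⟨one_mul 1, one_mem _⟩
      inv_mem' := fun {a} ha => ⟨by rw [← mul_inv_rev, ha.1, inv_one], inv_mem ha.2⟩ }
  have hζS : ζ ∈ Sq := by
    obtain ⟨q, -, hq⟩ := hsq
    exact subset_closure ⟨q, hq⟩
  have hζc : ζ ∈ center T := mem_center_iff.2 (hallc ζ hζ2)
  let z : ↥Ω := ⟨⟨ζ, hζc⟩, Subtype.ext hζ2, hζS⟩
  let ζQ : ↥Q := ⟨ζ, hζQ⟩
  have hval : ∀ (φ : MulAut T) (w : ↥Ω), π (φ ((w : ↥(center T)) : T)) = 1 ∨
      π (φ ((w : ↥(center T)) : T)) = ζQ := by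
    intro φ w
    have h1 : π (φ ((w : ↥(center T)) : T)) * π (φ ((w : ↥(center T)) : T)) = 1 := by
      rw [← map_mul, ← map_mul, ← Subgroup.coe_mul, w.2.1, OneMemClass.coe_one, map_one, map_one]
    rcases hinv _ (π (φ ((w : ↥(center T)) : T))).2 (congrArg Subtype.val h1) with h | h
    · exact Or.inl (Subtype.ext h)
    · exact Or.inr (Subtype.ext h)
  -- all functionals not killing `ζ` agree on `Ω`
  have hagree : ∀ φ : MulAut T, π (φ ζ) ≠ 1 → ∀ w : ↥Ω,
      π (φ ((w : ↥(center T)) : T)) = π ((w : ↥(center T)) : T) := by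
    intro φ hφ w
    let σ : T →* ↥Q := π.comp φ.toMonoidHom
    have hker : Function.Injective (σ.comp Q.subtype) := by
      rw [← MonoidHom.ker_eq_bot_iff]
      by_contra hne
      haveI : Nontrivial ↥(σ.comp Q.subtype).ker := (nontrivial_iff_ne_bot _).2 hne
      obtain ⟨k, hk⟩ := ((hT.to_subgroup Q).to_subgroup (σ.comp Q.subtype).ker).exists_card_eq
      have hk0 : k ≠ 0 := by
        rintro rfl
        have := Finite.one_lt_card (α := ↥(σ.comp Q.subtype).ker)
        rw [hk, pow_zero] at this; exact lt_irrefl 1 this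
      haveI : Fact (Nat.Prime 2) := ⟨Nat.prime_two⟩
      obtain ⟨u, hu⟩ := exists_prime_orderOf_dvd_card' 2 (G := ↥(σ.comp Q.subtype).ker)
        (by rw [hk]; exact dvd_pow_self 2 hk0)
      have hu' : orderOf ((u : ↥Q) : T) = 2 := by
        rw [Subgroup.orderOf_coe, Subgroup.orderOf_coe, hu]
      rcases hinv _ (u : ↥Q).2 (mul_self_eq_one hu') with h | h
      · exact ne_one_of_involution hu' h
      · have h1 : σ ((u : ↥Q) : T) = 1 := u.2
        rw [h] at h1
        exact hφ h1
    have hsurj : Function.Surjective (σ.comp Q.subtype) := Finite.injective_iff_surjective.1 hker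
    have hR : ∀ r ∈ R, σ r * σ r = 1 := by
      intro r hr
      have h1 : σ r = 1 ∨ σ r = ζQ := by
        rcases hcen _ (σ r).2 (fun q hq => by
          obtain ⟨a, ha⟩ := hsurj ⟨q, hq⟩
          have h2 : σ (a : T) * σ r = σ r * σ (a : T) := by
            rw [← map_mul, ← map_mul, hcomm a a.2 r hr]
          have h3 : σ (a : T) = ⟨q, hq⟩ := ha
          rw [h3] at h2
          exact congrArg Subtype.val h2) with h | h
        · exact Or.inl (Subtype.ext h)
        · exact Or.inr (Subtype.ext h)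
      rcases h1 with h | h <;> rw [h]
      · exact one_mul 1
      · exact Subtype.ext hζ2
    have heq : Set.EqOn σ (σ.comp (Q.subtype.comp π)) (Sq : Set T) := by
      refine MonoidHom.eqOn_closure ?_
      rintro _ ⟨x, rfl⟩
      obtain ⟨r, hr, hx⟩ := hdec x
      show σ (x * x) = σ ((π (x * x) : ↥Q) : T)
      rw [map_mul π, Subgroup.coe_mul, map_mul σ, map_mul σ]
      have hσx : σ x = σ ((π x : ↥Q) : T) * σ r := by rw [← map_mul, ← hx]
      have hc' : σ r * σ ((π x : ↥Q) : T) = σ ((π x : ↥Q) : T) * σ r := by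
        rw [← map_mul, ← map_mul, hcomm _ (π x).2 r hr]
      rw [hσx, mul_assoc, ← mul_assoc (σ r), hc', mul_assoc, hR r hr, mul_one]
    have h1 : σ ((w : ↥(center T)) : T) = σ ((π ((w : ↥(center T)) : T) : ↥Q) : T) := heq w.2.2
    have hπw := hval 1 w
    simp only [MulAut.one_apply] at hπw
    show σ ((w : ↥(center T)) : T) = _
    rw [h1]
    rcases hπw with h | h <;> rw [h]
    · exact map_one σ
    · rcases hval φ z with h' | h'
      · exact absurd h' hφ
      · exact h'
  -- parity functional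
  haveI : Fintype ↥Ω := Fintype.ofFinite _
  haveI : Fintype (MulAut T) := Fintype.ofFinite _
  let Λ : Finset (↥Ω → ↥Q) := Finset.univ.image fun (φ : MulAut T) w => π (φ ((w : ↥(center T)) : T))
  let δ : ↥Q → ZMod 2 := fun q => if q = 1 then 0 else 1
  let L : ↥Ω → ZMod 2 := fun w => ∑ f ∈ Λ, δ (f w)
  have hζne : ζQ ≠ 1 := fun h => hζ1 (congrArg Subtype.val h)
  have hLmul : ∀ a b : ↥Ω, L (a * b) = L a + L b := by
    intro a b
    show ∑ f ∈ Λ, δ (f (a * b)) = (∑ f ∈ Λ, δ (f a)) + ∑ f ∈ Λ, δ (f b)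
    rw [← Finset.sum_add_distrib]
    refine Finset.sum_congr rfl fun f hf => ?_
    obtain ⟨φ, -, rfl⟩ := Finset.mem_image.1 hf
    simp only [Subgroup.coe_mul, map_mul]
    have hz2 : ζQ * ζQ = 1 := Subtype.ext hζ2
    rcases hval φ a with h | h <;> rcases hval φ b with h' | h' <;>
      simp only [h, h', δ, one_mul, mul_one, hz2, if_pos, if_neg hζne] <;> decide
  have hLz : L z = 1 := by
    show ∑ f ∈ Λ, δ (f z) = 1
    rw [Finset.sum_eq_single (fun w : ↥Ω => π (((w : ↥(center T)) : T)))]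
    · show δ (π ζ) = 1
      rw [hπ ζ hζQ]
      exact if_neg hζne
    · intro f hf hne
      obtain ⟨φ, -, rfl⟩ := Finset.mem_image.1 hf
      refine if_pos ?_
      by_contra h
      exact hne (funext fun w => hagree φ h w)
    · intro h
      exact absurd (Finset.mem_image.2 ⟨1, Finset.mem_univ _, rfl⟩) h
  -- invariance
  have hLinv : ∀ (φ : MulAut T) (w : ↥Ω), ((w : ↥(center T)) : T) = φ ζ → L w = 1 := by
    intro φ w hw
    rw [← hLz]
    show ∑ f ∈ Λ, δ (f w) = ∑ f ∈ Λ, δ (f z)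
    have hmem : ∀ v : ↥Ω, φ ((v : ↥(center T)) : T) ∈ center T ∧
        φ ((v : ↥(center T)) : T) * φ ((v : ↥(center T)) : T) = 1 ∧
        φ ((v : ↥(center T)) : T) ∈ Sq := by
      intro v
      have h2 : φ ((v : ↥(center T)) : T) * φ ((v : ↥(center T)) : T) = 1 := by
        rw [← map_mul, ← Subgroup.coe_mul, v.2.1, OneMemClass.coe_one, map_one]
      refine ⟨mem_center_iff.2 (hallc _ h2), h2, ?_⟩
      have : Sq.map φ.toMonoidHom ≤ Sq := by
        rw [MonoidHom.map_closure]
        apply Subgroup.closure_mono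
        rintro _ ⟨_, ⟨x, rfl⟩, rfl⟩
        exact ⟨φ x, (map_mul φ x x).symm⟩
      exact this ⟨_, v.2.2, rfl⟩
    let Φ : ↥Ω → ↥Ω := fun v => ⟨⟨_, (hmem v).1⟩, Subtype.ext (hmem v).2.1, (hmem v).2.2⟩
    have hwz : Φ z = w := Subtype.ext (Subtype.ext hw.symm)
    rw [← hwz]
    have hΦinj : Function.Injective Φ := fun a b h =>
      Subtype.ext (Subtype.ext (φ.injective (congrArg (fun v : ↥Ω => ((v : ↥(center T)) : T)) h)))
    have hΦbij : Function.Bijective Φ := ⟨hΦinj, Finite.injective_iff_surjective.1 hΦinj⟩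
    refine Finset.sum_bij (fun f _ => f ∘ Φ) ?_ ?_ ?_ (fun f _ => rfl)
    · intro f hf
      obtain ⟨ψ, -, rfl⟩ := Finset.mem_image.1 hf
      exact Finset.mem_image.2 ⟨ψ * φ, Finset.mem_univ _, rfl⟩
    · intro f _ g _ h
      funext v
      obtain ⟨u, rfl⟩ := hΦbij.2 v
      exact congrFun h u
    · intro g hg
      obtain ⟨ψ, -, rfl⟩ := Finset.mem_image.1 hg
      refine ⟨_, Finset.mem_image.2 ⟨ψ * φ⁻¹, Finset.mem_univ _, rfl⟩, ?_⟩
      funext v
      show π ((ψ * φ⁻¹) (φ ((v : ↥(center T)) : T))) = π (ψ ((v : ↥(center T)) : T))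
      rw [MulAut.mul_apply, MulAut.inv_apply_self]
  -- the product
  intro hprod
  have hcO : ∀ o ∈ O, c o ∈ Ω ∧ ∃ φ : MulAut T, φ ζ = o := by
    intro o ho
    obtain ⟨φ, hφ⟩ := hOaut o ho
    refine ⟨⟨Subtype.ext ?_, ?_⟩, φ, hφ⟩
    · rw [Subgroup.coe_mul, hc o ho, ← hφ, ← map_mul, hζ2, map_one]; rfl
    · rw [hc o ho, ← hφ]
      have : Sq.map φ.toMonoidHom ≤ Sq := by
        rw [MonoidHom.map_closure]
        apply Subgroup.closure_mono
        rintro _ ⟨_, ⟨x, rfl⟩, rfl⟩
        exact ⟨φ x, (map_mul φ x x).symm⟩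
      exact this ⟨_, hζS, rfl⟩
  let c' : ↥O → ↥Ω := fun o => ⟨c o.1, (hcO o.1 o.2).1⟩
  let Lh : Multiplicative ↥Ω → Unit := fun _ => ()
  have hprod' : ∏ o : ↥O, c' o = 1 := by
    apply Subtype.ext
    rw [SubmonoidClass.coe_finset_prod]
    show ∏ o : ↥O, c o.1 = 1
    rw [Finset.prod_coe_sort O c, hprod]
  have hL1 : L 1 = 0 := by
    have := hLmul 1 1
    rw [one_mul] at this
    exact left_eq_add.1 this
  have hsum : L (∏ o : ↥O, c' o) = ∑ o : ↥O, L (c' o) := by
    induction (Finset.univ : Finset ↥O) using Finset.induction_on with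
    | empty => simpa using hL1
    | insert a s ha ih => rw [Finset.prod_insert ha, Finset.sum_insert ha, hLmul, ih]
  rw [hprod', hL1] at hsum
  have hone : ∀ o : ↥O, L (c' o) = 1 := by
    intro o
    obtain ⟨-, φ, hφ⟩ := hcO o.1 o.2
    exact hLinv φ (c' o) ((hc o.1 o.2).trans hφ.symm)
  rw [Finset.sum_congr rfl fun o _ => hone o, Finset.sum_const, Finset.card_univ,
    Fintype.card_coe, nsmul_eq_mul, mul_one] at hsum
  obtain ⟨j, hj⟩ := hO
  rw [hj] at hsum
  push_cast at hsum
  rw [show (2 : ZMod 2) = 0 from by decide, zero_mul, zero_add] at hsum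
  exact zero_ne_one hsum

variable {G : Type*} [Group G] [Finite G]

/-- A group whose Sylow 2-subgroup is `Q × R` with `Q` generalized quaternion and every involution of
`R` central in `R` has an isolated involution. -/
theorem exists_isolated (S : Sylow 2 G) (Q R : Subgroup G)
    (hQR : Cfsg.IsInternalDirectProduct Q R (S : Subgroup G)) {m : ℕ} (hm : 2 ≤ m)
    (eQ : ↥Q ≃* QuaternionGroup m)
    (hR : ∀ r ∈ R, orderOf r = 2 → ∀ s ∈ R, r * s = s * r) :
    ∃ w : G, w ∈ (S : Subgroup G) ∧ Cfsg.IsIsolatedInvolution w := by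
  classical
  haveI : Fact (Nat.Prime 2) := ⟨Nat.prime_two⟩
  letI := Fintype.ofFinite G
  obtain ⟨hQS, hRS, hcomm, hinf, hsup⟩ := hQR
  obtain ⟨ζq, hζ1, hζ2, hinv, hcen, q0, hq0⟩ := quaternion_props hm eQ
  set Q' := Q.subgroupOf (S : Subgroup G) with hQ'
  set R' := R.subgroupOf (S : Subgroup G) with hR'
  let ζ : ↥(S : Subgroup G) := ⟨(ζq : G), hQS ζq.2⟩
  have hζQ' : ζ ∈ Q' := ζq.2
  have hcomm' : ∀ a ∈ Q', ∀ b ∈ R', a * b = b * a := fun a ha b hb =>
    Subtype.ext (hcomm _ ha _ hb)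
  have hinf' : Q' ⊓ R' = ⊥ := by
    rw [eq_bot_iff]
    intro a ha
    exact mem_bot.2 (Subtype.ext (mem_bot.1 (hinf ▸ (show (a : G) ∈ Q ⊓ R from ha))))
  have hsup' : Q' ⊔ R' = ⊤ := by
    apply Subgroup.map_injective (S : Subgroup G).subtype_injective
    rw [Subgroup.map_sup, subgroupOf_map_subtype, subgroupOf_map_subtype, inf_eq_left.2 hQS,
      inf_eq_left.2 hRS, hsup, ← MonoidHom.range_eq_map, range_subtype]
  -- every involution of `S` is central
  have hallc : ∀ t : ↥(S : Subgroup G), t * t = 1 → ∀ s, s * t = t * s := by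
    have hn : ∀ a ∈ Q', ∀ b ∈ R', a * b ∈ Q' ⊔ R' := fun a ha b hb =>
      mul_mem (mem_sup_left ha) (mem_sup_right hb)
    have hQn : Q' ≤ normalizer (R' : Set ↥(S : Subgroup G)) := by
      intro a ha
      rw [mem_normalizer_iff]
      intro b
      constructor
      · intro hb; rwa [hcomm' a ha b hb, mul_inv_cancel_right]
      · intro hb
        have h1 := hcomm' a ha _ hb
        have h3 : a * (a * b * a⁻¹) * a⁻¹ = a * b * a⁻¹ := by rw [h1, mul_inv_cancel_right]
        have h2 : a * b * a⁻¹ = b := mul_left_cancel (mul_right_cancel h3)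
        rwa [h2] at hb
    have hdec : ∀ t : ↥(S : Subgroup G), ∃ a ∈ Q', ∃ b ∈ R', t = a * b := by
      intro t
      have ht : t ∈ ((Q' ⊔ R' : Subgroup ↥(S : Subgroup G)) : Set ↥(S : Subgroup G)) := by
        rw [hsup']; trivial
      rw [coe_mul_of_left_le_normalizer_right Q' R' hQn] at ht
      obtain ⟨a, ha, b, hb, rfl⟩ := ht
      exact ⟨a, ha, b, hb, rfl⟩
    intro t ht s
    obtain ⟨a, ha, b, hb, rfl⟩ := hdec t
    obtain ⟨a', ha', b', hb', rfl⟩ := hdec s
    have hab : a * a * (b * b) = 1 := by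
      rw [← ht, mul_assoc a b, ← mul_assoc b a b, ← hcomm' a ha b hb]; group
    have haa : a * a = 1 := by
      have h1 : a * a ∈ Q' ⊓ R' :=
        ⟨Q'.mul_mem ha ha, eq_inv_of_mul_eq_one_left hab ▸ R'.inv_mem (R'.mul_mem hb hb)⟩
      rwa [hinf', mem_bot] at h1
    have hbb : b * b = 1 := by rwa [haa, one_mul] at hab
    have hac : a' * a = a * a' := by
      rcases hinv ⟨(a : G), ha⟩ (Subtype.ext (congrArg Subtype.val haa :)) with h | h
      · have h' : a = 1 := Subtype.ext (congrArg Subtype.val h :)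
        rw [h', one_mul, mul_one]
      · have h' : (a : G) = (ζq : G) := congrArg Subtype.val h
        apply Subtype.ext
        show (a' : G) * (a : G) = (a : G) * (a' : G)
        rw [h']
        have hzc : (⟨(a' : G), ha'⟩ : ↥Q) * ζq = ζq * ⟨(a' : G), ha'⟩ := by
          rcases hinv (⟨(a' : G), ha'⟩ * ζq * (⟨(a' : G), ha'⟩ : ↥Q)⁻¹) (by
            rw [show ∀ x y : ↥Q, x * y * x⁻¹ * (x * y * x⁻¹) = x * (y * y) * x⁻¹ from fun x y => by group,
              hζ2]; group) with h'' | h''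
          · exact absurd (by simpa using h'') hζ1
          · exact mul_inv_eq_iff_eq_mul.1 h''
        exact congrArg Subtype.val hzc
    have hbc : b' * b = b * b' := by
      apply Subtype.ext
      by_cases hb1 : b = 1
      · simp [hb1]
      · exact (hR (b : G) hb (orderOf_eq_prime (by rw [pow_two]; exact congrArg Subtype.val hbb)
          (fun h => hb1 (Subtype.ext h))) (b' : G) hb').symm
    calc a' * b' * (a * b) = a' * (b' * a) * b := by group
      _ = (a' * a) * (b' * b) := by rw [← hcomm' a ha b' hb']; group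
      _ = a * (a' * b) * b' := by rw [hac, hbc]; group
      _ = a * b * (a' * b') := by rw [hcomm' a' ha' b hb]; group
  -- the orbit under the normalizer
  set N := normalizer ((S : Subgroup G) : Set G) with hN
  have hζ2' : ζ * ζ = 1 := Subtype.ext (congrArg Subtype.val hζ2 :)
  have hζc : ∀ s : ↥(S : Subgroup G), s * ζ = ζ * s := hallc ζ hζ2'
  have hSN : (S : Subgroup G) ≤ N := le_normalizer
  let zN : ↥N := ⟨(ζq : G), hSN (hQS ζq.2)⟩
  let ON : Finset ↥(S : Subgroup G) := Finset.univ.filter fun s =>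
    ∃ g : ↥N, g * zN * g⁻¹ = ⟨(s : G), hSN s.2⟩
  have hOcard : Odd ON.card := by
    have h1 : ON.card = (centralizer ({zN} : Set ↥N)).index := by
      rw [← CfsgLib.InvChar.ncard_conjugates zN, ← Set.ncard_coe_finset]
      refine Set.ncard_congr (fun s _ => (⟨(s : G), hSN s.2⟩ : ↥N)) ?_ ?_ ?_
      · intro s hs
        obtain ⟨g, hg⟩ := (Finset.mem_filter.1 (Finset.mem_coe.1 hs)).2
        exact isConj_iff.2 ⟨g, hg⟩
      · intro a b _ _ h
        exact Subtype.ext (congrArg Subtype.val h :)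
      · intro y hy
        obtain ⟨g, hg⟩ := isConj_iff.1 hy
        have hyS : (y : G) ∈ (S : Subgroup G) := by
          rw [← hg]
          exact (mem_normalizer_iff.1 g.2 _).1 (hQS ζq.2)
        exact ⟨⟨y, hyS⟩, Finset.mem_coe.2 (Finset.mem_filter.2 ⟨Finset.mem_univ _, g, hg⟩), rfl⟩
    rw [h1, ← Nat.not_even_iff_odd, even_iff_two_dvd]
    intro hd
    have hle : (S : Subgroup G).subgroupOf N ≤ centralizer ({zN} : Set ↥N) := fun s hs =>
      mem_centralizer_singleton_iff.2 (Subtype.ext (congrArg Subtype.val (hζc ⟨(s : G), hs⟩) :))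
    exact (S.subtype hSN).not_dvd_index (hd.trans (index_dvd_of_le hle))
  have hON2 : ∀ s ∈ ON, s * s = 1 := by
    intro s hs
    obtain ⟨g, hg⟩ := (Finset.mem_filter.1 hs).2
    have h1 : (g : G) * (ζq : G) * (g : G)⁻¹ = (s : G) := congrArg Subtype.val hg
    apply Subtype.ext
    show (s : G) * (s : G) = 1
    rw [← h1, show (g : G) * (ζq : G) * (g : G)⁻¹ * ((g : G) * (ζq : G) * (g : G)⁻¹)
      = (g : G) * ((ζq : G) * (ζq : G)) * (g : G)⁻¹ by group,
      show (ζq : G) * (ζq : G) = 1 from congrArg Subtype.val hζ2]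
    group
  let c : ↥(S : Subgroup G) → ↥(center ↥(S : Subgroup G)) := fun s =>
    if h : s * s = 1 then ⟨s, mem_center_iff.2 (hallc s h)⟩ else 1
  have hc : ∀ o ∈ ON, ((c o) : ↥(S : Subgroup G)) = o := fun o ho => by
    simp only [c, dif_pos (hON2 o ho)]
  have hconjmem : ∀ (g : ↥N) (s : ↥(S : Subgroup G)), (g : G) * s * (g : G)⁻¹ ∈ (S : Subgroup G) :=
    fun g s => (mem_normalizer_iff.1 g.2 _).1 s.2
  let conjN : ↥N → MulAut ↥(S : Subgroup G) := fun g =>
    { toFun := fun s => ⟨(g : G) * s * (g : G)⁻¹, hconjmem g s⟩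
      invFun := fun s => ⟨(g : G)⁻¹ * s * (g : G), by simpa using hconjmem g⁻¹ s⟩
      left_inv := fun s => Subtype.ext (by simp only; group)
      right_inv := fun s => Subtype.ext (by simp only; group)
      map_mul' := fun a b => Subtype.ext (by simp only [Subgroup.coe_mul]; group) }
  have hprod := prod_ne_one S.isPGroup' Q' R' hcomm' hinf' hsup' hζQ'
    (fun h => hζ1 (Subtype.ext (congrArg Subtype.val h :)))
    (fun q hq hqq => by
      rcases hinv ⟨(q : G), hq⟩ (Subtype.ext (congrArg Subtype.val hqq :)) with h | h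
      · exact Or.inl (Subtype.ext (congrArg Subtype.val h :))
      · exact Or.inr (Subtype.ext (congrArg Subtype.val h :)))
    (fun q hq hqc => by
      rcases hcen ⟨(q : G), hq⟩ (fun a => Subtype.ext
        (congrArg Subtype.val (hqc ⟨(a : G), hQS a.2⟩ a.2) :)) with h | h
      · exact Or.inl (Subtype.ext (congrArg Subtype.val h :))
      · exact Or.inr (Subtype.ext (congrArg Subtype.val h :)))
    ⟨⟨(q0 : G), hQS q0.2⟩, q0.2, Subtype.ext (congrArg Subtype.val hq0 :)⟩ hζ2' hallc
    ON hOcard (fun o ho => by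
      obtain ⟨g, hg⟩ := (Finset.mem_filter.1 ho).2
      exact ⟨conjN g, Subtype.ext (congrArg Subtype.val hg :)⟩) c hc
  set w := ∏ o ∈ ON, c o with hw
  have hwc : ∀ g : ↥N, conjN g (w : ↥(S : Subgroup G)) = (w : ↥(S : Subgroup G)) := by
    intro g
    have hmem : ∀ o : ↥(S : Subgroup G), o ∈ ON → conjN g o ∈ ON := by
      intro o ho
      obtain ⟨g', hg'⟩ := (Finset.mem_filter.1 ho).2
      refine Finset.mem_filter.2 ⟨Finset.mem_univ _, g * g', ?_⟩
      rw [mul_inv_rev, show g * g' * zN * (g'⁻¹ * g⁻¹) = g * (g' * zN * g'⁻¹) * g⁻¹ by group, hg']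
      rfl
    have hperm : ON.image (conjN g) = ON := by
      refine Finset.eq_of_subset_of_card_le (fun o ho => ?_) ?_
      · obtain ⟨o', ho', rfl⟩ := Finset.mem_image.1 ho
        exact hmem o' ho'
      · rw [Finset.card_image_of_injective _ (conjN g).injective]
    let κ : ↥(center ↥(S : Subgroup G)) ≃* ↥(center ↥(S : Subgroup G)) :=
      Subgroup.centerCongr (conjN g)
    have hκ : κ w = w := by
      rw [hw, map_prod]
      conv_rhs => rw [← hperm, Finset.prod_image fun a _ b _ h => (conjN g).injective h]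
      refine Finset.prod_congr rfl fun o ho => Subtype.ext ?_
      rw [hc _ (hmem o ho)]
      show conjN g ((c o : ↥(S : Subgroup G))) = conjN g o
      rw [hc o ho]
    exact congrArg Subtype.val hκ
  have hw2 : w * w = 1 := by
    rw [hw, ← Finset.prod_mul_distrib]
    refine Finset.prod_eq_one fun o ho => Subtype.ext ?_
    rw [Subgroup.coe_mul, hc o ho]
    exact hON2 o ho
  set u : G := ((w : ↥(S : Subgroup G)) : G) with hu
  have hu2 : orderOf u = 2 := by
    refine orderOf_eq_prime ?_ fun h => hprod (Subtype.ext (Subtype.ext h))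
    rw [pow_two, hu, ← Subgroup.coe_mul, ← Subgroup.coe_mul, hw2]
    rfl
  have huS : u ∈ (S : Subgroup G) := (w : ↥(S : Subgroup G)).2
  refine ⟨u, huS, CfsgLib.Involutions.isIsolated_of_sylow S hu2 fun g hg => ?_⟩
  have hgu2 : orderOf (g * u * g⁻¹) = 2 := (orderOf_conj_eq g u).trans hu2
  have hX : ∀ t : G, t ∈ (S : Subgroup G) → orderOf t = 2 →
      ∀ x ∈ (S : Subgroup G), (fun y => x * y * x⁻¹) '' ({t} : Set G) = {t} := by
    intro t ht hto x hx
    have h1 : x * t = t * x := congrArg Subtype.val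
      (hallc ⟨t, ht⟩ (Subtype.ext (mul_self_eq_one hto)) ⟨x, hx⟩)
    rw [Set.image_singleton, h1, mul_inv_cancel_right]
  obtain ⟨a, ha, hga⟩ := CfsgLib.Transfer.exists_normalizer_of_image_eq S {u} {g * u * g⁻¹}
    (hX u huS hu2) (hX _ hg hgu2) g (Set.image_singleton)
  rw [Set.image_singleton, Set.singleton_eq_singleton_iff] at ha
  have h1 : (g * a) * u * (g * a)⁻¹ = u := congrArg Subtype.val (hwc ⟨g * a, hga⟩)
  calc g * u * g⁻¹ = g * (a * u * a⁻¹) * g⁻¹ := by rw [ha]
    _ = (g * a) * u * (g * a)⁻¹ := by group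
    _ = u := h1

end CfsgLib.InvChar.QuaternionFactor
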