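import Cfsg.Agent.Lib.PLocal.Constraint
import Cfsg.Agent.Lib.Coprime.Commutator
import Cfsg.Agent.Lib.PGroup.Frattini
import Cfsg.Agent.Lib.PCore.Basic
import Cfsg.Prelude.Def_CaseTheorems

/-!
# `X / O₂(X)` for a 2-constrained group with `O₂(X)` of sectional rank at most four
-/

set_option autoImplicit false

namespace CfsgLib.InvCharRankFour

open scoped commutatorElement

/-- An elementary abelian 2-group of order at most 16 has automorphism group inside `GL₄(2)`. -/
theorem exists_embedding_GL_four {V : Type*} [Group V] [Finite V] (h2 : ∀ v : V, v ^ 2 = 1)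
    (hle : Nat.card V ≤ 2 ^ 4) :
    ∃ f : MulAut V →* GL (Fin 4) (ZMod 2), Function.Injective f := by
  have hcomm : ∀ a b : V, a * b = b * a := fun a b => by
    have ha := inv_eq_of_mul_eq_one_right ((pow_two a).symm.trans (h2 a))
    have hb := inv_eq_of_mul_eq_one_right ((pow_two b).symm.trans (h2 b))
    have hab := inv_eq_of_mul_eq_one_right ((pow_two (a * b)).symm.trans (h2 _))
    rw [mul_inv_rev, ha, hb] at hab
    exact hab.symm
  let _ : CommGroup V := { (inferInstance : Group V) with mul_comm := hcomm }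
  let _ : Module (ZMod 2) (Additive V) := AddCommGroup.zmodModule fun v => by
    rw [two_nsmul]; exact (pow_two v.toMul).symm.trans (h2 v.toMul)
  set k := Module.finrank (ZMod 2) (Additive V) with hkdef
  have hk : k ≤ 4 := by
    have h := Module.natCard_eq_pow_finrank (K := ZMod 2) (V := Additive V)
    rw [Nat.card_congr Additive.toMul, Nat.card_zmod, ← hkdef] at h
    rw [h] at hle
    exact (Nat.pow_le_pow_iff_right (le_refl 2)).1 hle
  let e : (Additive V × (Fin (4 - k) → ZMod 2)) ≃ₗ[ZMod 2] (Fin 4 → ZMod 2) :=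
    LinearEquiv.ofFinrankEq _ _ (by
      rw [Module.finrank_prod, Module.finrank_fintype_fun_eq_card, Module.finrank_fintype_fun_eq_card,
        Fintype.card_fin, Fintype.card_fin, ← hkdef]
      omega)
  let toL : MulAut V → (Additive V →ₗ[ZMod 2] Additive V) := fun φ =>
    (MulEquiv.toAdditive φ).toAddMonoidHom.toZModLinearMap 2
  let ext : MulAut V → Module.End (ZMod 2) (Fin 4 → ZMod 2) := fun φ =>
    e.toLinearMap.comp (((toL φ).prodMap LinearMap.id).comp e.symm.toLinearMap)
  have hmul : ∀ φ ψ, ext (φ * ψ) = ext φ * ext ψ := fun φ ψ => by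
    refine LinearMap.ext fun v => ?_
    simp only [ext, Module.End.mul_apply, LinearMap.comp_apply, LinearEquiv.coe_coe,
      LinearEquiv.symm_apply_apply]
    rfl
  have hone : ext 1 = 1 := by
    refine LinearMap.ext fun v => ?_
    simp only [ext, LinearMap.comp_apply, LinearEquiv.coe_coe, Module.End.one_apply]
    exact e.apply_symm_apply v
  let u : MulAut V →* (Module.End (ZMod 2) (Fin 4 → ZMod 2))ˣ :=
    MonoidHom.mk' (fun φ => ⟨ext φ, ext φ⁻¹, by rw [← hmul, mul_inv_cancel, hone],
      by rw [← hmul, inv_mul_cancel, hone]⟩) (fun φ ψ => Units.ext (hmul φ ψ))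
  refine ⟨(Matrix.GeneralLinearGroup.toLin (n := Fin 4) (R := ZMod 2)).symm.toMonoidHom.comp u, ?_⟩
  rw [MonoidHom.coe_comp]
  refine Function.Injective.comp (Matrix.GeneralLinearGroup.toLin (n := Fin 4) (R := ZMod 2)).symm.injective ?_
  intro φ ψ h
  have h' : ext φ = ext ψ := congrArg Units.val h
  refine MulEquiv.ext fun v => ?_
  have h2' := e.injective (by simpa [ext] using LinearMap.congr_fun h' (e (Additive.ofMul v, 0)) :
    e ((toL φ) (Additive.ofMul v), 0) = e ((toL ψ) (Additive.ofMul v), 0))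
  exact congrArg Additive.toMul (Prod.ext_iff.1 h2').1

/-- The faithful action of `X / O₂(X)` on the Frattini quotient of `O₂(X)`. -/
theorem exists_embedding {X : Type*} [Group X] [Finite X] (hc : Cfsg.IsPConstrained 2 X)
    (hO : Cfsg.oddCore X = ⊥) (h4 : Cfsg.SectionalPRankLE 2 4 ↥(Cfsg.pCore 2 X)) :
    ∃ f : X ⧸ Cfsg.pCore 2 X →* GL (Fin 4) (ZMod 2), Function.Injective f := by
  classical
  have : Fact (Nat.Prime 2) := ⟨Nat.prime_two⟩
  set Q := Cfsg.pCore 2 X with hQdef
  have hQn : Q.Normal := Cfsg.pCore_normal 2 X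
  have hQp : IsPGroup 2 Q := CfsgLib.PCore.pCore_isPGroup
  have hO' : Cfsg.pPrimeCore 2 X = ⊥ := hO
  have hchar : CfsgLib.LocalEvenCharP.IsCharP 2 X := (CfsgLib.PLocal.isPConstrained_iff_of_core_eq_bot hO').1 hc
  have hΦ : (frattini Q).Normal := inferInstance
  let V := Q ⧸ frattini Q
  have h2 : ∀ v : V, v ^ 2 = 1 := fun v => by
    induction v using QuotientGroup.induction_on with
    | _ v => rw [← QuotientGroup.mk_pow]; exact (QuotientGroup.eq_one_iff _).2 (CfsgLib.PGroup.pow_mem_frattini hQp v)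
  have hcomm : ∀ v w : V, v * w = w * v := fun v w => by
    induction v using QuotientGroup.induction_on with
    | _ v => induction w using QuotientGroup.induction_on with
      | _ w =>
        rw [← QuotientGroup.mk_mul, ← QuotientGroup.mk_mul, QuotientGroup.eq]
        refine CfsgLib.PGroup.commutator_le_frattini hQp ?_
        rw [show (v * w)⁻¹ * (w * v) = ⁅w⁻¹, v⁻¹⁆ by rw [commutatorElement_def]; group]
        exact Subgroup.commutator_mem_commutator (Subgroup.mem_top _) (Subgroup.mem_top _)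
  have hV : Nat.card V ≤ 2 ^ 4 := by
    let N := (frattini Q).comap (⊤ : Subgroup Q).subtype
    have : N.Normal := hΦ.comap _
    let g : (⊤ : Subgroup Q) ⧸ N →* V := QuotientGroup.map _ _ (⊤ : Subgroup Q).subtype le_rfl
    have hg : Function.Bijective g := by
      refine ⟨(injective_iff_map_eq_one g).2 fun a ha => ?_, fun v => ?_⟩
      · induction a using QuotientGroup.induction_on with
        | _ a => exact (QuotientGroup.eq_one_iff _).2 ((QuotientGroup.eq_one_iff (a : Q)).1 ha)
      · induction v using QuotientGroup.induction_on with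
        | _ v => exact ⟨QuotientGroup.mk ⟨v, Subgroup.mem_top v⟩, rfl⟩
    have h := h4 ⊤ N ⊤ ⟨⟨fun a b => Subtype.ext (hg.1 (by
      rw [Subgroup.coe_mul, Subgroup.coe_mul, map_mul, map_mul, hcomm]))⟩⟩
      (fun a _ => hg.1 (by rw [map_pow, h2, map_one]))
    rw [Subgroup.card_top, Nat.card_congr (MulEquiv.ofBijective g hg).toEquiv] at h
    exact h
  obtain ⟨j, hj⟩ := exists_embedding_GL_four h2 hV
  let c : X →* MulAut Q := MulAut.conjNormal
  have hmap : ∀ g : X, (frattini Q).map (c g).toMonoidHom = frattini Q := by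
    have hle : ∀ φ : MulAut Q, (frattini Q).map φ.toMonoidHom ≤ frattini Q := fun φ =>
      Subgroup.map_le_iff_le_comap.2 ((Subgroup.characteristic_iff_le_comap.1 frattini_characteristic) φ)
    intro g
    refine le_antisymm (hle _) fun y hy => ⟨(c g)⁻¹ y, hle _ ⟨y, hy, rfl⟩, ?_⟩
    exact MulAut.apply_inv_self _ _ _
  let ρ : X →* MulAut V := MonoidHom.mk' (fun g => QuotientGroup.congr _ _ (c g) (hmap g)) (fun g h => by
    refine MulEquiv.ext fun v => ?_
    induction v using QuotientGroup.induction_on with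
    | _ v =>
      show QuotientGroup.mk (c (g * h) v) = QuotientGroup.mk (c g (c h v))
      rw [map_mul, MulAut.mul_apply])
  have hρ : ∀ g ∈ ρ.ker, ∀ t : Q, (QuotientGroup.mk (c g t) : V) = QuotientGroup.mk t := fun g hg t =>
    DFunLike.congr_fun (MonoidHom.mem_ker.1 hg) (QuotientGroup.mk t)
  have hQker : Q ≤ ρ.ker := by
    intro g hg
    refine MonoidHom.mem_ker.2 (MulEquiv.ext fun v => ?_)
    induction v using QuotientGroup.induction_on with
    | _ v =>
      show (QuotientGroup.mk (c g v) : V) = QuotientGroup.mk v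
      have e : c g v = ⟨g, hg⟩ * v * (⟨g, hg⟩ : Q)⁻¹ := Subtype.ext (MulAut.conjNormal_apply g v)
      rw [e, QuotientGroup.mk_mul, QuotientGroup.mk_mul, QuotientGroup.mk_inv, hcomm, inv_mul_cancel_left]
  have hkerQ : ρ.ker ≤ Q := by
    refine CfsgLib.PCore.le_pCore ρ.normal_ker ?_
    intro ⟨g, hg⟩
    obtain ⟨m, t, ht, he⟩ := Nat.exists_eq_pow_mul_and_not_dvd (orderOf_pos g).ne' 2 (by norm_num)
    refine ⟨m, Subtype.ext ?_⟩
    rw [SubmonoidClass.coe_pow, Subgroup.coe_one]
    have hy : g ^ 2 ^ m ∈ ρ.ker := pow_mem hg _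
    have hyt : (g ^ 2 ^ m) ^ t = 1 := by rw [← pow_mul, ← he, pow_orderOf_eq_one]
    have hycent : g ^ 2 ^ m ∈ Subgroup.centralizer (Q : Set X) := by
      refine CfsgLib.Coprime.le_centralizer_of_trivial_on_frattini (Subgroup.zpowers (g ^ 2 ^ m)) Q
        ?_ ?_ ?_ (Subgroup.mem_zpowers _)
      · exact le_top.trans (Subgroup.normalizer_eq_top (H := Q)).ge
      · rw [Nat.card_zpowers]
        obtain ⟨i, hi⟩ := IsPGroup.iff_card.1 (hQp.to_subgroup (frattini Q))
        rw [hi]
        refine Nat.Coprime.pow_right i ?_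
        exact (((Nat.prime_two.coprime_iff_not_dvd).2 fun h => ht (h.trans (orderOf_dvd_of_pow_eq_one hyt)))).symm
      · intro a ha k hk
        have hak : a ∈ ρ.ker := Subgroup.zpowers_le.2 hy ha
        refine ⟨c a ⟨k, hk⟩ * (⟨k, hk⟩ : Q)⁻¹, ?_, ?_⟩
        · rw [SetLike.mem_coe, ← QuotientGroup.eq_one_iff, QuotientGroup.mk_mul, QuotientGroup.mk_inv, hρ a hak]
          exact mul_inv_cancel _
        · show ((c a ⟨k, hk⟩ * (⟨k, hk⟩ : Q)⁻¹ : Q) : X) = a * k * a⁻¹ * k⁻¹
          rw [Subgroup.coe_mul, Subgroup.coe_inv, MulAut.conjNormal_apply]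
    have hyQ : g ^ 2 ^ m ∈ Q := hchar hycent
    obtain ⟨i, hi⟩ := hQp ⟨_, hyQ⟩
    have hi' : (g ^ 2 ^ m) ^ 2 ^ i = 1 := congrArg Subtype.val hi
    have hd := Nat.dvd_gcd (orderOf_dvd_of_pow_eq_one hi') (orderOf_dvd_of_pow_eq_one hyt)
    have hcp : Nat.Coprime (2 ^ i) t := ((Nat.prime_two.coprime_iff_not_dvd).2 ht).pow_left i
    rw [hcp, Nat.dvd_one, orderOf_eq_one_iff] at hd
    exact hd
  refine ⟨j.comp (QuotientGroup.lift Q ρ hQker), hj.comp ?_⟩
  rw [injective_iff_map_eq_one]
  intro a ha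
  induction a using QuotientGroup.induction_on with
  | _ a => exact (QuotientGroup.eq_one_iff a).2 (hkerQ (MonoidHom.mem_ker.2 ha))

end CfsgLib.InvCharRankFour
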