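import Cfsg.Agent.Lib.InvChar.SymSixSectionRank
import Cfsg.Agent.Lib.InvChar.TwoConstrainedRankFour

/-!
# `X / O₂(X)` does not contain `S₆` when `X` has sectional 2-rank at most four
-/

set_option autoImplicit false

namespace CfsgLib.InvCharRankFour

open Equiv
open scoped commutatorElement

theorem sectional_quotient {X : Type*} [Group X] {N : Subgroup X} [N.Normal] (h : Cfsg.SectionalPRankLE 2 4 X) :
    Cfsg.SectionalPRankLE 2 4 (X ⧸ N) := by
  intro H M hM A hA hexp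
  let H' : Subgroup X := H.comap (QuotientGroup.mk' N)
  let φ : H' →* H ⧸ M := (QuotientGroup.mk' M).comp
    (MonoidHom.mk' (fun x : H' => (⟨QuotientGroup.mk (x : X), x.2⟩ : H)) fun a b => rfl)
  have hφ : Function.Surjective φ := by
    intro q
    induction q using QuotientGroup.induction_on with
    | _ y =>
      obtain ⟨x, hx⟩ := QuotientGroup.mk_surjective (y : X ⧸ N)
      exact ⟨⟨x, show QuotientGroup.mk' N x ∈ H by rw [QuotientGroup.mk'_apply, hx]; exact y.2⟩, congrArg (QuotientGroup.mk' M) (Subtype.ext hx)⟩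
  let e : H' ⧸ φ.ker ≃* H ⧸ M := QuotientGroup.quotientKerEquivOfSurjective φ hφ
  have h' := h H' φ.ker (A.comap e.toMonoidHom) ⟨⟨fun a b => Subtype.ext (e.injective (by
    rw [Subgroup.coe_mul, Subgroup.coe_mul, map_mul, map_mul]
    exact congrArg Subtype.val (hA.is_comm.comm (⟨e a.1, a.2⟩ : A) ⟨e b.1, b.2⟩)))⟩⟩
    (fun a ha => e.injective (by rw [map_pow, map_one]; exact hexp _ ha))
  refine le_trans (le_of_eq ?_) h'
  exact (Nat.card_eq_of_bijective (fun a : A.comap e.toMonoidHom => (⟨e a.1, a.2⟩ : A))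
    ⟨fun a b hab => Subtype.ext (e.injective (congrArg Subtype.val hab)),
      fun a => ⟨⟨e.symm a.1, show e (e.symm a.1) ∈ A by rw [e.apply_symm_apply]; exact a.2⟩, Subtype.ext (e.apply_symm_apply _)⟩⟩).symm

/-- The faithful action on the Frattini quotient forbids `S₆`. -/
theorem not_embeds_symSix {X : Type*} [Group X] [Finite X] (hc : Cfsg.IsPConstrained 2 X)
    (hO : Cfsg.oddCore X = ⊥) (h4 : Cfsg.SectionalPRankLE 2 4 ↥(Cfsg.pCore 2 X))
    (f : Equiv.Perm (Fin 6) →* X ⧸ Cfsg.pCore 2 X) (hf : Function.Injective f) :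
    ¬ Cfsg.SectionalPRankLE 2 4 X := by
  classical
  intro hX
  have : Fact (Nat.Prime 2) := ⟨Nat.prime_two⟩
  set Q := Cfsg.pCore 2 X with hQdef
  have hQn : Q.Normal := Cfsg.pCore_normal 2 X
  have hQp : IsPGroup 2 Q := CfsgLib.PCore.pCore_isPGroup
  have hO' : Cfsg.pPrimeCore 2 X = ⊥ := hO
  have hchar : CfsgLib.LocalEvenCharP.IsCharP 2 X := (CfsgLib.PLocal.isPConstrained_iff_of_core_eq_bot hO').1 hc
  let Φ : Subgroup X := (frattini Q).map Q.subtype
  have : (frattini Q).Characteristic := frattini_characteristic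
  have hΦn : Φ.Normal := ConjAct.normal_of_characteristic_of_normal
  have hΦQ : Φ ≤ Q := Subgroup.map_subtype_le _
  let V : Subgroup (X ⧸ Φ) := Q.map (QuotientGroup.mk' Φ)
  have hVn : V.Normal := hQn.map _ (QuotientGroup.mk'_surjective Φ)
  have hab : ∀ a ∈ V, ∀ b ∈ V, a * b = b * a := by
    rintro _ ⟨a, ha, rfl⟩ _ ⟨b, hb, rfl⟩
    rw [← map_mul, ← map_mul]
    refine QuotientGroup.eq.2 ?_
    refine ⟨((⟨a, ha⟩ : Q) * ⟨b, hb⟩)⁻¹ * (⟨b, hb⟩ * ⟨a, ha⟩), CfsgLib.PGroup.commutator_le_frattini hQp ?_, rfl⟩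
    rw [show ((⟨a, ha⟩ : Q) * ⟨b, hb⟩)⁻¹ * (⟨b, hb⟩ * ⟨a, ha⟩) = ⁅(⟨b, hb⟩ : Q)⁻¹, (⟨a, ha⟩ : Q)⁻¹⁆ by
      rw [commutatorElement_def]; group]
    exact Subgroup.commutator_mem_commutator (Subgroup.mem_top _) (Subgroup.mem_top _)
  have h2 : ∀ a ∈ V, a * a = 1 := by
    rintro _ ⟨a, ha, rfl⟩
    rw [← map_mul, QuotientGroup.mk'_apply, QuotientGroup.eq_one_iff]
    exact ⟨(⟨a, ha⟩ : Q) ^ 2, CfsgLib.PGroup.pow_mem_frattini hQp _, by rw [pow_two]; rfl⟩
  have hle : Nat.card V ≤ 16 := by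
    let g : (⊤ : Subgroup Q) →* V := MonoidHom.mk'
      (fun x => (⟨QuotientGroup.mk' Φ ((x : Q) : X), ⟨_, (x : Q).2, rfl⟩⟩ : V)) fun a b => rfl
    have hg : Function.Surjective g := by
      rintro ⟨_, a, ha, rfl⟩
      exact ⟨⟨⟨a, ha⟩, Subgroup.mem_top _⟩, rfl⟩
    let e := QuotientGroup.quotientKerEquivOfSurjective g hg
    have h := h4 ⊤ g.ker ⊤ ⟨⟨fun a b => Subtype.ext (e.injective (by
      rw [Subgroup.coe_mul, Subgroup.coe_mul, map_mul, map_mul]
      exact Subtype.ext (hab _ (e a.1).2 _ (e b.1).2)))⟩⟩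
      (fun a _ => e.injective (by
        rw [map_pow, map_one, pow_two]; exact Subtype.ext (h2 _ (e a).2)))
    rwa [Subgroup.card_top, Nat.card_congr e.toEquiv] at h
  have hC : Subgroup.centralizer (V : Set (X ⧸ Φ)) ≤ V := by
    intro q hq
    obtain ⟨g, rfl⟩ := QuotientGroup.mk'_surjective Φ q
    let K : Subgroup X := (Subgroup.centralizer (V : Set (X ⧸ Φ))).comap (QuotientGroup.mk' Φ)
    have hKn : K.Normal := by
      have : (Subgroup.centralizer (V : Set (X ⧸ Φ))).Normal := inferInstance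
      exact this.comap _
    refine ⟨g, ?_, rfl⟩
    refine CfsgLib.PCore.le_pCore hKn ?_ hq
    intro ⟨y, hy⟩
    obtain ⟨m, t, ht, he⟩ := Nat.exists_eq_pow_mul_and_not_dvd (orderOf_pos y).ne' 2 (by norm_num)
    have hyt : (y ^ 2 ^ m) ^ t = 1 := by rw [← pow_mul, ← he, pow_orderOf_eq_one]
    have hycent : y ^ 2 ^ m ∈ Subgroup.centralizer (Q : Set X) := by
      refine CfsgLib.Coprime.le_centralizer_of_trivial_on_frattini (Subgroup.zpowers (y ^ 2 ^ m)) Q
        ?_ ?_ ?_ (Subgroup.mem_zpowers _)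
      · exact le_top.trans (Subgroup.normalizer_eq_top (H := Q)).ge
      · rw [Nat.card_zpowers]
        obtain ⟨i, hi⟩ := IsPGroup.iff_card.1 (hQp.to_subgroup (frattini Q))
        rw [hi]
        refine Nat.Coprime.pow_right i ?_
        exact (((Nat.prime_two.coprime_iff_not_dvd).2 fun h => ht (h.trans (orderOf_dvd_of_pow_eq_one hyt)))).symm
      · intro a ha k hk
        have hak : a ∈ K := Subgroup.zpowers_le.2 (pow_mem hy _) ha
        show a * k * a⁻¹ * k⁻¹ ∈ Φ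
        have hcm := Subgroup.mem_centralizer_iff.1 (show QuotientGroup.mk' Φ a ∈ _ from hak)
          (QuotientGroup.mk' Φ k) ⟨k, hk, rfl⟩
        rw [← QuotientGroup.eq_one_iff, ← QuotientGroup.mk'_apply, map_mul, map_mul, map_mul, map_inv, map_inv, ← hcm,
          mul_inv_cancel_right, mul_inv_cancel]
    have hyQ : y ^ 2 ^ m ∈ Q := hchar hycent
    obtain ⟨i, hi⟩ := hQp ⟨_, hyQ⟩
    have hi' : (y ^ 2 ^ m) ^ 2 ^ i = 1 := congrArg Subtype.val hi
    have hd := Nat.dvd_gcd (orderOf_dvd_of_pow_eq_one hi') (orderOf_dvd_of_pow_eq_one hyt)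
    have hcp : Nat.Coprime (2 ^ i) t := ((Nat.prime_two.coprime_iff_not_dvd).2 ht).pow_left i
    rw [hcp, Nat.dvd_one, orderOf_eq_one_iff] at hd
    exact ⟨m, Subtype.ext hd⟩
  let e := QuotientGroup.quotientQuotientEquivQuotient Φ Q hΦQ
  exact CfsgLib.InvCharSixRank.not_sectionalPRankLE V hab h2 hle hC (e.symm.toMonoidHom.comp f)
    (e.symm.injective.comp hf) (sectional_quotient hX)

/-- `S₆` inside `A₈`. -/
theorem exists_symSix_to_altEight : ∃ g : Equiv.Perm (Fin 6) →* alternatingGroup (Fin 8), Function.Injective g := by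
  let ψ : ℤˣ →* Equiv.Perm (Fin 2) := MonoidHom.mk' (fun u => if u = 1 then 1 else swap 0 1) (by decide)
  let j : Equiv.Perm (Fin 6 ⊕ Fin 2) ≃* Equiv.Perm (Fin 8) := finSumFinEquiv.permCongrHom
  let g : Equiv.Perm (Fin 6) →* Equiv.Perm (Fin 8) := j.toMonoidHom.comp
    ((Equiv.Perm.sumCongrHom (Fin 6) (Fin 2)).comp ((MonoidHom.id _).prod (ψ.comp Equiv.Perm.sign)))
  have hψ : ∀ u : ℤˣ, Equiv.Perm.sign (ψ u) = u := by decide
  refine ⟨g.codRestrict (alternatingGroup (Fin 8)) (fun x => ?_), fun a b h => ?_⟩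
  · rw [Equiv.Perm.mem_alternatingGroup]
    show Equiv.Perm.sign (finSumFinEquiv.permCongr (Equiv.Perm.sumCongr x (ψ (Equiv.Perm.sign x)))) = 1
    rw [Equiv.Perm.sign_permCongr, Equiv.Perm.sign_sumCongr, hψ]
    exact Int.units_mul_self _
  · have h' := Equiv.Perm.sumCongrHom_injective (j.injective (congrArg Subtype.val h))
    exact congrArg Prod.fst h'

/-- `S₆` inside `S₇`. -/
theorem exists_symSix_to_symSeven : ∃ g : Equiv.Perm (Fin 6) →* Equiv.Perm (Fin 7), Function.Injective g :=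
  ⟨Equiv.Perm.viaEmbeddingHom Fin.castSuccEmb, Equiv.Perm.viaEmbeddingHom_injective _⟩

end CfsgLib.InvCharRankFour
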