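import Cfsg.Agent.Lib.InvChar.RankThreeChain
import Cfsg.Agent.Lib.Struct77.Ito.Main
import Cfsg.Agent.Lib.FewOrders.Prime
import Cfsg.Agent.Lib.ClassSize.MinClass
import Cfsg.Agent.Lib.Structure81.FourClassSizesNilpotent
import Cfsg.Agent.Lib.Structure.SolvableRadical

/-!
Centreless groups with three class sizes other than one: general tools and the hypotheses of the
case with a proper inclusion between centralizers.
-/

set_option autoImplicit false
set_option linter.unusedSectionVars false
set_option linter.style.haveILetI false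

namespace CfsgLib.InvChar.RankThree

open Subgroup
open CfsgLib.Recog.ClassSizesPSLTwo (cs IsPElt centralizer_mul centralizer_le_pow mem_center_iff_cs)

universe u

variable {G : Type u} [Group G]

theorem self_mem_centralizer (x : G) : x ∈ centralizer ({x} : Set G) :=
  mem_centralizer_singleton_iff.mpr rfl

theorem comm_of_mem {x g : G} (h : g ∈ centralizer ({x} : Set G)) : Commute g x :=
  mem_centralizer_singleton_iff.mp h

theorem mem_of_comm {x g : G} (h : Commute g x) : g ∈ centralizer ({x} : Set G) :=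
  mem_centralizer_singleton_iff.mpr h.eq

theorem isPElt_of_orderOf {r : ℕ} {x : G} (h : orderOf x = r) : IsPElt r x :=
  ⟨1, by rw [pow_one, ← h, pow_orderOf_eq_one]⟩

theorem ne_one_of_orderOf {r : ℕ} {x : G} (hr : r.Prime) (h : orderOf x = r) : x ≠ 1 := fun e =>
  hr.ne_one (by rw [← h, e, orderOf_one])

theorem coprime_orderOf {p q : ℕ} (hp : p.Prime) (hq : q.Prime) (hne : p ≠ q) {x y : G}
    (hx : IsPElt p x) (hy : IsPElt q y) : Nat.Coprime (orderOf x) (orderOf y) :=
  hx.coprime hp hq hne hy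

variable [Finite G]

theorem isPElt_dvd {r : ℕ} (hr : r.Prime) {x : G} (h : IsPElt r x) (hx : x ≠ 1) : r ∣ orderOf x := by
  obtain ⟨k, hk⟩ := h
  obtain ⟨l, -, hl⟩ := (Nat.dvd_prime_pow hr).mp (orderOf_dvd_of_pow_eq_one hk)
  exact hl ▸ dvd_pow_self r fun e => hx (orderOf_eq_one_iff.mp (by rw [hl, e, pow_zero]))

theorem isPElt_of_mem {r : ℕ} {H : Subgroup G} (hH : IsPGroup r H) {x : G} (hx : x ∈ H) :
    IsPElt r x := by
  obtain ⟨k, hk⟩ := hH ⟨x, hx⟩
  exact ⟨k, congrArg Subtype.val hk⟩

theorem exists_primary_not_mem {N : Subgroup G} {g : G} (hg : g ∉ N) :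
    ∃ s k : ℕ, s.Prime ∧ IsPElt s (g ^ k) ∧ g ^ k ∉ N := by
  by_contra h
  push Not at h
  exact hg (CfsgLib.Structure81.CoprimeClass.mem_of_parts fun e p k hp hk =>
    h p e hp ⟨k, by rw [← hk, pow_orderOf_eq_one]⟩)

theorem exists_isPElt_not_mem (N : Subgroup G) {s : ℕ} (hs : s.Prime) (hd : s ∣ N.index) :
    ∃ g : G, g ∉ N ∧ IsPElt s g := by
  haveI := Fact.mk hs
  by_contra h
  push Not at h
  exact (default : Sylow s G).not_dvd_index (hd.trans (index_dvd_of_le fun g hg => by
    by_contra hN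
    exact h g hN (isPElt_of_mem (default : Sylow s G).isPGroup' hg)))

/-- An element of order `r` whose class size is prime to `r`. -/
theorem exists_central_elem {r : ℕ} (hr : r.Prime) (hd : r ∣ Nat.card G) :
    ∃ z : G, orderOf z = r ∧ ¬ r ∣ cs z := by
  haveI := Fact.mk hr
  let P : Sylow r G := default
  haveI : Nontrivial (P : Subgroup G) := (nontrivial_iff_ne_bot _).mpr (P.ne_bot_of_dvd_card hd)
  haveI : Nontrivial (center (P : Subgroup G)) := P.isPGroup'.center_nontrivial
  obtain ⟨k, hk0, hk⟩ := (P.isPGroup'.to_subgroup (center (P : Subgroup G))).nontrivial_iff_card.1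
    inferInstance
  obtain ⟨z, hz⟩ := exists_prime_orderOf_dvd_card' (G := center (P : Subgroup G)) r
    (hk ▸ dvd_pow_self r hk0.ne')
  refine ⟨((z : (P : Subgroup G)) : G), by rw [Subgroup.orderOf_coe, Subgroup.orderOf_coe, hz],
    fun h => P.not_dvd_index (h.trans (index_dvd_of_le fun q hq => ?_))⟩
  exact mem_centralizer_singleton_iff.mpr (congrArg Subtype.val (mem_center_iff.mp z.2 ⟨q, hq⟩))

/-- A `p`-element fixes a nontrivial element of a nontrivial normal `p`-subgroup. -/
theorem exists_commute_mem {p : ℕ} (hp : p.Prime) {V : Subgroup G} [V.Normal] (hV : IsPGroup p V)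
    (hne : V ≠ ⊥) {h : G} (hh : IsPElt p h) : ∃ w ∈ V, w ≠ 1 ∧ Commute w h :=
  CfsgLib.Ito.exists_fixed hp hV hne hh (by rw [normalizer_eq_top]; exact mem_top h)

/-- Coprime action on a normal subgroup: centralizers lift from the quotient. -/
theorem exists_commute_lift (K : Subgroup G) [K.Normal] {s : ℕ} (hs : s.Prime)
    (hK : ¬ s ∣ Nat.card K) {x : G} (hx : IsPElt s x) {y : G} (hy : y⁻¹ * x⁻¹ * y * x ∈ K) :
    ∃ k ∈ K, Commute (y * k) x := by
  classical
  haveI := Fact.mk hs
  obtain ⟨j, hj⟩ := hx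
  have hP : IsPGroup s (zpowers x) := by
    intro z
    obtain ⟨i, hi⟩ := mem_zpowers_iff.mp z.2
    exact ⟨j, Subtype.ext (by
      show (z : G) ^ s ^ j = 1
      rw [← hi, ← zpow_natCast, ← zpow_mul, mul_comm, zpow_mul, zpow_natCast, hj, one_zpow])⟩
  set Ω := {g : G // y⁻¹ * g ∈ K}
  have hinv : ∀ w ∈ zpowers x, ∀ g : G, y⁻¹ * g ∈ K → y⁻¹ * (w * g * w⁻¹) ∈ K := by
    have hstep : ∀ g : G, y⁻¹ * g ∈ K → y⁻¹ * (x * g * x⁻¹) ∈ K := by
      intro g hg
      have h1 := ‹K.Normal›.conj_mem _ hg x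
      have h2 := ‹K.Normal›.conj_mem _ (K.inv_mem hy) x
      have h3 := K.mul_mem h2 h1
      have e : x * (y⁻¹ * x⁻¹ * y * x)⁻¹ * x⁻¹ * (x * (y⁻¹ * g) * x⁻¹) =
          y⁻¹ * (x * g * x⁻¹) := by group
      rwa [e] at h3
    intro w hw
    rw [(isOfFinOrder_of_finite x).mem_zpowers_iff_mem_range_orderOf, Finset.mem_image] at hw
    obtain ⟨i, -, rfl⟩ := hw
    induction i with
    | zero => intro g hg; simpa using hg
    | succ i ih =>
      intro g hg
      have := hstep _ (ih g hg)
      rwa [pow_succ', mul_inv_rev, show x * x ^ i * g * ((x ^ i)⁻¹ * x⁻¹) =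
        x * (x ^ i * g * (x ^ i)⁻¹) * x⁻¹ by group]
  letI : MulAction (zpowers x) Ω :=
    { smul := fun w g => ⟨(w : G) * g * (w : G)⁻¹, hinv w w.2 g g.2⟩
      one_smul := fun g => Subtype.ext (by
        show ((1 : zpowers x) : G) * g * ((1 : zpowers x) : G)⁻¹ = g
        simp)
      mul_smul := fun w v g => Subtype.ext (by
        show ((w * v : zpowers x) : G) * g * ((w * v : zpowers x) : G)⁻¹ =
          (w : G) * ((v : G) * g * (v : G)⁻¹) * (w : G)⁻¹
        simp [mul_assoc]) }
  have hcard : Nat.card Ω = Nat.card K :=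
    Nat.card_congr
      { toFun := fun g => ⟨y⁻¹ * g, g.2⟩
        invFun := fun k => ⟨y * k, by simp⟩
        left_inv := fun g => Subtype.ext (mul_inv_cancel_left y g)
        right_inv := fun k => Subtype.ext (inv_mul_cancel_left y k) }
  have hne : (MulAction.fixedPoints (zpowers x) Ω).Nonempty := by
    by_contra hno
    rw [Set.not_nonempty_iff_eq_empty] at hno
    refine hK (hcard ▸ ?_)
    have h := hP.card_modEq_card_fixedPoints (α := Ω)
    rw [hno] at h
    simpa [Nat.modEq_zero_iff_dvd] using h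
  obtain ⟨g, hg⟩ := hne
  have h1 : x * (g : G) * x⁻¹ = g := congrArg Subtype.val (hg ⟨x, mem_zpowers x⟩)
  exact ⟨y⁻¹ * g, g.2, by rw [mul_inv_cancel_left]; exact (mul_inv_eq_iff_eq_mul.mp h1).symm⟩

/-- Class size of a coset whose centralizer lifts. -/
theorem cs_mk_eq (K : Subgroup G) [K.Normal] {x : G}
    (h : ∀ y : G, y⁻¹ * x⁻¹ * y * x ∈ K → ∃ k ∈ K, Commute (y * k) x) :
    cs (x : G ⧸ K) = (centralizer ({x} : Set G) ⊔ K).index := by
  have hsurj := QuotientGroup.mk'_surjective K
  have e : centralizer ({(x : G ⧸ K)} : Set (G ⧸ K)) =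
      (centralizer ({x} : Set G)).map (QuotientGroup.mk' K) := by
    refine le_antisymm (fun z hz => ?_) ?_
    · obtain ⟨y, rfl⟩ := hsurj z
      have h1 : ((y * x : G) : G ⧸ K) = ((x * y : G) : G ⧸ K) :=
        mem_centralizer_singleton_iff.mp hz
      obtain ⟨k, hk, hc⟩ := h y (by
        have h2 := QuotientGroup.eq.mp h1.symm
        rwa [mul_inv_rev, ← mul_assoc] at h2)
      exact ⟨y * k, mem_of_comm hc, by simp [hk]⟩
    · rintro _ ⟨y, hy, rfl⟩
      exact mem_centralizer_singleton_iff.mpr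
        (congrArg (QuotientGroup.mk' K) (mem_centralizer_singleton_iff.mp hy))
  rw [cs, e, Subgroup.index_map, QuotientGroup.ker_mk', MonoidHom.range_eq_top.mpr hsurj, index_top,
    mul_one]

theorem one_lt_cs_of_center (hZ : center G = ⊥) {g : G} (hg : g ≠ 1) : 1 < cs g := by
  have h0 : cs g ≠ 0 := index_ne_zero_of_finite
  have h1 : cs g ≠ 1 := fun h => hg (by
    have := mem_center_iff_cs.mp h
    rwa [hZ, mem_bot] at this)
  omega

/-- An element of minimal class size centralizes every abelian normal subgroup. -/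
theorem commute_of_minimal (hZ : center G = ⊥) {x : G}
    (hmin : ∀ y : G, y ≠ 1 → cs x ≤ cs y) {V : Subgroup G} [V.Normal] (hV : IsMulCommutative V)
    {v : G} (hv : v ∈ V) : Commute v x := by
  have h2 := CfsgLib.ClassSize.commutator_mem_center_of_minimal V hV (cs x) (fun y hy => hmin y fun e => ?_) rfl hv
  · rw [hZ, mem_bot] at h2
    exact commutatorElement_eq_one_iff_commute.mp h2
  · subst e
    have : centralizer ({(1 : G)} : Set G) = ⊤ :=
      eq_top_iff.mpr fun g _ => mem_of_comm (Commute.one_right g)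
    rw [this, index_top] at hy
    exact absurd hy (lt_irrefl 1)

theorem exists_abelian_normal (hR : Cfsg.solvableRadical G ≠ ⊥) :
    ∃ (p : ℕ) (V : Subgroup G), p.Prime ∧ CfsgLib.Structure.IsMinNormal V ∧ IsPGroup p V ∧
      IsMulCommutative V := by
  haveI := CfsgLib.Structure.solvableRadical_normal (G := G)
  obtain ⟨V, hV, hle⟩ := CfsgLib.Structure.exists_isMinNormal_le
    (CfsgLib.Structure.solvableRadical_normal (G := G)) hR
  obtain ⟨p, hp, hab, hexp⟩ := CfsgLib.Structure.isElementaryAbelian_of_isMinNormal_of_isSolvable hV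
    (CfsgLib.Structure.isSolvable_of_le hle CfsgLib.Structure.isSolvable_solvableRadical)
  exact ⟨p, V, hp, hV, fun v => ⟨1, by rw [pow_one]; exact Subtype.ext (hexp _ v.2)⟩, hab⟩

theorem cs_prod {H : Type u} [Group H] (x : G) (y : H) : cs (x, y) = cs x * cs y := by
  have e : centralizer ({(x, y)} : Set (G × H)) =
      (centralizer ({x} : Set G)).prod (centralizer ({y} : Set H)) := by
    ext ⟨a, b⟩
    simp [mem_prod, mem_centralizer_singleton_iff, Prod.ext_iff]
  rw [cs, e, index_prod]

/-- At most two class sizes other than one: solvable. -/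
theorem solvable_of_two_sizes (m₁ m₂ : ℕ) :
    ∀ {L : Type u} [Group L] [Finite L], (∀ x : L, x ∉ center L → cs x = m₁ ∨ cs x = m₂) →
      Group.IsSolvable L := by
  have two : ∀ (m₁ m₂ : ℕ), m₂ < m₁ → ∀ {L : Type u} [Group L] [Finite L],
      (∀ x : L, x ∉ center L → cs x = m₁ ∨ cs x = m₂) →
      (∃ x : L, x ∉ center L ∧ cs x = m₁) → (∃ x : L, x ∉ center L ∧ cs x = m₂) →
      Group.IsSolvable L := by
    intro m₁ m₂ hlt L _ _ h h1 h2
    by_contra hns
    have hpos : 1 < m₂ := by
      obtain ⟨x, hx, he⟩ := h2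
      have h0 : cs x ≠ 0 := index_ne_zero_of_finite
      have h1 : cs x ≠ 1 := fun e => hx (mem_center_iff_cs.mp e)
      omega
    exact CfsgLib.Ito.Data.false (n₁ := m₁) (n₂ := m₂) (G := L)
      ⟨hlt, hpos, fun x hx => (h x hx).symm, h1, h2, hns⟩
  have one : ∀ (m : ℕ) {L : Type u} [Group L] [Finite L], (∀ x : L, x ∉ center L → cs x = m) →
      Group.IsSolvable L := by
    intro m L _ _ h
    by_cases hab : ∀ x : L, x ∈ center L
    · exact Group.isSolvable_of_comm fun a b => (mem_center_iff.mp (hab b) a)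
    push Not at hab
    obtain ⟨x₀, hx₀⟩ := hab
    have hm : 1 < m := by
      have h0 : cs x₀ ≠ 0 := index_ne_zero_of_finite
      have h1 : cs x₀ ≠ 1 := fun e => hx₀ (mem_center_iff_cs.mp e)
      rw [h x₀ hx₀] at h0 h1
      omega
    have hval : ∀ x : L, cs x = 1 ∨ cs x = m := fun x => by
      by_cases hx : x ∈ center L
      · exact Or.inl (mem_center_iff_cs.mpr hx)
      · exact Or.inr (h x hx)
    have hnc : ∀ z : L × L, cs z ≠ 1 → z ∉ center (L × L) := fun z hz hc =>
      hz (mem_center_iff_cs.mpr hc)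
    haveI : Group.IsSolvable (L × L) := by
      refine two (m * m) m (lt_mul_of_one_lt_left (by omega) hm) ?_ ⟨(x₀, x₀), ?_⟩ ⟨(x₀, 1), ?_⟩
      · rintro ⟨x, y⟩ hz
        rw [cs_prod]
        rcases hval x with e1 | e1 <;> rcases hval y with e2 | e2 <;> rw [e1, e2]
        · exact absurd (mem_center_iff_cs.mp (by rw [cs_prod, e1, e2])) hz
        all_goals simp
      · have e : cs (x₀, x₀) = m * m := by rw [cs_prod, h x₀ hx₀]
        exact ⟨hnc _ (by rw [e]; exact (Nat.one_lt_mul_iff.mpr ⟨by omega, by omega, Or.inl hm⟩).ne'),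
          e⟩
      · have e : cs (x₀, (1 : L)) = m := by
          rw [cs_prod, h x₀ hx₀, mem_center_iff_cs.mpr (one_mem (center L)), mul_one]
        exact ⟨hnc _ (by rw [e]; omega), e⟩
    exact Group.isSolvable_of_surjective (f := MonoidHom.fst L L) Prod.fst_surjective
  intro L _ _ h
  by_cases h1 : ∀ x : L, x ∉ center L → cs x = m₂
  · exact one m₂ h1
  by_cases h2 : ∀ x : L, x ∉ center L → cs x = m₁
  · exact one m₁ h2
  push Not at h1 h2
  obtain ⟨x, hx, hx'⟩ := h1
  obtain ⟨y, hy, hy'⟩ := h2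
  have ex := (h x hx).resolve_right hx'
  have ey := (h y hy).resolve_left hy'
  rcases lt_trichotomy m₁ m₂ with hlt | he | hlt
  · exact two m₂ m₁ hlt (fun z hz => (h z hz).symm) ⟨y, hy, ey⟩ ⟨x, hx, ex⟩
  · exact absurd (ex.trans he) hx'
  · exact two m₁ m₂ hlt h ⟨x, hx, ex⟩ ⟨y, hy, ey⟩

/-- The hypotheses: three class sizes other than one, the first dividing the third. -/
structure Chain (G : Type u) [Group G] (a b c : ℕ) : Prop where
  centre : center G = ⊥
  ns : ¬ Group.IsSolvable G
  hval : ∀ g : G, g ≠ 1 → cs g = a ∨ cs g = b ∨ cs g = c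
  exA : ∃ g : G, g ≠ 1 ∧ cs g = a
  exB : ∃ g : G, g ≠ 1 ∧ cs g = b
  exC : ∃ g : G, g ≠ 1 ∧ cs g = c
  dvd : a ∣ c
  ne_ac : a ≠ c
  ne_bc : b ≠ c

namespace Chain

variable {a b c : ℕ} (h : Chain G a b c)
include h

theorem one_lt {g : G} (hg : g ≠ 1) : 1 < cs g := one_lt_cs_of_center h.centre hg

theorem a_gt : 1 < a := by obtain ⟨g, hg, e⟩ := h.exA; exact e ▸ h.one_lt hg
theorem b_gt : 1 < b := by obtain ⟨g, hg, e⟩ := h.exB; exact e ▸ h.one_lt hg
theorem c_gt : 1 < c := by obtain ⟨g, hg, e⟩ := h.exC; exact e ▸ h.one_lt hg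

theorem a_dvd_card : a ∣ Nat.card G := by
  obtain ⟨g, -, e⟩ := h.exA; exact e ▸ index_dvd_card _

theorem b_dvd_card : b ∣ Nat.card G := by
  obtain ⟨g, -, e⟩ := h.exB; exact e ▸ index_dvd_card _

theorem coprime : Nat.Coprime a b := by
  refine Nat.coprime_of_dvd fun p hp hpa hpb => ?_
  obtain ⟨z, hz, hzs⟩ := exists_central_elem (G := G) hp (hpa.trans h.a_dvd_card)
  rcases h.hval z (ne_one_of_orderOf hp hz) with e | e | e <;> rw [e] at hzs
  · exact hzs hpa
  · exact hzs hpb
  · exact hzs (hpa.trans h.dvd)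

theorem nab : ¬ a ∣ b := fun hd => by
  have := h.a_gt
  have := Nat.eq_one_of_dvd_coprimes h.coprime dvd_rfl hd
  omega

theorem nba : ¬ b ∣ a := fun hd => by
  have := h.b_gt
  have := Nat.eq_one_of_dvd_coprimes h.coprime hd dvd_rfl
  omega

theorem nca : ¬ c ∣ a := fun hd => h.ne_ac (Nat.dvd_antisymm h.dvd hd)

theorem ncb : ¬ c ∣ b := fun hd => h.nab (h.dvd.trans hd)

theorem ne_mul : c ≠ a * b := by
  intro e
  refine h.ns ?_
  haveI : Group.IsNilpotent G := by
    refine (CfsgLib.Structure81.CoprimeClass.Four.isNilpotent (G := G) (n := a) (m := b)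
      ⟨h.a_gt, h.b_gt, h.coprime, fun g => ?_, ?_, ?_, ?_⟩).1
    · by_cases hg : g = 1
      · exact Or.inl ((mem_center_iff_cs (x := g)).mpr (hg ▸ one_mem (center G)))
      · rcases h.hval g hg with e' | e' | e'
        exacts [Or.inr (Or.inl e'), Or.inr (Or.inr (Or.inl e')),
          Or.inr (Or.inr (Or.inr (e'.trans e)))]
    · exact h.exA.imp fun g hg => hg.2
    · exact h.exB.imp fun g hg => hg.2
    · exact h.exC.imp fun g hg => hg.2.trans e
  infer_instance

theorem dvd_of_le {g k : G} (hle : centralizer ({g} : Set G) ≤ centralizer ({k} : Set G)) :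
    cs k ∣ cs g := index_dvd_of_le hle

theorem pow_same {g : G} {k : ℕ} (hk : g ^ k ≠ 1) (hg : cs g = a ∨ cs g = b) :
    cs (g ^ k) = cs g ∧ centralizer ({g ^ k} : Set G) = centralizer ({g} : Set G) := by
  have hle := centralizer_le_pow g k
  have hd := h.dvd_of_le hle
  have he : cs (g ^ k) = cs g := by
    rcases hg with hg | hg <;> rcases h.hval _ hk with e | e | e <;> rw [hg, e] at hd <;>
      rw [hg, e] <;>
      first | rfl | (exfalso; first | exact h.nba hd | exact h.nca hd | exact h.nab hd | exact h.ncb hd)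
  exact ⟨he, (eq_of_le_of_cs hle he.symm).symm⟩

theorem exists_prime_elem {g : G} (hg : g ≠ 1) (hgt : cs g = a ∨ cs g = b) :
    ∃ r g', r.Prime ∧ orderOf g' = r ∧ g' ≠ 1 ∧ cs g' = cs g ∧
      centralizer ({g'} : Set G) = centralizer ({g} : Set G) ∧ g' ∈ zpowers g := by
  obtain ⟨r, k, hr, hk⟩ := exists_prime_order_pow hg
  have h1 := ne_one_of_orderOf hr hk
  exact ⟨r, _, hr, hk, h1, (h.pow_same h1 hgt).1, (h.pow_same h1 hgt).2,
    pow_mem (mem_zpowers g) k⟩

/-- Elements of coprime orders with the two coprime class sizes do not commute. -/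
theorem not_commute {u v : G} (hu : u ≠ 1) (hua : cs u = a) (hvb : cs v = b)
    (hco : Nat.Coprime (orderOf u) (orderOf v)) : ¬ Commute u v := by
  intro hc
  have hmul := centralizer_mul hc hco (orderOf_pos u).ne'
  obtain ⟨h1, -⟩ := exists_mul_of_coprime_index (A := centralizer ({u} : Set G))
    (B := centralizer ({v} : Set G))
    (show Nat.Coprime (cs u) (cs v) by rw [hua, hvb]; exact h.coprime)
  have h2 : cs (u * v) = a * b := by
    rw [cs, hmul, h1]
    exact congrArg₂ (· * ·) hua hvb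
  have := h.a_gt
  have := h.b_gt
  rcases h.hval _ (mul_ne_one_of_coprime hu hco) with e | e | e <;> rw [h2] at e
  · exact h.nba ⟨a, by rw [mul_comm]; exact e.symm⟩
  · exact h.nab ⟨b, e.symm⟩
  · exact h.ne_mul e.symm

/-- The product of commuting elements of coprime order, the second one of class size `c`. -/
theorem le_of_c {u g : G} (hgc : cs g = c) (hu : u ≠ 1) (hcomm : Commute u g)
    (hco : Nat.Coprime (orderOf u) (orderOf g)) :
    centralizer ({g} : Set G) ≤ centralizer ({u} : Set G) := by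
  have hmul := centralizer_mul hcomm hco (orderOf_pos u).ne'
  have h2 : cs g ∣ cs (u * g) := h.dvd_of_le (hmul.le.trans inf_le_right)
  rw [hgc] at h2
  rcases h.hval _ (mul_ne_one_of_coprime hu hco) with e | e | e <;> rw [e] at h2
  · exact absurd h2 h.nca
  · exact absurd h2 h.ncb
  · rw [← eq_of_le_of_cs (hmul.le.trans inf_le_right) (by rw [e, hgc]), hmul]
    exact inf_le_left

/-- The intersection of the centralizers of elements with coprime class sizes. -/
theorem card_inter {u y : G} (hua : cs u = a) (hyb : cs y = b) :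
    Nat.card (centralizer ({u} : Set G) ⊓ centralizer ({y} : Set G) : Subgroup G) * (a * b) =
      Nat.card G := by
  obtain ⟨h1, -⟩ := exists_mul_of_coprime_index (A := centralizer ({u} : Set G))
    (B := centralizer ({y} : Set G))
    (show Nat.Coprime (cs u) (cs y) by rw [hua, hyb]; exact h.coprime)
  have e := (centralizer ({u} : Set G) ⊓ centralizer ({y} : Set G)).card_mul_index
  rw [h1, show (centralizer ({u} : Set G)).index = a from hua,
    show (centralizer ({y} : Set G)).index = b from hyb] at e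
  exact e

theorem card_cent {g : G} {m : ℕ} (hg : cs g = m) :
    Nat.card (centralizer ({g} : Set G)) * m = Nat.card G :=
  hg ▸ (centralizer ({g} : Set G)).card_mul_index

/-- An element with class size `c` divides the common centralizer order. -/
theorem dvd_cent_c {g g' : G} (hg : cs g = c) (hg' : cs g' = c) :
    orderOf g ∣ Nat.card (centralizer ({g'} : Set G)) := by
  have e := h.card_cent hg
  rw [← h.card_cent hg'] at e
  rw [← Nat.eq_of_mul_eq_mul_right (Nat.lt_trans Nat.zero_lt_one h.c_gt) e]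
  exact Subgroup.orderOf_dvd_natCard _ (self_mem_centralizer g)

end Chain

end CfsgLib.InvChar.RankThree
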