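import Cfsg.Agent.Lib.InvChar.RankThreeChain
import Cfsg.Agent.Lib.Transfer.NormalComplement
import Cfsg.Agent.Lib.InvChar.Conj

/-!
A simple group with three class sizes and no proper inclusion between centralizers has abelian
centralizers.
-/

set_option autoImplicit false

namespace CfsgLib.InvChar.RankThree

open Subgroup
open CfsgLib.Recog.ClassSizesPSLTwo (centralizer_mul centralizer_le_pow)

universe u

variable {G : Type u} [Group G] [Finite G]

local notation "C" x:max => centralizer ({x} : Set _)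

/-- No proper inclusion between centralizers of nonidentity elements. -/
def NoInclusion (G : Type u) [Group G] : Prop :=
  ∀ g h : G, g ≠ 1 → h ≠ 1 → centralizer ({g} : Set G) ≤ centralizer ({h} : Set G) →
    centralizer ({g} : Set G) = centralizer ({h} : Set G)

theorem eq_power (hmin : NoInclusion G) {g : G} (hg : g ≠ 1) :
    ∃ (p : ℕ) (x : G), p.Prime ∧ orderOf x = p ∧
      centralizer ({x} : Set G) = centralizer ({g} : Set G) ∧ x ∈ zpowers g := by
  obtain ⟨p, k, hp, hk⟩ := exists_prime_order_pow hg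
  have hk1 : g ^ k ≠ 1 := fun e => hp.ne_one (by rw [← hk, e, orderOf_one])
  exact ⟨p, _, hp, hk, (hmin g _ hg hk1 (centralizer_le_pow g k)).symm,
    pow_mem (mem_zpowers g) k⟩

theorem dichotomy (hmin : NoInclusion G) {p : ℕ} (hp : p.Prime) {x : G} (hx : orderOf x = p) :
    (∀ a ∈ centralizer ({x} : Set G), ∀ b ∈ centralizer ({x} : Set G), a * b = b * a) ∨
      IsPGroup p (centralizer ({x} : Set G)) := by
  haveI := Fact.mk hp
  have hx1 : x ≠ 1 := fun e => hp.ne_one (by rw [← hx, e, orderOf_one])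
  by_cases hall : ∀ r : ℕ, r.Prime → r ∣ Nat.card (centralizer ({x} : Set G)) → r = p
  · right
    exact IsPGroup.of_card (n := (Nat.card (centralizer ({x} : Set G))).primeFactorsList.length)
      (Nat.eq_prime_pow_of_unique_prime_dvd Nat.card_pos.ne' fun {d} hd hd' => hall d hd hd')
  · left
    push Not at hall
    obtain ⟨r, hr, hrd, hrp⟩ := hall
    haveI := Fact.mk hr
    obtain ⟨⟨w, hw⟩, hwo⟩ := exists_prime_orderOf_dvd_card' (G := centralizer ({x} : Set G)) r hrd
    rw [orderOf_mk] at hwo
    have hw1 : w ≠ 1 := fun e => hr.ne_one (by rw [← hwo, e, orderOf_one])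
    -- an element commuting with `u` of coprime order has the same centralizer
    have key : ∀ u v : G, u ≠ 1 → v ≠ 1 → Commute u v → Nat.Coprime (orderOf u) (orderOf v) →
        centralizer ({u} : Set G) = centralizer ({v} : Set G) := by
      intro u v hu hv hc hco
      have hmul := centralizer_mul hc hco (orderOf_pos u).ne'
      have h1 := mul_ne_one_of_coprime hu hco
      rw [← hmin _ _ h1 hu (hmul.le.trans inf_le_left), hmin _ _ h1 hv (hmul.le.trans inf_le_right)]
    have hCw : centralizer ({x} : Set G) = centralizer ({w} : Set G) :=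
      key x w hx1 hw1 (mem_centralizer_singleton_iff.mp hw).symm
        (by rw [hx, hwo]; exact (Nat.coprime_primes hp hr).mpr hrp.symm)
    have hcentral : ∀ u ∈ centralizer ({x} : Set G),
        centralizer ({x} : Set G) ≤ centralizer ({u} : Set G) := by
      intro u hu
      have hcase : ∀ v : G, v ∈ centralizer ({x} : Set G) →
          Nat.Coprime p (orderOf v) ∨ Nat.Coprime r (orderOf v) →
          centralizer ({x} : Set G) ≤ centralizer ({v} : Set G) := by
        intro v hv hco
        by_cases hv1 : v = 1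
        · intro s _
          rw [mem_centralizer_singleton_iff, hv1, mul_one, one_mul]
        rcases hco with h | h
        · exact (key x v hx1 hv1 (mem_centralizer_singleton_iff.mp hv).symm (hx ▸ h)).le
        · rw [hCw]
          exact (key w v hw1 hv1 (mem_centralizer_singleton_iff.mp (hCw ▸ hv)).symm (hwo ▸ h)).le
      -- split the order of `u` into a `p`-part and a `p'`-part
      set n := orderOf u
      set e := p ^ n.factorization p with he
      set m := n / e with hm
      have hnem : e * m = n := Nat.ordProj_mul_ordCompl_eq_self n p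
      have hco : Nat.Coprime p m := Nat.coprime_ordCompl hp (orderOf_pos u).ne'
      have hco' : Nat.Coprime e m := hco.pow_left _
      have h1 : centralizer ({x} : Set G) ≤ centralizer ({u ^ m} : Set G) := by
        refine hcase _ (pow_mem hu m) (Or.inr ?_)
        refine Nat.Coprime.coprime_dvd_right (orderOf_dvd_of_pow_eq_one (n := e) ?_)
          (((Nat.coprime_primes hr hp).mpr hrp).pow_right _)
        rw [← pow_mul, mul_comm, hnem]; exact pow_orderOf_eq_one u
      have h2 : centralizer ({x} : Set G) ≤ centralizer ({u ^ e} : Set G) := by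
        refine hcase _ (pow_mem hu e) (Or.inl ?_)
        refine Nat.Coprime.coprime_dvd_right (orderOf_dvd_of_pow_eq_one (n := m) ?_) hco
        rw [← pow_mul, hnem]; exact pow_orderOf_eq_one u
      intro s hs
      rw [mem_centralizer_singleton_iff]
      have c1 : Commute s (u ^ m) := mem_centralizer_singleton_iff.mp (h1 hs)
      have c2 : Commute s (u ^ e) := mem_centralizer_singleton_iff.mp (h2 hs)
      obtain ⟨α, β, hαβ⟩ := Int.isCoprime_iff_gcd_eq_one.mpr
        (show Int.gcd (e : ℤ) (m : ℤ) = 1 from hco')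
      have := (c2.zpow_right α).mul_right (c1.zpow_right β)
      rwa [← zpow_natCast u e, ← zpow_natCast u m, ← zpow_mul, ← zpow_mul, ← zpow_add,
        mul_comm (e : ℤ), mul_comm (m : ℤ), hαβ, zpow_one] at this
    intro a ha b hb
    exact mem_centralizer_singleton_iff.mp (hcentral b hb ha)

theorem exists_sylow_of_noncomm (hmin : NoInclusion G) {g : G} (hg : g ≠ 1)
    (hna : ¬ ∀ a ∈ centralizer ({g} : Set G), ∀ b ∈ centralizer ({g} : Set G), a * b = b * a) :
    ∃ (p : ℕ) (_ : Fact p.Prime) (P : Sylow p G), centralizer ({g} : Set G) = (P : Subgroup G) := by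
  obtain ⟨p, x, hp, hx, hC, -⟩ := eq_power hmin hg
  haveI := Fact.mk hp
  rw [← hC] at hna ⊢
  have hx1 : x ≠ 1 := fun e => hp.ne_one (by rw [← hx, e, orderOf_one])
  obtain ⟨P, hP⟩ := ((dichotomy hmin hp hx).resolve_left hna).exists_le_sylow
  have hxC : x ∈ centralizer ({x} : Set G) := mem_centralizer_singleton_iff.mpr rfl
  have : Nontrivial (P : Subgroup G) :=
    ⟨⟨⟨x, hP hxC⟩, 1, fun e => hx1 (congrArg Subtype.val e)⟩⟩
  have : Nontrivial (center (P : Subgroup G)) := P.isPGroup'.center_nontrivial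
  obtain ⟨z, hz⟩ := exists_ne (1 : center (P : Subgroup G))
  set z' : G := ((z : (P : Subgroup G)) : G)
  have hPz : (P : Subgroup G) ≤ centralizer ({z'} : Set G) := fun s hs =>
    mem_centralizer_singleton_iff.mpr (congrArg Subtype.val (mem_center_iff.mp z.2 ⟨s, hs⟩))
  have e := hmin x z' hx1 (fun e => hz (Subtype.ext (Subtype.ext e))) (hP.trans hPz)
  exact ⟨p, inferInstance, P, le_antisymm hP (e.symm ▸ hPz)⟩

/-- If `C(g)` is a nonabelian Sylow subgroup `P`, then so is the centralizer of each of its elements,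
and `p` is odd. -/
theorem odd_of_noncomm (hmin : NoInclusion G) {g : G} (hg : g ≠ 1) {p : ℕ} [Fact p.Prime]
    (P : Sylow p G) (hP : centralizer ({g} : Set G) = (P : Subgroup G))
    (hna : ¬ ∀ a ∈ (P : Subgroup G), ∀ b ∈ (P : Subgroup G), a * b = b * a) : p ≠ 2 := by
  rintro rfl
  have hne : center (P : Subgroup G) ≠ ⊤ := fun h => hna fun a ha b hb =>
    congrArg Subtype.val (mem_center_iff.mp (h ▸ mem_top (⟨b, hb⟩ : (P : Subgroup G))) ⟨a, ha⟩)
  have : Nontrivial ((P : Subgroup G) ⧸ center (P : Subgroup G)) :=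
    QuotientGroup.nontrivial_iff.mpr hne
  have : Nontrivial (center ((P : Subgroup G) ⧸ center (P : Subgroup G))) :=
    (P.isPGroup'.to_quotient _).center_nontrivial
  obtain ⟨⟨uq, huq⟩, huq1⟩ := exists_ne (1 : center ((P : Subgroup G) ⧸ center (P : Subgroup G)))
  obtain ⟨u, rfl⟩ := QuotientGroup.mk_surjective uq
  have huZ : u ∉ center (P : Subgroup G) := fun h => huq1 (Subtype.ext (by
    simpa using (QuotientGroup.eq_one_iff u).mpr h))
  have hcomm : ∀ v : (P : Subgroup G), u * v * u⁻¹ * v⁻¹ ∈ center (P : Subgroup G) := by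
    intro v
    rw [← QuotientGroup.eq_one_iff]
    have h := mem_center_iff.mp huq (QuotientGroup.mk v)
    simp only [QuotientGroup.mk_mul, QuotientGroup.mk_inv]
    rw [← h]
    group
  have hcentralizer : ∀ v : (P : Subgroup G), v ≠ 1 → v * v ≠ 1 → ∀ s : (P : Subgroup G),
      Commute s (v * v) → Commute s v := by
    intro v hv1 hv2 s hs
    have e := hmin (v : G) ((v : G) ^ 2) (fun e => hv1 (Subtype.ext e))
      (fun e => hv2 (Subtype.ext (by simpa [pow_two] using e))) (centralizer_le_pow _ 2)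
    refine Subtype.ext ?_
    refine mem_centralizer_singleton_iff.mp (e ▸ mem_centralizer_singleton_iff.mpr ?_ :
      (s : G) ∈ centralizer ({(v : G)} : Set G))
    rw [pow_two]
    exact congrArg Subtype.val hs.eq
  -- replace `u` by its last noncentral power
  have hlast : ∀ (n : ℕ) (w : (P : Subgroup G)), w ^ 2 ^ n = 1 → w ∉ center (P : Subgroup G) →
      (∀ s, w * s * w⁻¹ * s⁻¹ ∈ center (P : Subgroup G)) →
      ∃ w' : (P : Subgroup G), w' * w' = 1 ∧ w' ∉ center (P : Subgroup G) ∧
        ∀ s, w' * s * w'⁻¹ * s⁻¹ ∈ center (P : Subgroup G) := by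
    intro n
    induction n with
    | zero =>
      intro w hw hwZ _
      rw [pow_zero, pow_one] at hw
      exact absurd (hw ▸ one_mem _) hwZ
    | succ n ih =>
      intro w hw hwZ hwc
      by_cases h1 : w * w = 1
      · exact ⟨w, h1, hwZ, hwc⟩
      refine ih (w * w) (by rw [← pow_two, ← pow_mul, ← pow_succ']; exact hw) (fun h => hwZ ?_)
        fun s => ?_
      · refine mem_center_iff.mpr fun s => (hcentralizer w ?_ h1 s (mem_center_iff.mp h s)).eq
        intro e
        exact h1 (by rw [e, mul_one])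
      have h := Subgroup.mul_mem _ (hwc s) (hwc s)
      rw [show w * w * s * (w * w)⁻¹ * s⁻¹ =
        w * (w * s * w⁻¹ * s⁻¹) * w⁻¹ * (w * s * w⁻¹ * s⁻¹) by group,
        mem_center_iff.mp (hwc s) w, mul_inv_cancel_right]
      exact h
  obtain ⟨k, hk⟩ := P.isPGroup' u
  obtain ⟨w, hww, hwZ, hwc⟩ := hlast k u hk huZ hcomm
  obtain ⟨s, hs⟩ : ∃ s : (P : Subgroup G), w * s ≠ s * w := by
    by_contra! h
    exact hwZ (mem_center_iff.mpr fun v => (h v).symm)
  have hsq2 : ∀ s : (P : Subgroup G), w * s ≠ s * w → s * s = 1 := by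
    intro s hs
    by_contra h
    refine hs (hcentralizer s ?_ h w ?_).eq
    · intro e
      exact h (by rw [e, mul_one])
    set d := w * s * w⁻¹ * s⁻¹ with hd
    have hd0 := mem_center_iff.mp (hwc s)
    have hdd : d * d = 1 := by
      calc d * d = (w * d * w⁻¹) * d := by rw [hd0 w, mul_inv_cancel_right]
        _ = (w * w) * s * (w * w)⁻¹ * s⁻¹ := by rw [hd]; group
        _ = 1 := by rw [hww]; group
    show w * (s * s) = (s * s) * w
    have h1 : w * s = d * (s * w) := by rw [hd]; group
    calc w * (s * s) = (w * s) * s := (mul_assoc _ _ _).symm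
      _ = d * s * (w * s) := by (conv_lhs => rw [h1]); group
      _ = d * (s * d) * (s * w) := by rw [h1]; group
      _ = d * (d * s) * (s * w) := by rw [hd0 s]
      _ = (d * d) * (s * s * w) := by group
      _ = _ := by rw [hdd, one_mul]
  have h1 := hsq2 s hs
  have h2 := hsq2 (w * s) fun e => hs (mul_left_cancel (a := w) (e.trans (mul_assoc _ _ _)))
  apply hs
  calc w * s = (w * s) * ((w * s) * (w * s))⁻¹ := by rw [h2]; group
    _ = s⁻¹ * w⁻¹ := by group
    _ = s * w := by rw [inv_eq_of_mul_eq_one_right h1, inv_eq_of_mul_eq_one_right hww]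

/-- Every centralizer contains a full Sylow subgroup whose centre determines it. -/
theorem exists_sylow_centre (hmin : NoInclusion G) {g : G} (hg : g ≠ 1) :
    ∃ (r : ℕ) (_ : Fact r.Prime) (R : Sylow r G), (R : Subgroup G) ≠ ⊥ ∧
      (R : Subgroup G) ≤ centralizer ({g} : Set G) ∧
      ∀ z : (R : Subgroup G), z ∈ center (R : Subgroup G) → z ≠ 1 →
        centralizer ({(z : G)} : Set G) = centralizer ({g} : Set G) := by
  obtain ⟨p, x, hp, hx, hC, hxg⟩ := eq_power hmin hg
  haveI := Fact.mk hp
  have hx1 : x ≠ 1 := fun e => hp.ne_one (by rw [← hx, e, orderOf_one])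
  by_cases hna : ∀ a ∈ centralizer ({g} : Set G), ∀ b ∈ centralizer ({g} : Set G), a * b = b * a
  · obtain ⟨R, hR⟩ := (IsPGroup.of_card (p := p) (n := 1) (G := zpowers x)
      (by rw [Nat.card_zpowers, hx, pow_one])).exists_le_sylow
    have hxR : x ∈ (R : Subgroup G) := hR (mem_zpowers x)
    have key : ∀ z : (R : Subgroup G), z ∈ center (R : Subgroup G) → z ≠ 1 →
        centralizer ({(z : G)} : Set G) = centralizer ({g} : Set G) := by
      intro z hz hz1
      have hzx : (z : G) ∈ centralizer ({g} : Set G) := by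
        rw [← hC, mem_centralizer_singleton_iff]
        exact (congrArg Subtype.val (mem_center_iff.mp hz ⟨x, hxR⟩)).symm
      exact (hmin g _ hg (fun e => hz1 (Subtype.ext e)) fun s hs =>
        mem_centralizer_singleton_iff.mpr (hna s hs _ hzx)).symm
    have : Nontrivial (R : Subgroup G) := ⟨⟨⟨x, hxR⟩, 1, fun e => hx1 (congrArg Subtype.val e)⟩⟩
    have : Nontrivial (center (R : Subgroup G)) := R.isPGroup'.center_nontrivial
    obtain ⟨z, hz⟩ := exists_ne (1 : center (R : Subgroup G))
    refine ⟨p, inferInstance, R, (nontrivial_iff_ne_bot _).mp inferInstance, ?_, key⟩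
    rw [← key z z.2 fun e => hz (Subtype.ext e)]
    exact fun s hs => mem_centralizer_singleton_iff.mpr
      (congrArg Subtype.val (mem_center_iff.mp z.2 ⟨s, hs⟩))
  · obtain ⟨q, hq, P, hP⟩ := exists_sylow_of_noncomm hmin hg hna
    refine ⟨q, hq, P, ?_, hP.ge, fun z hz hz1 => (hmin g _ hg (fun e => hz1 (Subtype.ext e)) ?_).symm⟩
    · intro h
      exact hg (mem_bot.mp (h ▸ hP ▸ (mem_centralizer_singleton_iff.mpr rfl : g ∈ centralizer ({g} : Set G))))
    · rw [hP]
      exact fun s hs => mem_centralizer_singleton_iff.mpr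
        (congrArg Subtype.val (mem_center_iff.mp hz ⟨s, hs⟩))

theorem conj_centralizer (q h : G) :
    (centralizer ({h} : Set G)).map (MulAut.conj q).toMonoidHom = centralizer ({q * h * q⁻¹} : Set G) := by
  ext s
  constructor
  · rintro ⟨t, ht, rfl⟩
    rw [mem_centralizer_singleton_iff]
    show MulAut.conj q t * MulAut.conj q h = MulAut.conj q h * MulAut.conj q t
    rw [← map_mul, ← map_mul, mem_centralizer_singleton_iff.mp ht]
  · intro hs
    refine ⟨q⁻¹ * s * q, mem_centralizer_singleton_iff.mpr ?_, by simp [mul_assoc]⟩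
    calc q⁻¹ * s * q * h = q⁻¹ * (s * (q * h * q⁻¹)) * q := by group
      _ = q⁻¹ * (q * h * q⁻¹ * s) * q := by rw [mem_centralizer_singleton_iff.mp hs]
      _ = _ := by group

/-- Centralizers of the same order are conjugate. -/
theorem exists_conj (hmin : NoInclusion G) {g h : G} (hg : g ≠ 1) (hh : h ≠ 1)
    (hcard : Nat.card (centralizer ({g} : Set G)) = Nat.card (centralizer ({h} : Set G))) :
    ∃ q : G, centralizer ({h} : Set G) =
      (centralizer ({g} : Set G)).map (MulAut.conj q).toMonoidHom := by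
  obtain ⟨r, _, R, hR1, hR, hRz⟩ := exists_sylow_centre hmin hg
  obtain ⟨n, hn⟩ := R.isPGroup'.exists_card_eq
  have hrd : r ∣ Nat.card (centralizer ({h} : Set G)) := by
    rw [← hcard]
    refine dvd_trans ?_ (card_dvd_of_le hR)
    rw [hn]
    exact dvd_pow_self r fun e => hR1 (Subgroup.eq_bot_of_card_eq _ (by rw [hn, e, pow_zero]))
  have : Nontrivial (R : Subgroup G) := (nontrivial_iff_ne_bot _).mpr hR1
  -- a Sylow `r`-subgroup of `G` inside `C(h)`
  obtain ⟨Q, hQ⟩ := Sylow.exists_subgroup_card_pow_prime (G := centralizer ({h} : Set G)) r (n := n)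
    (by rw [← hcard, ← hn]; exact card_dvd_of_le hR)
  have hQp : IsPGroup r (Q.map (Subgroup.subtype _)) := (IsPGroup.of_card hQ).map _
  obtain ⟨S, hS⟩ := hQp.exists_le_sylow
  have hSeq : (S : Subgroup G) = Q.map (Subgroup.subtype _) := by
    refine (Subgroup.eq_of_le_of_card_ge hS ?_).symm
    rw [card_map_of_injective (subtype_injective _), hQ, ← hn, S.card_eq_multiplicity,
      R.card_eq_multiplicity]
  obtain ⟨q, hq⟩ := MulAction.exists_smul_eq G R S
  have : Nontrivial (center (R : Subgroup G)) := R.isPGroup'.center_nontrivial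
  obtain ⟨z, hz⟩ := exists_ne (1 : center (R : Subgroup G))
  have hz1 : ((z : (R : Subgroup G)) : G) ≠ 1 := fun e => hz (Subtype.ext (Subtype.ext e))
  refine ⟨q, ?_⟩
  rw [← hRz z z.2 fun e => hz (Subtype.ext e), conj_centralizer]
  have hzq : q * ((z : (R : Subgroup G)) : G) * q⁻¹ ∈ centralizer ({h} : Set G) := by
    have : q * ((z : (R : Subgroup G)) : G) * q⁻¹ ∈ (S : Subgroup G) := by
      rw [← hq, Sylow.coe_subgroup_smul]
      exact ⟨_, (z : (R : Subgroup G)).2, rfl⟩
    rw [hSeq] at this
    exact map_subtype_le _ this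
  refine (Subgroup.eq_of_le_of_card_ge ?_ ?_)
  · by_cases hna : ∀ a ∈ centralizer ({h} : Set G), ∀ b ∈ centralizer ({h} : Set G), a * b = b * a
    · exact fun s hs => mem_centralizer_singleton_iff.mpr (hna s hs _ hzq)
    · obtain ⟨p', _, P', hP'⟩ := exists_sylow_of_noncomm hmin hh hna
      intro s hs
      rw [hP'] at hs
      have hsub : (P' : Subgroup G) = (S : Subgroup G) := by
        have hle : (S : Subgroup G) ≤ (P' : Subgroup G) := by
          rw [← hP', hSeq]; exact map_subtype_le _
        have hpr : p' = r := by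
          obtain ⟨k, hk⟩ := P'.isPGroup'.exists_card_eq
          have h1 : r ∣ p' ^ k := by rw [← hk, ← hP']; exact hrd
          exact ((Nat.prime_dvd_prime_iff_eq Fact.out Fact.out).mp
            ((Fact.out : r.Prime).dvd_of_dvd_pow h1)).symm
        subst hpr
        exact (S.is_maximal' P'.isPGroup' hle)
      rw [hsub, ← hq, Sylow.coe_subgroup_smul] at hs
      obtain ⟨t, ht, rfl⟩ := hs
      rw [mem_centralizer_singleton_iff]
      show MulAut.conj q t * MulAut.conj q _ = MulAut.conj q _ * MulAut.conj q t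
      rw [← map_mul, ← map_mul]
      exact congrArg _ (congrArg Subtype.val (mem_center_iff.mp z.2 ⟨t, ht⟩))
  · rw [← conj_centralizer, card_map_of_injective (MulAut.conj q).injective, hRz z z.2 fun e => hz (Subtype.ext e),
      hcard]

/-- Elements determined up to conjugacy by a subgroup `M` stabilizing a set `Z`. -/
theorem ncard_le_index_mul (M : Subgroup G) {Z X : Set G}
    (hMZ : ∀ m ∈ M, ∀ z ∈ Z, m * z * m⁻¹ ∈ Z) (hX : ∀ x ∈ X, ∃ q : G, ∃ z ∈ Z, x = q * z * q⁻¹) :
    X.ncard ≤ M.index * Z.ncard := by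
  have hex : ∀ x : X, ∃ pr : (G ⧸ M) × Z, (x : G) = pr.1.out * (pr.2 : G) * pr.1.out⁻¹ := by
    intro x
    obtain ⟨q, z, hz, hxq⟩ := hX x x.2
    have hmem : (QuotientGroup.mk q : G ⧸ M).out⁻¹ * q ∈ M :=
      QuotientGroup.eq.mp (QuotientGroup.out_eq' _)
    refine ⟨(QuotientGroup.mk q, ⟨_, hMZ _ hmem z hz⟩), ?_⟩
    rw [hxq]
    group
  choose f hf using hex
  have hinj : Function.Injective f := fun x y h => Subtype.ext (by rw [hf x, hf y, h])
  have h := Nat.card_le_card_of_injective f hinj
  rwa [Nat.card_coe_set_eq, Nat.card_prod, Nat.card_coe_set_eq] at h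

/-- The elements whose centralizers have order `m`. -/
def ofOrder (G : Type u) [Group G] (m : ℕ) : Set G :=
  {h | h ≠ 1 ∧ Nat.card (centralizer ({h} : Set G)) = m}

theorem exists_conj_mem (hmin : NoInclusion G) {g : G} (hg : g ≠ 1) :
    ∀ x ∈ ofOrder G (Nat.card (centralizer ({g} : Set G))), ∃ q z : G,
      z ≠ 1 ∧ z ∈ centralizer ({g} : Set G) ∧
        (∀ s ∈ centralizer ({g} : Set G), s * z = z * s) ∧ x = q * z * q⁻¹ := by
  rintro x ⟨hx, hxc⟩
  obtain ⟨q, hq⟩ := exists_conj hmin hg hx hxc.symm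
  have hmem : x ∈ (centralizer ({g} : Set G)).map (MulAut.conj q).toMonoidHom :=
    hq ▸ mem_centralizer_singleton_iff.mpr rfl
  obtain ⟨z, hz, hze⟩ := hmem
  have hze' : q * z * q⁻¹ = x := hze
  refine ⟨q, z, fun e => hx (by rw [← hze', e]; group), hz, fun s hs => ?_, hze'.symm⟩
  have h : q * s * q⁻¹ ∈ centralizer ({x} : Set G) := hq ▸ ⟨s, hs, rfl⟩
  rw [mem_centralizer_singleton_iff, ← hze'] at h
  calc s * z = q⁻¹ * (q * s * q⁻¹ * (q * z * q⁻¹)) * q := by group
    _ = q⁻¹ * (q * z * q⁻¹ * (q * s * q⁻¹)) * q := by rw [h]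
    _ = _ := by group

/-- No abelian centralizer of a nonidentity element is self-normalizing. -/
def SelfNormFree (G : Type u) [Group G] : Prop :=
  ∀ g : G, g ≠ 1 → (∀ a ∈ centralizer ({g} : Set G), ∀ b ∈ centralizer ({g} : Set G), a * b = b * a) →
    (centralizer ({g} : Set G)).relIndex (normalizer (centralizer ({g} : Set G) : Set G)) ≠ 1

theorem selfNormFree_of_simple [IsSimpleGroup G] (hG : ¬ ∀ a b : G, a * b = b * a)
    (hmin : NoInclusion G) : SelfNormFree G := by
  intro g hg hna
  set A := centralizer ({g} : Set G) with hA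
  set N := normalizer (A : Set G) with hN
  obtain ⟨r, _, R, hR1, hR, hRz⟩ := exists_sylow_centre hmin hg
  intro h1
  have hNA : N ≤ A := relIndex_eq_one.mp h1
  have : Nontrivial (R : Subgroup G) := (nontrivial_iff_ne_bot _).mpr hR1
  have : Nontrivial (center (R : Subgroup G)) := R.isPGroup'.center_nontrivial
  obtain ⟨z, hz⟩ := exists_ne (1 : center (R : Subgroup G))
  set z' : G := ((z : (R : Subgroup G)) : G) with hz'
  have hz1 : z' ≠ 1 := fun e => hz (Subtype.ext (Subtype.ext e))
  have hnR : normalizer ((R : Subgroup G) : Set G) ≤ centralizer ((R : Subgroup G) : Set G) := by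
    intro n hn
    have hnzA : n * z' * n⁻¹ ∈ A :=
      hR ((mem_normalizer_iff.mp hn z').mp (z : (R : Subgroup G)).2)
    have e1 : centralizer ({n * z' * n⁻¹} : Set G) = A :=
      (hmin g _ hg (fun e => hz1 (conj_eq_one_iff.mp e))
        fun s hs => mem_centralizer_singleton_iff.mpr (hna s hs _ hnzA)).symm
    have e2 : A.map (MulAut.conj n).toMonoidHom = A := by
      conv_lhs => rw [show A = centralizer ({z'} : Set G) from
        (hRz z z.2 fun e => hz (Subtype.ext e)).symm]
      rw [conj_centralizer, e1]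
    have hnA : n ∈ A := hNA (CfsgLib.InvChar.map_conj_eq_iff.mp e2)
    exact mem_centralizer_iff.mpr fun s hs => hna s (hR hs) n hnA
  rcases CfsgLib.Transfer.simple_of_hasNormalPComplement
      (CfsgLib.Transfer.hasNormalPComplement_of_normalizer_le R hnR) with h | h
  · obtain ⟨n, hn⟩ := R.isPGroup'.exists_card_eq
    refine h (dvd_trans ?_ (hn ▸ card_subgroup_dvd_card (R : Subgroup G)))
    exact dvd_pow_self r fun e => hR1 (Subgroup.eq_bot_of_card_eq _ (by rw [hn, e, pow_zero]))
  · have : Nontrivial (center G) := h.center_nontrivial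
    obtain ⟨c, hc⟩ := exists_ne (1 : center G)
    exact hG (CfsgLib.Burnside.isMulCommutative_of_mem_center
      (fun e => hc (Subtype.ext e)) c.2)

theorem bounds_of (hsn : SelfNormFree G) (hmin : NoInclusion G)
    {g : G} (hg : g ≠ 1) :
    ((¬ ∀ a ∈ centralizer ({g} : Set G), ∀ b ∈ centralizer ({g} : Set G), a * b = b * a) →
      9 * (ofOrder G (Nat.card (centralizer ({g} : Set G)))).ncard < Nat.card G ∧
        ¬ 2 ∣ Nat.card (centralizer ({g} : Set G)) ∧ 27 ≤ Nat.card G) ∧
    2 * (ofOrder G (Nat.card (centralizer ({g} : Set G)))).ncard < Nat.card G ∧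
    ((2 ∣ Nat.card (centralizer ({g} : Set G)) ∨ ¬ 2 ∣ Nat.card G) →
      3 * (ofOrder G (Nat.card (centralizer ({g} : Set G)))).ncard < Nat.card G) := by
  set A := centralizer ({g} : Set G) with hA
  have hgA : g ∈ A := mem_centralizer_singleton_iff.mpr rfl
  have hXle := exists_conj_mem hmin hg
  by_cases hna : ∀ a ∈ A, ∀ b ∈ A, a * b = b * a
  · set N := normalizer (A : Set G) with hN
    have hX : (ofOrder G (Nat.card A)).ncard ≤ N.index * ((A : Set G) \ {1}).ncard := by
      refine ncard_le_index_mul N ?_ fun x hx => ?_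
      · intro m hm z hz
        exact ⟨(mem_normalizer_iff.mp hm z).mp hz.1, fun e => hz.2 (conj_eq_one_iff.mp e)⟩
      · obtain ⟨q, z, hz1, hzA, -, rfl⟩ := hXle x hx
        exact ⟨q, z, ⟨hzA, hz1⟩, rfl⟩
    rw [Set.ncard_diff_singleton_of_mem A.one_mem,
      show (A : Set G).ncard = Nat.card A from (Nat.card_coe_set_eq _).symm] at hX
    have hprod : A.relIndex N * N.index * Nat.card A = Nat.card G := by
      rw [relIndex_mul_index le_normalizer, mul_comm, card_mul_index]
    have hne : A.relIndex N ≠ 1 := hsn g hg hna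
    have he0 : A.relIndex N ≠ 0 := fun h => Nat.card_pos.ne' (by rw [← hprod, h]; simp)
    have hlt : ∀ e, e ≤ A.relIndex N → 1 ≤ e →
        e * (ofOrder G (Nat.card A)).ncard < Nat.card G := by
      intro e he he1
      calc e * (ofOrder G (Nat.card A)).ncard ≤ A.relIndex N * (N.index * (Nat.card A - 1)) :=
            Nat.mul_le_mul he hX
        _ < A.relIndex N * (N.index * Nat.card A) := by
            have hA0 : 0 < Nat.card A := Nat.card_pos
            have hN0 : 0 < N.index := Nat.pos_of_ne_zero index_ne_zero_of_finite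
            exact Nat.mul_lt_mul_of_pos_left (Nat.mul_lt_mul_of_pos_left (by omega) hN0) (by omega)
        _ = _ := by rw [← mul_assoc, hprod]
    refine ⟨fun h => absurd hna h, hlt 2 (by omega) (by omega), fun h2 => hlt 3 ?_ (by omega)⟩
    suffices ¬ 2 ∣ A.relIndex N by omega
    intro hd
    rcases h2 with h2 | h2
    · haveI : Fact (Nat.Prime 2) := ⟨Nat.prime_two⟩
      obtain ⟨⟨s, hs⟩, hso⟩ := exists_prime_orderOf_dvd_card' (G := A) 2 h2
      rw [orderOf_mk] at hso
      obtain ⟨S, hS⟩ := (IsPGroup.of_card (p := 2) (n := 1) (G := zpowers s)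
        (by rw [Nat.card_zpowers, hso, pow_one])).exists_le_sylow
      have hsS : s ∈ (S : Subgroup G) := hS (mem_zpowers s)
      have hs1 : s ≠ 1 := fun e => by rw [e, orderOf_one] at hso; omega
      have : Nontrivial (S : Subgroup G) := ⟨⟨⟨s, hsS⟩, 1, fun e => hs1 (congrArg Subtype.val e)⟩⟩
      have : Nontrivial (center (S : Subgroup G)) := S.isPGroup'.center_nontrivial
      obtain ⟨z, hz⟩ := exists_ne (1 : center (S : Subgroup G))
      have eA : centralizer ({s} : Set G) = A := (hmin g s hg hs1 fun y hy =>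
        mem_centralizer_singleton_iff.mpr (hna y hy s hs)).symm
      have hzA : ((z : (S : Subgroup G)) : G) ∈ A := by
        rw [← eA, mem_centralizer_singleton_iff]
        exact (congrArg Subtype.val (mem_center_iff.mp z.2 ⟨s, hsS⟩)).symm
      have eZ := hmin g _ hg (fun e => hz (Subtype.ext (Subtype.ext e))) fun y hy =>
        mem_centralizer_singleton_iff.mpr (hna y hy _ hzA)
      have hSA : (S : Subgroup G) ≤ A := by
        rw [hA, eZ]
        exact fun y hy => mem_centralizer_singleton_iff.mpr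
          (congrArg Subtype.val (mem_center_iff.mp z.2 ⟨y, hy⟩))
      exact S.not_dvd_index ((hd.trans ⟨N.index, (relIndex_mul_index le_normalizer).symm⟩).trans
        (index_dvd_of_le hSA))
    · exact h2 (hd.trans ⟨N.index * Nat.card A, by rw [← mul_assoc, hprod]⟩)
  · obtain ⟨p, hp, P, hP⟩ := exists_sylow_of_noncomm hmin hg hna
    have hnaP : ¬ ∀ a ∈ (P : Subgroup G), ∀ b ∈ (P : Subgroup G), a * b = b * a := hP ▸ hna
    have hp2 : p ≠ 2 := odd_of_noncomm hmin hg P hP hnaP
    have hp3 : 3 ≤ p := by have := hp.out.two_le; omega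
    set Z := center (P : Subgroup G) with hZ
    obtain ⟨k, hk⟩ := (P.isPGroup'.to_quotient Z).exists_card_eq
    have hk2 : 2 ≤ k := by
      by_contra hk'
      refine hnaP fun a ha b hb => ?_
      suffices h : (⟨a, ha⟩ : (P : Subgroup G)) * ⟨b, hb⟩ = ⟨b, hb⟩ * ⟨a, ha⟩ from
        congrArg Subtype.val h
      have : IsCyclic ((P : Subgroup G) ⧸ Z) := by
        rcases Nat.lt_succ_iff.mp (show k < 1 + 1 by omega) |> Nat.le_one_iff_eq_zero_or_eq_one.mp
          with rfl | rfl
        · haveI := (Nat.card_eq_one_iff_unique.mp (hk.trans (pow_zero p))).1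
          exact isCyclic_of_subsingleton
        · exact isCyclic_of_prime_card (hk.trans (pow_one p))
      exact commutative_of_cyclic_center_quotient (QuotientGroup.mk' Z)
        (QuotientGroup.ker_mk' Z).le ⟨a, ha⟩ ⟨b, hb⟩
    have hZ9 : 9 * Nat.card Z ≤ Nat.card (P : Subgroup G) := by
      rw [Subgroup.card_eq_card_quotient_mul_card_subgroup Z, hk]
      refine Nat.mul_le_mul_right _ ?_
      calc 9 = 3 ^ 2 := by norm_num
        _ ≤ p ^ 2 := Nat.pow_le_pow_left hp3 2
        _ ≤ p ^ k := Nat.pow_le_pow_right (by omega) hk2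
    have hX : (ofOrder G (Nat.card A)).ncard ≤
        (P : Subgroup G).index * ((Z.map (P : Subgroup G).subtype : Set G) \ {1}).ncard := by
      refine ncard_le_index_mul _ ?_ fun x hx => ?_
      · rintro m hm _ ⟨⟨z, hz, rfl⟩, hz1⟩
        rw [show m * ((P : Subgroup G).subtype z) * m⁻¹ = (z : G) by
          show m * (z : G) * m⁻¹ = z
          rw [show m * (z : G) = (z : G) * m from congrArg Subtype.val (mem_center_iff.mp hz ⟨m, hm⟩),
            mul_inv_cancel_right]]
        exact ⟨⟨z, hz, rfl⟩, hz1⟩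
      · obtain ⟨q, z, hz1, hzA, hzc, rfl⟩ := hXle x hx
        have hzP : z ∈ (P : Subgroup G) := hP ▸ hzA
        refine ⟨q, z, ⟨⟨⟨z, hzP⟩, mem_center_iff.mpr fun y => Subtype.ext ?_, rfl⟩, hz1⟩, rfl⟩
        exact hzc y (hP.symm ▸ y.2)
    rw [Set.ncard_diff_singleton_of_mem (one_mem _),
      show ((Z.map (P : Subgroup G).subtype : Subgroup G) : Set G).ncard = Nat.card Z from
        ((Nat.card_coe_set_eq _).symm.trans (card_subtype _ _))] at hX
    have hcG := (P : Subgroup G).card_mul_index
    have hI : 0 < (P : Subgroup G).index := Nat.pos_of_ne_zero index_ne_zero_of_finite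
    have hZ0 : 0 < Nat.card Z := Nat.card_pos
    have hX9 : 9 * (ofOrder G (Nat.card A)).ncard < Nat.card G := by
      calc 9 * (ofOrder G (Nat.card A)).ncard ≤ 9 * ((P : Subgroup G).index * (Nat.card Z - 1)) :=
            Nat.mul_le_mul_left 9 hX
        _ < 9 * ((P : Subgroup G).index * Nat.card Z) :=
            Nat.mul_lt_mul_of_pos_left (Nat.mul_lt_mul_of_pos_left (by omega) hI) (by norm_num)
        _ = (P : Subgroup G).index * (9 * Nat.card Z) := by ring
        _ ≤ (P : Subgroup G).index * Nat.card (P : Subgroup G) := Nat.mul_le_mul_left _ hZ9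
        _ = _ := by rw [mul_comm, hcG]
    refine ⟨fun _ => ⟨hX9, ?_, ?_⟩, by omega, fun _ => by omega⟩
    · rw [hA, hP]
      obtain ⟨n, hn⟩ := P.isPGroup'.exists_card_eq
      rw [hn]
      intro h
      exact hp2 ((Nat.prime_dvd_prime_iff_eq Nat.prime_two hp.out).mp
        (Nat.prime_two.dvd_of_dvd_pow h)).symm
    · have hnt : Nontrivial (P : Subgroup G) := ⟨⟨⟨g, hP ▸ hgA⟩, 1,
        fun e => hg (congrArg Subtype.val e)⟩⟩
      have : Nontrivial Z := P.isPGroup'.center_nontrivial
      obtain ⟨l, hl⟩ := (P.isPGroup'.to_subgroup Z).exists_card_eq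
      have hl1 : 3 ≤ Nat.card Z := by
        rw [hl]
        refine hp3.trans (Nat.le_self_pow (fun e => ?_) p)
        have := Finite.one_lt_card (α := Z)
        rw [hl, e, pow_zero] at this
        omega
      have h1 : Nat.card (P : Subgroup G) ≤ Nat.card G := card_le_card_group _
      omega

/-- Three class sizes and no inclusion: abelian centralizers. -/
theorem ca_of (hsn : SelfNormFree G) (hmin : NoInclusion G)
    {g₁ g₂ g₃ : G} (h₁ : g₁ ≠ 1) (h₂ : g₂ ≠ 1) (h₃ : g₃ ≠ 1)
    (hthree : ∀ h : G, h ≠ 1 →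
      Nat.card (centralizer ({h} : Set G)) = Nat.card (centralizer ({g₁} : Set G)) ∨
      Nat.card (centralizer ({h} : Set G)) = Nat.card (centralizer ({g₂} : Set G)) ∨
      Nat.card (centralizer ({h} : Set G)) = Nat.card (centralizer ({g₃} : Set G))) :
    ∀ g : G, g ≠ 1 → ∀ a ∈ centralizer ({g} : Set G), ∀ b ∈ centralizer ({g} : Set G),
      a * b = b * a := by
  intro g hg
  by_contra hna
  obtain ⟨B9, hodd, h27⟩ := (bounds_of hsn hmin hg).1 hna
  obtain ⟨-, B1, C1⟩ := bounds_of hsn hmin h₁
  obtain ⟨-, B2, C2⟩ := bounds_of hsn hmin h₂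
  obtain ⟨-, B3, C3⟩ := bounds_of hsn hmin h₃
  set m := fun h : G => Nat.card (centralizer ({h} : Set G)) with hm
  have hcover : Nat.card G ≤ 1 + ((ofOrder G (m g₁)).ncard + (ofOrder G (m g₂)).ncard +
      (ofOrder G (m g₃)).ncard) := by
    have hsub : (Set.univ : Set G) ⊆
        {1} ∪ (ofOrder G (m g₁) ∪ ofOrder G (m g₂) ∪ ofOrder G (m g₃)) := by
      intro h _
      by_cases h1 : h = 1
      · exact Or.inl h1
      · rcases hthree h h1 with e | e | e
        · exact Or.inr (Or.inl (Or.inl ⟨h1, e⟩))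
        · exact Or.inr (Or.inl (Or.inr ⟨h1, e⟩))
        · exact Or.inr (Or.inr ⟨h1, e⟩)
    have h := Set.ncard_le_ncard hsub (Set.toFinite _)
    rw [Set.ncard_univ] at h
    refine h.trans ((Set.ncard_union_le _ _).trans ?_)
    rw [Set.ncard_singleton]
    exact Nat.add_le_add_left
      ((Set.ncard_union_le _ _).trans (Nat.add_le_add_right (Set.ncard_union_le _ _) _)) 1
  by_cases h2 : 2 ∣ Nat.card G
  · haveI : Fact (Nat.Prime 2) := ⟨Nat.prime_two⟩
    obtain ⟨t, ht⟩ := exists_prime_orderOf_dvd_card' (G := G) 2 h2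
    have ht1 : t ≠ 1 := fun e => by rw [e, orderOf_one] at ht; omega
    have hteven : 2 ∣ Nat.card (centralizer ({t} : Set G)) :=
      ht ▸ Subgroup.orderOf_dvd_natCard _ (mem_centralizer_singleton_iff.mpr rfl)
    rcases hthree g hg with e | e | e <;> rw [e] at B9 hodd <;>
      rcases hthree t ht1 with e' | e' | e' <;> rw [e'] at hteven <;>
      first
        | exact hodd hteven
        | (have := C1 (Or.inl hteven); simp only [hm] at hcover; omega)
        | (have := C2 (Or.inl hteven); simp only [hm] at hcover; omega)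
        | (have := C3 (Or.inl hteven); simp only [hm] at hcover; omega)
  · have := C1 (Or.inr h2)
    have := C2 (Or.inr h2)
    have := C3 (Or.inr h2)
    rcases hthree g hg with e | e | e <;> rw [e] at B9 <;> simp only [hm] at hcover <;> omega

/-- The simple case. -/
theorem ca [IsSimpleGroup G] (hG : ¬ ∀ a b : G, a * b = b * a) (hmin : NoInclusion G)
    {g₁ g₂ g₃ : G} (h₁ : g₁ ≠ 1) (h₂ : g₂ ≠ 1) (h₃ : g₃ ≠ 1)
    (hthree : ∀ h : G, h ≠ 1 →
      Nat.card (centralizer ({h} : Set G)) = Nat.card (centralizer ({g₁} : Set G)) ∨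
      Nat.card (centralizer ({h} : Set G)) = Nat.card (centralizer ({g₂} : Set G)) ∨
      Nat.card (centralizer ({h} : Set G)) = Nat.card (centralizer ({g₃} : Set G))) :
    ∀ g : G, g ≠ 1 → ∀ a ∈ centralizer ({g} : Set G), ∀ b ∈ centralizer ({g} : Set G),
      a * b = b * a :=
  ca_of (selfNormFree_of_simple hG hmin) hmin h₁ h₂ h₃ hthree

end CfsgLib.InvChar.RankThree
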