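import Cfsg.Agent.Lib.InvChar.RegularAbelianChar
import Cfsg.Agent.Lib.Recog.ClassSizesPSLTwo

/-!
A simple group of conjugate rank three has no proper inclusion between centralizers.
-/

set_option autoImplicit false

namespace CfsgLib.InvChar.RankThree

open Subgroup
open CfsgLib.Recog.ClassSizesPSLTwo (cs centralizer_mul centralizer_le_pow exists_sylow_le)

universe u

variable {G : Type u} [Group G] [Finite G]

theorem exists_mul_of_coprime_index {A B : Subgroup G} (h : Nat.Coprime A.index B.index) :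
    (A ⊓ B).index = A.index * B.index ∧ ∀ g : G, ∃ b ∈ B, ∃ a ∈ A, g = b * a := by
  have h1 : A.index * B.index ∣ (A ⊓ B).index :=
    h.mul_dvd_of_dvd_of_dvd (index_dvd_of_le inf_le_left) (index_dvd_of_le inf_le_right)
  have hidx : (A ⊓ B).index = A.index * B.index :=
    le_antisymm (index_inf_le ..) (Nat.le_of_dvd (Nat.pos_of_ne_zero index_ne_zero_of_finite) h1)
  refine ⟨hidx, fun g => ?_⟩
  have hst : MulAction.stabilizer B ((1 : G) : G ⧸ A) = A.subgroupOf B := by
    ext b
    rw [MulAction.mem_stabilizer_iff, mem_subgroupOf]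
    show (QuotientGroup.mk ((b : G) * 1) : G ⧸ A) = QuotientGroup.mk 1 ↔ _
    rw [mul_one, QuotientGroup.eq, mul_one, inv_mem_iff]
  have hcard : (MulAction.orbit B ((1 : G) : G ⧸ A)).ncard = A.index := by
    rw [← MulAction.index_stabilizer, hst]
    show A.relIndex B = A.index
    have h2 : (A ⊓ B).relIndex B * B.index = (A ⊓ B).index := relIndex_mul_index inf_le_right
    rw [hidx, inf_relIndex_right] at h2
    exact Nat.eq_of_mul_eq_mul_right (Nat.pos_of_ne_zero index_ne_zero_of_finite) h2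
  have huniv : MulAction.orbit B ((1 : G) : G ⧸ A) = Set.univ :=
    Set.eq_of_subset_of_ncard_le (Set.subset_univ _) (by rw [hcard, Set.ncard_univ]; exact le_rfl)
  obtain ⟨b, hb⟩ : (QuotientGroup.mk g : G ⧸ A) ∈ MulAction.orbit B ((1 : G) : G ⧸ A) := by
    rw [huniv]; exact Set.mem_univ _
  have hb' : (QuotientGroup.mk ((b : G) * 1) : G ⧸ A) = QuotientGroup.mk g := hb
  rw [mul_one, QuotientGroup.eq] at hb'
  exact ⟨b, b.2, _, hb', by group⟩

theorem eq_of_le_of_cs {g h : G} (hle : centralizer ({g} : Set G) ≤ centralizer ({h} : Set G))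
    (he : cs g = cs h) : centralizer ({g} : Set G) = centralizer ({h} : Set G) := by
  refine Subgroup.eq_of_le_of_card_ge hle (le_of_eq ?_)
  have h1 := (centralizer ({g} : Set G)).card_mul_index
  have h2 := (centralizer ({h} : Set G)).card_mul_index
  rw [show (centralizer ({g} : Set G)).index = (centralizer ({h} : Set G)).index from he] at h1
  exact Nat.eq_of_mul_eq_mul_right (Nat.pos_of_ne_zero index_ne_zero_of_finite) (h2.trans h1.symm)

theorem mul_ne_one_of_coprime {g h : G} (hg : g ≠ 1)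
    (hco : Nat.Coprime (orderOf g) (orderOf h)) : g * h ≠ 1 := by
  intro e
  rw [eq_inv_of_mul_eq_one_right e, orderOf_inv, Nat.coprime_self, orderOf_eq_one_iff] at hco
  exact hg hco

theorem exists_prime_order_pow {g : G} (hg : g ≠ 1) :
    ∃ r k : ℕ, r.Prime ∧ orderOf (g ^ k) = r := by
  obtain ⟨r, hr, hrd⟩ := Nat.exists_prime_and_dvd (orderOf_eq_one_iff.not.mpr hg)
  exact ⟨r, orderOf g / r, hr, orderOf_pow_orderOf_div (orderOf_pos g).ne' hrd⟩

variable [IsSimpleGroup G]

theorem one_lt_cs (hG : ¬ ∀ a b : G, a * b = b * a) {g : G} (hg : g ≠ 1) : 1 < cs g := by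
  have h0 : cs g ≠ 0 := index_ne_zero_of_finite
  have h1 : cs g ≠ 1 := fun h => hG (CfsgLib.Burnside.isMulCommutative_of_mem_center hg
    (CfsgLib.Recog.ClassSizesPSLTwo.mem_center_iff_cs.mp h))
  omega

theorem cs_ne_prime_pow (hG : ¬ ∀ a b : G, a * b = b * a) {g : G} (hg : g ≠ 1) {p k : ℕ}
    (hp : p.Prime) : cs g ≠ p ^ k := fun h => hG (by
  haveI := Fact.mk (CfsgLib.Burnside.prime_card_of_prime_power_class hp hg h)
  haveI : IsCyclic G := isCyclic_of_prime_card rfl
  exact fun a b => Std.Commutative.comm (self := IsMulCommutative.is_comm) a b)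

/-- Three class sizes `a ∣ c`, `b`, with a proper inclusion of centralizers: impossible. -/
theorem no_chain (hG : ¬ ∀ a b : G, a * b = b * a) {a b c : ℕ}
    (hval : ∀ g : G, g ≠ 1 → cs g = a ∨ cs g = b ∨ cs g = c) {w x₀ y₀ : G}
    (hw1 : w ≠ 1) (hx1 : x₀ ≠ 1) (hy1 : y₀ ≠ 1)
    (hlt : centralizer ({w} : Set G) < centralizer ({x₀} : Set G))
    (hw : cs w = c) (hx₀ : cs x₀ = a) (hy₀ : cs y₀ = b) (hab : a ≠ b) (hbc : b ≠ c) : False := by
  classical
  haveI : Fintype G := Fintype.ofFinite G
  have hdvd : ∀ {g h : G}, centralizer ({g} : Set G) ≤ centralizer ({h} : Set G) → cs h ∣ cs g :=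
    fun h => index_dvd_of_le h
  have ha1 : 1 < a := hx₀ ▸ one_lt_cs hG hx1
  have hb1 : 1 < b := hy₀ ▸ one_lt_cs hG hy1
  have hac : a ∣ c := hx₀ ▸ hw ▸ hdvd hlt.le
  have hne : a ≠ c := fun e => hlt.ne (eq_of_le_of_cs hlt.le (by rw [hw, hx₀, e]))
  have hcop : Nat.Coprime a b := by
    refine Nat.coprime_of_dvd fun p hp hpa hpb => ?_
    haveI := Fact.mk hp
    obtain ⟨g, hg1, hg⟩ : ∃ g : G, g ≠ 1 ∧ ¬ p ∣ cs g := by
      let P : Sylow p G := Classical.arbitrary _
      have hpG : p ∣ Nat.card G := hpa.trans (hx₀ ▸ index_dvd_card _)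
      have : Nontrivial (P : Subgroup G) := (nontrivial_iff_ne_bot _).mpr (P.ne_bot_of_dvd_card hpG)
      have : Nontrivial (center (P : Subgroup G)) := P.isPGroup'.center_nontrivial
      obtain ⟨z, hz⟩ := exists_ne (1 : center (P : Subgroup G))
      refine ⟨((z : (P : Subgroup G)) : G), fun h => hz (Subtype.ext (Subtype.ext h)), fun hd =>
        P.not_dvd_index (hd.trans (index_dvd_of_le fun q hq => mem_centralizer_singleton_iff.mpr
          (congrArg Subtype.val (mem_center_iff.mp z.2 ⟨q, hq⟩))))⟩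
    rcases hval g hg1 with h | h | h <;> rw [h] at hg
    · exact hg hpa
    · exact hg hpb
    · exact hg (hpa.trans hac)
  have nab : ¬ a ∣ b := fun h => by have := Nat.eq_one_of_dvd_coprimes hcop dvd_rfl h; omega
  have nba : ¬ b ∣ a := fun h => by have := Nat.eq_one_of_dvd_coprimes hcop h dvd_rfl; omega
  have nca : ¬ c ∣ a := fun h => hne (Nat.dvd_antisymm hac h)
  have ncb : ¬ c ∣ b := fun h => nab (hac.trans h)
  have hpow : ∀ (g : G) (k : ℕ), g ^ k ≠ 1 → (cs g = a ∨ cs g = b) → cs (g ^ k) = cs g ∧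
      centralizer ({g ^ k} : Set G) = centralizer ({g} : Set G) := by
    intro g k hk hg
    have hle := centralizer_le_pow g k
    have hd := hdvd hle
    have he : cs (g ^ k) = cs g := by
      rcases hg with hg | hg <;> rcases hval _ hk with h | h | h <;> rw [hg, h] at hd <;> rw [hg, h] <;>
        first | rfl | (exfalso; first | exact nba hd | exact nca hd | exact nab hd | exact ncb hd)
    exact ⟨he, (eq_of_le_of_cs hle he.symm).symm⟩
  have hprimeOrd : ∀ g : G, g ≠ 1 → (cs g = a ∨ cs g = b) → ∃ r g', r.Prime ∧ orderOf g' = r ∧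
      g' ≠ 1 ∧ cs g' = cs g ∧ centralizer ({g'} : Set G) = centralizer ({g} : Set G) := by
    intro g hg hgt
    obtain ⟨r, k, hr, hk⟩ := exists_prime_order_pow hg
    have h1 : g ^ k ≠ 1 := fun e => hr.ne_one (by rw [← hk, e, orderOf_one])
    exact ⟨r, _, hr, hk, h1, hpow g k h1 hgt⟩
  have hAB : ∀ u v : G, u ≠ 1 → v ≠ 1 → cs u = a → cs v = b → ¬ Commute u v := by
    intro u v hu hv hua hvb hcomm
    obtain ⟨-, hsurj⟩ := exists_mul_of_coprime_index
      (A := centralizer ({u} : Set G)) (B := centralizer ({v} : Set G)) (by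
        rw [show (centralizer ({u} : Set G)).index = a from hua,
          show (centralizer ({v} : Set G)).index = b from hvb]
        exact hcop)
    have hle : normalClosure ({u} : Set G) ≤ centralizer ({v} : Set G) := by
      rw [normalClosure, closure_le]
      intro z hz
      obtain ⟨u', hu', hconj⟩ := Group.mem_conjugatesOfSet_iff.mp hz
      rw [Set.mem_singleton_iff] at hu'
      rw [hu'] at hconj
      obtain ⟨g, rfl⟩ := isConj_iff.mp hconj
      obtain ⟨cv, hcv, cu, hcu, rfl⟩ := hsurj g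
      have h1 : cu * u * cu⁻¹ = u := by
        rw [mem_centralizer_singleton_iff.mp hcu, mul_inv_cancel_right]
      rw [show cv * cu * u * (cv * cu)⁻¹ = cv * (cu * u * cu⁻¹) * cv⁻¹ by group, h1]
      exact mul_mem (mul_mem hcv (mem_centralizer_singleton_iff.mpr hcomm.eq)) (inv_mem hcv)
    rcases (normalClosure_normal (s := ({u} : Set G))).eq_bot_or_eq_top with h | h
    · exact hu (mem_bot.mp (h ▸ subset_normalClosure rfl))
    · refine hG (CfsgLib.Burnside.isMulCommutative_of_mem_center hv ?_)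
      rw [h, top_le_iff] at hle
      exact mem_center_iff.mpr fun g => mem_centralizer_singleton_iff.mp (hle ▸ mem_top g)
  -- a centralizer of type `c` next to a commuting element of coprime order
  have hle_of : ∀ u g : G, u ≠ 1 → cs u = a → cs g = c → Commute u g →
      Nat.Coprime (orderOf u) (orderOf g) →
      centralizer ({g} : Set G) ≤ centralizer ({u} : Set G) := by
    intro u g hu hua hgc hcomm hco
    have hmul := centralizer_mul hcomm hco (orderOf_pos u).ne'
    have h1 : cs u ∣ cs (u * g) := hdvd (hmul.le.trans inf_le_left)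
    have h2 : cs g ∣ cs (u * g) := hdvd (hmul.le.trans inf_le_right)
    rw [hua] at h1
    rw [hgc] at h2
    rcases hval _ (mul_ne_one_of_coprime hu hco) with h | h | h <;> rw [h] at h1 h2
    · exact absurd h2 nca
    · exact absurd h1 nab
    · rw [← eq_of_le_of_cs (hmul.le.trans inf_le_right) (by rw [h, hgc]), hmul]
      exact inf_le_left
  have hD : ∀ u v : G, u ≠ 1 → v ≠ 1 → cs u = a → cs v = b →
      centralizer ({u} : Set G) ⊓ centralizer ({v} : Set G) = ⊥ := by
    intro u₁ v₁ hu₁ hv₁ hua₁ hvb₁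
    obtain ⟨p, u, hp, hup, hu, hua, hCu⟩ := hprimeOrd u₁ hu₁ (Or.inl hua₁)
    obtain ⟨q, v, hq, hvq, hv, hvb, hCv⟩ := hprimeOrd v₁ hv₁ (Or.inr hvb₁)
    rw [← hCu, ← hCv]
    rw [hua₁] at hua
    rw [hvb₁] at hvb
    by_contra hne'
    obtain ⟨⟨d₀, hd₀⟩, hd₀1⟩ := (ne_bot_iff_exists_ne_one).mp hne'
    obtain ⟨r, k, hr, hk⟩ := exists_prime_order_pow (g := d₀) fun e => hd₀1 (Subtype.ext e)
    set d := d₀ ^ k with hd
    have hdm := pow_mem hd₀ k
    have hd1 : d ≠ 1 := fun e => hr.ne_one (by rw [← hk, e, orderOf_one])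
    have hdu : Commute u d := (mem_centralizer_singleton_iff.mp hdm.1).symm
    have hdv : Commute v d := (mem_centralizer_singleton_iff.mp hdm.2).symm
    have hdc : cs d = c := by
      rcases hval d hd1 with h | h | h
      · exact absurd hdv.symm (hAB d v hd1 hv h hvb)
      · exact absurd hdu (hAB u d hu hd1 hua h)
      · exact h
    have hrp : p = r := by
      by_contra hne''
      have hle := hle_of u d hu hua hdc hdu (by
        rw [hup, hk]; exact (Nat.coprime_primes hp hr).mpr hne'')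
      exact hAB u v hu hv hua hvb
        (mem_centralizer_singleton_iff.mp (hle (mem_centralizer_singleton_iff.mpr hdv.eq))).symm
    have hrq : q = r := by
      by_contra hne''
      have hmul := centralizer_mul hdv (by rw [hvq, hk]; exact (Nat.coprime_primes hq hr).mpr hne'')
        (orderOf_pos v).ne'
      have h1 : cs v ∣ cs (v * d) := hdvd (hmul.le.trans inf_le_left)
      have h2 : cs d ∣ cs (v * d) := hdvd (hmul.le.trans inf_le_right)
      rw [hvb] at h1
      rw [hdc] at h2
      rcases hval _ (mul_ne_one_of_coprime (h := d) hv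
        (by rw [hvq, hk]; exact (Nat.coprime_primes hq hr).mpr hne'')) with h | h | h <;> rw [h] at h1 h2
      · exact nba h1
      · exact ncb h2
      · have hle : centralizer ({d} : Set G) ≤ centralizer ({v} : Set G) := by
          rw [← eq_of_le_of_cs (hmul.le.trans inf_le_right) (by rw [h, hdc]), hmul]
          exact inf_le_left
        exact hAB u v hu hv hua hvb
          (mem_centralizer_singleton_iff.mp (hle (mem_centralizer_singleton_iff.mpr hdu.eq)))
    haveI := Fact.mk hr
    by_cases hra : r ∣ a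
    · -- a conjugate of `u` lies in `C(v)`
      have hrb : ¬ r ∣ b := fun h => hr.not_dvd_one (hcop ▸ Nat.dvd_gcd hra h)
      obtain ⟨R, hR⟩ := exists_sylow_le (r := r) (centralizer ({v} : Set G))
        (by rw [show (centralizer ({v} : Set G)).index = b from hvb]; exact hrb)
      obtain ⟨R', hR'⟩ := (IsPGroup.of_card (p := r) (n := 1) (G := zpowers u)
        (by rw [Nat.card_zpowers, hup, hrp, pow_one])).exists_le_sylow
      obtain ⟨g, hg⟩ := MulAction.exists_smul_eq G R' R
      have hgu : g * u * g⁻¹ ∈ centralizer ({v} : Set G) := by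
        refine hR ?_
        rw [← hg, Sylow.coe_subgroup_smul]
        exact ⟨u, hR' (mem_zpowers u), rfl⟩
      exact hAB (g * u * g⁻¹) v (fun e => hu (conj_eq_one_iff.mp e)) hv
        (by rw [← hua]; exact CfsgLib.Recog.ClassSizesPSLTwo.cs_conj u g) hvb
        (mem_centralizer_singleton_iff.mp hgu)
    · obtain ⟨R, hR⟩ := exists_sylow_le (r := r) (centralizer ({u} : Set G))
        (by rw [show (centralizer ({u} : Set G)).index = a from hua]; exact hra)
      obtain ⟨R', hR'⟩ := (IsPGroup.of_card (p := r) (n := 1) (G := zpowers v)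
        (by rw [Nat.card_zpowers, hvq, hrq, pow_one])).exists_le_sylow
      obtain ⟨g, hg⟩ := MulAction.exists_smul_eq G R' R
      have hgv : g * v * g⁻¹ ∈ centralizer ({u} : Set G) := by
        refine hR ?_
        rw [← hg, Sylow.coe_subgroup_smul]
        exact ⟨v, hR' (mem_zpowers v), rfl⟩
      exact hAB u (g * v * g⁻¹) hu (fun e => hv (conj_eq_one_iff.mp e)) hua
        (by rw [← hvb]; exact CfsgLib.Recog.ClassSizesPSLTwo.cs_conj v g)
        (Commute.symm (mem_centralizer_singleton_iff.mp hgv))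
  have hcardG : Nat.card G = a * b := by
    obtain ⟨h1, -⟩ := exists_mul_of_coprime_index
      (A := centralizer ({x₀} : Set G)) (B := centralizer ({y₀} : Set G)) (by
        rw [show (centralizer ({x₀} : Set G)).index = a from hx₀,
          show (centralizer ({y₀} : Set G)).index = b from hy₀]
        exact hcop)
    rw [hD x₀ y₀ hx1 hy1 hx₀ hy₀, index_bot] at h1
    rw [h1]
    exact congrArg₂ (· * ·) hx₀ hy₀
  have hcardA : ∀ g : G, cs g = a → Nat.card (centralizer ({g} : Set G)) = b := by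
    intro g hg
    have h := (centralizer ({g} : Set G)).card_mul_index
    rw [show (centralizer ({g} : Set G)).index = a from hg, hcardG, mul_comm] at h
    exact Nat.eq_of_mul_eq_mul_left (by omega) h
  have hcardB : ∀ g : G, cs g = b → Nat.card (centralizer ({g} : Set G)) = a := by
    intro g hg
    have h := (centralizer ({g} : Set G)).card_mul_index
    rw [show (centralizer ({g} : Set G)).index = b from hg, hcardG] at h
    exact Nat.eq_of_mul_eq_mul_right (by omega) h
  have hcardC : ∀ g : G, cs g = c → Nat.card (centralizer ({g} : Set G)) * c = a * b := by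
    intro g hg
    have h := (centralizer ({g} : Set G)).card_mul_index
    rwa [show (centralizer ({g} : Set G)).index = c from hg, hcardG] at h
  have hord : ∀ g : G, (cs g = a ∨ cs g = c) → orderOf g ∣ b := by
    intro g hg
    have hmem : g ∈ centralizer ({g} : Set G) := mem_centralizer_singleton_iff.mpr rfl
    have h1 := Subgroup.orderOf_dvd_natCard _ hmem
    rcases hg with hg | hg
    · rwa [hcardA g hg] at h1
    · refine h1.trans ?_
      obtain ⟨k, hk⟩ := hac
      have h2 := hcardC g hg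
      rw [hk, ← mul_assoc, mul_comm (Nat.card _) a, mul_assoc] at h2
      exact Dvd.intro k (Nat.eq_of_mul_eq_mul_left (by omega) h2)
  -- the abelian centralizer of type `b`
  obtain ⟨q, y, hq, hyq, hy, hyb', hCy⟩ := hprimeOrd y₀ hy1 (Or.inr hy₀)
  have hyb : cs y = b := hyb'.trans hy₀
  set H := centralizer ({y} : Set G) with hHdef
  have hHtype : ∀ h ∈ H, h ≠ 1 → cs h = b := by
    intro h hh hh1
    have hda : orderOf h ∣ a := hcardB y hyb ▸ Subgroup.orderOf_dvd_natCard _ hh
    rcases hval h hh1 with e | e | e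
    · exact absurd (orderOf_eq_one_iff.mp (Nat.eq_one_of_dvd_coprimes hcop hda (hord h (Or.inl e)))) hh1
    · exact e
    · exact absurd (orderOf_eq_one_iff.mp (Nat.eq_one_of_dvd_coprimes hcop hda (hord h (Or.inr e)))) hh1
  have hsame : ∀ g ∈ H, ∀ h ∈ H, g ≠ 1 → h ≠ 1 → Commute g h →
      Nat.Coprime (orderOf g) (orderOf h) →
      centralizer ({g} : Set G) = centralizer ({h} : Set G) := by
    intro g hg h hh hg1 hh1 hcomm hco
    have hmul := centralizer_mul hcomm hco (orderOf_pos g).ne'
    have hgh := hHtype _ (H.mul_mem hg hh) (mul_ne_one_of_coprime hg1 hco)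
    have e1 := eq_of_le_of_cs (hmul.le.trans inf_le_left) (by rw [hgh, hHtype g hg hg1])
    have e2 := eq_of_le_of_cs (hmul.le.trans inf_le_right) (by rw [hgh, hHtype h hh hh1])
    rw [← e1, e2]
  have hH : ∀ h ∈ H, h ≠ 1 → centralizer ({h} : Set G) = H := by
    obtain ⟨q', hq', hq'd, hqq'⟩ : ∃ q' : ℕ, q'.Prime ∧ q' ∣ a ∧ q' ≠ q := by
      by_contra! hall
      exact cs_ne_prime_pow hG hx1 hq (hx₀.trans
        (Nat.eq_prime_pow_of_unique_prime_dvd (by omega) fun {d} hd hd' => hall d hd hd'))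
    haveI := Fact.mk hq'
    obtain ⟨⟨h₀, hh₀⟩, hh₀o⟩ := exists_prime_orderOf_dvd_card' (G := H) q' (by rwa [hcardB y hyb])
    rw [orderOf_mk] at hh₀o
    have hh₀1 : h₀ ≠ 1 := fun e => hq'.ne_one (by rw [← hh₀o, e, orderOf_one])
    have hyH : y ∈ H := mem_centralizer_singleton_iff.mpr rfl
    have hCh₀ : centralizer ({h₀} : Set G) = H :=
      hsame h₀ hh₀ y hyH hh₀1 hy (mem_centralizer_singleton_iff.mp hh₀)
        (by rw [hh₀o, hyq]; exact (Nat.coprime_primes hq' hq).mpr hqq')
    intro h hh hh1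
    obtain ⟨r, k, hr, hk⟩ := exists_prime_order_pow hh1
    have hk1 : h ^ k ≠ 1 := fun e => hr.ne_one (by rw [← hk, e, orderOf_one])
    rw [← (hpow h k hk1 (Or.inr (hHtype h hh hh1))).2]
    by_cases hrq : r = q
    · rw [hsame _ (pow_mem hh k) h₀ hh₀ hk1 hh₀1
        (mem_centralizer_singleton_iff.mp (hCh₀ ▸ pow_mem hh k : h ^ k ∈ centralizer ({h₀} : Set G)))
        (by rw [hk, hh₀o, hrq]; exact (Nat.coprime_primes hq hq').mpr hqq'.symm), hCh₀]
    · exact hsame _ (pow_mem hh k) y hyH hk1 hy (mem_centralizer_singleton_iff.mp (pow_mem hh k))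
        (by rw [hk, hyq]; exact (Nat.coprime_primes hr hq).mpr hrq)
  -- a unique member of each class of type `a` commutes with an element of type `a`
  have hU : ∀ u g : G, u ≠ 1 → g ≠ 1 → cs u = a → cs g = a → ∀ q₁ q₂ : G,
      Commute u (q₁ * g * q₁⁻¹) → Commute u (q₂ * g * q₂⁻¹) → q₁ * g * q₁⁻¹ = q₂ * g * q₂⁻¹ := by
    intro u g hu hg hua hga q₁ q₂ h₁ h₂
    have hcompl : IsComplement' H (centralizer ({g} : Set G)) := by
      refine isComplement'_of_card_mul_and_disjoint ?_ ?_
      · rw [hHdef, hcardB y hyb, hcardA g hga, hcardG]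
      · rw [disjoint_iff, inf_comm]
        exact hD g y hg hy hga hyb
    have hfix := RegularAbelianChar.fixCount_eq_one hG (centralizer ({g} : Set G)) hH hcompl hu
      (by rw [show (centralizer ({u} : Set G)).index = a from hua, hHdef, hcardB y hyb])
    rw [CfsgLib.PermChar.fixCount, Nat.card_eq_one_iff_unique] at hfix
    have hmem : ∀ q : G, Commute u (q * g * q⁻¹) →
        u • (QuotientGroup.mk q : G ⧸ centralizer ({g} : Set G)) = QuotientGroup.mk q := by
      intro q hq'
      show (QuotientGroup.mk (u * q) : G ⧸ centralizer ({g} : Set G)) = QuotientGroup.mk q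
      rw [eq_comm, QuotientGroup.eq, mem_centralizer_singleton_iff]
      calc q⁻¹ * (u * q) * g = q⁻¹ * (u * (q * g * q⁻¹)) * q := by group
        _ = q⁻¹ * (q * g * q⁻¹ * u) * q := by rw [hq'.eq]
        _ = _ := by group
    have h := congrArg Subtype.val (hfix.1.elim ⟨_, hmem q₁ h₁⟩ ⟨_, hmem q₂ h₂⟩)
    simp only at h
    rw [QuotientGroup.eq, mem_centralizer_singleton_iff] at h
    calc q₁ * g * q₁⁻¹ = q₁ * (g * (q₁⁻¹ * q₂)) * q₂⁻¹ := by group
      _ = q₁ * (q₁⁻¹ * q₂ * g) * q₂⁻¹ := by rw [h]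
      _ = _ := by group
  -- every prime divisor of `b` divides the centralizer orders of type `c`
  obtain ⟨p, x, hp, hxp, hx, hxa', hCx⟩ := hprimeOrd x₀ hx1 (Or.inl hx₀)
  have hxa : cs x = a := hxa'.trans hx₀
  have hwx : centralizer ({w} : Set G) ≤ centralizer ({x} : Set G) := hCx.symm ▸ hlt.le
  have hww : w ∈ centralizer ({x} : Set G) := hwx (mem_centralizer_singleton_iff.mpr rfl)
  have hdiv : ∀ r : ℕ, r.Prime → r ∣ b → ∀ g : G, cs g = c →
      r ∣ Nat.card (centralizer ({g} : Set G)) := by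
    intro r hr hrb g hg
    suffices r ∣ Nat.card (centralizer ({w} : Set G)) by
      have e := hcardC g hg
      rw [← hcardC w hw] at e
      rwa [Nat.eq_of_mul_eq_mul_right (hw ▸ Nat.pos_of_ne_zero index_ne_zero_of_finite) e]
    by_cases hrp : r = p
    · rw [hrp, ← hxp]
      exact Subgroup.orderOf_dvd_natCard _
        (mem_centralizer_singleton_iff.mpr (mem_centralizer_singleton_iff.mp hww).symm)
    haveI := Fact.mk hr
    have hra : ¬ r ∣ a := fun h => hr.not_dvd_one (hcop ▸ Nat.dvd_gcd h hrb)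
    obtain ⟨R, hR⟩ := exists_sylow_le (r := r) (centralizer ({x} : Set G))
      (by rw [show (centralizer ({x} : Set G)).index = a from hxa]; exact hra)
    have : Nontrivial (R : Subgroup G) := (nontrivial_iff_ne_bot _).mpr
      (R.ne_bot_of_dvd_card (hcardG ▸ hrb.trans (dvd_mul_left b a)))
    have : Nontrivial (center (R : Subgroup G)) := R.isPGroup'.center_nontrivial
    obtain ⟨z', hz'⟩ := exists_ne (1 : center (R : Subgroup G))
    set z : G := ((z' : (R : Subgroup G)) : G) with hzdef
    have hz1 : z ≠ 1 := fun e => hz' (Subtype.ext (Subtype.ext e))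
    have hRz : (R : Subgroup G) ≤ centralizer ({z} : Set G) := fun s hs =>
      mem_centralizer_singleton_iff.mpr (congrArg Subtype.val (mem_center_iff.mp z'.2 ⟨s, hs⟩))
    obtain ⟨k, hk⟩ := R.isPGroup' (z' : (R : Subgroup G))
    have hzk : orderOf z ∣ r ^ k := orderOf_dvd_of_pow_eq_one (by
      simpa [hzdef] using congrArg Subtype.val hk)
    obtain ⟨l, -, hl⟩ := (Nat.dvd_prime_pow hr).mp hzk
    have hl0 : l ≠ 0 := fun e => hz1 (orderOf_eq_one_iff.mp (by rw [hl, e, pow_zero]))
    have hrz : r ∣ orderOf z := hl ▸ dvd_pow_self r hl0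
    have hcNot : ¬ r ∣ c → r ∣ Nat.card (centralizer ({w} : Set G)) := fun h =>
      ((hr.dvd_mul).mp (hcardC w hw ▸ hrb.trans (dvd_mul_left b a))).resolve_right h
    rcases hval z hz1 with e | e | e
    · have hco : Nat.Coprime (orderOf x) (orderOf z) := by
        rw [hxp, hl]; exact ((Nat.coprime_primes hp hr).mpr (Ne.symm hrp)).pow_right l
      have hcomm : Commute x z :=
        (mem_centralizer_singleton_iff.mp (hR (z' : (R : Subgroup G)).2)).symm
      have hmul := centralizer_mul hcomm hco (orderOf_pos x).ne'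
      have h1 : cs x ∣ cs (x * z) := hdvd (hmul.le.trans inf_le_left)
      rw [hxa] at h1
      have h2 : cs (x * z) ∣ (R : Subgroup G).index := index_dvd_of_le (hmul ▸ le_inf hR hRz)
      rcases hval _ (mul_ne_one_of_coprime hx hco) with e' | e' | e'
      · have E1 := eq_of_le_of_cs (hmul.le.trans inf_le_left) (by rw [e', hxa])
        have E2 := eq_of_le_of_cs (hmul.le.trans inf_le_right) (by rw [e', e])
        have hzw : z ∈ centralizer ({w} : Set G) := by
          have h := E2 ▸ E1.symm ▸ hww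
          exact mem_centralizer_singleton_iff.mpr (mem_centralizer_singleton_iff.mp h).symm
        exact hrz.trans (Subgroup.orderOf_dvd_natCard _ hzw)
      · exact absurd (e' ▸ h1) nab
      · exact hcNot fun h => R.not_dvd_index ((e'.symm ▸ h).trans h2)
    · exfalso
      exact hra (hrz.trans (hcardB z e ▸
        Subgroup.orderOf_dvd_natCard _ (mem_centralizer_singleton_iff.mpr rfl)))
    · exact hcNot fun h => R.not_dvd_index ((e.symm ▸ h).trans (index_dvd_of_le hRz))
  -- no element commutes with two conjugates of `x`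
  have hF1 : ∀ g q₁ q₂ : G, g ≠ 1 → (orderOf g).Coprime p →
      Commute g (q₁ * x * q₁⁻¹) → Commute g (q₂ * x * q₂⁻¹) → q₁ * x * q₁⁻¹ = q₂ * x * q₂⁻¹ := by
    intro g q₁ q₂ hg hco h₁ h₂
    have hx' : ∀ q' : G, q' * x * q'⁻¹ ≠ 1 ∧ cs (q' * x * q'⁻¹) = a := fun q' =>
      ⟨fun e => hx (conj_eq_one_iff.mp e), by
        rw [CfsgLib.Recog.ClassSizesPSLTwo.cs_conj]; exact hxa⟩
    rcases hval g hg with e | e | e
    · exact hU g x hg hx e hxa q₁ q₂ h₁ h₂
    · exact absurd h₁.symm (hAB _ g (hx' q₁).1 hg (hx' q₁).2 e)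
    · have hle := hle_of _ g (hx' q₁).1 (hx' q₁).2 e h₁.symm (by
        rw [← MulAut.conj_apply, MulEquiv.orderOf_eq, hxp]; exact hco.symm)
      have h3 : Commute (q₁ * x * q₁⁻¹) (q₂ * x * q₂⁻¹) :=
        (mem_centralizer_singleton_iff.mp (hle (mem_centralizer_singleton_iff.mpr h₂.symm.eq))).symm
      exact hU _ x (hx' q₁).1 hx (hx' q₁).2 hxa q₁ q₂ (Commute.refl _) h3
  have hF : ∀ g q₁ q₂ : G, g ≠ 1 →
      Commute g (q₁ * x * q₁⁻¹) → Commute g (q₂ * x * q₂⁻¹) → q₁ * x * q₁⁻¹ = q₂ * x * q₂⁻¹ := by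
    intro g₀ q₁ q₂ hg₀ h₁₀ h₂₀
    obtain ⟨r, k, hr, hk⟩ := exists_prime_order_pow hg₀
    set g := g₀ ^ k with hgdef
    have hg : g ≠ 1 := fun e => hr.ne_one (by rw [← hk, e, orderOf_one])
    have h₁ : Commute g (q₁ * x * q₁⁻¹) := h₁₀.pow_left k
    have h₂ : Commute g (q₂ * x * q₂⁻¹) := h₂₀.pow_left k
    by_cases hrp : r = p
    swap
    · exact hF1 g q₁ q₂ hg (by rw [hk]; exact (Nat.coprime_primes hr hp).mpr hrp) h₁ h₂
    rcases hval g hg with e | e | e
    · exact hU g x hg hx e hxa q₁ q₂ h₁ h₂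
    · exact absurd h₁.symm (hAB _ g (fun e => hx (conj_eq_one_iff.mp e)) hg
        (by rw [CfsgLib.Recog.ClassSizesPSLTwo.cs_conj]; exact hxa) e)
    · obtain ⟨r', hr', hr'b, hr'p⟩ : ∃ r' : ℕ, r'.Prime ∧ r' ∣ b ∧ r' ≠ p := by
        by_contra! hall
        exact cs_ne_prime_pow hG hy1 hp (hy₀.trans
          (Nat.eq_prime_pow_of_unique_prime_dvd (by omega) fun {d} hd hd' => hall d hd hd'))
      haveI := Fact.mk hr'
      obtain ⟨⟨h, hh⟩, hho⟩ := exists_prime_orderOf_dvd_card'
        (G := centralizer ({g} : Set G)) r' (hdiv r' hr' hr'b g e)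
      rw [orderOf_mk] at hho
      have hh1 : h ≠ 1 := fun e => hr'.ne_one (by rw [← hho, e, orderOf_one])
      have hco : (orderOf g).Coprime (orderOf h) := by
        rw [hk, hho, hrp]; exact (Nat.coprime_primes hp hr').mpr hr'p.symm
      have hmul := centralizer_mul (Commute.symm (mem_centralizer_singleton_iff.mp hh)) hco
        (orderOf_pos g).ne'
      have h1 : cs g ∣ cs (g * h) := hdvd (hmul.le.trans inf_le_left)
      rw [e] at h1
      have hgh : cs (g * h) = c := by
        rcases hval _ (mul_ne_one_of_coprime hg hco) with e' | e' | e' <;> rw [e'] at h1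
        · exact absurd h1 nca
        · exact absurd h1 ncb
        · exact e'
      have hle : centralizer ({g} : Set G) ≤ centralizer ({h} : Set G) := by
        rw [← eq_of_le_of_cs (hmul.le.trans inf_le_left) (by rw [hgh, e]), hmul]
        exact inf_le_right
      refine hF1 h q₁ q₂ hh1 (by rw [hho]; exact (Nat.coprime_primes hr' hp).mpr hr'p) ?_ ?_
      · exact Commute.symm
          (mem_centralizer_singleton_iff.mp (hle (mem_centralizer_singleton_iff.mpr h₁.symm.eq)))
      · exact Commute.symm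
          (mem_centralizer_singleton_iff.mp (hle (mem_centralizer_singleton_iff.mpr h₂.symm.eq)))
  -- counting
  set B : Set G := {g | g ≠ 1 ∧ cs g = b} with hB
  set R : Set G := {g | g ≠ 1 ∧ cs g ≠ b} with hRdef
  set K := centralizer ({x} : Set G) with hK
  have hRcard : a * (b - 1) ≤ R.ncard := by
    have hc : Nat.card ((G ⧸ K) × {k : K // k ≠ 1}) = a * (b - 1) := by
      rw [Nat.card_prod, show Nat.card (G ⧸ K) = a from hxa]
      haveI : Fintype K := Fintype.ofFinite _
      rw [Nat.card_eq_fintype_card (α := {k : K // k ≠ 1}), Fintype.card_subtype_compl,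
        Fintype.card_subtype_eq, ← Nat.card_eq_fintype_card, hK, hcardA x hxa]
    have hcomm : ∀ (q : G ⧸ K) (k : K),
        Commute (q.out * (k : G) * q.out⁻¹) (q.out * x * q.out⁻¹) := by
      intro q k
      show _ = _
      calc q.out * (k : G) * q.out⁻¹ * (q.out * x * q.out⁻¹)
          = q.out * ((k : G) * x) * q.out⁻¹ := by group
        _ = q.out * (x * (k : G)) * q.out⁻¹ := by rw [mem_centralizer_singleton_iff.mp k.2]
        _ = _ := by group
    let f : (G ⧸ K) × {k : K // k ≠ 1} → R := fun qk =>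
      ⟨qk.1.out * (qk.2.1 : G) * qk.1.out⁻¹, fun e => qk.2.2 (Subtype.ext (conj_eq_one_iff.mp e)),
        fun e => hAB (qk.1.out * x * qk.1.out⁻¹) _ (fun e' => hx (conj_eq_one_iff.mp e'))
          (fun e' => qk.2.2 (Subtype.ext (conj_eq_one_iff.mp e')))
          (by rw [CfsgLib.Recog.ClassSizesPSLTwo.cs_conj]; exact hxa) e (hcomm _ _).symm⟩
    have hf : Function.Injective f := by
      rintro ⟨q₁, k₁⟩ ⟨q₂, k₂⟩ h
      have h' : q₁.out * (k₁.1 : G) * q₁.out⁻¹ = q₂.out * (k₂.1 : G) * q₂.out⁻¹ :=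
        congrArg Subtype.val h
      have hq := hF _ q₁.out q₂.out (fun e => k₁.2 (Subtype.ext (conj_eq_one_iff.mp e)))
        (hcomm q₁ k₁.1) (h' ▸ hcomm q₂ k₂.1)
      have hqq : q₁ = q₂ := by
        rw [← q₁.out_eq', ← q₂.out_eq', QuotientGroup.eq]
        refine mem_centralizer_singleton_iff.mpr ?_
        calc q₁.out⁻¹ * q₂.out * x = q₁.out⁻¹ * (q₂.out * x * q₂.out⁻¹) * q₂.out := by group
          _ = q₁.out⁻¹ * (q₁.out * x * q₁.out⁻¹) * q₂.out := by rw [hq]
          _ = _ := by group
      subst hqq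
      rw [Subtype.ext (Subtype.ext (mul_left_cancel (mul_right_cancel h'))) ]
    calc a * (b - 1) = Nat.card ((G ⧸ K) × {k : K // k ≠ 1}) := hc.symm
      _ ≤ Nat.card R := Nat.card_le_card_of_injective f hf
      _ = R.ncard := Nat.card_coe_set_eq R
  have htotal : B.ncard + R.ncard + 1 = a * b := by
    have hd : Disjoint B R := Set.disjoint_left.mpr fun g hg hg' => hg'.2 hg.2
    have hun : B ∪ R = ({1} : Set G)ᶜ := by
      ext g
      simp only [hB, hRdef, Set.mem_union, Set.mem_setOf_eq, Set.mem_compl_iff, Set.mem_singleton_iff]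
      tauto
    rw [← Set.ncard_union_eq hd, hun, ← hcardG, ← Set.ncard_add_ncard_compl ({1} : Set G),
      Set.ncard_singleton, add_comm]
  have hHB : (H : Set G) \ {1} ⊆ B := fun h hh => ⟨hh.2, hHtype h hh.1 hh.2⟩
  have hHeq : (H : Set G) \ {1} = B := by
    refine Set.eq_of_subset_of_ncard_le hHB ?_
    rw [Set.ncard_diff_singleton_of_mem H.one_mem,
      show (H : Set G).ncard = a from (Nat.card_coe_set_eq _).symm.trans (hcardB y hyb)]
    have h1 : a * (b - 1) + a = a * b := by
      obtain ⟨b', rfl⟩ : ∃ b', b = b' + 1 := ⟨b - 1, by omega⟩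
      rw [Nat.add_sub_cancel]; ring
    omega
  have hHn : H.Normal := ⟨fun h hh g => by
    by_cases h1 : h = 1
    · simp [h1]
    have h2 : g * h * g⁻¹ ∈ B := ⟨fun e => h1 (conj_eq_one_iff.mp e),
      by rw [CfsgLib.Recog.ClassSizesPSLTwo.cs_conj]; exact hHtype h hh h1⟩
    rw [← hHeq] at h2
    exact h2.1⟩
  rcases hHn.eq_bot_or_eq_top with h | h
  · exact hy (mem_bot.mp (h ▸ (mem_centralizer_singleton_iff.mpr rfl : y ∈ H)))
  · exact hG (CfsgLib.Burnside.isMulCommutative_of_mem_center hy
      (mem_center_iff.mpr fun g => mem_centralizer_singleton_iff.mp (h ▸ mem_top g : g ∈ H)))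

end CfsgLib.InvChar.RankThree
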