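import Cfsg.Agent.Lib.InvChar.RankThreeBasic

/-!
Centreless groups with class sizes `1, a, b, c`, `a ∣ c`: the case `b ∣ c` is impossible, and
otherwise the centralizers of class size `b` are abelian or of prime power order.
-/

set_option autoImplicit false
set_option linter.unusedSectionVars false
set_option linter.style.haveILetI false

namespace CfsgLib.InvChar.RankThree

open Subgroup
open CfsgLib.Recog.ClassSizesPSLTwo (cs IsPElt centralizer_mul centralizer_le_pow)

universe u

variable {G : Type u} [Group G] [Finite G]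

namespace Chain

variable {a b c : ℕ} (h : Chain G a b c)
include h

theorem pair_primes (hbc : b ∣ c) {u y : G} {p q : ℕ} (hp : p.Prime) (hq : q.Prime) (hpq : p ≠ q)
    (hu : orderOf u = p) (hy : orderOf y = q) (hua : cs u = a) (hyb : cs y = b) {g : G}
    (hg : g ≠ 1) (hgc : cs g = c) :
    p ∣ Nat.card (centralizer ({g} : Set G)) ∧ q ∣ Nat.card (centralizer ({g} : Set G)) ∧
      ∀ r : ℕ, r.Prime → r ∣ Nat.card (centralizer ({g} : Set G)) → r = p ∨ r = q := by
  have hu1 := ne_one_of_orderOf hp hu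
  have hy1 := ne_one_of_orderOf hq hy
  set D := centralizer ({u} : Set G) ⊓ centralizer ({y} : Set G) with hD
  set n := Nat.card (centralizer ({g} : Set G)) with hn
  have hnD : n ∣ Nat.card D := by
    obtain ⟨k, hk⟩ := h.coprime.mul_dvd_of_dvd_of_dvd h.dvd hbc
    have e1 := h.card_inter hua hyb
    rw [← h.card_cent hgc] at e1
    refine ⟨k, Nat.eq_of_mul_eq_mul_right (Nat.mul_pos (Nat.lt_trans Nat.zero_lt_one h.a_gt)
      (Nat.lt_trans Nat.zero_lt_one h.b_gt)) (e1.trans ?_)⟩
    rw [← hn, hk]; ring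
  have huy : ¬ Commute u y := h.not_commute hu1 hua hyb
    (by rw [hu, hy]; exact (Nat.coprime_primes hp hq).mpr hpq)
  have hdtype : ∀ d ∈ D, ∀ r : ℕ, r.Prime → orderOf d = r →
      (cs d = a ∧ r = q) ∨ (cs d = b ∧ r = p) := by
    intro d hd r hr hdr
    have hd1 := ne_one_of_orderOf hr hdr
    have hdu : Commute d u := comm_of_mem hd.1
    have hdy : Commute d y := comm_of_mem hd.2
    rcases h.hval d hd1 with e | e | e
    · refine Or.inl ⟨e, by_contra fun hne => h.not_commute hd1 e hyb ?_ hdy⟩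
      rw [hdr, hy]; exact (Nat.coprime_primes hr hq).mpr hne
    · refine Or.inr ⟨e, by_contra fun hne => h.not_commute hu1 hua e ?_ hdu.symm⟩
      rw [hdr, hu]; exact (Nat.coprime_primes hp hr).mpr (Ne.symm hne)
    · exfalso
      by_cases hrp : r = p
      · have hle := h.le_of_c e hy1 hdy.symm
          (by rw [hdr, hy, hrp]; exact (Nat.coprime_primes hq hp).mpr hpq.symm)
        exact huy (comm_of_mem (hle (mem_of_comm hdu.symm)))
      · have hle := h.le_of_c e hu1 hdu.symm
          (by rw [hdr, hu]; exact (Nat.coprime_primes hp hr).mpr (Ne.symm hrp))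
        exact huy (comm_of_mem (hle (mem_of_comm hdy.symm))).symm
  have hn1 : 1 < n := by
    haveI : Nontrivial (centralizer ({g} : Set G)) :=
      ⟨⟨⟨g, self_mem_centralizer g⟩, 1, fun e => hg (congrArg Subtype.val e)⟩⟩
    exact Finite.one_lt_card
  have hex : ∀ r : ℕ, r.Prime → r ∣ Nat.card D → ∃ d ∈ D, orderOf d = r := by
    intro r hr hrd
    haveI := Fact.mk hr
    obtain ⟨⟨d, hd⟩, hdo⟩ := exists_prime_orderOf_dvd_card' (G := D) r hrd
    exact ⟨d, hd, by rw [← hdo, orderOf_mk]⟩
  have honly : ∀ r : ℕ, r.Prime → r ∣ n → r = p ∨ r = q := by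
    intro r hr hrn
    obtain ⟨d, hd, hdo⟩ := hex r hr (hrn.trans hnD)
    rcases hdtype d hd r hr hdo with ⟨-, e⟩ | ⟨-, e⟩
    exacts [Or.inr e, Or.inl e]
  have hboth : ∀ r : ℕ, r.Prime → r ∣ n → p ∣ n ∧ q ∣ n := by
    intro r hr hrn
    obtain ⟨d, hd, hdo⟩ := hex r hr (hrn.trans hnD)
    have hd1 := ne_one_of_orderOf hr hdo
    rcases hdtype d hd r hr hdo with ⟨e, rfl⟩ | ⟨e, rfl⟩
    · -- the product with `u`
      have hdu : Commute d u := comm_of_mem hd.1
      have hco : Nat.Coprime (orderOf d) (orderOf u) := by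
        rw [hdo, hu]; exact (Nat.coprime_primes hr hp).mpr hpq.symm
      have hmul := centralizer_mul hdu hco (orderOf_pos d).ne'
      have h1 : cs d ∣ cs (d * u) := h.dvd_of_le (hmul.le.trans inf_le_left)
      rw [e] at h1
      rcases h.hval _ (mul_ne_one_of_coprime hd1 hco) with e' | e' | e' <;> rw [e'] at h1
      · exfalso
        have E1 := eq_of_le_of_cs (hmul.le.trans inf_le_left) (by rw [e', e])
        have E2 := eq_of_le_of_cs (hmul.le.trans inf_le_right) (by rw [e', hua])
        have hy' : y ∈ centralizer ({d} : Set G) := mem_of_comm (comm_of_mem hd.2).symm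
        rw [← E1, E2] at hy'
        exact huy (comm_of_mem hy').symm
      · exact absurd h1 h.nab
      · have h2 := h.dvd_cent_c e' hgc
        rw [hdu.orderOf_mul_eq_mul_orderOf_of_coprime hco, hdo, hu] at h2
        exact ⟨(dvd_mul_left _ _).trans h2, hrn⟩
    · have hdy : Commute d y := comm_of_mem hd.2
      have hco : Nat.Coprime (orderOf d) (orderOf y) := by
        rw [hdo, hy]; exact (Nat.coprime_primes hr hq).mpr hpq
      have hmul := centralizer_mul hdy hco (orderOf_pos d).ne'
      have h1 : cs d ∣ cs (d * y) := h.dvd_of_le (hmul.le.trans inf_le_left)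
      rw [e] at h1
      rcases h.hval _ (mul_ne_one_of_coprime hd1 hco) with e' | e' | e' <;> rw [e'] at h1
      · exact absurd h1 h.nba
      · exfalso
        have E1 := eq_of_le_of_cs (hmul.le.trans inf_le_left) (by rw [e', e])
        have E2 := eq_of_le_of_cs (hmul.le.trans inf_le_right) (by rw [e', hyb])
        have hu' : u ∈ centralizer ({d} : Set G) := mem_of_comm (comm_of_mem hd.1).symm
        rw [← E1, E2] at hu'
        exact huy (comm_of_mem hu')
      · have h2 := h.dvd_cent_c e' hgc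
        rw [hdy.orderOf_mul_eq_mul_orderOf_of_coprime hco, hdo, hy] at h2
        exact ⟨hrn, (dvd_mul_left _ _).trans h2⟩
  obtain ⟨r, hr, hrn⟩ := Nat.exists_prime_and_dvd hn1.ne'
  obtain ⟨hpn, hqn⟩ := hboth r hr hrn
  exact ⟨hpn, hqn, honly⟩

theorem not_b_dvd_c : ¬ b ∣ c := by
  intro hbc
  obtain ⟨g, hg, hgc⟩ := h.exC
  obtain ⟨r, hr, hra⟩ := Nat.exists_prime_and_dvd h.a_gt.ne'
  obtain ⟨r', hr', hrb⟩ := Nat.exists_prime_and_dvd h.b_gt.ne'
  obtain ⟨y, hy, hys⟩ := exists_central_elem (G := G) hr (hra.trans h.a_dvd_card)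
  obtain ⟨u, hu, hus⟩ := exists_central_elem (G := G) hr' (hrb.trans h.b_dvd_card)
  have hyb : cs y = b := by
    rcases h.hval y (ne_one_of_orderOf hr hy) with e | e | e <;> rw [e] at hys
    exacts [absurd hra hys, e, absurd (hra.trans h.dvd) hys]
  have hua : cs u = a := by
    rcases h.hval u (ne_one_of_orderOf hr' hu) with e | e | e <;> rw [e] at hus
    exacts [e, absurd hrb hus, absurd (hrb.trans hbc) hus]
  have hne : r' ≠ r := fun e =>
    hr.not_dvd_one (h.coprime ▸ Nat.dvd_gcd hra (e ▸ hrb))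
  obtain ⟨hpn, hqn, honly⟩ := h.pair_primes hbc hr' hr hne hu hy hua hyb hg hgc
  refine h.ns (FewOrders.isSolvable_of_two_primes hr' hr fun t ht htd => ?_)
  obtain ⟨x, hx, -⟩ := exists_central_elem (G := G) ht htd
  have hx1 := ne_one_of_orderOf ht hx
  rcases h.hval x hx1 with e | e | e
  · by_cases htr : t = r
    · exact Or.inr htr
    · exact honly t ht (h.pair_primes hbc ht hr htr hx hy e hyb hg hgc).1
  · by_cases htr : t = r'
    · exact Or.inl htr
    · exact honly t ht (h.pair_primes hbc hr' ht (Ne.symm htr) hu hx hua e hg hgc).2.1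
  · exact honly t ht (hx ▸ h.dvd_cent_c e hgc)

/-- An element of coprime order in the centralizer of an element of class size `b`. -/
theorem cent_b {y w : G} (hy : y ≠ 1) (hyb : cs y = b) (hw : w ≠ 1) (hc : Commute y w)
    (hco : Nat.Coprime (orderOf y) (orderOf w)) :
    centralizer ({w} : Set G) = centralizer ({y} : Set G) ∧ cs w = b := by
  have hmul := centralizer_mul hc hco (orderOf_pos y).ne'
  have h1 : cs y ∣ cs (y * w) := h.dvd_of_le (hmul.le.trans inf_le_left)
  rw [hyb] at h1
  rcases h.hval _ (mul_ne_one_of_coprime hy hco) with e | e | e <;> rw [e] at h1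
  · exact absurd h1 h.nba
  · have E := eq_of_le_of_cs (hmul.le.trans inf_le_left) (by rw [e, hyb])
    have hle : centralizer ({y} : Set G) ≤ centralizer ({w} : Set G) := by
      rw [← E, hmul]; exact inf_le_right
    have hd := h.dvd_of_le hle
    rw [hyb] at hd
    rcases h.hval w hw with e' | e' | e' <;> rw [e'] at hd
    · exact absurd hd h.nab
    · exact ⟨(eq_of_le_of_cs hle (hyb.trans e'.symm)).symm, e'⟩
    · exact absurd hd h.ncb
  · exact absurd h1 h.not_b_dvd_c

/-- A centralizer of class size `b` not of prime power order is abelian and contains the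
centralizers of its elements. -/
theorem abelian_b {y : G} (hy : y ≠ 1) (hyb : cs y = b)
    (hnp : ∀ q : ℕ, q.Prime → ¬ IsPGroup q (centralizer ({y} : Set G))) :
    ∀ k ∈ centralizer ({y} : Set G), k ≠ 1 →
      centralizer ({k} : Set G) = centralizer ({y} : Set G) ∧ cs k = b := by
  obtain ⟨q, y', hq, hyq, hy', hyb', hCy, -⟩ := h.exists_prime_elem hy (Or.inr hyb)
  rw [hyb] at hyb'
  rw [← hCy] at hnp ⊢
  set H := centralizer ({y'} : Set G) with hH
  obtain ⟨r, hr, hrd, hrq⟩ : ∃ r : ℕ, r.Prime ∧ r ∣ Nat.card H ∧ r ≠ q := by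
    by_contra! hall
    exact hnp q hq (IsPGroup.of_card (n := (Nat.card H).primeFactorsList.length)
      (Nat.eq_prime_pow_of_unique_prime_dvd Nat.card_pos.ne' fun {d} hd hd' => hall d hd hd'))
  haveI := Fact.mk hr
  obtain ⟨⟨w, hw⟩, hwo⟩ := exists_prime_orderOf_dvd_card' (G := H) r hrd
  rw [orderOf_mk] at hwo
  have hw1 := ne_one_of_orderOf hr hwo
  obtain ⟨hCw, hwb⟩ := h.cent_b hy' hyb' hw1 (comm_of_mem hw).symm
    (by rw [hyq, hwo]; exact (Nat.coprime_primes hq hr).mpr hrq.symm)
  have hpow : ∀ k ∈ H, ∀ p : ℕ, p.Prime → IsPElt p k → k ≠ 1 →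
      centralizer ({k} : Set G) = H := by
    intro k hk p hp hpk hk1
    by_cases hpq : p = q
    · have hk' : Commute w k := (comm_of_mem (hCw.symm ▸ hk : k ∈ centralizer ({w} : Set G))).symm
      exact (h.cent_b hw1 hwb hk1 hk' (coprime_orderOf hr hp (hpq ▸ hrq)
        (isPElt_of_orderOf hwo) hpk)).1.trans hCw
    · exact (h.cent_b hy' hyb' hk1 (comm_of_mem hk).symm (coprime_orderOf hq hp (Ne.symm hpq)
        (isPElt_of_orderOf hyq) hpk)).1
  intro k hk hk1
  have hle : H ≤ centralizer ({k} : Set G) := by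
    intro m hm
    refine CfsgLib.Structure81.CoprimeClass.mem_of_parts fun e p i hp hpi => ?_
    by_cases h1 : m ^ e = 1
    · rw [h1]; exact one_mem _
    · exact mem_of_comm (comm_of_mem ((hpow _ (pow_mem hm e) p hp
        ⟨i, by rw [← hpi, pow_orderOf_eq_one]⟩ h1).symm ▸ hk :
          k ∈ centralizer ({m ^ e} : Set G))).symm
  have hd := h.dvd_of_le hle
  rw [hyb'] at hd
  rcases h.hval k hk1 with e | e | e <;> rw [e] at hd
  · exact absurd hd h.nab
  · exact ⟨(eq_of_le_of_cs hle (hyb'.trans e.symm)).symm, e⟩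
  · exact absurd hd h.ncb

/-- Centralizers of size `|G| / b` are either all of prime power order or none. -/
theorem isPGroup_b {y y' : G} (hyb : cs y = b) (hy'b : cs y' = b) {q : ℕ} [Fact q.Prime]
    (hq : IsPGroup q (centralizer ({y} : Set G))) : IsPGroup q (centralizer ({y'} : Set G)) := by
  obtain ⟨n, hn⟩ := hq.exists_card_eq
  have e := h.card_cent hyb
  rw [← h.card_cent hy'b, hn] at e
  exact IsPGroup.of_card (Nat.eq_of_mul_eq_mul_right (Nat.lt_trans Nat.zero_lt_one h.b_gt) e).symm

end Chain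

/-- `|G| = ab`, and the elements of order dividing `a` have class size `b`. -/
structure Split (G : Type u) [Group G] (a b c : ℕ) : Prop extends Chain G a b c where
  card : Nat.card G = a * b
  pi : ∀ g : G, g ≠ 1 → orderOf g ∣ a → cs g = b

namespace Split

variable {a b c : ℕ} (h : Split G a b c)
include h

theorem card_cent_a {g : G} (hg : cs g = a) : Nat.card (centralizer ({g} : Set G)) = b := by
  have e := h.card_cent hg
  rw [h.card, mul_comm a b] at e
  exact Nat.eq_of_mul_eq_mul_right (Nat.lt_trans Nat.zero_lt_one h.a_gt) e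

theorem card_cent_b {g : G} (hg : cs g = b) : Nat.card (centralizer ({g} : Set G)) = a := by
  have e := h.card_cent hg
  rw [h.card] at e
  exact Nat.eq_of_mul_eq_mul_right (Nat.lt_trans Nat.zero_lt_one h.b_gt) e

theorem card_cent_c {g : G} (hg : cs g = c) : Nat.card (centralizer ({g} : Set G)) ∣ b := by
  have e := h.card_cent hg
  obtain ⟨k, hk⟩ := h.dvd
  rw [h.card, hk, ← mul_assoc, mul_comm _ a, mul_assoc] at e
  exact ⟨k, (Nat.eq_of_mul_eq_mul_left (Nat.lt_trans Nat.zero_lt_one h.a_gt) e).symm⟩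

theorem ord_b {g : G} (hg : cs g = b) : orderOf g ∣ a :=
  h.card_cent_b hg ▸ Subgroup.orderOf_dvd_natCard _ (self_mem_centralizer g)

theorem ord_ac {g : G} (hg : cs g = a ∨ cs g = c) : orderOf g ∣ b := by
  rcases hg with hg | hg
  · exact h.card_cent_a hg ▸ Subgroup.orderOf_dvd_natCard _ (self_mem_centralizer g)
  · exact (Subgroup.orderOf_dvd_natCard _ (self_mem_centralizer g)).trans (h.card_cent_c hg)

theorem cs_ac {g : G} (hg : g ≠ 1) (ho : Nat.Coprime (orderOf g) a) : cs g = a ∨ cs g = c := by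
  rcases h.hval g hg with e | e | e
  · exact Or.inl e
  · exact absurd (orderOf_eq_one_iff.mp (Nat.eq_one_of_dvd_coprimes ho dvd_rfl (h.ord_b e))) hg
  · exact Or.inr e

theorem eq_one_of_coprime {g : G} (h1 : orderOf g ∣ a) (h2 : orderOf g ∣ b) : g = 1 :=
  orderOf_eq_one_iff.mp (Nat.eq_one_of_dvd_coprimes h.coprime h1 h2)

end Split

namespace Chain

variable {a b c : ℕ} (h : Chain G a b c)
include h

theorem split_pi (hcard : Nat.card G = a * b) : Split G a b c := by
  refine ⟨h, hcard, fun g hg ho => ?_⟩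
  rcases h.hval g hg with e | e | e
  · exfalso
    have h1 := h.card_cent e
    rw [hcard, mul_comm a b] at h1
    have h2 : orderOf g ∣ b := Nat.eq_of_mul_eq_mul_right (Nat.lt_trans Nat.zero_lt_one h.a_gt) h1 ▸
      Subgroup.orderOf_dvd_natCard _ (self_mem_centralizer g)
    exact hg (orderOf_eq_one_iff.mp (Nat.eq_one_of_dvd_coprimes h.coprime ho h2))
  · exact e
  · exfalso
    obtain ⟨k, hk⟩ := h.dvd
    have h1 := h.card_cent e
    rw [hcard, hk, ← mul_assoc, mul_comm _ a, mul_assoc] at h1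
    have h2 : orderOf g ∣ b := (Subgroup.orderOf_dvd_natCard _ (self_mem_centralizer g)).trans
      ⟨k, (Nat.eq_of_mul_eq_mul_left (Nat.lt_trans Nat.zero_lt_one h.a_gt) h1).symm⟩
    exact hg (orderOf_eq_one_iff.mp (Nat.eq_one_of_dvd_coprimes h.coprime ho h2))

/-- An abelian centralizer of class size `b`: the order is `ab`. -/
theorem split_of_abelian {y : G} (hy : y ≠ 1) (hyb : cs y = b)
    (hnp : ∀ q : ℕ, q.Prime → ¬ IsPGroup q (centralizer ({y} : Set G))) : Split G a b c := by
  refine h.split_pi ?_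
  have hab := h.abelian_b hy hyb hnp
  obtain ⟨u, hu, hua⟩ := h.exA
  have hbot : centralizer ({u} : Set G) ⊓ centralizer ({y} : Set G) = ⊥ := by
    by_contra hne
    obtain ⟨⟨d, hd⟩, hd1⟩ := ne_bot_iff_exists_ne_one.mp hne
    have hd1' : d ≠ 1 := fun e => hd1 (Subtype.ext e)
    obtain ⟨e1, -⟩ := hab d hd.2 hd1'
    have hmem : u ∈ centralizer ({y} : Set G) := e1 ▸ mem_of_comm (comm_of_mem hd.1).symm
    have hub := (hab u hmem hu).2
    rw [hua] at hub
    exact h.nab (hub ▸ dvd_rfl)
  have e := h.card_inter hua hyb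
  rw [hbot, card_bot, one_mul] at e
  exact e.symm

end Chain

end CfsgLib.InvChar.RankThree
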