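import Cfsg.Agent.Lib.InvChar.RankThreeCA
import Cfsg.Agent.Lib.Maximal.CASimple
import Cfsg.Agent.Lib.PF.OddOrder
import Cfsg.Agent.Lib.TwoFrobenius.Complement
import Cfsg.Agent.Lib.Structure.SolvableRadical
import Cfsg.Agent.Lib.ClassicalGroups.PermModel

/-!
A nonsolvable group with at most three centralizer orders and no proper inclusion between
centralizers is `PSL₂(2^f)`.
-/

set_option autoImplicit false

open scoped Pointwise

namespace CfsgLib.InvChar.RankThree.NoIncl

open Subgroup

universe u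

variable {G : Type u} [Group G] [Finite G]

theorem self_mem (g : G) : g ∈ centralizer ({g} : Set G) :=
  mem_centralizer_singleton_iff.mpr rfl

theorem ne_one_of_two {t : G} (ht : orderOf t = 2) : t ≠ 1 := fun e => by
  rw [e, orderOf_one] at ht; omega

theorem inv_eq_self {t : G} (ht : orderOf t = 2) : t⁻¹ = t := by
  refine inv_eq_of_mul_eq_one_right ?_
  rw [← pow_two, ← ht, pow_orderOf_eq_one]

theorem inv_cent_comm (hmin : NoInclusion G) {t : G} (ht : orderOf t = 2) :
    ∀ a ∈ centralizer ({t} : Set G), ∀ b ∈ centralizer ({t} : Set G), a * b = b * a := by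
  by_contra hna
  obtain ⟨p, hp, P, hP⟩ := exists_sylow_of_noncomm hmin (ne_one_of_two ht) hna
  have hnaP : ¬ ∀ a ∈ (P : Subgroup G), ∀ b ∈ (P : Subgroup G), a * b = b * a := hP ▸ hna
  refine odd_of_noncomm hmin (ne_one_of_two ht) P hP hnaP ?_
  obtain ⟨k, hk⟩ := P.isPGroup'.exists_card_eq
  have h2 : 2 ∣ p ^ k := by
    rw [← hk, ← ht]
    exact Subgroup.orderOf_dvd_natCard _ (hP ▸ self_mem t)
  exact ((Nat.prime_dvd_prime_iff_eq Nat.prime_two hp.out).mp
    (Nat.prime_two.dvd_of_dvd_pow h2)).symm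

theorem cent_eq (hmin : NoInclusion G) {g a : G} (hg : g ≠ 1) (ha : a ≠ 1)
    (hcomm : ∀ x ∈ centralizer ({g} : Set G), ∀ y ∈ centralizer ({g} : Set G), x * y = y * x)
    (hag : a ∈ centralizer ({g} : Set G)) :
    centralizer ({a} : Set G) = centralizer ({g} : Set G) :=
  (hmin g a hg ha fun s hs => mem_centralizer_singleton_iff.mpr (hcomm s hs a hag)).symm

theorem exists_sylow_le (hmin : NoInclusion G) {t : G} (ht : orderOf t = 2) :
    ∃ S : Sylow 2 G, (S : Subgroup G) ≤ centralizer ({t} : Set G) := by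
  haveI := Fact.mk Nat.prime_two
  obtain ⟨S, hS⟩ := (IsPGroup.of_card (p := 2) (n := 1) (G := zpowers t)
    (by rw [Nat.card_zpowers, ht, pow_one])).exists_le_sylow
  have htS : t ∈ (S : Subgroup G) := hS (mem_zpowers t)
  haveI : Nontrivial (S : Subgroup G) :=
    ⟨⟨⟨t, htS⟩, 1, fun e => ne_one_of_two ht (congrArg Subtype.val e)⟩⟩
  haveI : Nontrivial (center (S : Subgroup G)) := S.isPGroup'.center_nontrivial
  obtain ⟨z, hz⟩ := exists_ne (1 : center (S : Subgroup G))
  refine ⟨S, ?_⟩
  set z' : G := ((z : (S : Subgroup G)) : G) with hz'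
  have hz1 : z' ≠ 1 := fun e => hz (Subtype.ext (Subtype.ext e))
  have hSz : (S : Subgroup G) ≤ centralizer ({z'} : Set G) := fun s hs =>
    mem_centralizer_singleton_iff.mpr (congrArg Subtype.val (mem_center_iff.mp z.2 ⟨s, hs⟩))
  have hzt : z' ∈ centralizer ({t} : Set G) :=
    mem_centralizer_singleton_iff.mpr (mem_centralizer_singleton_iff.mp (hSz htS)).symm
  rwa [← cent_eq hmin (ne_one_of_two ht) hz1 (inv_cent_comm hmin ht) hzt]

theorem exists_involution (hns : ¬ Group.IsSolvable G) : ∃ t : G, orderOf t = 2 := by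
  haveI := Fact.mk Nat.prime_two
  by_contra h
  refine hns (CfsgLib.PF.oddSolvable G (Nat.odd_iff.mpr ?_))
  by_contra h2
  exact h (exists_prime_orderOf_dvd_card' (G := G) 2 (by omega))

theorem solvable_of_comm {H : Type u} [Group H] (h : ∀ a b : H, a * b = b * a) :
    Group.IsSolvable H :=
  Group.isSolvable_of_comm h

theorem solvable_of_mem_comm {A : Subgroup G} (h : ∀ a ∈ A, ∀ b ∈ A, a * b = b * a) :
    Group.IsSolvable A :=
  solvable_of_comm fun a b => Subtype.ext (h a a.2 b b.2)

theorem solvable_of_normal_quotient (A : Subgroup G) [A.Normal] (hA : Group.IsSolvable A)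
    (hQ : Group.IsSolvable (G ⧸ A)) : Group.IsSolvable G := by
  haveI := hA
  haveI := hQ
  refine Group.isSolvable_of_ker_le_range A.subtype (QuotientGroup.mk' A) ?_
  rw [QuotientGroup.ker_mk', range_subtype]

theorem no_abelian_normal (hmin : NoInclusion G) (hns : ¬ Group.IsSolvable G) {V : Subgroup G}
    (hV : V.Normal) (hVab : ∀ a ∈ V, ∀ b ∈ V, a * b = b * a) : V = ⊥ := by
  by_contra hne
  haveI := Fact.mk Nat.prime_two
  by_cases hc : ∃ t v : G, orderOf t = 2 ∧ v ∈ V ∧ v ≠ 1 ∧ t * v = v * t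
  · obtain ⟨t, v, ht, hv, hv1, htv⟩ := hc
    set A := centralizer ({t} : Set G) with hA
    have hAc := inv_cent_comm hmin ht
    have hvA : v ∈ A := mem_centralizer_singleton_iff.mpr htv.symm
    have hCv : centralizer ({v} : Set G) = A := cent_eq hmin (ne_one_of_two ht) hv1 hAc hvA
    have hVA : V ≤ A := fun u hu => hCv ▸ mem_centralizer_singleton_iff.mpr (hVab u hu v hv)
    haveI hAn : A.Normal := by
      refine ⟨fun a ha g => ?_⟩
      have hgv1 : g * v * g⁻¹ ≠ 1 := fun e => hv1 (conj_eq_one_iff.mp e)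
      rw [hA, ← cent_eq hmin (ne_one_of_two ht) hgv1 hAc (hVA (hV.conj_mem v hv g)), ← conj_centralizer]
      exact ⟨a, hCv ▸ ha, rfl⟩
    refine hns (solvable_of_normal_quotient A (solvable_of_mem_comm hAc)
      (CfsgLib.PF.oddSolvable _ ?_))
    obtain ⟨S, hS⟩ := exists_sylow_le hmin ht
    rw [← index_eq_card, Nat.odd_iff]
    by_contra h2
    exact S.not_dvd_index ((show 2 ∣ A.index by omega).trans (index_dvd_of_le hS))
  · -- every involution inverts `V`
    push Not at hc
    have hinv : ∀ t : G, orderOf t = 2 → ∀ x ∈ V, t * x * t⁻¹ = x⁻¹ := by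
      intro t ht
      have htt := inv_eq_self ht
      let f : V → V := fun v => ⟨(v : G)⁻¹ * (t * v * t⁻¹),
        V.mul_mem (V.inv_mem v.2) (hV.conj_mem v v.2 t)⟩
      have hf : Function.Injective f := by
        intro a b hab
        have h : (a : G)⁻¹ * (t * a * t⁻¹) = (b : G)⁻¹ * (t * b * t⁻¹) := congrArg Subtype.val hab
        have hm : (b : G) * (a : G)⁻¹ ∈ V := V.mul_mem b.2 (V.inv_mem a.2)
        have h' : t * ((b : G) * (a : G)⁻¹) * t⁻¹ = (b : G) * (a : G)⁻¹ := by
          calc t * ((b : G) * (a : G)⁻¹) * t⁻¹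
              = (b : G) * ((b : G)⁻¹ * (t * b * t⁻¹)) * (t * a * t⁻¹)⁻¹ := by group
            _ = (b : G) * ((a : G)⁻¹ * (t * a * t⁻¹)) * (t * a * t⁻¹)⁻¹ := by rw [h]
            _ = _ := by group
        by_contra hab'
        refine hc t _ ht hm (fun e => hab' (Subtype.ext (mul_inv_eq_one.mp e).symm)) ?_
        exact mul_inv_eq_iff_eq_mul.mp h'
      intro x hx
      obtain ⟨v, hv⟩ := hf.surjective_of_finite (Equiv.refl _) ⟨x, hx⟩
      have hxv : (v : G)⁻¹ * (t * v * t⁻¹) = x := congrArg Subtype.val hv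
      rw [← hxv, mul_inv_rev, inv_inv, htt]
      have e1 : t * t = 1 := by rw [← pow_two, ← ht, pow_orderOf_eq_one]
      calc t * ((v : G)⁻¹ * (t * v * t)) * t = t * (v : G)⁻¹ * t * v * (t * t) := by group
        _ = (t * (v : G)⁻¹ * t⁻¹) * v := by rw [e1, mul_one, htt]
        _ = (t * v * t⁻¹)⁻¹ * v := by group
        _ = _ := by rw [htt]
    obtain ⟨v, hv, hv1⟩ := V.bot_or_exists_ne_one.resolve_left hne
    set K := centralizer (V : Set G) with hK
    haveI hKn : K.Normal := by
      refine ⟨fun k hk g => mem_centralizer_iff.mpr fun x hx => ?_⟩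
      have hx' : g⁻¹ * x * g ∈ V := by simpa using hV.conj_mem x hx g⁻¹
      have := mem_centralizer_iff.mp hk _ hx'
      calc x * (g * k * g⁻¹) = g * ((g⁻¹ * x * g) * k) * g⁻¹ := by group
        _ = g * (k * (g⁻¹ * x * g)) * g⁻¹ := by rw [this]
        _ = _ := by group
    have hKodd : Odd (Nat.card K) := by
      rw [Nat.odd_iff]
      by_contra h2
      obtain ⟨⟨s, hs⟩, hso⟩ := exists_prime_orderOf_dvd_card' (G := K) 2 (by omega)
      rw [orderOf_mk] at hso
      exact hc s v hso hv hv1 (mem_centralizer_iff.mp hs v hv).symm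
    obtain ⟨t, ht⟩ := exists_involution hns
    have hgen : ∀ g : G, ∃ m ∈ K, m⁻¹ * g ∈ centralizer ({t} : Set G) := by
      intro g
      have hs : orderOf (g * t * g⁻¹) = 2 := by
        rw [← MulAut.conj_apply, MulEquiv.orderOf_eq, ht]
      set s := g * t * g⁻¹ with hs'
      have e1 : t * t = 1 := by rw [← pow_two, ← ht, pow_orderOf_eq_one]
      have hss : s * s = 1 := by rw [← pow_two, ← hs, pow_orderOf_eq_one]
      set k := s * t with hk
      have hkK : k ∈ K := by
        refine mem_centralizer_iff.mpr fun x hx => ?_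
        have h1 := hinv t ht x hx
        have h2 := hinv s hs x⁻¹ (V.inv_mem hx)
        rw [inv_inv] at h2
        have h3 : k * x * k⁻¹ = x := by
          calc k * x * k⁻¹ = s * (t * x * t⁻¹) * s⁻¹ := by rw [hk]; group
            _ = x := by rw [h1, h2]
        exact (mul_inv_eq_iff_eq_mul.mp h3).symm
      have htk : t * k * t⁻¹ = k⁻¹ := by
        rw [hk, mul_inv_rev, inv_eq_self hs, inv_eq_self ht]
        calc t * (s * t) * t = t * s * (t * t) := by group
          _ = _ := by rw [e1, mul_one]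
      obtain ⟨j, hj⟩ := hKodd
      set m := k ^ (j + 1) with hm
      have hmm : m * m = k := by
        rw [hm, ← pow_add, show j + 1 + (j + 1) = Nat.card K + 1 by omega, pow_succ]
        have : k ^ Nat.card K = 1 := by
          have h := congrArg Subtype.val (pow_card_eq_one' (x := (⟨k, hkK⟩ : K)))
          simpa only [SubgroupClass.coe_pow, OneMemClass.coe_one] using h
        rw [this, one_mul]
      have htm : t * m * t⁻¹ = m⁻¹ := by
        rw [hm, ← conj_pow, htk, inv_pow]
      refine ⟨m, K.pow_mem hkK _, mem_centralizer_singleton_iff.mpr ?_⟩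
      have h1 : m * t * m⁻¹ = s := by
        calc m * t * m⁻¹ = m * t * (t * m * t⁻¹) := by rw [htm]
          _ = m * (t * t) * m * t⁻¹ := by group
          _ = m * m * t := by rw [e1, mul_one, inv_eq_self ht]
          _ = s * (t * t) := by rw [hmm, hk, mul_assoc]
          _ = s := by rw [e1, mul_one]
      calc m⁻¹ * g * t = m⁻¹ * (g * t * g⁻¹) * g := by group
        _ = m⁻¹ * (m * t * m⁻¹) * g := by rw [← hs', h1]
        _ = _ := by group
    refine hns (solvable_of_normal_quotient K (CfsgLib.PF.oddSolvable _ hKodd)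
      (solvable_of_comm fun a b => ?_))
    obtain ⟨a, rfl⟩ := QuotientGroup.mk_surjective a
    obtain ⟨b, rfl⟩ := QuotientGroup.mk_surjective b
    obtain ⟨m₁, hm₁, ha⟩ := hgen a
    obtain ⟨m₂, hm₂, hb⟩ := hgen b
    have key : ∀ x m : G, m ∈ K → (QuotientGroup.mk x : G ⧸ K) = QuotientGroup.mk (m⁻¹ * x) :=
      fun x m hm => by
        rw [QuotientGroup.mk_mul, (QuotientGroup.eq_one_iff (m⁻¹)).mpr (K.inv_mem hm), one_mul]
    rw [key a m₁ hm₁, key b m₂ hm₂, ← QuotientGroup.mk_mul, ← QuotientGroup.mk_mul,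
      inv_cent_comm hmin ht _ ha _ hb]

theorem solvableRadical_eq_bot (hmin : NoInclusion G) (hns : ¬ Group.IsSolvable G) :
    Cfsg.solvableRadical G = ⊥ := by
  by_contra hne
  obtain ⟨N, hN, hle⟩ :=
    CfsgLib.Structure.exists_isMinNormal_le CfsgLib.Structure.solvableRadical_normal hne
  obtain ⟨p, hp, hab, -⟩ := CfsgLib.Structure.isElementaryAbelian_of_isMinNormal_of_isSolvable hN
    (CfsgLib.Structure.isSolvable_of_le hle CfsgLib.Structure.isSolvable_solvableRadical)
  exact hN.1 (no_abelian_normal hmin hns hN.2.1 fun a ha b hb =>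
    congrArg Subtype.val (Std.Commutative.comm (self := hab.is_comm) (⟨a, ha⟩ : N) ⟨b, hb⟩))

theorem selfNormFree (hmin : NoInclusion G) (hns : ¬ Group.IsSolvable G) (hZ : center G = ⊥) :
    SelfNormFree G := by
  intro g hg hA h1
  have hNA := relIndex_eq_one.mp h1
  set A := centralizer ({g} : Set G) with hAdef
  have hAtop : A ≠ ⊤ := by
    intro h
    refine hg ?_
    rw [← mem_bot, ← hZ, mem_center_iff]
    exact fun x => mem_centralizer_singleton_iff.mp (show x ∈ A by rw [h]; exact mem_top x)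
  have hC : Cfsg.IsFrobeniusComplement A := by
    refine ⟨fun h => hg (mem_bot.mp (h ▸ self_mem g)), hAtop, fun x hx => ?_⟩
    rw [eq_bot_iff]
    rintro a ⟨ha, ha'⟩
    rw [mem_bot]
    by_contra ha1
    obtain ⟨b, hb, hba⟩ := ha'
    have hba' : x * b * x⁻¹ = a := hba
    have hb1 : b ≠ 1 := fun e => ha1 (by rw [← hba', e]; group)
    have h := conj_centralizer x b
    rw [hba', cent_eq hmin hg ha1 hA ha, cent_eq hmin hg hb1 hA hb] at h
    exact hx (hNA (CfsgLib.InvChar.map_conj_eq_iff.mp h))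
  obtain ⟨K, -, hKn, hKc⟩ := CfsgLib.Frobenius.exists_normal_kernel hC
  haveI := hKn
  have hnil := CfsgLib.TwoFrobenius.isNilpotent_kernel hC hKc
  haveI := hnil
  have hK : K = ⊥ := le_bot_iff.mp
    ((solvableRadical_eq_bot hmin hns) ▸ CfsgLib.Structure.le_solvableRadical hKn inferInstance)
  rw [hK, isComplement'_bot_left] at hKc
  exact hAtop hKc

/-- The hypothesis of three centralizer orders. -/
def ThreeOrders (G : Type u) [Group G] : Prop :=
  ∃ g₁ g₂ g₃ : G, g₁ ≠ 1 ∧ g₂ ≠ 1 ∧ g₃ ≠ 1 ∧ ∀ h : G, h ≠ 1 →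
      Nat.card (centralizer ({h} : Set G)) = Nat.card (centralizer ({g₁} : Set G)) ∨
      Nat.card (centralizer ({h} : Set G)) = Nat.card (centralizer ({g₂} : Set G)) ∨
      Nat.card (centralizer ({h} : Set G)) = Nat.card (centralizer ({g₃} : Set G))

theorem threeOrders_of_card (hG : Nontrivial G) (hZ : center G = ⊥)
    (h : Nat.card {n : ℕ | 1 < n ∧ ∃ x : G, (centralizer ({x} : Set G)).index = n} ≤ 3) :
    ThreeOrders G := by
  classical
  set V := {n : ℕ | 1 < n ∧ ∃ x : G, (centralizer ({x} : Set G)).index = n} with hV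
  have hfin : V.Finite := (Set.finite_range fun x : G => (centralizer ({x} : Set G)).index).subset
    fun n hn => hn.2
  rw [Nat.card_coe_set_eq] at h
  have hmem : ∀ x : G, x ≠ 1 → (centralizer ({x} : Set G)).index ∈ V := by
    intro x hx
    refine ⟨?_, x, rfl⟩
    rcases Nat.lt_or_ge 1 (centralizer ({x} : Set G)).index with h1 | h1
    · exact h1
    · refine absurd ?_ hx
      have h2 : (centralizer ({x} : Set G)).index = 1 :=
        le_antisymm h1 (Nat.pos_of_ne_zero index_ne_zero_of_finite)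
      rw [index_eq_one] at h2
      rw [← mem_bot, ← hZ, mem_center_iff]
      exact fun y => mem_centralizer_singleton_iff.mp (h2 ▸ mem_top y)
  have hrep : ∀ n ∈ V, ∃ x : G, x ≠ 1 ∧ (centralizer ({x} : Set G)).index = n := by
    rintro n ⟨hn, x, rfl⟩
    refine ⟨x, fun e => ?_, rfl⟩
    rw [e, index_eq_one.mpr (eq_top_iff.mpr fun y _ =>
      mem_centralizer_singleton_iff.mpr (by simp))] at hn
    omega
  choose r hr hr' using hrep
  obtain ⟨g, hg⟩ := exists_ne (1 : G)
  let pick : List G := (hfin.toFinset.attach.toList.map fun n : hfin.toFinset => r n (hfin.mem_toFinset.mp n.2))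
  have hlen : pick.length ≤ 3 := by
    simpa [pick, ← Set.ncard_eq_toFinset_card V hfin] using h
  have hpick : ∀ x : G, x ≠ 1 → ∃ y ∈ pick, y ≠ 1 ∧
      Nat.card (centralizer ({x} : Set G)) = Nat.card (centralizer ({y} : Set G)) := by
    intro x hx
    refine ⟨r _ (hmem x hx), ?_, hr _ _, ?_⟩
    · simp only [pick, List.mem_map]
      exact ⟨⟨_, hfin.mem_toFinset.mpr (hmem x hx)⟩, by simp, rfl⟩
    · have h1 := (centralizer ({x} : Set G)).card_mul_index
      have h2 := (centralizer ({r _ (hmem x hx)} : Set G)).card_mul_index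
      rw [hr'] at h2
      exact Nat.eq_of_mul_eq_mul_right (Nat.pos_of_ne_zero index_ne_zero_of_finite)
        (h1.trans h2.symm)
  have hne : ∀ y ∈ pick, y ≠ 1 := by
    intro y hy
    simp only [pick, List.mem_map] at hy
    obtain ⟨n, -, rfl⟩ := hy
    exact hr _ _
  have hd : ∀ i : ℕ, pick.getD i g ≠ 1 := by
    intro i
    rw [List.getD_eq_getElem?_getD]
    cases hi : pick[i]? with
    | none => simpa using hg
    | some y => exact hne y (List.mem_of_getElem? hi)
  refine ⟨pick.getD 0 g, pick.getD 1 g, pick.getD 2 g, hd 0, hd 1, hd 2, fun x hx => ?_⟩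
  obtain ⟨y, hy, -, hxy⟩ := hpick x hx
  obtain ⟨i, hi, rfl⟩ := List.mem_iff_getElem.mp hy
  have he : pick.getD i g = pick[i] := List.getD_eq_getElem _ _ hi
  rcases i with _ | _ | _ | i
  · exact Or.inl (he ▸ hxy)
  · exact Or.inr (Or.inl (he ▸ hxy))
  · exact Or.inr (Or.inr (he ▸ hxy))
  · omega

/-- A nonsolvable group with three centralizer orders and no proper inclusion. -/
theorem ca_of_nonsolvable (hmin : NoInclusion G) (hns : ¬ Group.IsSolvable G) (hZ : center G = ⊥)
    (h3 : ThreeOrders G) : CfsgLib.CASimple.CA G := by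
  obtain ⟨g₁, g₂, g₃, h₁, h₂, h₃, h⟩ := h3
  exact fun g hg a ha b hb => ca_of (selfNormFree hmin hns hZ) hmin h₁ h₂ h₃ h g hg a ha b hb

/-- A nonsolvable group with abelian centralizers and no solvable normal subgroup has a simple
minimal normal subgroup. -/
theorem exists_simple_normal (hCA : CfsgLib.CASimple.CA G) (hns : ¬ Group.IsSolvable G)
    (hR : Cfsg.solvableRadical G = ⊥) :
    ∃ T : Subgroup G, T.Normal ∧ IsSimpleGroup T ∧ ¬ ∀ a b : T, a * b = b * a := by
  have hGne : (⊤ : Subgroup G) ≠ ⊥ := fun h => hns (solvable_of_comm fun a b => by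
    rw [mem_bot.mp (h ▸ mem_top a : a ∈ (⊥ : Subgroup G)), mul_one, one_mul])
  obtain ⟨T, hT, -⟩ := CfsgLib.Structure.exists_isMinNormal_le (G := G) normal_top hGne
  haveI := hT.2.1
  have hnsT : ¬ Group.IsSolvable T := fun h =>
    hT.1 (le_bot_iff.mp (hR ▸ CfsgLib.Structure.le_solvableRadical hT.2.1 h))
  have hncT : ¬ ∀ a b : T, a * b = b * a := fun h => hnsT (solvable_of_comm h)
  haveI hnT : Nontrivial T := (nontrivial_iff_ne_bot _).mpr hT.1
  have hRT : Cfsg.solvableRadical T = ⊥ := by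
    haveI := CfsgLib.Structure.solvableRadical_characteristic (G := T)
    have hsol := CfsgLib.Structure.isSolvable_solvableRadical (G := T)
    have hn : ((Cfsg.solvableRadical T).map T.subtype).Normal :=
      ConjAct.normal_of_characteristic_of_normal
    have h := CfsgLib.Structure.le_solvableRadical hn
      (Group.isSolvable_of_surjective (MonoidHom.subgroupMap_surjective T.subtype _))
    rw [hR, le_bot_iff, map_eq_bot_iff_of_injective _ T.subtype_injective] at h
    exact h
  refine ⟨T, hT.2.1, ?_, hncT⟩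
  obtain ⟨S, hS, -⟩ := CfsgLib.Structure.exists_isMinNormal_le (G := T) (H := ⊤) normal_top
    (by simp [top_ne_bot])
  by_cases hST : S = ⊤
  · exact ⟨fun H hH => (hS.2.2 H hH (hST ▸ le_top)).imp id (fun h => h.trans hST)⟩
  exfalso
  -- some conjugate of `S` differs from it
  obtain ⟨g, hg⟩ : ∃ g : G, S.map (MulAut.conjNormal g : T ≃* T).toMonoidHom ≠ S := by
    by_contra hall
    push Not at hall
    have hn : (S.map T.subtype).Normal := by
      refine ⟨?_⟩
      rintro _ ⟨s, hs, rfl⟩ g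
      refine ⟨MulAut.conjNormal g s, ?_, MulAut.conjNormal_apply _ _⟩
      rw [← hall g]
      exact ⟨s, hs, rfl⟩
    rcases hT.2.2 _ hn (map_subtype_le _) with h | h
    · exact hS.1 ((map_eq_bot_iff_of_injective _ T.subtype_injective).mp h)
    · refine hST (map_injective T.subtype_injective ?_)
      rw [h, ← MonoidHom.range_eq_map, range_subtype]
  set S' := S.map (MulAut.conjNormal g : T ≃* T).toMonoidHom with hS'
  have hS'n : S'.Normal := hS.2.1.map _ (MulAut.conjNormal g : T ≃* T).surjective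
  have hdis : Disjoint S S' := by
    rw [disjoint_iff]
    haveI := hS.2.1
    refine (hS.2.2 (S ⊓ S') inferInstance inf_le_left).resolve_right fun h => hg ?_
    exact (Subgroup.eq_of_le_of_card_ge (inf_eq_left.mp h)
      (card_map_of_injective (MulAut.conjNormal g : T ≃* T).injective).le).symm
  have hab : ∀ a ∈ S, ∀ b ∈ S, a * b = b * a := by
    intro a ha b hb
    by_cases ha1 : a = 1
    · rw [ha1, one_mul, mul_one]
    have hmem : ∀ c ∈ S', ((c : T) : G) ∈ centralizer ({(a : G)} : Set G) := fun c hc =>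
      mem_centralizer_singleton_iff.mpr
        (congrArg Subtype.val (commute_of_normal_of_disjoint S S' hS.2.1 hS'n hdis a c ha hc).eq).symm
    have hcc := hCA (a : G) (fun e => ha1 (Subtype.ext e)) _ (hmem _ ⟨a, ha, rfl⟩) _
      (hmem _ ⟨b, hb, rfl⟩)
    apply (MulAut.conjNormal g : T ≃* T).injective
    rw [map_mul, map_mul]
    exact Subtype.ext hcc
  exact hS.1 (le_bot_iff.mp (hRT ▸ CfsgLib.Structure.le_solvableRadical hS.2.1
    (solvable_of_comm fun a b => Subtype.ext (hab a a.2 b b.2))))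

/-- A nonsolvable group with abelian centralizers and no solvable normal subgroup is simple. -/
theorem isSimple_of_ca (hCA : CfsgLib.CASimple.CA G) (hns : ¬ Group.IsSolvable G)
    (hR : Cfsg.solvableRadical G = ⊥) : IsSimpleGroup G ∧ ¬ ∀ a b : G, a * b = b * a := by
  obtain ⟨T, hTn, hTs, hncT⟩ := exists_simple_normal hCA hns hR
  haveI := hTn
  haveI := hTs
  have hC : ∀ (x : T) (y : T), y ∈ centralizer ({x} : Set T) ↔
      (y : G) ∈ centralizer ({(x : G)} : Set G) := fun x y => by
    rw [mem_centralizer_singleton_iff, mem_centralizer_singleton_iff]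
    exact ⟨fun h => congrArg Subtype.val h, fun h => Subtype.ext h⟩
  have hCAT : CfsgLib.CASimple.CA T := fun x hx a ha b hb =>
    Subtype.ext (hCA (x : G) (fun e => hx (Subtype.ext e)) a ((hC x a).mp ha) b ((hC x b).mp hb))
  obtain ⟨S⟩ := CfsgLib.CASimple.Setup.exists_setup hCAT hncT
  have hminT : NoInclusion T := fun a b ha hb hle =>
    (CfsgLib.CASimple.cent_eq hCAT hb ha (hle (CfsgLib.CASimple.self_mem a)))
  set t : G := (S.t : G) with ht
  have ht1 : t ≠ 1 := fun e => S.t_ne_one (Subtype.ext e)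
  set A := centralizer ({t} : Set G) with hA
  -- `G = T A`
  have hgen : ∀ x : G, ∃ u : T, (u : G)⁻¹ * x ∈ A := by
    intro x
    have hx2 : orderOf (MulAut.conjNormal x S.t : T) = 2 := by
      rw [MulEquiv.orderOf_eq]; exact S.ht
    obtain ⟨u, hu⟩ := isConj_iff.mp (S.conj S.t _ S.ht hx2)
    refine ⟨u, mem_centralizer_singleton_iff.mpr ?_⟩
    have hu' : (u : G) * t * (u : G)⁻¹ = x * t * x⁻¹ := by
      have := congrArg Subtype.val hu
      simpa [MulAut.conjNormal_apply] using this
    calc (u : G)⁻¹ * x * t = (u : G)⁻¹ * (x * t * x⁻¹) * x := by group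
      _ = _ := by rw [← hu']; group
  -- an element of `T` normalizing `A` outside it
  obtain ⟨k, hkN, hkA⟩ : ∃ k : T, (k : G) ∈ normalizer (A : Set G) ∧ (k : G) ∉ A := by
    have h1 := selfNormFree_of_simple hncT hminT S.t S.t_ne_one (hCAT S.t S.t_ne_one)
    rw [Ne, relIndex_eq_one] at h1
    obtain ⟨k, hk, hk'⟩ := SetLike.not_le_iff_exists.mp h1
    refine ⟨k, CfsgLib.CASimple.mem_normalizer_of_conj hCA ht1 (CfsgLib.CASimple.self_mem t) ht1 ?_,
      fun h => hk' ((hC _ _).mpr h)⟩
    have := (hC _ _).mp ((mem_normalizer_iff.mp hk S.t).mp (CfsgLib.CASimple.self_mem S.t))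
    simpa using this
  -- `a ↦ [a, k]` embeds `A` into `A ∩ T`
  have hle : A ≤ T := by
    let f : A → (A ⊓ T : Subgroup G) := fun a => ⟨(a : G) * k * (a : G)⁻¹ * (k : G)⁻¹,
      ⟨by
        rw [show (a : G) * k * (a : G)⁻¹ * (k : G)⁻¹ = (a : G) * (k * (a : G)⁻¹ * (k : G)⁻¹) by group]
        exact A.mul_mem a.2 ((mem_normalizer_iff.mp hkN _).mp (A.inv_mem a.2)),
        T.mul_mem (hTn.conj_mem k k.2 a) (T.inv_mem k.2)⟩⟩
    have hf : Function.Injective f := by
      intro a b hab
      have h : (a : G) * k * (a : G)⁻¹ = (b : G) * k * (b : G)⁻¹ :=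
        mul_right_cancel (congrArg Subtype.val hab)
      by_contra hne
      have hd : (b : G)⁻¹ * a ≠ 1 := fun e => hne (Subtype.ext (inv_mul_eq_one.mp e).symm)
      refine hkA ?_
      rw [hA, ← CfsgLib.CASimple.cent_eq hCA ht1 hd (A.mul_mem (A.inv_mem b.2) a.2)]
      refine mem_centralizer_singleton_iff.mpr ?_
      calc (k : G) * ((b : G)⁻¹ * a) = (b : G)⁻¹ * ((b : G) * k * (b : G)⁻¹) * a := by group
        _ = (b : G)⁻¹ * ((a : G) * k * (a : G)⁻¹) * a := by rw [h]
        _ = _ := by group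
    exact inf_eq_left.mp (Subgroup.eq_of_le_of_card_ge inf_le_left
      (Nat.card_le_card_of_injective f hf))
  have htop : T = ⊤ := by
    rw [eq_top_iff]
    intro x _
    obtain ⟨u, hu⟩ := hgen x
    simpa using T.mul_mem u.2 (hle hu)
  subst htop
  exact ⟨(topEquiv (G := G)).isSimpleGroup_congr.mp hTs, fun h => hncT fun a b => Subtype.ext (h a b)⟩

/-- Case without proper inclusions between centralizers. -/
theorem exists_psl (hmin : NoInclusion G) (hns : ¬ Group.IsSolvable G) (hZ : center G = ⊥)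
    (h3 : ThreeOrders G) :
    ∃ a : ℕ, 0 < a ∧
      Nonempty (G ≃* Matrix.ProjectiveSpecialLinearGroup (Fin 2) (GaloisField 2 a)) := by
  have hCA := ca_of_nonsolvable hmin hns hZ h3
  obtain ⟨hs, hnc⟩ := isSimple_of_ca hCA hns (solvableRadical_eq_bot hmin hns)
  haveI := hs
  obtain ⟨F, iF, iF', f, hf, hcard, ⟨e⟩⟩ := CfsgLib.CASimple.exists_psl_of_ca hCA hnc
  haveI := Fintype.ofFinite (GaloisField 2 f)
  have hc : Fintype.card F = Fintype.card (GaloisField 2 f) := by
    rw [hcard, ← Nat.card_eq_fintype_card (α := GaloisField 2 f), GaloisField.card 2 f (by omega)]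
  exact ⟨f, by omega, ⟨e.trans (CfsgLib.ClassicalGroups.pslFieldCongr
    (FiniteField.ringEquivOfCardEq hc))⟩⟩

end CfsgLib.InvChar.RankThree.NoIncl
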