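import Cfsg.Agent.Lib.InvChar.RankThreeGeneral
import Cfsg.Agent.Lib.Frobenius.FPFThompson
import Cfsg.Agent.Lib.ClassSize.SquarefreeStructure

/-!
The abelian normal kernel cases: a normal abelian subgroup which is the centralizer of each of its
elements, and the case where the elements of class size `a < b` centralize an abelian normal subgroup.
-/

set_option autoImplicit false
set_option linter.unusedSectionVars false
set_option linter.style.haveILetI false
set_option maxHeartbeats 1000000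

namespace CfsgLib.InvChar.RankThree

open Subgroup
open CfsgLib.Recog.ClassSizesPSLTwo (cs IsPElt centralizer_mul centralizer_le_pow cs_conj mem_center_iff_cs)
open scoped commutatorElement

universe u

variable {G : Type u} [Group G] [Finite G]

/-- A normal abelian subgroup which is the centralizer of each of its elements, with two class sizes
outside. -/
theorem solvable_of_frobenius (A : Subgroup G) [A.Normal]
    (hA : ∀ k ∈ A, k ≠ 1 → centralizer ({k} : Set G) = A) (m₁ m₂ : ℕ)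
    (hx : ∀ x : G, x ∉ A → cs x = m₁ ∨ cs x = m₂) : Group.IsSolvable G := by
  classical
  have hab : ∀ k ∈ A, ∀ l ∈ A, k * l = l * k := by
    intro k hk l hl
    by_cases hl1 : l = 1
    · rw [hl1, mul_one, one_mul]
    · exact (comm_of_mem ((hA l hl hl1).symm ▸ hk : k ∈ centralizer ({l} : Set G))).eq
  haveI : Group.IsSolvable A := Group.isSolvable_of_comm fun k l => Subtype.ext (hab k k.2 l l.2)
  suffices hq : Group.IsSolvable (G ⧸ A) from
    (Group.isSolvable_iff_subgroup_quotient A).2 ⟨inferInstance, hq⟩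
  refine solvable_of_two_sizes (m₁ / Nat.card A) (m₂ / Nat.card A) fun z hz => ?_
  obtain ⟨x, rfl⟩ := QuotientGroup.mk_surjective z
  have hxA : x ∉ A := fun h => hz (by rw [(QuotientGroup.eq_one_iff x).2 h]; exact one_mem _)
  have hbot : centralizer ({x} : Set G) ⊓ A = ⊥ := by
    rw [eq_bot_iff]
    intro k hk
    by_contra hk1
    exact hxA (hA k hk.2 (fun e => hk1 (mem_bot.mpr e)) ▸ mem_of_comm (comm_of_mem hk.1).symm)
  have hlift : ∀ y : G, y⁻¹ * x⁻¹ * y * x ∈ A → ∃ k ∈ A, Commute (y * k) x := by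
    intro y hy
    have hmem : ∀ k : A, (k : G) * x⁻¹ * (k : G)⁻¹ * x ∈ A := fun k => by
      have := A.mul_mem k.2 (‹A.Normal›.conj_mem _ (A.inv_mem k.2) x⁻¹)
      simpa [mul_assoc] using this
    let f : A → A := fun k => ⟨_, hmem k⟩
    have hinj : Function.Injective f := by
      intro k l hkl
      have e : (k : G) * x⁻¹ * (k : G)⁻¹ * x = (l : G) * x⁻¹ * (l : G)⁻¹ * x :=
        congrArg Subtype.val hkl
      have e' : ((l : G)⁻¹ * k) * x⁻¹ * ((l : G)⁻¹ * k)⁻¹ * x = 1 := by
        calc ((l : G)⁻¹ * k) * x⁻¹ * ((l : G)⁻¹ * k)⁻¹ * x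
            = (l : G)⁻¹ * ((k : G) * x⁻¹ * (k : G)⁻¹ * x) * (x⁻¹ * l * x) := by group
          _ = (l : G)⁻¹ * ((l : G) * x⁻¹ * (l : G)⁻¹ * x) * (x⁻¹ * l * x) := by rw [e]
          _ = 1 := by group
      have hc : Commute ((l : G)⁻¹ * k) x := by
        have h1 : ((l : G)⁻¹ * k) * x⁻¹ * ((l : G)⁻¹ * k)⁻¹ = x⁻¹ := eq_inv_of_mul_eq_one_left e'
        exact (Commute.inv_right_iff).mp (mul_inv_eq_iff_eq_mul.mp h1)
      have h0 : (l : G)⁻¹ * k ∈ centralizer ({x} : Set G) ⊓ A :=
        ⟨mem_of_comm hc, A.mul_mem (A.inv_mem l.2) k.2⟩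
      rw [hbot, mem_bot, inv_mul_eq_one] at h0
      exact Subtype.ext h0.symm
    obtain ⟨k, hk⟩ := Finite.injective_iff_surjective.mp hinj ⟨_, hy⟩
    have hk' : (k : G) * x⁻¹ * (k : G)⁻¹ * x = y⁻¹ * x⁻¹ * y * x := congrArg Subtype.val hk
    refine ⟨k, k.2, ?_⟩
    have h1 : (k : G) * x⁻¹ * (k : G)⁻¹ = y⁻¹ * x⁻¹ * y := mul_right_cancel hk'
    have h2 : x⁻¹ * (y * k) = y * k * x⁻¹ := by
      calc x⁻¹ * (y * k) = y * (y⁻¹ * x⁻¹ * y) * k := by group
        _ = y * ((k : G) * x⁻¹ * (k : G)⁻¹) * k := by rw [h1]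
        _ = _ := by group
    exact (Commute.inv_left_iff.mp (h2 : Commute x⁻¹ (y * k))).symm
  have hq := cs_mk_eq A hlift
  have hcard := CfsgLib.Coprime.card_sup_mul_card_inf (H := centralizer ({x} : Set G)) (N := A)
    (by rw [normalizer_eq_top]; exact le_top)
  rw [inf_comm] at hcard
  simp only [hbot, card_bot, mul_one] at hcard
  have h1 := (centralizer ({x} : Set G) ⊔ A).card_mul_index
  rw [← (centralizer ({x} : Set G)).card_mul_index, hcard, mul_assoc] at h1
  have h2 : cs x = Nat.card A * cs (x : G ⧸ A) := by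
    rw [hq]; exact (Nat.eq_of_mul_eq_mul_left Nat.card_pos h1).symm
  have hA0 : 0 < Nat.card A := Nat.card_pos
  rcases hx x hxA with e | e <;> rw [e] at h2
  · exact Or.inl (by rw [h2, Nat.mul_div_cancel_left _ hA0])
  · exact Or.inr (by rw [h2, Nat.mul_div_cancel_left _ hA0])

/-- Prime power elements of different primes in a nilpotent subgroup commute. -/
theorem commute_nilpotent {N : Subgroup G} (hN : Group.IsNilpotent N) {p q : ℕ} (hp : p.Prime)
    (hq : q.Prime) (hpq : p ≠ q) {v w : G} (hv : v ∈ N) (hw : w ∈ N) (hvp : IsPElt p v)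
    (hwq : IsPElt q w) : Commute v w := by
  haveI := Fact.mk hp
  haveI := Fact.mk hq
  haveI := hN
  have mk : ∀ {r : ℕ} [Fact r.Prime] {k : G} (hk : k ∈ N), IsPElt r k →
      ∃ P : Sylow r N, (⟨k, hk⟩ : N) ∈ (P : Subgroup N) := by
    intro r _ k hk ⟨i, hi⟩
    obtain ⟨P, hP⟩ := (IsPGroup.of_equiv (G := zpowers k) (H := zpowers (⟨k, hk⟩ : N)) (fun z => by
      obtain ⟨j, hj⟩ := mem_zpowers_iff.mp z.2
      exact ⟨i, Subtype.ext (by
        show (z : G) ^ r ^ i = 1
        rw [← hj, ← zpow_natCast, ← zpow_mul, mul_comm, zpow_mul, zpow_natCast, hi, one_zpow])⟩)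
      (MulEquiv.symm ((Subgroup.equivMapOfInjective (zpowers (⟨k, hk⟩ : N)) N.subtype
        N.subtype_injective).trans (MulEquiv.subgroupCongr (MonoidHom.map_zpowers _ _))))).exists_le_sylow
    exact ⟨P, hP (mem_zpowers _)⟩
  obtain ⟨P, hP⟩ := mk hv hvp
  obtain ⟨Q, hQ⟩ := mk hw hwq
  exact congrArg Subtype.val (commute_of_normal_of_disjoint (P : Subgroup N) (Q : Subgroup N)
    inferInstance inferInstance (IsPGroup.disjoint_of_ne p q hpq _ _ P.isPGroup' Q.isPGroup')
    _ _ hP hQ).eq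

/-- The number of elements in a union of classes of a given size. -/
theorem dvd_ncard_of_invariant {m : ℕ} : ∀ (X : Set G), (∀ x ∈ X, ∀ g : G, g * x * g⁻¹ ∈ X) →
    (∀ x ∈ X, cs x = m) → m ∣ X.ncard := by
  intro X
  induction hn : X.ncard using Nat.strong_induction_on generalizing X with
  | _ n ih =>
  intro hinv hsz
  subst hn
  rcases X.eq_empty_or_nonempty with rfl | ⟨x, hx⟩
  · simp
  set K := CfsgLib.Structure81.CoprimeClass.clas x
  have hK : K.ncard = m := by
    rw [← Nat.card_coe_set_eq, CfsgLib.Structure81.CoprimeClass.card_clas]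
    exact hsz x hx
  have hKX : K ⊆ X := by rintro _ ⟨g, rfl⟩; exact hinv x hx g
  have h1 := Set.ncard_sdiff_add_ncard_of_subset hKX (Set.toFinite X)
  rw [← h1, hK]
  refine dvd_add (ih _ ?_ _ rfl (fun y hy g => ⟨hinv y hy.1 g, fun hg => hy.2 ?_⟩)
    fun y hy => hsz y hy.1) dvd_rfl
  · rw [← h1]
    have : 0 < K.ncard := (Set.ncard_pos (Set.toFinite _)).mpr ⟨x, ⟨1, by simp⟩⟩
    omega
  · obtain ⟨e, he⟩ := hg
    exact ⟨g⁻¹ * e, by
      simp only at he ⊢
      calc g⁻¹ * e * x * (g⁻¹ * e)⁻¹ = g⁻¹ * (e * x * e⁻¹) * g := by group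
        _ = y := by rw [he]; group⟩

namespace Split

variable {a b c : ℕ} (h : Split G a b c)
include h

theorem false_of_min_a (hlt : a < b) {V : Subgroup G} [V.Normal] (hV : IsMulCommutative V)
    (hVne : V ≠ ⊥) {H : Subgroup G} (hH : Nat.card H = a) (hnil : Group.IsNilpotent H) : False := by
  classical
  obtain ⟨u₀, hu₀, hua₀⟩ := h.exA
  have ha0 : 0 < a := Nat.lt_trans Nat.zero_lt_one h.a_gt
  have hb0 : 0 < b := Nat.lt_trans Nat.zero_lt_one h.b_gt
  set N := centralizer {g : G | cs g = a} with hN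
  haveI hNn : N.Normal := by
    refine ⟨fun n hn g => mem_centralizer_iff.mpr fun u hu => ?_⟩
    have hu' : g⁻¹ * u * g ∈ {g : G | cs g = a} := by
      show cs (g⁻¹ * u * g) = a
      have := cs_conj u g⁻¹
      rw [inv_inv] at this
      exact this.trans hu
    have e := mem_centralizer_iff.mp hn _ hu'
    calc u * (g * n * g⁻¹) = g * (g⁻¹ * u * g * n) * g⁻¹ := by group
      _ = g * (n * (g⁻¹ * u * g)) * g⁻¹ := by rw [e]
      _ = _ := by group
  have hNle : ∀ u : G, cs u = a → N ≤ centralizer ({u} : Set G) := fun u hu g hg =>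
    mem_centralizer_singleton_iff.mpr (mem_centralizer_iff.mp hg u hu).symm
  have hVu : ∀ v ∈ V, ∀ u : G, cs u = a → Commute v u := by
    intro v hv u hu
    refine commute_of_minimal h.centre (fun y hy => ?_) hV hv
    rw [hu]
    rcases h.hval y hy with e | e | e <;> rw [e]
    · exact hlt.le
    · exact Nat.le_of_dvd (Nat.lt_trans Nat.zero_lt_one h.c_gt) h.dvd
  have hordu : ∀ w : G, w ∈ centralizer ({u₀} : Set G) → orderOf w ∣ b := fun w hw =>
    h.card_cent_a hua₀ ▸ Subgroup.orderOf_dvd_natCard _ hw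
  -- centralizers of nontrivial normal subgroups of `N` lie in `N`
  have hCW : ∀ W : Subgroup G, W.Normal → W ≠ ⊥ → (∀ w ∈ W, ∀ u : G, cs u = a → Commute w u) →
      centralizer (W : Set G) ≤ N := by
    intro W hW hWne hWu
    haveI := hW
    set M := centralizer (W : Set G) with hM
    have hcop : Nat.Coprime (Nat.card M) a := by
      refine Nat.coprime_of_dvd fun r hr hrM hra => ?_
      haveI := Fact.mk hr
      obtain ⟨⟨g, hg⟩, hgo⟩ := exists_prime_orderOf_dvd_card' (G := M) r hrM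
      rw [orderOf_mk] at hgo
      have hgb := h.pi g (ne_one_of_orderOf hr hgo) (hgo ▸ hra)
      refine hWne (eq_bot_iff.mpr fun w hw => mem_bot.mpr (h.eq_one_of_coprime ?_
        (hordu w (mem_of_comm (hWu w hw u₀ hua₀)))))
      exact h.card_cent_b hgb ▸ Subgroup.orderOf_dvd_natCard _
        (mem_centralizer_singleton_iff.mpr (mem_centralizer_iff.mp hg w hw))
    intro g hg
    refine mem_centralizer_iff.mpr fun u hu => ?_
    have hprod := CfsgLib.Coprime.card_sup_mul_card_inf (H := centralizer ({u} : Set G)) (N := M)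
      (by rw [normalizer_eq_top]; exact le_top)
    rw [h.card_cent_a hu] at hprod
    have hcop' : Nat.Coprime (Nat.card ↥(centralizer ({u} : Set G) ⊔ M)) a :=
      Nat.Coprime.coprime_dvd_left ⟨_, hprod.symm⟩ (h.coprime.symm.mul_left hcop)
    have hdvd : Nat.card ↥(centralizer ({u} : Set G) ⊔ M) ∣ b :=
      hcop'.dvd_of_dvd_mul_left (h.card ▸ card_subgroup_dvd_card _)
    have heq : centralizer ({u} : Set G) = centralizer ({u} : Set G) ⊔ M :=
      Subgroup.eq_of_le_of_card_ge le_sup_left (h.card_cent_a hu ▸ Nat.le_of_dvd hb0 hdvd)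
    exact (mem_centralizer_singleton_iff.mp
      (heq ▸ (le_sup_right : M ≤ _) hg : g ∈ centralizer ({u} : Set G))).symm
  have hVN : V ≤ N := fun v hv => mem_centralizer_iff.mpr fun u hu => (hVu v hv u hu).symm.eq
  have huN : ∀ u : G, cs u = a → u ∈ N := fun u hu =>
    hCW V inferInstance hVne hVu (mem_centralizer_iff.mpr fun v hv => (hVu v hv u hu).eq)
  have hCW' : ∀ W : Subgroup G, W.Normal → W ≠ ⊥ → W ≤ N → centralizer (W : Set G) ≤ N :=
    fun W hW hWne hle => hCW W hW hWne fun w hw u hu => comm_of_mem (hNle u hu (hle hw))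
  have hNord : ∀ g ∈ N, orderOf g ∣ b := fun g hg => hordu g (hNle u₀ hua₀ hg)
  have hNtype : ∀ g ∈ N, g ≠ 1 → cs g = a ∨ cs g = c := fun g hg hg1 =>
    h.cs_ac hg1 (Nat.Coprime.coprime_dvd_left (hNord g hg) h.coprime.symm)
  -- `N` is nilpotent
  have hNnil : Group.IsNilpotent N := by
    obtain ⟨s, hs, hsa⟩ := Nat.exists_prime_and_dvd h.a_gt.ne'
    haveI := Fact.mk hs
    obtain ⟨x, hx⟩ := exists_prime_orderOf_dvd_card' (G := G) s (hsa.trans h.a_dvd_card)
    refine CfsgLib.Frobenius.Thompson.isNilpotent_of_element N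
      (h := x) (by rw [normalizer_eq_top]; exact mem_top x) hs (hx ▸ pow_orderOf_eq_one x)
      fun k hk hc => h.eq_one_of_coprime ?_ (hNord k hk)
    exact h.card_cent_b (h.pi x (ne_one_of_orderOf hs hx) (hx ▸ hsa)) ▸
      Subgroup.orderOf_dvd_natCard _ (mem_centralizer_singleton_iff.mpr hc.symm)
  haveI := hNnil
  obtain ⟨β, hβ⟩ : Nat.card N ∣ b := h.card_cent_a hua₀ ▸ card_dvd_of_le (hNle u₀ hua₀)
  set m := Nat.card N with hm
  have hm0 : 0 < m := Nat.card_pos
  have hβb : β ∣ b := Dvd.intro_left m hβ.symm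
  have hindex : N.index = a * β :=
    Nat.eq_of_mul_eq_mul_left hm0 (by rw [hm, card_mul_index, h.card, hβ, hm]; ring)
  have hnoA : ∀ s : ℕ, s.Prime → s ∣ b → ¬ s ∣ a := fun s hs hsb hsa =>
    hs.not_dvd_one (h.coprime ▸ Nat.dvd_gcd hsa hsb)
  have hNnsol : ¬ Group.IsSolvable (G ⧸ N) := fun hq =>
    h.ns ((Group.isSolvable_iff_subgroup_quotient N).2 ⟨inferInstance, hq⟩)
  -- the image of `H` and a nilpotent subgroup whose order is divisible by `β`
  have hKW : ∀ A : Subgroup (G ⧸ N), Group.IsNilpotent A → β ∣ Nat.card A →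
      Nat.Coprime (Nat.card A) a → False := by
    intro A hA hβA hAa
    refine hNnsol (CfsgLib.Ito.isSolvable_of_card hA (Fitting.isNilpotent_map hnil
      (QuotientGroup.mk' N)) ?_)
    have hHN : H ⊓ N = ⊥ := by
      rw [eq_bot_iff]
      intro x hx
      exact mem_bot.mpr (h.eq_one_of_coprime (hH ▸ Subgroup.orderOf_dvd_natCard _ hx.1)
        (hNord x hx.2))
    have hcB : Nat.card (H.map (QuotientGroup.mk' N)) = a := by
      rw [← hH]
      refine (Nat.card_congr (Equiv.ofBijective (fun x : H => (⟨_, x, x.2, rfl⟩ :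
        H.map (QuotientGroup.mk' N))) ⟨fun x y e => ?_, ?_⟩)).symm
      · have e' : (x : G ⧸ N) = (y : G ⧸ N) := congrArg Subtype.val e
        have h2 : (x : G)⁻¹ * y ∈ H ⊓ N :=
          ⟨H.mul_mem (H.inv_mem x.2) y.2, QuotientGroup.eq.mp e'⟩
        rw [hHN, mem_bot, inv_mul_eq_one] at h2
        exact Subtype.ext h2
      · rintro ⟨_, x, hx, rfl⟩
        exact ⟨⟨x, hx⟩, rfl⟩
    have hinf : A ⊓ H.map (QuotientGroup.mk' N) = ⊥ := by
      refine Subgroup.eq_bot_of_card_eq _ (Nat.eq_one_of_dvd_coprimes hAa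
        (card_dvd_of_le inf_le_left) ?_)
      conv_rhs => rw [← hcB]
      exact card_dvd_of_le inf_le_right
    rw [hinf, card_bot, mul_one, hcB, ← index_eq_card, hindex, mul_comm a β]
    exact Nat.mul_le_mul_right _ (Nat.le_of_dvd Nat.card_pos hβA)
  have hβtwo : ∀ r : ℕ, r.Prime → ∃ s, s.Prime ∧ s ∣ β ∧ s ≠ r := by
    intro r hr
    by_contra! hall
    have hβ0 : β ≠ 0 := fun e => hb0.ne' (by rw [hβ, e, mul_zero])
    have hpow := Nat.eq_prime_pow_of_unique_prime_dvd hβ0 (p := r) fun {d} hd hd' => hall d hd hd'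
    by_cases hrb : r ∣ β
    · haveI := Fact.mk hr
      let S : Sylow r (G ⧸ N) := default
      refine hKW (S : Subgroup (G ⧸ N)) S.isPGroup'.isNilpotent ?_ ?_
      · rw [S.card_eq_multiplicity, hpow]
        refine pow_dvd_pow r ?_
        rw [← index_eq_card, hindex]
        refine (hr.pow_dvd_iff_le_factorization (Nat.mul_ne_zero ha0.ne' hβ0)).mp ?_
        rw [← hpow]; exact dvd_mul_left β a
      · rw [S.card_eq_multiplicity]
        exact (hr.coprime_iff_not_dvd.mpr (hnoA r hr (hrb.trans hβb))).pow_left _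
    · refine hKW ⊥ inferInstance ?_ (by rw [card_bot]; exact Nat.coprime_one_left a)
      rw [card_bot, Nat.dvd_one]
      by_contra h1
      obtain ⟨s, hs, hsd⟩ := Nat.exists_prime_and_dvd h1
      exact hrb (hall s hs hsd ▸ hsd)
  obtain ⟨g₁, hg₁, hg₁c⟩ := h.exC
  set n := Nat.card (centralizer ({g₁} : Set G)) with hn
  have hcardc : ∀ g : G, cs g = c → Nat.card (centralizer ({g} : Set G)) = n := fun g hg =>
    Nat.eq_of_mul_eq_mul_right (Nat.lt_trans Nat.zero_lt_one h.c_gt)
      ((h.card_cent hg).trans (h.card_cent hg₁c).symm)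
  have hnb : n ∣ b := h.card_cent_c hg₁c
  have hout : ∀ g : G, g ∉ N → Nat.Coprime (orderOf g) a → cs g = c := fun g hg hco =>
    (h.cs_ac (fun e => hg (by rw [e]; exact one_mem N)) hco).resolve_left fun e => hg (huN g e)
  have hcopP : ∀ {s : ℕ} {g : G}, s.Prime → s ∣ b → IsPElt s g → Nat.Coprime (orderOf g) a := by
    intro s g hs hsb hg
    obtain ⟨k, hk⟩ := hg
    exact Nat.Coprime.coprime_dvd_left (orderOf_dvd_of_pow_eq_one hk)
      ((hs.coprime_iff_not_dvd.mpr (hnoA s hs hsb)).pow_left k)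
  have houtE : ∀ s : ℕ, s.Prime → s ∣ β → ∃ g : G, g ∉ N ∧ IsPElt s g ∧ cs g = c := by
    intro s hs hsb
    obtain ⟨g, hg, hgs⟩ := exists_isPElt_not_mem N hs (hindex ▸ hsb.mul_left a)
    exact ⟨g, hg, hgs, hout g hg (hcopP hs (hsb.trans hβb) hgs)⟩
  have hsn : ∀ s : ℕ, s.Prime → s ∣ β → s ∣ n := by
    intro s hs hsb
    obtain ⟨g, hg, hgs, hgc⟩ := houtE s hs hsb
    exact (isPElt_dvd hs hgs fun e => hg (e ▸ one_mem N)).trans (h.dvd_cent_c hgc hg₁c)
  -- the Sylow subgroups of `N` and their centres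
  have hsyl : ∀ s : ℕ, s.Prime → s ∣ m → ∃ S W : Subgroup G, S ≤ N ∧ IsPGroup s S ∧
      Nat.card S = s ^ m.factorization s ∧ W ≤ S ∧ W.Normal ∧ W ≠ ⊥ ∧
      (∀ w ∈ W, ∀ w' ∈ W, w * w' = w' * w) ∧
      (∀ X : Subgroup G, X ≤ N → IsPGroup s X → X ≤ S) := by
    intro s hs hsm
    haveI := Fact.mk hs
    let S₀ : Sylow s N := default
    haveI hS₀n : (S₀ : Subgroup N).Normal := inferInstance
    haveI := S₀.characteristic_of_normal hS₀n
    haveI : Nontrivial (S₀ : Subgroup N) :=
      (nontrivial_iff_ne_bot _).mpr (S₀.ne_bot_of_dvd_card hsm)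
    haveI := S₀.isPGroup'.center_nontrivial
    refine ⟨(S₀ : Subgroup N).map N.subtype,
      ((center (S₀ : Subgroup N)).map (S₀ : Subgroup N).subtype).map N.subtype,
      map_subtype_le _, S₀.isPGroup'.map _, ?_, map_mono (map_subtype_le _), inferInstance, ?_, ?_,
      ?_⟩
    · rw [card_map_of_injective N.subtype_injective, S₀.card_eq_multiplicity]
    · rw [Ne, map_eq_bot_iff_of_injective _ N.subtype_injective,
        map_eq_bot_iff_of_injective _ (S₀ : Subgroup N).subtype_injective]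
      exact (nontrivial_iff_ne_bot _).mp inferInstance
    · rintro _ ⟨_, ⟨w, hw, rfl⟩, rfl⟩ _ ⟨_, ⟨w', -, rfl⟩, rfl⟩
      exact congrArg (fun t : (S₀ : Subgroup N) => ((t : N) : G)) (mem_center_iff.mp hw w').symm
    · intro X hXN hX
      obtain ⟨T, hT⟩ := (hX.comap_of_injective N.subtype N.subtype_injective).exists_le_sylow
      haveI := Sylow.unique_of_normal S₀ hS₀n
      intro x hx
      exact ⟨⟨x, hXN hx⟩, (Subsingleton.elim T S₀) ▸ hT (show (⟨x, hXN hx⟩ : N) ∈ _ from hx), rfl⟩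
  -- commuting elements outside `N` of coprime order
  have key : ∀ (o s : ℕ) (g x : G), o.Prime → s.Prime → o ≠ s → g ∉ N → x ∉ N → IsPElt o g →
      IsPElt s x → cs g = c → cs x = c → Commute g x →
      ¬ s ∣ m ∧ centralizer ({g} : Set G) = centralizer ({x} : Set G) := by
    intro o s g x ho hs hos hg hx hgo hxs hgc hxc hcomm
    have hco := coprime_orderOf ho hs hos hgo hxs
    have heq : centralizer ({g} : Set G) = centralizer ({x} : Set G) :=
      le_antisymm (h.le_of_c hgc (fun e => hx (e ▸ one_mem N)) hcomm.symm hco.symm)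
        (h.le_of_c hxc (fun e => hg (e ▸ one_mem N)) hcomm hco)
    refine ⟨fun hsm => ?_, heq⟩
    obtain ⟨S, W, hSN, hSp, -, hWS, hWn, hWne, hWab, -⟩ := hsyl s hs hsm
    haveI := hWn
    have hWN : W ≤ N := hWS.trans hSN
    have hmem : ∀ k : W, g * (k : G) * g⁻¹ * (k : G)⁻¹ ∈ W := fun k =>
      W.mul_mem (hWn.conj_mem _ k.2 g) (W.inv_mem k.2)
    let f : W →* W := MonoidHom.mk' (fun k => ⟨_, hmem k⟩) fun k l => Subtype.ext (by
      show g * ((k : G) * l) * g⁻¹ * ((k : G) * l)⁻¹ =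
        g * (k : G) * g⁻¹ * (k : G)⁻¹ * (g * (l : G) * g⁻¹ * (l : G)⁻¹)
      have e := hWab _ (W.inv_mem k.2) _ (W.mul_mem (hWn.conj_mem _ l.2 g) (W.inv_mem l.2))
      calc g * ((k : G) * l) * g⁻¹ * ((k : G) * l)⁻¹
          = g * (k : G) * g⁻¹ * ((g * (l : G) * g⁻¹ * (l : G)⁻¹) * (k : G)⁻¹) := by group
        _ = g * (k : G) * g⁻¹ * ((k : G)⁻¹ * (g * (l : G) * g⁻¹ * (l : G)⁻¹)) := by rw [e]
        _ = _ := by group)
    set I := f.range.map W.subtype with hI
    have hIne : I ≠ ⊥ := by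
      intro hbot
      refine hg (hCW' W hWn hWne hWN (mem_centralizer_iff.mpr fun k hk => ?_))
      have h1 : ((f ⟨k, hk⟩ : W) : G) ∈ I := ⟨f ⟨k, hk⟩, ⟨_, rfl⟩, rfl⟩
      rw [hbot, mem_bot] at h1
      exact (mul_inv_eq_iff_eq_mul.mp (mul_inv_eq_one.mp h1)).symm
    have hxI : ∀ z : G, Commute g z → z ∈ normalizer (I : Set G) := by
      have hcl : ∀ z : G, Commute g z → ∀ i ∈ I, z * i * z⁻¹ ∈ I := by
        rintro z hz _ ⟨_, ⟨k, rfl⟩, rfl⟩
        refine ⟨f ⟨z * k * z⁻¹, hWn.conj_mem _ k.2 z⟩, ⟨_, rfl⟩, ?_⟩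
        show g * (z * k * z⁻¹) * g⁻¹ * (z * k * z⁻¹)⁻¹ = z * (g * k * g⁻¹ * (k : G)⁻¹) * z⁻¹
        have e1 : g * z = z * g := hz.eq
        have e2 : z⁻¹ * g⁻¹ = g⁻¹ * z⁻¹ := by rw [← mul_inv_rev, ← mul_inv_rev, e1]
        calc g * (z * k * z⁻¹) * g⁻¹ * (z * k * z⁻¹)⁻¹
            = (g * z) * k * (z⁻¹ * g⁻¹) * (z * (k : G)⁻¹ * z⁻¹) := by group
          _ = (z * g) * k * (g⁻¹ * z⁻¹) * (z * (k : G)⁻¹ * z⁻¹) := by rw [e1, e2]
          _ = _ := by group
      intro z hz
      refine mem_normalizer_iff.mpr fun i => ⟨hcl z hz i, fun hi => ?_⟩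
      have := hcl z⁻¹ hz.inv_right _ hi
      rwa [show z⁻¹ * (z * i * z⁻¹) * z⁻¹⁻¹ = i by group] at this
    obtain ⟨w, hwI, hw1, hwc⟩ := CfsgLib.Ito.exists_fixed hs
      (((hSp.to_le hWS).to_subgroup f.range).map W.subtype) hIne hxs (hxI x hcomm)
    obtain ⟨_, ⟨k, rfl⟩, hkw⟩ := hwI
    have hwg : Commute g w :=
      (comm_of_mem (heq.symm ▸ mem_of_comm hwc : w ∈ centralizer ({g} : Set G))).symm
    have hwp : IsPElt s w := isPElt_of_mem (hSp.to_le hWS) (hkw ▸ (f k).2)
    have hgs : ¬ s ∣ orderOf g := fun hd => by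
      obtain ⟨i, hi⟩ := hgo
      exact hos ((Nat.prime_dvd_prime_iff_eq hs ho).mp
        (hs.dvd_of_dvd_pow (hd.trans (orderOf_dvd_of_pow_eq_one hi)))).symm
    have he : g * (k : G) * g⁻¹ = w * k := by
      rw [← hkw]
      show g * (k : G) * g⁻¹ = g * (k : G) * g⁻¹ * (k : G)⁻¹ * k
      group
    have hgk := CfsgLib.SquarefreeClass.commute_of_translation hs hgs hwp hwg.eq he
    refine hw1 ?_
    rw [← hkw]
    show g * (k : G) * g⁻¹ * (k : G)⁻¹ = 1
    rw [hgk]; group
  -- the `s`-part of `n` is smaller than that of `m`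
  have hsmall : ∀ s : ℕ, s.Prime → s ∣ β → s ∣ m → ¬ s ^ m.factorization s ∣ n := by
    intro s hs hsb hsm hdn
    haveI := Fact.mk hs
    obtain ⟨o, ho, hob, hos⟩ := hβtwo s hs
    obtain ⟨g, hg, hgo, hgc⟩ := houtE o ho hob
    obtain ⟨X, hX⟩ := Sylow.exists_subgroup_card_pow_prime (G := centralizer ({g} : Set G)) s
      ((hcardc g hgc).symm ▸ hdn)
    set X' := X.map (centralizer ({g} : Set G)).subtype with hX'
    have hXp : IsPGroup s X' := (IsPGroup.of_card hX).map _
    have hXN : X' ≤ N := by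
      intro x hx
      by_contra hxN
      have hxs := isPElt_of_mem hXp hx
      exact (key o s g x ho hs hos hg hxN hgo hxs hgc
        (hout x hxN (hcopP hs (hsb.trans hβb) hxs))
        (comm_of_mem (map_subtype_le _ hx)).symm).1 hsm
    obtain ⟨S, W, hSN, hSp, hScard, hWS, hWn, hWne, -, hmax⟩ := hsyl s hs hsm
    have heq : X' = S := Subgroup.eq_of_le_of_card_ge (hmax X' hXN hXp)
      (by rw [hScard, hX', card_map_of_injective (subtype_injective _), hX])
    refine hg (hCW' W hWn hWne (hWS.trans hSN) (mem_centralizer_iff.mpr fun w hw => ?_))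
    exact mem_centralizer_singleton_iff.mp (map_subtype_le _ (heq ▸ hWS hw))
  -- elements of prime power order in `N` are central in `N`
  have hcen : ∀ v ∈ N, ∀ w ∈ N, Commute v w := by
    intro v hv w hw
    refine comm_of_mem (CfsgLib.Structure81.CoprimeClass.mem_of_parts
      (H := centralizer ({w} : Set G)) fun e r i hr hri => mem_of_comm ?_)
    by_cases h1 : v ^ e = 1
    · rw [h1]; exact Commute.one_left w
    rcases hNtype _ (pow_mem hv e) h1 with hva | hvc
    · exact (comm_of_mem (hNle _ hva hw)).symm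
    exfalso
    have hvr : IsPElt r (v ^ e) := ⟨i, by rw [← hri, pow_orderOf_eq_one]⟩
    obtain ⟨s, hs, hsb, hsr⟩ := hβtwo r hr
    haveI := Fact.mk hs
    by_cases hsm : s ∣ m
    · obtain ⟨S, W, hSN, hSp, hScard, -, -, -, -, -⟩ := hsyl s hs hsm
      refine hsmall s hs hsb hsm ?_
      rw [← hScard, ← hcardc _ hvc]
      exact card_dvd_of_le fun x hx => mem_of_comm
        (commute_nilpotent hNnil hr hs (Ne.symm hsr) (pow_mem hv e) (hSN hx) hvr
          (isPElt_of_mem hSp hx)).symm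
    · obtain ⟨⟨x, hx⟩, hxo⟩ := exists_prime_orderOf_dvd_card' (G := centralizer ({v ^ e} : Set G)) s
        ((hcardc _ hvc).symm ▸ hsn s hs hsb)
      rw [orderOf_mk] at hxo
      have hxN : x ∉ N := fun hxN => hsm (hxo ▸ Subgroup.orderOf_dvd_natCard _ hxN)
      have hxc := hout x hxN (hcopP hs (hsb.trans hβb) (isPElt_of_orderOf hxo))
      have hco := coprime_orderOf hr hs (Ne.symm hsr) hvr (isPElt_of_orderOf hxo)
      have heq : centralizer ({v ^ e} : Set G) = centralizer ({x} : Set G) :=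
        le_antisymm (h.le_of_c hvc (ne_one_of_orderOf hs hxo) (comm_of_mem hx) hco.symm)
          (h.le_of_c hxc h1 (comm_of_mem hx).symm hco)
      haveI : Nontrivial N := ⟨⟨⟨v ^ e, pow_mem hv e⟩, 1, fun hh => h1 (congrArg Subtype.val hh)⟩⟩
      refine hxN (hCW' ((center N).map N.subtype) inferInstance ?_ (map_subtype_le _) ?_)
      · rw [Ne, map_eq_bot_iff_of_injective _ N.subtype_injective]
        haveI : Nontrivial (center N) :=
          (nontrivial_iff_ne_bot _).mpr (Group.IsNilpotent.center_ne_bot N)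
        exact (nontrivial_iff_ne_bot _).mp inferInstance
      · refine mem_centralizer_iff.mpr ?_
        rintro _ ⟨z, hz, rfl⟩
        have hzv : (z : G) ∈ centralizer ({v ^ e} : Set G) := mem_centralizer_singleton_iff.mpr
          (congrArg Subtype.val (mem_center_iff.mp hz ⟨_, pow_mem hv e⟩)).symm
        rw [heq] at hzv
        exact mem_centralizer_singleton_iff.mp hzv
  -- the orders of `N` and of the complement are coprime
  have hcop : ∀ s : ℕ, s.Prime → s ∣ β → ¬ s ∣ m := by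
    intro s hs hsb hsm
    haveI := Fact.mk hs
    by_cases hex : ∃ v ∈ N, v ≠ 1 ∧ cs v = c
    · obtain ⟨v, hv, -, hvc⟩ := hex
      refine hsmall s hs hsb hsm ((Nat.ordProj_dvd m s).trans ?_)
      rw [hm, ← hcardc v hvc]
      exact card_dvd_of_le fun x hx => mem_of_comm (hcen x hx v hv)
    push Not at hex
    have hallA : ∀ v ∈ N, v ≠ 1 → cs v = a := fun v hv hv1 =>
      (hNtype v hv hv1).resolve_right (hex v hv hv1)
    have honly : ∀ r : ℕ, r.Prime → r ∣ m → r = s := by
      intro r hr hrm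
      by_contra hrs
      haveI := Fact.mk hr
      obtain ⟨⟨x₂, hx₂⟩, hx₂o⟩ := exists_prime_orderOf_dvd_card' (G := N) r hrm
      rw [orderOf_mk] at hx₂o
      have hx₂1 := ne_one_of_orderOf hr hx₂o
      obtain ⟨S, W, hSN, hSp, -, hWS, hWn, hWne, -, -⟩ := hsyl s hs hsm
      have hsame : ∀ w ∈ W, centralizer ({x₂} : Set G) ≤ centralizer ({w} : Set G) := by
        intro w hw
        by_cases hw1 : w = 1
        · exact fun t _ => mem_of_comm (hw1 ▸ Commute.one_right t)
        have hwN := hSN (hWS hw)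
        have hco := coprime_orderOf hr hs hrs (isPElt_of_orderOf hx₂o) (isPElt_of_mem hSp (hWS hw))
        have hmul := centralizer_mul (hcen _ hx₂ _ hwN) hco (orderOf_pos x₂).ne'
        rw [← eq_of_le_of_cs (hmul.le.trans inf_le_left) (by
          rw [hallA _ (N.mul_mem hx₂ hwN) (mul_ne_one_of_coprime hx₂1 hco), hallA _ hx₂ hx₂1]), hmul]
        exact inf_le_right
      have hle : centralizer ({x₂} : Set G) ≤ N := fun g hg =>
        hCW' W hWn hWne (hWS.trans hSN) (mem_centralizer_iff.mpr fun w hw =>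
          (mem_centralizer_singleton_iff.mp (hsame w hw hg)).symm)
      have h1 := card_dvd_of_le hle
      rw [h.card_cent_a (hallA _ hx₂ hx₂1), ← hm, hβ] at h1
      have h2 : β = 1 := Nat.eq_of_mul_eq_mul_left hm0
        ((Nat.dvd_antisymm h1 (dvd_mul_right m β)).trans (mul_one m).symm)
      exact hs.not_dvd_one (h2 ▸ hsb)
    obtain ⟨o, ho, hob, hos⟩ := hβtwo s hs
    haveI := Fact.mk ho
    obtain ⟨w, hw, hws, hwc⟩ := houtE s hs hsb
    obtain ⟨⟨x, hx⟩, hxo⟩ := exists_prime_orderOf_dvd_card' (G := centralizer ({w} : Set G)) o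
      ((hcardc w hwc).symm ▸ hsn o ho hob)
    rw [orderOf_mk] at hxo
    have hxN : x ∉ N := fun hxN =>
      hos (honly o ho (hxo ▸ Subgroup.orderOf_dvd_natCard _ hxN))
    exact (key o s x w ho hs hos hxN hw (isPElt_of_orderOf hxo) hws
      (hout x hxN (hcopP ho (hob.trans hβb) (isPElt_of_orderOf hxo))) hwc (comm_of_mem hx)).1 hsm
  have hcβm : Nat.Coprime β m := Nat.coprime_of_dvd fun s hs h1 h2 => hcop s hs h1 h2
  -- the class sizes outside `N` are multiples of `b` and `c`
  have hβn : β ∣ n := by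
    have hcpr : Nat.Coprime β c := by
      refine Nat.coprime_of_dvd fun s hs hsb hsc => ?_
      obtain ⟨g, -, hgc⟩ := h.exC
      have hsA : Nat.Coprime s a := hs.coprime_iff_not_dvd.mpr (hnoA s hs (hsb.trans hβb))
      set d := s ^ c.factorization s with hd
      have hdc : d ∣ c := Nat.ordProj_dvd c s
      have hdb : d ∣ b := (hsA.pow_left _).dvd_of_dvd_mul_left
        (h.card ▸ hdc.trans (hgc ▸ index_dvd_card _))
      have hsd : s ∣ d := dvd_pow_self s (hs.factorization_pos_of_dvd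
        (Nat.lt_trans Nat.zero_lt_one h.c_gt).ne' hsc).ne'
      have hinv : ∀ t : ℕ, ∀ x ∈ {x : G | x ∉ N ∧ cs x = t}, ∀ g : G,
          g * x * g⁻¹ ∈ {x : G | x ∉ N ∧ cs x = t} := fun t x hx g =>
        ⟨fun hg => hx.1 (by
          have := hNn.conj_mem _ hg g⁻¹
          rwa [show g⁻¹ * (g * x * g⁻¹) * g⁻¹⁻¹ = x by group] at this),
          (cs_conj x g).trans hx.2⟩
      have hB : d ∣ {x : G | x ∉ N ∧ cs x = b}.ncard :=
        hdb.trans (dvd_ncard_of_invariant _ (hinv b) fun x hx => hx.2)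
      have hC : d ∣ {x : G | x ∉ N ∧ cs x = c}.ncard :=
        hdc.trans (dvd_ncard_of_invariant _ (hinv c) fun x hx => hx.2)
      have hun : ({x : G | x ∉ N ∧ cs x = b} ∪ {x : G | x ∉ N ∧ cs x = c}) = (N : Set G)ᶜ := by
        ext x
        simp only [Set.mem_union, Set.mem_ofPred_eq, Set.mem_compl_iff, SetLike.mem_coe]
        refine ⟨fun hx => hx.elim (fun h => h.1) (fun h => h.1), fun hx => ?_⟩
        rcases h.hval x (fun e => hx (e ▸ one_mem N)) with e | e | e
        exacts [absurd (huN x e) hx, Or.inl ⟨hx, e⟩, Or.inr ⟨hx, e⟩]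
      have htot := Set.ncard_add_ncard_compl (N : Set G)
      rw [← hun, Set.ncard_union_eq (Set.disjoint_left.mpr fun x hx hx' =>
        h.ne_bc (hx.2.symm.trans hx'.2)), h.card, ← Nat.card_coe_set_eq] at htot
      have hdab : d ∣ a * b := hdb.mul_left a
      have hdm : d ∣ m := by
        rw [← htot] at hdab
        exact (Nat.dvd_add_left (dvd_add hB hC)).mp hdab
      exact hcop s hs hsb (hsd.trans hdm)
    have hnc := h.card_cent hg₁c
    rw [h.card] at hnc
    exact hcpr.dvd_of_dvd_mul_right (hnc ▸ hβb.mul_left a)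
  -- an abelian subgroup of the quotient
  obtain ⟨o, ho, hob, -⟩ := hβtwo 2 Nat.prime_two
  obtain ⟨g₀, hg₀, hg₀o, hg₀c⟩ := houtE o ho hob
  set X := centralizer ({g₀} : Set G) with hXdef
  have hXn : Nat.card X = n := hcardc g₀ hg₀c
  set A := X.map (QuotientGroup.mk' N) with hA
  have hcentral : ∀ w ∈ X, ∀ t : ℕ, t.Prime → IsPElt t w → w ∉ N →
      X ≤ centralizer ({w} : Set G) := by
    intro w hw t ht hwt hwN
    haveI := Fact.mk ht
    have htb : t ∣ b := ((isPElt_dvd ht hwt fun e => hwN (e ▸ one_mem N)).trans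
      (Subgroup.orderOf_dvd_natCard _ hw)).trans (hXn.symm ▸ hnb)
    have hwc := hout w hwN (hcopP ht htb hwt)
    by_cases hto : t = o
    · obtain ⟨o', ho', ho'b, ho'o⟩ := hβtwo o ho
      haveI := Fact.mk ho'
      obtain ⟨⟨e, he⟩, heo⟩ := exists_prime_orderOf_dvd_card' (G := X) o'
        (hXn.symm ▸ hsn o' ho' ho'b)
      rw [orderOf_mk] at heo
      have heN : e ∉ N := fun heN => hcop o' ho' ho'b (heo ▸ Subgroup.orderOf_dvd_natCard _ heN)
      have hec := hout e heN (hcopP ho' (ho'b.trans hβb) (isPElt_of_orderOf heo))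
      have E := (key o o' g₀ e ho ho' (Ne.symm ho'o) hg₀ heN hg₀o (isPElt_of_orderOf heo) hg₀c hec
        (comm_of_mem he).symm).2
      have hwe : Commute w e := comm_of_mem (E ▸ hw : w ∈ centralizer ({e} : Set G))
      exact (E.trans (key o' t e w ho' ht (hto ▸ ho'o) heN hwN (isPElt_of_orderOf heo) hwt hec hwc
        hwe.symm).2).le
    · exact ((key o t g₀ w ho ht (Ne.symm hto) hg₀ hwN hg₀o hwt hg₀c hwc
        (comm_of_mem hw).symm).2).le
  haveI hAab : IsMulCommutative A := by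
    refine ⟨⟨fun s t => Subtype.ext ?_⟩⟩
    obtain ⟨x, hx, hxe⟩ := s.2
    obtain ⟨z, hz, hze⟩ := t.2
    show (s : G ⧸ N) * t = t * s
    rw [← hxe, ← hze]
    have hx' : x ∈ (centralizer ({(QuotientGroup.mk' N z : G ⧸ N)} : Set (G ⧸ N))).comap
        (QuotientGroup.mk' N) := by
      refine CfsgLib.Structure81.CoprimeClass.mem_of_parts fun e p i hp hpi => ?_
      rw [mem_comap, mem_centralizer_singleton_iff]
      by_cases hN' : x ^ e ∈ N
      · rw [show QuotientGroup.mk' N (x ^ e) = 1 from (QuotientGroup.eq_one_iff _).mpr hN',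
          one_mul, mul_one]
      · rw [← map_mul, ← map_mul, mem_centralizer_singleton_iff.mp
          (hcentral _ (pow_mem hx e) p hp ⟨i, by rw [← hpi, pow_orderOf_eq_one]⟩ hN' hz)]
    exact mem_centralizer_singleton_iff.mp hx'
  refine hKW A (letI : CommGroup A := { (inferInstance : Group A) with
    mul_comm := fun s t => hAab.is_comm.comm s t }; inferInstance) ?_ ?_
  · have hk : Nat.card A * Nat.card (X ⊓ N : Subgroup G) = Nat.card X := by
      have e1 := ((QuotientGroup.mk' N).comp X.subtype).ker.card_mul_index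
      rw [Subgroup.index_ker, MonoidHom.range_comp, range_subtype, ← hA] at e1
      rw [← e1, mul_comm]
      congr 1
      refine Nat.card_congr
        { toFun := fun x => ⟨⟨x, x.2.1⟩, (QuotientGroup.eq_one_iff _).mpr x.2.2⟩
          invFun := fun x => ⟨(x : X), ⟨(x : X).2, (QuotientGroup.eq_one_iff _).mp x.2⟩⟩
          left_inv := fun x => rfl
          right_inv := fun x => rfl }
    refine (Nat.Coprime.coprime_dvd_right (card_dvd_of_le (inf_le_right : X ⊓ N ≤ N)) hcβm).dvd_of_dvd_mul_right ?_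
    rw [hk, hXn]; exact hβn
  · refine Nat.Coprime.coprime_dvd_left ((card_map_dvd (H := X) (QuotientGroup.mk' N)).trans ?_) h.coprime.symm
    rw [hXn]; exact hnb

end Split

end CfsgLib.InvChar.RankThree
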