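import Cfsg.Agent.Lib.Characters.Burnside
import Cfsg.Agent.Lib.Characters.Exceptional
import Cfsg.Agent.Lib.Characters.Galois
import Cfsg.Agent.Lib.Characters.PermChar
import Cfsg.Agent.Lib.CNCount.LinearChars

/-!
A simple group `G = HK` with `H` abelian, containing the centralizers of its nonidentity elements,
regular on `G ⧸ K`: every element whose class has `|H|` members fixes exactly one point.
-/

set_option autoImplicit false

noncomputable section

namespace CfsgLib.InvChar.RegularAbelianChar

open Cfsg CfsgLib.Characters CfsgLib.Induction Subgroup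
open scoped ComplexConjugate

universe u

variable {G : Type u} [Group G] [Fintype G] {H : Subgroup G} [Fintype H]

/-- The multiplicity of a linear character of `H` in the restriction of a function. -/
def mult (φ : G → ℂ) (f : H →* ℂˣ) : ℂ :=
  classInner (fun h : H => φ h) (fun h : H => (f h : ℂ))

theorem inner_lin [DecidableEq (H →* ℂˣ)] (f f' : H →* ℂˣ) :
    classInner (fun h : H => (f h : ℂ)) (fun h : H => (f' h : ℂ)) = if f = f' then 1 else 0 := by
  classical
  have h := classInner_irr (linearIrr f) (linearIrr f')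
  simp only [(linearIrr_injective (G := H)).eq_iff] at h
  exact h

/-- Norm two for the induced difference of two linear characters in distinct orbits of `N(H)`. -/
theorem norm_two (hH : ∀ h ∈ H, h ≠ 1 → centralizer ({h} : Set G) = H) {f f' : H →* ℂˣ} (hne : f ≠ f')
    (hsep : ∀ g ∈ normalizer (H : Set G), g ∉ H → ∀ c : H →* H,
      (∀ h : H, (c h : G) = g⁻¹ * h * g) →
        f.comp c ≠ f ∧ f.comp c ≠ f' ∧ f'.comp c ≠ f ∧ f'.comp c ≠ f') :
    classInner (indFun H fun h => (f h : ℂ) - (f' h : ℂ))
      (indFun H fun h => (f h : ℂ) - (f' h : ℂ)) = 2 := by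
  classical
  set φ : H → ℂ := fun h => (f h : ℂ) - (f' h : ℂ) with hφ
  have hab : ∀ a ∈ H, ∀ b ∈ H, a * b = b * a := by
    intro a ha b hb
    by_cases ha1 : a = 1
    · rw [ha1, one_mul, mul_one]
    · exact (mem_centralizer_singleton_iff.mp ((hH a ha ha1).ge hb)).symm
  let T : G → H → ℂ := fun g h => extendByZero H φ (g⁻¹ * (h : G) * g)
  rw [classInner_indFun H φ (isClassFunction_indFun H φ)]
  have hres : (fun h : H => indFun H φ h) = (Nat.card H : ℂ)⁻¹ • ∑ g : G, T g := by
    funext h
    simp [indFun_apply, T, Finset.sum_apply]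
  have hout : ∀ g ∉ normalizer (H : Set G), T g = 0 := by
    intro g hg
    funext h
    show extendByZero H φ (g⁻¹ * (h : G) * g) = 0
    by_cases hm : g⁻¹ * (h : G) * g ∈ H
    · have h1 : h = 1 := by
        by_contra h1
        apply hg
        have h1' : g⁻¹ * (h : G) * g ≠ 1 := by
          intro e
          exact h1 (Subtype.ext (show (h : G) = 1 by
            calc (h : G) = g * (g⁻¹ * h * g) * g⁻¹ := by group
              _ = 1 := by rw [e]; group))
        have hc := hH _ hm h1'
        have hc' := hH _ h.2 fun e => h1 (Subtype.ext e)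
        rw [mem_normalizer_iff]
        intro y
        have e : y ∈ centralizer ({g⁻¹ * (h : G) * g} : Set G) ↔
            g * y * g⁻¹ ∈ centralizer ({(h : G)} : Set G) := by
          rw [mem_centralizer_singleton_iff, mem_centralizer_singleton_iff]
          constructor
          · intro e
            calc g * y * g⁻¹ * h = g * (y * (g⁻¹ * h * g)) * g⁻¹ := by group
              _ = g * (g⁻¹ * h * g * y) * g⁻¹ := by rw [e]
              _ = _ := by group
          · intro e
            calc y * (g⁻¹ * h * g) = g⁻¹ * (g * y * g⁻¹ * h) * g := by group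
              _ = g⁻¹ * (h * (g * y * g⁻¹)) * g := by rw [e]
              _ = _ := by group
        rwa [hc, hc'] at e
      subst h1
      rw [show g⁻¹ * ((1 : H) : G) * g = ((1 : H) : G) by simp, extendByZero_coe]
      simp [hφ]
    · exact extendByZero_notMem H φ hm
  have hval : ∀ g : G, classInner φ (T g) = if g ∈ H then 2 else 0 := by
    intro g
    by_cases hg : g ∈ normalizer (H : Set G)
    · have hmem : ∀ h : H, g⁻¹ * (h : G) * g ∈ H := fun h => (mem_normalizer_iff''.mp hg _).mp h.2
      let c : H →* H := MonoidHom.mk' (fun h => ⟨g⁻¹ * (h : G) * g, hmem h⟩) fun a b =>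
        Subtype.ext (by show g⁻¹ * ((a : G) * b) * g = g⁻¹ * (a : G) * g * (g⁻¹ * (b : G) * g); group)
      have hT : T g = (fun h : H => ((f.comp c) h : ℂ)) - fun h : H => ((f'.comp c) h : ℂ) := by
        funext h
        show extendByZero H φ ((c h : H) : G) = _
        rw [extendByZero_coe]
        rfl
      rw [hT, show φ = (fun h : H => (f h : ℂ)) - fun h : H => (f' h : ℂ) from rfl,
        classInner_sub_left, classInner_sub_right, classInner_sub_right, inner_lin, inner_lin,
        inner_lin, inner_lin]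
      by_cases hgH : g ∈ H
      · have hc : c = MonoidHom.id _ := MonoidHom.ext fun h => Subtype.ext (by
          show g⁻¹ * (h : G) * g = h
          rw [mul_assoc, hab h h.2 g hgH, inv_mul_cancel_left])
        rw [hc, MonoidHom.comp_id, MonoidHom.comp_id, if_pos rfl, if_neg hne, if_neg (Ne.symm hne),
          if_pos rfl, if_pos hgH]
        norm_num
      · obtain ⟨h1, h2, h3, h4⟩ := hsep g hg hgH c fun h => rfl
        rw [if_neg (Ne.symm h1), if_neg (Ne.symm h3), if_neg (Ne.symm h2), if_neg (Ne.symm h4),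
          if_neg hgH]
        norm_num
    · rw [hout g hg, classInner_zero_right, if_neg fun h => hg (le_normalizer h)]
  rw [hres, classInner_smul_right, classInner_sum_right, Finset.sum_congr rfl fun g _ => hval g,
    ← Finset.sum_filter, Finset.sum_const, map_inv₀, map_natCast]
  have hc : (Finset.univ.filter fun g : G => g ∈ H).card = Nat.card H := by
    rw [Nat.card_eq_fintype_card, Fintype.card_subtype]
  rw [hc, nsmul_eq_mul, inv_mul_cancel_left₀ natCard_ne_zero']

theorem mult_nat (χ : IrrCharacter G) (f : H →* ℂˣ) : ∃ n : ℕ, mult (χ : G → ℂ) f = n :=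
  classInner_char_nat (CfsgLib.CharGalois.isCharacter_comp (irr_isCharacter χ) H.subtype)
    (irr_isCharacter (linearIrr f))

/-- Elements with class size `|H|` fix exactly one point of `G ⧸ K`. -/
theorem fixCount_eq_one [IsSimpleGroup G] (hG : ¬ ∀ a b : G, a * b = b * a) (K : Subgroup G)
    [Fintype K]
    (hH : ∀ h ∈ H, h ≠ 1 → centralizer ({h} : Set G) = H)
    (hcompl : Subgroup.IsComplement' H K) {x : G} (hx : x ≠ 1)
    (hclass : (centralizer ({x} : Set G)).index = Nat.card H) :
    CfsgLib.PermChar.fixCount (G ⧸ K) x = 1 := by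
  classical
  have hab : ∀ a ∈ H, ∀ b ∈ H, a * b = b * a := by
    intro a ha b hb
    by_cases ha1 : a = 1
    · rw [ha1, one_mul, mul_one]
    · exact (mem_centralizer_singleton_iff.mp ((hH a ha ha1).ge hb)).symm
  set θ : G → ℂ := indFun K (fun _ => 1) with hθdef
  have hθchar : IsCharacter G θ := isCharacter_indFun K (isCharacter_const_one)
  have hθclass := isClassFunction_indFun K (fun _ : K => (1 : ℂ))
  have hindex : K.index = Nat.card H := hcompl.index_eq_card
  have hθ1 : θ 1 = (Nat.card H : ℂ) := by rw [hθdef, indFun_one_apply, hindex, mul_one]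
  have hθh : ∀ h : H, h ≠ 1 → θ (h : G) = 0 := by
    intro h hh
    refine indFun_eq_zero_of_forall K fun g hg => hh ?_
    obtain ⟨⟨⟨a, ha⟩, ⟨k, hk⟩⟩, hak⟩ := hcompl.2 g
    simp only at hak
    have h1 : (h : G) ∈ K := by
      have e : (h : G) = k * (g⁻¹ * h * g) * k⁻¹ := by
        calc (h : G) = a⁻¹ * (h : G) * a := by rw [mul_assoc, hab h h.2 a ha, inv_mul_cancel_left]
          _ = _ := by rw [← hak]; group
      rw [e]
      exact K.mul_mem (K.mul_mem hk hg) (K.inv_mem hk)
    exact Subtype.ext ((disjoint_def.mp hcompl.disjoint) h.2 h1)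
  have hθmult : ∀ f : H →* ℂˣ, mult θ f = 1 := by
    intro f
    rw [mult, classInner, Finset.sum_eq_single (1 : H)]
    · simp [hθ1]
    · intro h _ hh
      simp [hθh h hh]
    · simp
  set c : IrrCharacter G → ℂ := fun χ => classInner θ (χ : G → ℂ) with hc
  have hcnat : ∀ χ, ∃ n : ℕ, c χ = n := fun χ => classInner_char_nat hθchar (irr_isCharacter χ)
  choose cn hcn using hcnat
  choose mn hmn using fun χ : IrrCharacter G => mult_nat (H := H) χ
  have hexp : θ = ∑ χ : IrrCharacter G, c χ • (χ : G → ℂ) := classFunction_eq_sum hθclass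
  have hsum : ∀ f : H →* ℂˣ, ∑ χ : IrrCharacter G, cn χ * mn χ f = 1 := by
    intro f
    have h : (∑ χ : IrrCharacter G, ((cn χ : ℂ) * (mn χ f : ℂ))) = 1 := by
      rw [← hθmult f]
      conv_rhs => rw [hexp]
      have e : (fun h : H => (∑ χ : IrrCharacter G, c χ • (χ : G → ℂ)) (h : G)) =
          ∑ χ : IrrCharacter G, c χ • fun h : H => (χ : G → ℂ) (h : G) := by
        funext h; simp [Finset.sum_apply]
      rw [mult, e, classInner_sum_left]
      refine Finset.sum_congr rfl fun χ _ => ?_
      rw [classInner_smul_left, hcn, ← hmn]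
      rfl
    exact_mod_cast h
  have hc1 : cn (principalIrr G) = 1 := by
    have h : c (principalIrr G) = 1 := by
      rw [hc]
      show classInner θ (fun _ => (1 : ℂ)) = 1
      rw [hθdef, classInner_indFun K _ (fun _ _ => rfl)]
      exact classInner_irr_self (isIrrCharacter_one (G := K))
    rw [hcn] at h
    exact_mod_cast h
  have hm1 : mn (principalIrr G) 1 = 1 := by
    have h : mult (principalIrr G : G → ℂ) (1 : H →* ℂˣ) = 1 :=
      classInner_irr_self (isIrrCharacter_one (G := H))
    rw [hmn] at h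
    exact_mod_cast h
  have hdeg : ∀ χ : IrrCharacter G, (χ : G → ℂ) 1 = ((∑ f : H →* ℂˣ, mn χ f : ℕ) : ℂ) := by
    intro χ
    have hcomm : commutator H = ⊥ := by
      rw [commutator_def, Subgroup.commutator_eq_bot_iff_le_centralizer]
      intro a _ b _
      exact Subtype.ext (hab b b.2 a a.2)
    have h := CfsgLib.CNCount.sum_coeff (K := H) (fun h : H => (χ : G → ℂ) h)
    rw [hcomm, card_bot, Nat.cast_one, one_mul] at h
    push_cast
    rw [Finset.sum_congr rfl fun f _ => (hmn χ f).symm]
    rw [show (∑ f : H →* ℂˣ, mult (χ : G → ℂ) f) = _ from h, Finset.sum_filter,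
      Finset.sum_eq_single (1 : H)]
    · simp
    · intro b _ hb
      simp [hb]
    · simp
  set deg : IrrCharacter G → ℕ := fun χ => ∑ f : H →* ℂˣ, mn χ f with hdegdef
  have hnf : ∀ χ, χ ≠ principalIrr G → cn χ ≠ 0 → mn χ 1 = 0 := by
    intro χ hne hcne
    have h := hsum 1
    rw [← Finset.add_sum_erase _ _ (Finset.mem_univ (principalIrr G)), hc1, hm1] at h
    have h' : ∑ ψ ∈ Finset.univ.erase (principalIrr G), cn ψ * mn ψ 1 = 0 := by omega
    have := Finset.sum_eq_zero_iff.mp h' χ (Finset.mem_erase.mpr ⟨hne, Finset.mem_univ _⟩)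
    exact (mul_eq_zero.mp this).resolve_left hcne
  have huniq : ∀ (f : H →* ℂˣ) (χ χ' : IrrCharacter G), cn χ * mn χ f ≠ 0 → χ' ≠ χ →
      cn χ * mn χ f = 1 ∧ cn χ' * mn χ' f = 0 := by
    intro f χ χ' h hne
    have hs := hsum f
    rw [← Finset.add_sum_erase _ _ (Finset.mem_univ χ)] at hs
    have h' : ∑ ψ ∈ Finset.univ.erase χ, cn ψ * mn ψ f = 0 := by omega
    exact ⟨by omega, Finset.sum_eq_zero_iff.mp h' χ' (Finset.mem_erase.mpr ⟨hne, Finset.mem_univ _⟩)⟩
  have heqdeg : ∀ χ χ' : IrrCharacter G, χ ≠ principalIrr G → χ' ≠ principalIrr G →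
      cn χ ≠ 0 → cn χ' ≠ 0 → deg χ = deg χ' := by
    intro χ χ' h1 h1' hcχ hcχ'
    by_cases hχ : χ = χ'
    · rw [hχ]
    have hpos : ∀ ψ : IrrCharacter G, ∃ f : H →* ℂˣ, mn ψ f ≠ 0 := by
      intro ψ
      by_contra! h0
      exact irr_one_ne_zero ψ (by rw [hdeg]; simp [h0])
    obtain ⟨f, hf⟩ := hpos χ
    obtain ⟨f', hf'⟩ := hpos χ'
    obtain ⟨hf1, hf0⟩ := huniq f χ χ' (mul_ne_zero hcχ hf) (Ne.symm hχ)
    obtain ⟨hf1', hf0'⟩ := huniq f' χ' χ (mul_ne_zero hcχ' hf') hχ
    have e1 : mn χ f = 1 := Nat.eq_one_of_mul_eq_one_left hf1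
    have e2 : mn χ' f = 0 := (mul_eq_zero.mp hf0).resolve_left hcχ'
    have e3 : mn χ' f' = 1 := Nat.eq_one_of_mul_eq_one_left hf1'
    have e4 : mn χ f' = 0 := (mul_eq_zero.mp hf0').resolve_left hcχ
    have hfne : f ≠ f' := by rintro rfl; omega
    have hinv : ∀ g ∈ normalizer (H : Set G), ∀ cg : H →* H,
        (∀ h : H, (cg h : G) = g⁻¹ * h * g) → ∀ (ψ : IrrCharacter G) (k : H →* ℂˣ),
        mn ψ (k.comp cg) = mn ψ k := by
      intro g hg cg hcg ψ k
      have hbij : Function.Bijective cg := by
        refine Finite.injective_iff_bijective.mp fun a b hab' => ?_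
        have h := congrArg Subtype.val hab'
        rw [hcg, hcg] at h
        exact Subtype.ext (mul_left_cancel (mul_right_cancel h))
      have h : mult (ψ : G → ℂ) (k.comp cg) = mult (ψ : G → ℂ) k := by
        simp only [mult, classInner]
        congr 1
        refine Fintype.sum_bijective cg hbij _ _ fun h => ?_
        rw [hcg]
        have := irr_isClassFunction ψ (h : G) g⁻¹
        rw [inv_inv] at this
        rw [this]
        rfl
      rw [hmn, hmn] at h
      exact_mod_cast h
    have hfix : ∀ g ∈ normalizer (H : Set G), g ∉ H → ∀ cg : H →* H,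
        (∀ h : H, (cg h : G) = g⁻¹ * h * g) → ∀ k : H →* ℂˣ, k ≠ 1 → k.comp cg ≠ k := by
      intro g hg hgH cg hcg k hk he
      refine hk (MonoidHom.ext fun y => ?_)
      have hinj : Function.Injective fun h : H => h⁻¹ * cg h := by
        intro a b hab'
        simp only at hab'
        by_contra hne
        apply hgH
        have hw : (a * b⁻¹ : H) ≠ 1 := fun e => hne (mul_inv_eq_one.mp e)
        rw [← hH _ (a * b⁻¹).2 (fun e => hw (Subtype.ext e)), mem_centralizer_singleton_iff]
        have hcw : cg (a * b⁻¹) = a * b⁻¹ := by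
          rw [map_mul, map_inv, mul_inv_eq_iff_eq_mul]
          calc cg a = a * (a⁻¹ * cg a) := by group
            _ = a * (b⁻¹ * cg b) := by rw [hab']
            _ = _ := by group
        have h := congrArg Subtype.val hcw
        rw [hcg] at h
        calc g * ((a * b⁻¹ : H) : G) = g * (g⁻¹ * ((a * b⁻¹ : H) : G) * g) := by rw [h]
          _ = _ := by group
      obtain ⟨w, hw⟩ := (Finite.injective_iff_surjective.mp hinj) y
      rw [← hw, map_mul, map_inv]
      have h := DFunLike.congr_fun he w
      rw [MonoidHom.comp_apply] at h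
      rw [h, inv_mul_cancel, MonoidHom.one_apply]
    have hf1ne : f ≠ 1 := by rintro rfl; exact hf (hnf χ h1 hcχ)
    have hf1ne' : f' ≠ 1 := by rintro rfl; exact hf' (hnf χ' h1' hcχ')
    set φ : H → ℂ := fun h => (f h : ℂ) - (f' h : ℂ)
    have hgen : IsGeneralizedCharacter G (indFun H φ) := by
      refine ⟨indFun H fun h => (f h : ℂ), indFun H fun h => (f' h : ℂ),
        isCharacter_indFun H (irr_isCharacter (linearIrr f)),
        isCharacter_indFun H (irr_isCharacter (linearIrr f')), ?_⟩
      rw [← indFun_sub]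
      rfl
    have hD1 : indFun H φ 1 = 0 := by rw [indFun_one_apply]; simp [φ]
    have hnorm : classInner (indFun H φ) (indFun H φ) = 2 := by
      refine norm_two hH hfne fun g hg hgH cg hcg => ⟨hfix g hg hgH cg hcg f hf1ne, ?_, ?_,
        hfix g hg hgH cg hcg f' hf1ne'⟩
      · intro e
        have := hinv g hg cg hcg χ f
        rw [e] at this; omega
      · intro e
        have := hinv g hg cg hcg χ' f'
        rw [e] at this; omega
    obtain ⟨A, B, hAB, hD⟩ := CfsgLib.CharExceptional.exists_diff_of_norm_two hgen hD1 hnorm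
    have hval : ∀ ψ : IrrCharacter G, ((if ψ = A then 1 else 0) - (if ψ = B then 1 else 0) : ℂ) =
        (mn ψ f : ℂ) - (mn ψ f' : ℂ) := by
      intro ψ
      rw [← hmn, ← hmn, ← classInner_irr ψ A, ← classInner_irr ψ B, ← classInner_sub_right, ← hD,
        classInner_indFun_right H φ (irr_isClassFunction ψ)]
      exact classInner_sub_right _ _ _
    have hA : χ = A := by
      by_contra hne
      have h := hval χ
      rw [e1, e4, if_neg hne] at h
      by_cases hB : χ = B
      · rw [if_pos hB] at h; norm_num at h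
      · rw [if_neg hB] at h; norm_num at h
    have hB : χ' = B := by
      by_contra hne
      have h := hval χ'
      rw [e2, e3, if_neg hne] at h
      by_cases hA' : χ' = A
      · rw [if_pos hA'] at h; norm_num at h
      · rw [if_neg hA'] at h; norm_num at h
    have h := congrFun hD 1
    rw [hD1, ← hA, ← hB, Pi.sub_apply, hdeg, hdeg] at h
    exact_mod_cast sub_eq_zero.mp h.symm
  -- the degrees are prime to `|H|`
  have hdegsum : ∑ χ : IrrCharacter G, cn χ * deg χ = Nat.card H := by
    have h := congrFun hexp 1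
    rw [hθ1, Finset.sum_apply] at h
    simp only [Pi.smul_apply, smul_eq_mul, hcn, hdeg] at h
    exact_mod_cast h.symm
  have hdeg1 : deg (principalIrr G) = 1 := by
    have h := hdeg (principalIrr G)
    rw [principalIrr_apply] at h
    exact_mod_cast h.symm
  have hvan : ∀ χ : IrrCharacter G, χ ≠ principalIrr G → cn χ ≠ 0 → (χ : G → ℂ) x = 0 := by
    intro χ hne hcne
    have hcop : Nat.Coprime (deg χ) (Nat.card H) := by
      rw [← hdegsum, ← Finset.add_sum_erase _ _ (Finset.mem_univ (principalIrr G)), hc1, hdeg1]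
      have hdvd : deg χ ∣ ∑ ψ ∈ Finset.univ.erase (principalIrr G), cn ψ * deg ψ := by
        refine Finset.dvd_sum fun ψ hψ => ?_
        by_cases h0 : cn ψ = 0
        · simp [h0]
        · rw [heqdeg ψ χ (Finset.ne_of_mem_erase hψ) hne h0 hcne]; exact dvd_mul_left _ _
      obtain ⟨k, hk⟩ := hdvd
      rw [hk, add_comm, Nat.coprime_mul_left_add_right]
      exact Nat.coprime_one_right _
    obtain ⟨χv, n, ρ, hρ, rfl⟩ := χ
    haveI := hρ
    have hn : Module.finrank ℂ (Fin n → ℂ) = deg ⟨ρ.character, n, ρ, hρ, rfl⟩ := by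
      have h := hdeg ⟨ρ.character, n, ρ, hρ, rfl⟩
      change ρ.character 1 = _ at h
      rw [Representation.char_one] at h
      exact_mod_cast h
    rcases CfsgLib.Burnside.eq_zero_or_norm_eq_of_coprime ρ x
      (by rw [card_isConj_eq_index, hclass, hn]; exact hcop) with h | h
    · exact h
    exfalso
    obtain ⟨s, hs⟩ := (norm_char_eq_iff_scalar ρ x).mp h
    rcases (MonoidHom.normal_ker (ρ : G →* _)).eq_bot_or_eq_top with hk | hk
    · refine hG (CfsgLib.Burnside.isMulCommutative_of_mem_center hx (mem_center_iff.mpr fun y => ?_))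
      refine (MonoidHom.ker_eq_bot_iff _).mp hk ?_
      rw [map_mul, map_mul, hs]
      ext v
      simp
    · refine hne (CfsgLib.Burnside.eq_one_of_irr_const (c := (n : ℂ)) fun y => ?_)
      change ρ.character y = n
      have : ρ y = 1 := MonoidHom.mem_ker.mp (hk ▸ mem_top y)
      simp [Representation.character, this]
  have hfin : θ x = 1 := by
    rw [hexp, Finset.sum_apply, Finset.sum_eq_single (principalIrr G)]
    · simp [hcn, hc1]
    · intro χ _ hne
      by_cases h0 : cn χ = 0
      · simp [hcn, h0]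
      · simp [hvan χ hne h0]
    · simp
  rw [hθdef, CfsgLib.PermChar.indFun_one_eq_fixCount] at hfin
  exact Nat.cast_eq_one.mp hfin

end CfsgLib.InvChar.RegularAbelianChar
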