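import Cfsg.Agent.Lib.InvChar.SLTwo
import Cfsg.Agent.Lib.InvChar.Conj
import Cfsg.Agent.Lib.Involutions.Isolated
import Cfsg.Agent.Lib.Involutions.BrauerSuzuki

/-!
An involution `j` with `C(j)` containing a central product `L₁L₂` of two copies of `SL₂`, of index 2,
such that all involutions of `C(j)` lie in `L₁L₂`: then `j` is isolated.
-/

set_option autoImplicit false
set_option linter.unusedSectionVars false

namespace CfsgLib.InvChar.SwappedSLTwo

open Subgroup
open Matrix (SpecialLinearGroup)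

/-- In `SL₂(q)`, anything anticommuting with a square root of `-1` is one. -/
theorem sq_of_anticommute {F : Type*} [Field F] (h2 : (2 : F) ≠ 0)
    {x g : SpecialLinearGroup (Fin 2) F} (hx : x * x = -1) (hg : g * x = -(x * g)) : g * g = -1 := by
  obtain ⟨a, b, c, d, h, rfl⟩ := sl2_entries x
  obtain ⟨p, q, r, s, h', rfl⟩ := sl2_entries g
  rw [sl2_mul, sl2_neg_one, sl2_ext_iff] at hx
  obtain ⟨x00, -, -, x11⟩ := hx
  have hd : d = -a := by
    have htr : (a + d) * (a + d) = 0 := by linear_combination x00 + x11 + 2 * h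
    linear_combination mul_self_eq_zero.1 htr
  subst hd
  rw [sl2_mul, sl2_mul, sl2_neg, sl2_ext_iff] at hg
  obtain ⟨g00, g01, g10, g11⟩ := hg
  have hs : s = -p := by
    by_contra hne
    have h0 : p + s ≠ 0 := fun h0 => hne (by linear_combination h0)
    have hb : b = 0 := (mul_eq_zero.1 (by linear_combination g01 : b * (p + s) = 0)).resolve_right h0
    have hc : c = 0 := (mul_eq_zero.1 (by linear_combination g10 : c * (p + s) = 0)).resolve_right h0
    subst hb hc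
    have ha : a = 0 := by
      have : a * (2 * (p + s)) = 0 := by linear_combination g00 - g11
      exact (mul_eq_zero.1 this).resolve_right (mul_ne_zero h2 h0)
    subst ha
    simp at h
  subst hs
  rw [sl2_mul, sl2_neg_one, sl2_ext_iff]
  exact ⟨by linear_combination -h', by ring, by ring, by linear_combination -h'⟩

/-- What is needed of `L ≅ SL₂(q)`: an `IsSL2Like` subgroup in which anticommuting with a square
root of `j` squares to `j`. -/
structure IsSL2 {G : Type*} [Group G] (L : Subgroup G) (j : G) : Prop extends IsSL2Like L j where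
  anti : ∀ x ∈ L, x * x = j → ∀ t ∈ L, t * x = j * x * t → t * t = j

theorem IsSL2.of_mulEquiv {F : Type*} [Field F] [Fintype F] {G : Type*} [Group G] {L : Subgroup G}
    (hF : Odd (Fintype.card F)) (e : ↥L ≃* SpecialLinearGroup (Fin 2) F) {j : G} (hj : j ∈ L)
    (hj1 : j ≠ 1) (hjj : j * j = 1) : IsSL2 L j := by
  refine ⟨IsSL2Like.of_mulEquiv hF e hj hj1 hjj, fun x hx hxx t ht htx => ?_⟩
  have h2 := two_ne_zero_of_odd hF
  have hej : e ⟨j, hj⟩ = -1 := by
    refine eq_neg_one_of_sq h2 ?_ ?_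
    · rw [Ne, MulEquiv.map_eq_one_iff]
      exact fun h => hj1 (congrArg Subtype.val h)
    · rw [← map_mul, MulEquiv.map_eq_one_iff]
      exact Subtype.ext hjj
  have h := sq_of_anticommute h2 (x := e ⟨x, hx⟩) (g := e ⟨t, ht⟩)
    (by rw [← map_mul, ← hej]; exact congrArg e (Subtype.ext hxx))
    (by
      rw [← map_mul, ← map_mul, ← neg_one_mul (e (⟨x, hx⟩ * ⟨t, ht⟩)), ← hej, ← map_mul]
      exact congrArg e (Subtype.ext (htx.trans (mul_assoc _ _ _))))
  rw [← map_mul, ← hej] at h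
  exact congrArg Subtype.val (e.injective h)

variable {G : Type*} [Group G] [Finite G]

/-- An element `t` inverting `x` and the abelian centralizer of `x`. -/
theorem exists_inverter {L : Subgroup G} {j : G} (hL : IsSL2 L j) (hjc : ∀ a ∈ L, Commute j a)
    (hj1 : j ≠ 1) (hjj : j * j = 1) {x : G} (hx : x ∈ L) (hxx : x * x = j) :
    ∃ t ∈ L, t * t = j ∧ t * x = j * x * t ∧
      (∀ c ∈ L, Commute c x → t * c * t⁻¹ = c⁻¹) ∧
      (∀ c ∈ L, ∀ d ∈ L, Commute c x → Commute d x → Commute c d) := by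
  have hx1 : x ≠ 1 := by rintro rfl; exact hj1 (by rw [← hxx, one_mul])
  have hxj : x ≠ j := by
    intro h
    rw [h, hjj] at hxx
    exact hj1 hxx.symm
  have hab : ∀ c ∈ L, ∀ d ∈ L, Commute c x → Commute d x → Commute c d := fun c hc d hd h1 h2 =>
    hL.cent x hx hx1 hxj c hc d hd h1.symm h2.symm
  have hxinv : x⁻¹ = j * x := by
    refine inv_eq_of_mul_eq_one_right ?_
    rw [← mul_assoc, ← (hjc x hx).eq, mul_assoc, hxx, hjj]
  obtain ⟨t, ht, htx⟩ := hL.conj x hx x⁻¹ (L.inv_mem hx) hxx (by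
    rw [← mul_inv_rev, hxx]; exact inv_eq_of_mul_eq_one_right hjj)
  rw [hxinv, mul_inv_eq_iff_eq_mul] at htx
  refine ⟨t, ht, hL.anti x hx hxx t ht htx, htx, fun c hc hcx => ?_, hab⟩
  have h1 : t * c * x = j * x * (t * c) := by
    rw [mul_assoc, hcx.eq, ← mul_assoc, htx, mul_assoc (j * x) t c]
  have h2 : (t * c) * (t * c) = j := hL.anti x hx hxx _ (L.mul_mem ht hc) h1
  have htt := hL.anti x hx hxx t ht htx
  have h3 : t * c * t⁻¹ * c = (t * c) * (t * c) * (t * t)⁻¹ := by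
    have ht2 : t⁻¹ = j * t := by
      refine inv_eq_of_mul_eq_one_right ?_
      rw [← mul_assoc, ← (hjc t ht).eq, mul_assoc, htt, hjj]
    rw [htt, inv_eq_of_mul_eq_one_right hjj, ht2]
    calc t * c * (j * t) * c = t * (c * j) * (t * c) := by group
      _ = t * (j * c) * (t * c) := by rw [(hjc c hc).eq]
      _ = (t * j) * c * (t * c) := by group
      _ = (j * t) * c * (t * c) := by rw [(hjc t ht).eq]
      _ = j * ((t * c) * (t * c)) := by group
      _ = _ := by rw [h2]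
  rw [h2, htt, mul_inv_cancel] at h3
  exact eq_inv_of_mul_eq_one_left h3

variable {L₁ L₂ : Subgroup G} {j : G}

/-- All involutions of `C(j)` are in `L₁L₂`: then `j` is conjugate to no other of them. -/
theorem isolated (hj : orderOf j = 2) (h₁ : IsSL2 L₁ j) (h₂ : IsSL2 L₂ j)
    (hc : ∀ x ∈ L₁, ∀ y ∈ L₂, x * y = y * x) (hm : ∀ a ∈ L₁, a ∈ L₂ → a = 1 ∨ a = j)
    (hle : L₁ ⊔ L₂ ≤ centralizer ({j} : Set G))
    (hin : ∀ u ∈ centralizer ({j} : Set G), u * u = 1 → u ∈ L₁ ⊔ L₂)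
    (hnorm : ∀ h ∈ centralizer ({j} : Set G), ∀ a ∈ L₁ ⊔ L₂, h * a * h⁻¹ ∈ L₁ ⊔ L₂) :
    Cfsg.IsIsolatedInvolution j := by
  classical
  have : Fact (Nat.Prime 2) := ⟨Nat.prime_two⟩
  refine ⟨hj, fun g hg => ?_⟩
  set u := g * j * g⁻¹ with hu
  by_contra hne
  have hjj : j * j = 1 := by rw [← pow_two, ← hj, pow_orderOf_eq_one]
  have hj1 : j ≠ 1 := by intro h; rw [h, orderOf_one] at hj; omega
  have huu : u * u = 1 := by
    rw [hu, show g * j * g⁻¹ * (g * j * g⁻¹) = g * (j * j) * g⁻¹ by group, hjj]; group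
  have hu1 : u ≠ 1 := fun h => hj1 (conj_eq_one_iff.mp h)
  have huC : u ∈ centralizer ({j} : Set G) := mem_centralizer_singleton_iff.mpr hg.eq.symm
  have hjc₁ : ∀ a ∈ L₁, Commute j a := fun a ha =>
    (mem_centralizer_singleton_iff.mp (hle (mem_sup_left ha))).symm
  have hjc₂ : ∀ a ∈ L₂, Commute j a := fun a ha =>
    (mem_centralizer_singleton_iff.mp (hle (mem_sup_right ha))).symm
  obtain ⟨x, hx, y, hy, hxy⟩ := mem_sup_of_commute hc (hin u huC huu)
  -- `x` and `y` square to `j`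
  have hsq : x * x = j ∧ y * y = j := by
    have h0 : (x * x) * (y * y) = 1 := by
      rw [← huu, ← hxy, show x * y * (x * y) = x * (y * x) * y by group, ← hc x hx y hy]
      group
    have hxx2 : x * x ∈ L₂ := by
      rw [eq_inv_of_mul_eq_one_left h0]; exact L₂.inv_mem (L₂.mul_mem hy hy)
    rcases hm _ (L₁.mul_mem hx hx) hxx2 with h | h
    · exfalso
      rw [h, one_mul] at h0
      rcases h₁.inv_eq x hx h with rfl | rfl <;> rcases h₂.inv_eq y hy h0 with rfl | rfl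
      · exact hu1 (by rw [← hxy, one_mul])
      · exact hne (by rw [← hxy, one_mul])
      · exact hne (by rw [← hxy, mul_one])
      · exact hu1 (by rw [← hxy, hjj])
    · refine ⟨h, ?_⟩
      rw [h] at h0
      rw [eq_inv_of_mul_eq_one_right h0, inv_eq_of_mul_eq_one_right hjj]
  obtain ⟨hxx, hyy⟩ := hsq
  obtain ⟨s, hs, hss, hsx, hsinv, hab₁⟩ := exists_inverter h₁ hjc₁ hj1 hjj hx hxx
  obtain ⟨t, ht, htt, hty, htinv, hab₂⟩ := exists_inverter h₂ hjc₂ hj1 hjj hy hyy
  set H := centralizer ({j} : Set G) ⊓ centralizer ({u} : Set G) with hH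
  have hW : ∀ a ∈ L₁, ∀ b ∈ L₂, Commute a x → Commute b y → a * b ∈ H := by
    intro a ha b hb hax hby
    refine ⟨hle (mul_mem (mem_sup_left ha) (mem_sup_right hb)), mem_centralizer_singleton_iff.mpr ?_⟩
    rw [← hxy]
    calc a * b * (x * y) = a * (b * x) * y := by group
      _ = a * (x * b) * y := by rw [← hc x hx b hb]
      _ = (a * x) * (b * y) := by group
      _ = (x * a) * (y * b) := by rw [hax.eq, hby.eq]
      _ = x * (a * y) * b := by group
      _ = x * (y * a) * b := by rw [hc a ha y hy]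
      _ = _ := by group
  let W : Subgroup G :=
    { carrier := {w | ∃ a ∈ L₁, ∃ b ∈ L₂, Commute a x ∧ Commute b y ∧ w = a * b}
      one_mem' := ⟨1, L₁.one_mem, 1, L₂.one_mem, Commute.one_left _, Commute.one_left _, (one_mul 1).symm⟩
      mul_mem' := by
        rintro _ _ ⟨a, ha, b, hb, hax, hby, rfl⟩ ⟨c, hc', d, hd, hcx, hdy, rfl⟩
        refine ⟨a * c, L₁.mul_mem ha hc', b * d, L₂.mul_mem hb hd, hax.mul_left hcx, hby.mul_left hdy, ?_⟩
        rw [show a * b * (c * d) = a * (b * c) * d by group, ← hc c hc' b hb]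
        group
      inv_mem' := by
        rintro _ ⟨a, ha, b, hb, hax, hby, rfl⟩
        refine ⟨a⁻¹, L₁.inv_mem ha, b⁻¹, L₂.inv_mem hb, hax.inv_left, hby.inv_left, ?_⟩
        rw [mul_inv_rev, hc a⁻¹ (L₁.inv_mem ha) b⁻¹ (L₂.inv_mem hb)] }
  have hWcomm : ∀ v ∈ W, ∀ w ∈ W, Commute v w := by
    rintro _ ⟨a, ha, b, hb, hax, hby, rfl⟩ _ ⟨c, hc', d, hd, hcx, hdy, rfl⟩
    exact ((hab₁ a ha c hc' hax hcx).mul_right (hc a ha d hd)).mul_left
      ((show Commute b c from (hc c hc' b hb).symm).mul_right (hab₂ b hb d hd hby hdy))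
  set τ := s * t with hτ
  have hττ : τ * τ = 1 := by
    rw [hτ, show s * t * (s * t) = s * (t * s) * t by group, ← hc s hs t ht,
      show s * (s * t) * t = (s * s) * (t * t) by group, hss, htt, hjj]
  have hτH : τ ∈ H := by
    refine ⟨hle (mul_mem (mem_sup_left hs) (mem_sup_right ht)), mem_centralizer_singleton_iff.mpr ?_⟩
    rw [← hxy, hτ]
    calc s * t * (x * y) = s * (t * x) * y := by group
      _ = s * (x * t) * y := by rw [← hc x hx t ht]
      _ = (s * x) * (t * y) := by group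
      _ = (j * x * s) * (j * y * t) := by rw [hsx, hty]
      _ = j * x * (s * j) * y * t := by group
      _ = j * x * (j * s) * y * t := by rw [(hjc₁ s hs).eq]
      _ = j * (x * j) * (s * y) * t := by group
      _ = j * (j * x) * (y * s) * t := by rw [(hjc₁ x hx).eq, hc s hs y hy]
      _ = (j * j) * (x * y) * (s * t) := by group
      _ = _ := by rw [hjj, one_mul]
  have hτinv : τ⁻¹ = τ := inv_eq_of_mul_eq_one_right hττ
  have hτW : ∀ w ∈ W, τ * w * τ = w⁻¹ := by
    rintro _ ⟨a, ha, b, hb, hax, hby, rfl⟩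
    have h : τ * (a * b) * τ⁻¹ = (a * b)⁻¹ := by
      calc τ * (a * b) * τ⁻¹ = s * (t * a) * b * t⁻¹ * s⁻¹ := by rw [hτ]; group
        _ = s * (a * t) * b * t⁻¹ * s⁻¹ := by rw [← hc a ha t ht]
        _ = s * a * (t * b * t⁻¹) * s⁻¹ := by group
        _ = s * a * (b⁻¹ * s⁻¹) := by rw [htinv b hb hby]; group
        _ = s * a * (s⁻¹ * b⁻¹) := by rw [hc s⁻¹ (L₁.inv_mem hs) b⁻¹ (L₂.inv_mem hb)]
        _ = (s * a * s⁻¹) * b⁻¹ := by group
        _ = _ := by rw [hsinv a ha hax, mul_inv_rev, hc a⁻¹ (L₁.inv_mem ha) b⁻¹ (L₂.inv_mem hb)]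
    rwa [hτinv] at h
  have hWτ : ∀ w ∈ W, (w * τ) * (w * τ) = 1 := fun w hw => by
    rw [show w * τ * (w * τ) = w * (τ * w * τ) by group, hτW w hw, mul_inv_cancel]
  -- decomposition of `H ∩ L₁L₂`
  have hdec : ∀ h ∈ H, h ∈ L₁ ⊔ L₂ → h ∈ W ∨ h * τ ∈ W := by
    intro h hh hhY
    obtain ⟨a, ha, b, hb, rfl⟩ := mem_sup_of_commute hc hhY
    have hcomm := mem_centralizer_singleton_iff.mp hh.2
    rw [← hxy] at hcomm
    have h1 : a * b * (x * y) = (a * x) * (b * y) := by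
      rw [show a * b * (x * y) = a * (b * x) * y by group, ← hc x hx b hb]; group
    have h2 : x * y * (a * b) = (x * a) * (y * b) := by
      rw [show x * y * (a * b) = x * (y * a) * b by group, ← hc a ha y hy]; group
    rw [h1, h2] at hcomm
    set e := (x * a)⁻¹ * (a * x) with he
    have he2 : e = (y * b) * (b * y)⁻¹ := by
      rw [he, eq_mul_inv_iff_mul_eq, mul_assoc, inv_mul_eq_iff_eq_mul]; exact hcomm
    have heL₁ : e ∈ L₁ := L₁.mul_mem (L₁.inv_mem (L₁.mul_mem hx ha)) (L₁.mul_mem ha hx)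
    have heL₂ : e ∈ L₂ := he2 ▸ L₂.mul_mem (L₂.mul_mem hy hb) (L₂.inv_mem (L₂.mul_mem hb hy))
    rcases hm e heL₁ heL₂ with h | h
    · left
      refine ⟨a, ha, b, hb, ?_, ?_, rfl⟩
      · rw [he, inv_mul_eq_one] at h; exact h.symm
      · rw [he2, mul_inv_eq_one] at h; exact h.symm
    · right
      rw [he, inv_mul_eq_iff_eq_mul] at h
      have hje : j = (x * a)⁻¹ * (a * x) := by rw [h, inv_mul_cancel_left]
      have hax : a * x = j * x * a := by rw [h, ← (hjc₁ _ (L₁.mul_mem hx ha)).eq, mul_assoc]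
      have hby : b * y = j * y * b := by
        have hj' : j = (y * b) * (b * y)⁻¹ := by
          rw [← he2, he]; exact hje
        rw [eq_mul_inv_iff_mul_eq] at hj'
        calc b * y = (j * j) * (b * y) := by rw [hjj, one_mul]
          _ = j * (j * (b * y)) := by group
          _ = _ := by rw [hj', mul_assoc]
      refine ⟨a * s, L₁.mul_mem ha hs, b * t, L₂.mul_mem hb ht, ?_, ?_, ?_⟩
      · show a * s * x = x * (a * s)
        calc a * s * x = a * (j * x * s) := by rw [mul_assoc, hsx]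
          _ = (a * j) * x * s := by group
          _ = j * (a * x) * s := by rw [← (hjc₁ a ha).eq]; group
          _ = j * (j * x * a) * s := by rw [hax]
          _ = (j * j) * x * (a * s) := by group
          _ = _ := by rw [hjj, one_mul]
      · show b * t * y = y * (b * t)
        calc b * t * y = b * (j * y * t) := by rw [mul_assoc, hty]
          _ = (b * j) * y * t := by group
          _ = j * (b * y) * t := by rw [← (hjc₂ b hb).eq]; group
          _ = j * (j * y * b) * t := by rw [hby]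
          _ = (j * j) * y * (b * t) := by group
          _ = _ := by rw [hjj, one_mul]
      · rw [hτ, show a * b * (s * t) = a * (b * s) * t by group, ← hc s hs b hb]; group
  -- the `2`-group `D`
  let D₀ : Subgroup G :=
    { carrier := {d | ∃ w ∈ W, (∃ k, w ^ 2 ^ k = 1) ∧ (d = w ∨ d = w * τ)}
      one_mem' := ⟨1, W.one_mem, ⟨0, one_pow _⟩, Or.inl rfl⟩
      mul_mem' := by
        have hmul : ∀ v ∈ W, ∀ w ∈ W, (∃ k, v ^ 2 ^ k = 1) → (∃ k, w ^ 2 ^ k = 1) →
            ∃ k, (v * w) ^ 2 ^ k = 1 := by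
          rintro v hv w hw ⟨k, hk⟩ ⟨l, hl⟩
          refine ⟨k + l, ?_⟩
          rw [(hWcomm v hv w hw).mul_pow, pow_add, pow_mul, hk, one_pow, one_mul, mul_comm, pow_mul, hl,
            one_pow]
        rintro d d' ⟨v, hv, hv2, e | e⟩ ⟨w, hw, hw2, e' | e'⟩ <;> rw [e, e']
        · exact ⟨v * w, W.mul_mem hv hw, hmul v hv w hw hv2 hw2, Or.inl rfl⟩
        · exact ⟨v * w, W.mul_mem hv hw, hmul v hv w hw hv2 hw2, Or.inr (mul_assoc _ _ _).symm⟩
        · refine ⟨v * w⁻¹, W.mul_mem hv (W.inv_mem hw),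
            hmul v hv w⁻¹ (W.inv_mem hw) hv2 (hw2.imp fun k hk => by rw [inv_pow, hk, inv_one]), Or.inr ?_⟩
          rw [← hτW w hw, show v * (τ * w * τ) * τ = v * τ * w * (τ * τ) by group, hττ, mul_one]
        · refine ⟨v * w⁻¹, W.mul_mem hv (W.inv_mem hw),
            hmul v hv w⁻¹ (W.inv_mem hw) hv2 (hw2.imp fun k hk => by rw [inv_pow, hk, inv_one]), Or.inl ?_⟩
          rw [← hτW w hw]; group
      inv_mem' := by
        rintro d ⟨w, hw, hw2, e | e⟩ <;> rw [e]
        · exact ⟨w⁻¹, W.inv_mem hw, hw2.imp fun k hk => by rw [inv_pow, hk, inv_one], Or.inl rfl⟩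
        · exact ⟨w, hw, hw2, Or.inr (inv_eq_of_mul_eq_one_right (hWτ w hw))⟩ }
  have hD₀p : IsPGroup 2 D₀ := by
    rintro ⟨d, w, hw, ⟨k, hk⟩, e | e⟩
    · exact ⟨k, Subtype.ext (by simpa [e] using hk)⟩
    · exact ⟨1, Subtype.ext (by simpa [e, pow_two] using hWτ w hw)⟩
  have hWH : W ≤ H := by
    rintro _ ⟨a, ha, b, hb, hax, hby, rfl⟩
    exact hW a ha b hb hax hby
  have hWY : W ≤ L₁ ⊔ L₂ := by
    rintro _ ⟨a, ha, b, hb, hax, hby, rfl⟩
    exact mul_mem (mem_sup_left ha) (mem_sup_right hb)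
  have hD₀H : D₀ ≤ H := by
    rintro d ⟨w, hw, -, e | e⟩
    · exact e ▸ hWH hw
    · exact e ▸ H.mul_mem (hWH hw) hτH
  obtain ⟨P, hD₀P, hP⟩ := Finite.exists_le_maximal
    (p := fun P : Subgroup G => IsPGroup 2 P ∧ P ≤ H) (a := D₀) ⟨hD₀p, hD₀H⟩
  have hτP : τ ∈ P := hD₀P ⟨1, W.one_mem, ⟨0, one_pow _⟩, Or.inr (one_mul _).symm⟩
  -- elements of `P` in `L₁L₂`
  have hPY : ∀ p ∈ P, p ∈ L₁ ⊔ L₂ → ∃ w ∈ W, (∃ k, w ^ 2 ^ k = 1) ∧ (p = w ∨ p = w * τ) := by
    intro p hp hpY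
    rcases hdec p (hP.1.2 hp) hpY with h | h
    · obtain ⟨k, hk⟩ := hP.1.1 ⟨p, hp⟩
      exact ⟨p, h, ⟨k, by simpa using congrArg Subtype.val hk⟩, Or.inl rfl⟩
    · obtain ⟨k, hk⟩ := hP.1.1 ⟨p * τ, P.mul_mem hp hτP⟩
      exact ⟨p * τ, h, ⟨k, by simpa using congrArg Subtype.val hk⟩,
        Or.inr (by rw [mul_assoc, hττ, mul_one])⟩
  -- `P` is not a Sylow subgroup of `C(j)`
  have hnotmax : ∃ Q : Subgroup G, IsPGroup 2 Q ∧ Q ≤ centralizer ({j} : Set G) ∧ P < Q := by
    by_contra! hno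
    have hjx : x⁻¹ = j * x := inv_eq_of_mul_eq_one_right (by
      rw [← mul_assoc, ← (hjc₁ x hx).eq, mul_assoc, hxx, hjj])
    have hsn : zpowers s ≤ normalizer (zpowers x : Set G) := by
      rw [zpowers_le, mem_normalizer_iff]
      intro n
      have h1 : ∀ i : ℤ, s * x ^ i * s⁻¹ ∈ zpowers x := fun i => by
        rw [← conj_zpow, hsinv x hx (Commute.refl x)]
        exact zpow_mem (inv_mem (mem_zpowers x)) i
      constructor
      · intro hn
        obtain ⟨i, rfl⟩ := mem_zpowers_iff.mp hn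
        exact h1 i
      · intro hn
        obtain ⟨i, hi⟩ := mem_zpowers_iff.mp hn
        refine ⟨-i, mul_right_cancel (b := s⁻¹) (mul_left_cancel (a := s) ?_)⟩
        show s * (x ^ (-i) * s⁻¹) = s * (n * s⁻¹)
        rw [← mul_assoc, ← mul_assoc, ← conj_zpow, hsinv x hx (Commute.refl x), inv_zpow, zpow_neg, inv_inv]
        exact hi
    have h4 : ∀ a : G, a * a = j → IsPGroup 2 (zpowers a) := fun a ha => by
      rintro ⟨b, hb⟩
      obtain ⟨i, rfl⟩ := mem_zpowers_iff.mp hb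
      refine ⟨2, Subtype.ext ?_⟩
      show (a ^ i) ^ (2 ^ 2) = 1
      rw [← zpow_natCast, ← zpow_mul, mul_comm, zpow_mul, zpow_natCast,
        show a ^ (2 ^ 2) = (a * a) * (a * a) by simp [pow_succ, mul_assoc], ha, hjj, one_zpow]
    set R := zpowers s ⊔ zpowers x
    have hRp : IsPGroup 2 R := (h4 s hss).to_sup_of_normal_right' (h4 x hxx) hsn
    have hRC : R ≤ centralizer ({j} : Set G) :=
      sup_le (zpowers_le.mpr (hle (mem_sup_left hs))) (zpowers_le.mpr (hle (mem_sup_left hx)))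
    obtain ⟨S, hPS, hS⟩ := Finite.exists_le_maximal
      (p := fun Q : Subgroup G => IsPGroup 2 Q ∧ Q ≤ centralizer ({j} : Set G))
      (a := P) ⟨hP.1.1, hP.1.2.trans inf_le_left⟩
    have hSP : S = P := by
      by_contra hne'
      exact hno S hS.1.1 hS.1.2 (lt_of_le_of_ne hPS (Ne.symm hne'))
    have hPmax : ∀ Q : Subgroup G, IsPGroup 2 Q → Q ≤ centralizer ({j} : Set G) → P ≤ Q → Q = P :=
      fun Q h1 h2 h3 => le_antisymm (hSP ▸ hS.2 ⟨h1, h2⟩ (hSP.symm ▸ h3)) h3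
    let PS : Sylow 2 ↥(centralizer ({j} : Set G)) :=
      { toSubgroup := P.subgroupOf _
        isPGroup' := hP.1.1.comap_subtype
        is_maximal' := fun {Q} hQ hle' => by
          have h1 := hPmax (Q.map (centralizer ({j} : Set G)).subtype) (hQ.map _) (map_subtype_le _)
            (fun p hp => ⟨⟨p, (hP.1.2 hp).1⟩, hle' (mem_subgroupOf.mpr hp), rfl⟩)
          rw [← h1, subgroupOf, comap_map_eq_self_of_injective (subtype_injective _)] }
    obtain ⟨h, hh, hhle⟩ := exists_conj_le_of_sylow_in _ PS R hRp hRC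
    have hcl : ∀ a ∈ R, a ∈ L₁ ⊔ L₂ → a * a = j →
        ∃ w ∈ W, h * a * h⁻¹ = w := by
      intro a ha haY haj
      have h1 : h * a * h⁻¹ ∈ P := by
        obtain ⟨⟨p, hp'⟩, hp, hpe⟩ := hhle ⟨a, ha, rfl⟩
        rw [show h * a * h⁻¹ = p from hpe.symm]
        exact hp
      obtain ⟨w, hw, -, e | e⟩ := hPY _ h1 (hnorm h hh a haY)
      · exact ⟨w, hw, e⟩
      · exfalso
        have h2 : h * a * h⁻¹ * (h * a * h⁻¹) = 1 := by rw [e]; exact hWτ w hw
        rw [show h * a * h⁻¹ * (h * a * h⁻¹) = h * (a * a) * h⁻¹ by group, haj, conj_eq_one_iff] at h2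
        exact hj1 h2
    obtain ⟨v, hv, hve⟩ := hcl x (mem_sup_right (mem_zpowers x)) (mem_sup_left hx) hxx
    obtain ⟨w, hw, hwe⟩ := hcl s (mem_sup_left (mem_zpowers s)) (mem_sup_left hs) hss
    have h1 : Commute x s := by
      have := (hWcomm v hv w hw).map (MulAut.conj h⁻¹).toMonoidHom
      rw [← hve, ← hwe] at this
      simpa [mul_assoc] using this
    have h2 := hsx
    rw [← h1.eq, mul_assoc, eq_comm, mul_eq_right] at h2
    exact hj1 h2
  -- exponents
  have hex : ∃ e, ∀ w ∈ W, (∃ k, w ^ 2 ^ k = 1) → (w * w) ^ 2 ^ e = 1 := by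
    obtain ⟨N, hN⟩ := IsPGroup.iff_card.mp hD₀p
    refine ⟨N, fun w hw hw2 => ?_⟩
    have : (⟨w * w, D₀.mul_mem ⟨w, hw, hw2, Or.inl rfl⟩ ⟨w, hw, hw2, Or.inl rfl⟩⟩ : D₀) ^ 2 ^ N = 1 := by
      rw [← hN]; exact pow_card_eq_one'
    exact congrArg Subtype.val this
  have hxW : x ∈ W := ⟨x, hx, 1, L₂.one_mem, Commute.refl x, Commute.one_left _, (mul_one x).symm⟩
  have hx2p : ∃ k, x ^ 2 ^ k = 1 := ⟨2, by rw [show x ^ (2 ^ 2) = (x * x) * (x * x) by simp [pow_succ, mul_assoc], hxx, hjj]⟩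
  obtain ⟨e, he⟩ : ∃ e, Nat.find hex = e + 1 := by
    refine Nat.exists_eq_succ_of_ne_zero fun h0 => hj1 ?_
    have := Nat.find_spec hex x hxW hx2p
    rwa [h0, pow_zero, pow_one, hxx] at this
  have hspec : ∀ w ∈ W, (∃ k, w ^ 2 ^ k = 1) → (w * w) ^ 2 ^ (e + 1) = 1 := he ▸ Nat.find_spec hex
  have hval : ∀ w ∈ W, (∃ k, w ^ 2 ^ k = 1) → (w * w) ^ 2 ^ e = 1 ∨ (w * w) ^ 2 ^ e = j := by
    rintro _ ⟨a, ha, b, hb, hax, hby, rfl⟩ ⟨k, hk⟩
    have hcab : Commute a b := hc a ha b hb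
    rw [hcab.mul_pow] at hk
    have hparts : (∀ c, a ^ 2 ^ k = c → c = 1 ∨ c = j) ∧ (∀ c, b ^ 2 ^ k = c → c = 1 ∨ c = j) := by
      refine ⟨fun c hc' => hc' ▸ hm _ (L₁.pow_mem ha _) ?_, fun c hc' => hc' ▸ hm _ ?_ (L₂.pow_mem hb _)⟩
      · rw [eq_inv_of_mul_eq_one_left hk]; exact L₂.inv_mem (L₂.pow_mem hb _)
      · rw [eq_inv_of_mul_eq_one_right hk]; exact L₁.inv_mem (L₁.pow_mem ha _)
    have htwo : ∀ c : G, (c ^ 2 ^ k = 1 ∨ c ^ 2 ^ k = j) → ∃ l, c ^ 2 ^ l = 1 := fun c hc' =>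
      ⟨k + 1, by rw [pow_succ, pow_mul, pow_two]; rcases hc' with h | h <;> simp [h, hjj]⟩
    have ha' := hspec a ⟨a, ha, 1, L₂.one_mem, hax, Commute.one_left _, (mul_one a).symm⟩
      (htwo a (hparts.1 _ rfl))
    have hb' := hspec b ⟨1, L₁.one_mem, b, hb, Commute.one_left _, hby, (one_mul b).symm⟩
      (htwo b (hparts.2 _ rfl))
    rw [pow_succ, pow_mul, pow_two] at ha' hb'
    rw [show a * b * (a * b) = a * (b * a) * b by group, ← hcab.eq,
      show a * (a * b) * b = (a * a) * (b * b) by group,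
      ((hcab.mul_left hcab).mul_right (hcab.mul_left hcab)).mul_pow]
    rcases h₁.inv_eq _ (L₁.pow_mem (L₁.mul_mem ha ha) _) ha' with h | h <;>
      rcases h₂.inv_eq _ (L₂.pow_mem (L₂.mul_mem hb hb) _) hb' with h' | h' <;> simp [h, h', hjj]
  obtain ⟨w₀, hw₀, hw₀2, hw₀j⟩ : ∃ w ∈ W, (∃ k, w ^ 2 ^ k = 1) ∧ (w * w) ^ 2 ^ e = j := by
    by_contra! h
    exact Nat.find_min hex (show e < Nat.find hex by omega)
      fun w hw hw2 => (hval w hw hw2).resolve_right (h w hw hw2)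
  -- `j` is fixed by the normalizer of `P`
  set D := closure {p : G | p ∈ P ∧ p * p = 1} with hD
  have hDle : ∀ d ∈ D, d ∈ P ∧ d ∈ L₁ ⊔ L₂ := by
    intro d hd
    refine (show D ≤ P ⊓ (L₁ ⊔ L₂) from ?_) hd
    rw [hD, closure_le]
    rintro p ⟨hp, hpp⟩
    exact ⟨hp, hin p (hP.1.2 hp).1 hpp⟩
  have hw₀D : w₀ ∈ D := by
    have h1 : w₀ * τ ∈ D := subset_closure ⟨hD₀P ⟨w₀, hw₀, hw₀2, Or.inr rfl⟩, hWτ w₀ hw₀⟩
    have h2 : τ ∈ D := subset_closure ⟨hτP, hττ⟩
    have h3 := D.mul_mem h1 h2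
    rwa [mul_assoc, hττ, mul_one] at h3
  have hchar : ∀ n ∈ normalizer (P : Set G), n * j * n⁻¹ = j := by
    intro n hn
    have hmap : ∀ d ∈ D, n * d * n⁻¹ ∈ D := by
      intro d hd
      induction hd using closure_induction with
      | mem p hp =>
        refine subset_closure ⟨(mem_normalizer_iff.mp hn p).mp hp.1, ?_⟩
        rw [show n * p * n⁻¹ * (n * p * n⁻¹) = n * (p * p) * n⁻¹ by group, hp.2]; group
      | one => simp
      | mul a b _ _ ia ib => simpa [mul_assoc] using D.mul_mem ia ib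
      | inv a _ ia => simpa [mul_assoc] using D.inv_mem ia
    obtain ⟨hdP, hdY⟩ := hDle _ (hmap w₀ hw₀D)
    obtain ⟨w, hw, hw2, e' | e'⟩ := hPY _ hdP hdY
    · have h1 : (w * w) ^ 2 ^ e = n * j * n⁻¹ := by
        rw [← e', show n * w₀ * n⁻¹ * (n * w₀ * n⁻¹) = n * (w₀ * w₀) * n⁻¹ by group, conj_pow, hw₀j]
      rcases hval w hw hw2 with h | h
      · exact absurd (conj_eq_one_iff.mp (h1.symm.trans h)) hj1
      · exact h1.symm.trans h
    · exfalso
      have h1 : (n * w₀ * n⁻¹ * (n * w₀ * n⁻¹)) ^ 2 ^ e = 1 := by rw [e', hWτ w hw, one_pow]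
      rw [show n * w₀ * n⁻¹ * (n * w₀ * n⁻¹) = n * (w₀ * w₀) * n⁻¹ by group, conj_pow, hw₀j,
        conj_eq_one_iff] at h1
      exact hj1 h1
  -- grow `P` inside `C(u)`
  obtain ⟨Q, hQp, hQj, hPQ⟩ := hnotmax
  let Q' := Q.map (MulAut.conj g).toMonoidHom
  have hQ'u : Q' ≤ centralizer ({u} : Set G) := by
    rintro _ ⟨q, hq, rfl⟩
    rw [mem_centralizer_singleton_iff]
    show MulAut.conj g q * MulAut.conj g j = MulAut.conj g j * MulAut.conj g q
    rw [← map_mul, ← map_mul, mem_centralizer_singleton_iff.mp (hQj hq)]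
  obtain ⟨S, hPS, hS⟩ := Finite.exists_le_maximal
    (p := fun R : Subgroup G => IsPGroup 2 R ∧ R ≤ centralizer ({u} : Set G))
    (a := P) ⟨hP.1.1, hP.1.2.trans inf_le_right⟩
  have hSP : P < S := by
    refine lt_of_le_of_ne hPS fun h => ?_
    let SS : Sylow 2 ↥(centralizer ({u} : Set G)) :=
      { toSubgroup := S.subgroupOf _
        isPGroup' := hS.1.1.comap_subtype
        is_maximal' := fun {T} hT hle' => by
          have h1 : T.map (centralizer ({u} : Set G)).subtype = S :=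
            le_antisymm (hS.2 ⟨hT.map _, map_subtype_le _⟩
              (fun p hp => ⟨⟨p, hS.1.2 hp⟩, hle' (mem_subgroupOf.mpr hp), rfl⟩))
              (fun p hp => ⟨⟨p, hS.1.2 hp⟩, hle' (mem_subgroupOf.mpr hp), rfl⟩)
          rw [← h1, subgroupOf, comap_map_eq_self_of_injective (subtype_injective _)] }
    obtain ⟨c, hc', hcle⟩ := exists_conj_le_of_sylow_in _ SS Q' (hQp.map _) hQ'u
    have h1 := card_le_of_le hcle
    have h2 : Nat.card ((SS : Subgroup _).map (centralizer ({u} : Set G)).subtype) = Nat.card S := by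
      rw [show ((SS : Subgroup _).map (centralizer ({u} : Set G)).subtype) = S from
        (map_subgroupOf_eq_of_le hS.1.2)]
    rw [h2, ← h, card_map_of_injective (MulAut.conj c).injective,
      card_map_of_injective (MulAut.conj g).injective] at h1
    exact hPQ.ne (Subgroup.eq_of_le_of_card_ge hPQ.le h1)
  have hlt := lt_normalizer_inf_of_lt hS.1.1 hSP
  refine hlt.not_ge (hP.2 ⟨hS.1.1.to_le inf_le_left, le_inf ?_ (inf_le_left.trans hS.1.2)⟩ hlt.le)
  intro m hm'
  exact mem_centralizer_singleton_iff.mpr (mul_inv_eq_iff_eq_mul.mp (hchar m hm'.2))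

/-- An element of order 4 squaring to `j` swaps the factors: no outer involutions. -/
theorem involution_mem (hjj : j * j = 1) (hj1 : j ≠ 1)
    (hc : ∀ x ∈ L₁, ∀ y ∈ L₂, x * y = y * x) (hm : ∀ a ∈ L₁, a ∈ L₂ → a = 1 ∨ a = j)
    (hjL₁ : j ∈ L₁) (hle : L₁ ⊔ L₂ ≤ centralizer ({j} : Set G)) {n : G} (hn : n * n = j)
    (hswap : L₁.map (MulAut.conj n).toMonoidHom = L₂)
    {u : G} (hu : ∃ a ∈ L₁, ∃ b ∈ L₂, u = n * (a * b)) : u * u ≠ 1 := by
  obtain ⟨a, ha, b, hb, rfl⟩ := hu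
  intro huu
  have hjc₁ : ∀ a ∈ L₁, Commute j a := fun a ha =>
    (mem_centralizer_singleton_iff.mp (hle (mem_sup_left ha))).symm
  have hjc₂ : ∀ a ∈ L₂, Commute j a := fun a ha =>
    (mem_centralizer_singleton_iff.mp (hle (mem_sup_right ha))).symm
  have hA : n * a * n⁻¹ ∈ L₂ := hswap ▸ ⟨a, ha, rfl⟩
  have hB : n * b * n⁻¹ ∈ L₁ := by
    obtain ⟨c, hc', hce⟩ : b ∈ L₁.map (MulAut.conj n).toMonoidHom := hswap ▸ hb
    have hce' : n * c * n⁻¹ = b := hce
    rw [← hce', show n * (n * c * n⁻¹) * n⁻¹ = (n * n) * c * (n * n)⁻¹ by group, hn,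
      (hjc₁ c hc').eq, mul_assoc, mul_inv_cancel, mul_one]
    exact hc'
  set A := n * a * n⁻¹ with hAdef
  set B := n * b * n⁻¹ with hBdef
  have h1 : A * B * (n * n * (a * b)) = 1 := by
    rw [← huu, hAdef, hBdef]; group
  rw [hn] at h1
  have h2 : (B * a) * (A * (j * b)) = 1 := by
    rw [← h1]
    calc B * a * (A * (j * b)) = B * (a * A) * j * b := by group
      _ = B * (A * a) * j * b := by rw [hc a ha A hA]
      _ = (B * A) * (a * j) * b := by group
      _ = (A * B) * (j * a) * b := by rw [hc B hB A hA, ← (hjc₁ a ha).eq]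
      _ = _ := by group
  have hc2 : B * a ∈ L₂ := by
    rw [eq_inv_of_mul_eq_one_left h2]
    exact L₂.inv_mem (L₂.mul_mem hA (L₂.mul_mem (by
      rcases hm j hjL₁ (by exact (hswap ▸ ⟨j, hjL₁, by
        show n * j * n⁻¹ = j
        rw [← hn]; group⟩ : j ∈ L₂)) with h | h
      · exact absurd h hj1
      · exact hswap ▸ ⟨j, hjL₁, by show n * j * n⁻¹ = j; rw [← hn]; group⟩) hb))
  have key : ∀ c, (c = 1 ∨ c = j) → B * a = c → False := by
    intro c hc' hBa
    have hcc : c * c = 1 := by rcases hc' with rfl | rfl <;> simp [hjj]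
    have hcn : n * c * n⁻¹ = c := by
      rcases hc' with rfl | rfl
      · simp
      · rw [← hn]; group
    have hcL : ∀ v ∈ L₂, Commute c v := fun v hv => by
      rcases hc' with rfl | rfl
      · exact Commute.one_left v
      · exact hjc₂ v hv
    rw [hBa] at h2
    have hA' : A = c * b⁻¹ * j := by
      have h3 : A * (j * b) = c := by
        calc A * (j * b) = (c * c) * (A * (j * b)) := by rw [hcc, one_mul]
          _ = c * (c * (A * (j * b))) := by group
          _ = c := by rw [h2, mul_one]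
      calc A = c * (j * b)⁻¹ := eq_mul_inv_of_mul_eq h3
        _ = _ := by rw [mul_inv_rev, inv_eq_of_mul_eq_one_right hjj]; group
    have h4 : n * B * n⁻¹ = b := by
      rw [hBdef, show n * (n * b * n⁻¹) * n⁻¹ = (n * n) * b * (n * n)⁻¹ by group, hn,
        (hjc₂ b hb).eq, mul_assoc, mul_inv_cancel, mul_one]
    have h5 : n * (B * a) * n⁻¹ = c := by rw [hBa, hcn]
    rw [show n * (B * a) * n⁻¹ = (n * B * n⁻¹) * (n * a * n⁻¹) by group, h4, ← hAdef, hA'] at h5
    have h6 : c * j = c := by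
      calc c * j = (c * b) * b⁻¹ * j := by group
        _ = (b * c) * b⁻¹ * j := by rw [(hcL b hb).eq]
        _ = b * (c * b⁻¹ * j) := by group
        _ = c := h5
    exact hj1 (by simpa using h6)
  exact key _ (hm _ (L₁.mul_mem hB ha) hc2) rfl

end CfsgLib.InvChar.SwappedSLTwo
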