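import Cfsg.Agent.Lib.InvChar.SylowTwoWreath

/-!
Models of the Sylow 2-subgroups of the symmetric groups of degree divisible by four, and of the
alternating groups, with their indecomposability properties.
-/

set_option autoImplicit false

namespace CfsgLib.SylowDecomp

open Equiv Subgroup Nat
open scoped commutatorElement

/-- The exponent of two in `n!`. -/
abbrev vtwo (n : ℕ) : ℕ := (n !).factorization 2

theorem vtwo_step (n : ℕ) : vtwo n = vtwo (n / 2) + n / 2 := by
  obtain ⟨m, rfl | rfl⟩ := Nat.even_or_odd' n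
  · rw [Nat.mul_div_cancel_left m two_pos]
    exact Nat.factorization_factorial_mul Nat.prime_two
  · rw [show (2 * m + 1) / 2 = m by omega]
    show ((2 * m + 1) !).factorization 2 = _
    rw [Nat.factorial_succ, Nat.factorization_mul (succ_ne_zero _) (factorial_ne_zero _),
      Finsupp.add_apply, Nat.factorization_eq_zero_of_not_dvd (show ¬ 2 ∣ 2 * m + 1 by omega),
      zero_add]
    exact Nat.factorization_factorial_mul Nat.prime_two

theorem vtwo_zero : vtwo 0 = 0 := by simp [vtwo]

theorem vtwo_one : vtwo 1 = 0 := by simp [vtwo]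

theorem vtwo_two_pow_succ (r : ℕ) : vtwo (2 ^ (r + 1)) = vtwo (2 ^ r) + 2 ^ r := by
  rw [vtwo_step, show 2 ^ (r + 1) / 2 = 2 ^ r by rw [pow_succ, Nat.mul_div_cancel _ two_pos]]

theorem vtwo_two_pow (r : ℕ) : vtwo (2 ^ r) + 1 = 2 ^ r := by
  induction r with
  | zero => simp [vtwo]
  | succ r ih => rw [vtwo_two_pow_succ, pow_succ]; omega

theorem vtwo_add {r : ℕ} : ∀ {m : ℕ}, m < 2 ^ r → vtwo (2 ^ r + m) = vtwo (2 ^ r) + vtwo m := by
  induction r with
  | zero =>
    intro m hm
    obtain rfl : m = 0 := by simpa using hm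
    simp [vtwo]
  | succ r ih =>
    intro m hm
    have h2 : (2 ^ (r + 1) + m) / 2 = 2 ^ r + m / 2 := by rw [pow_succ]; omega
    rw [vtwo_step, h2, ih (by rw [pow_succ] at hm; omega), vtwo_two_pow_succ, vtwo_step m]
    omega

theorem vtwo_mod_four (k t : ℕ) (ht : t < 4) :
    vtwo (4 * k + t) = vtwo (4 * k) + t / 2 := by
  rw [vtwo_step (4 * k + t), vtwo_step (4 * k)]
  rw [vtwo_step ((4 * k + t) / 2), vtwo_step (4 * k / 2)]
  rw [show (4 * k + t) / 2 = 2 * k + t / 2 by omega, show 4 * k / 2 = 2 * k by omega,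
    show (2 * k + t / 2) / 2 = k by omega, show 2 * k / 2 = k by omega]
  omega

theorem exists_level : ∀ r : ℕ, 1 ≤ r → ∃ (β : Type) (_ : Fintype β) (_ : DecidableEq β)
    (X : Subgroup (Perm β)), Fintype.card β = 2 ^ r ∧ Nat.card X = 2 ^ vtwo (2 ^ r) ∧ Tower X ∧
      (2 ≤ r → CPI X ∧ center X ≤ _root_.commutator X ∧
        (3 ≤ r → Nat.card (center (sgn X).ker) = 2)) := by
  intro r hr
  induction r, hr using Nat.le_induction with
  | base =>
    refine ⟨Bool, inferInstance, inferInstance, ⊤, rfl, ?_, ⟨?_, ?_⟩, fun h => absurd h (by omega)⟩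
    · rw [Nat.card_congr Subgroup.topEquiv.toEquiv, Nat.card_eq_fintype_card, Fintype.card_perm,
        vtwo_step]
      simp [vtwo]
    · have hc : ∀ g : (⊤ : Subgroup (Perm Bool)), g ∈ center (⊤ : Subgroup (Perm Bool)) := fun g =>
        mem_center_iff.2 fun h => Subtype.ext
          ((by decide : ∀ a b : Perm Bool, a * b = b * a) h.1 g.1)
      refine (Nat.card_eq_two_iff' (1 : center (⊤ : Subgroup (Perm Bool)))).2
        ⟨⟨⟨swap true false, mem_top _⟩, hc _⟩, ?_, ?_⟩
      · intro h
        have : swap true false = (1 : Perm Bool) :=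
          congrArg (fun t : center (⊤ : Subgroup (Perm Bool)) => t.1.1) h
        exact absurd this (by decide)
      · intro g hg
        refine Subtype.ext (Subtype.ext ?_)
        refine (by decide : ∀ a : Perm Bool, a ≠ 1 → a = swap true false) g.1.1 fun h => hg ?_
        exact Subtype.ext (Subtype.ext h)
    · refine ⟨⟨swap true false, mem_top _⟩, ?_⟩
      show Perm.sign (swap true false) ≠ 1
      decide
  | succ r hr ih =>
    obtain ⟨β, _, _, X, hβ, hX, hT, hrest⟩ := ih
    haveI : Nonempty β := Fintype.card_pos_iff.1 (hβ ▸ Nat.two_pow_pos r)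
    have he : Even (Fintype.card β) := by
      rw [hβ]
      exact (Nat.even_pow).2 ⟨even_two, by omega⟩
    refine ⟨Bool × β, inferInstance, inferInstance, wr X, ?_, ?_, hT.wr,
      fun _ => ⟨cpi_wr, (center_wr hT.card_center).2, fun h3 => ?_⟩⟩
    · rw [Fintype.card_prod, Fintype.card_bool, hβ, pow_succ, mul_comm]
    · rw [card_wr, hX, vtwo_two_pow_succ, ← pow_mul, ← pow_succ']
      congr 1
      have := vtwo_two_pow r
      omega
    · exact card_center_ker he hT (hrest (by omega)).2.1

/-- The sign pulled back along a permutation representation. -/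
noncomputable def pullSign {R : Type*} [Group R] {n : ℕ} (ι : R →* Perm (Fin n)) : R →* ℤˣ :=
  Perm.sign.comp ι

theorem nontrivial_of_nice {R : Type*} [Group R] {ε : R →* ℤˣ} (h : Nice ε) : Nontrivial R := by
  obtain ⟨r, hr⟩ := h.odd
  exact ⟨r, 1, fun h1 => hr (by rw [h1, map_one])⟩

theorem exists_model : ∀ n : ℕ, n % 4 = 0 → 0 < n →
    ∃ (R : Type) (_ : Group R) (ι : R →* Perm (Fin n)), Function.Injective ι ∧
      Nat.card R = 2 ^ vtwo n ∧ Nice (pullSign ι) ∧ (Decomposable R ↔ ∀ r, n ≠ 2 ^ r) ∧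
      (n ≠ 4 → ¬ Decomposable (pullSign ι).ker) := by
  intro n
  induction n using Nat.strong_induction_on with
  | _ n ih =>
  intro h4 hn
  obtain ⟨r, hr⟩ : ∃ r, r = Nat.log 2 n := ⟨_, rfl⟩
  have hle : 2 ^ r ≤ n := hr ▸ Nat.pow_log_le_self 2 hn.ne'
  have hlt : n < 2 ^ (r + 1) := hr ▸ Nat.lt_pow_succ_log_self one_lt_two n
  have hr2 : 2 ≤ r := by
    by_contra hc
    rcases (show r = 0 ∨ r = 1 by omega) with h | h <;> rw [h] at hlt <;> norm_num at hlt <;> omega
  have hp4 : 2 ^ r % 4 = 0 := by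
    obtain ⟨s, hs⟩ : ∃ s, r = s + 2 := ⟨r - 2, by omega⟩
    rw [hs, pow_add]; omega
  obtain ⟨β, _, _, X, hβ, hX, hT, hrest⟩ := exists_level r (by omega)
  obtain ⟨hcpi, hzX, hker⟩ := hrest hr2
  obtain ⟨m, hm⟩ : ∃ m, n = 2 ^ r + m := ⟨n - 2 ^ r, by omega⟩
  subst hm
  rcases Nat.eq_zero_or_pos m with rfl | hmpos
  · -- a single factor
    let e : β ≃ Fin (2 ^ r + 0) := Fintype.equivFinOfCardEq (by rw [hβ, add_zero])
    refine ⟨X, inferInstance, e.permCongrHom.toMonoidHom.comp X.subtype,
      e.permCongrHom.injective.comp X.subtype_injective, by rw [hX, add_zero], ?_, ?_, ?_⟩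
    · refine nice_of_cpi ?_ hcpi hzX
      obtain ⟨x, hx⟩ := hT.odd
      exact ⟨x, by
        show Perm.sign (e.permCongr x.1) ≠ 1
        rw [Perm.sign_permCongr]; exact hx⟩
    · exact iff_of_false (not_decomposable_of_cpi hcpi hzX) fun h => h r (add_zero _)
    · intro hne
      have hr3 : 3 ≤ r := by
        by_contra hc
        obtain rfl : r = 2 := by omega
        norm_num at hne
      have hk : (pullSign (e.permCongrHom.toMonoidHom.comp X.subtype)).ker = (sgn X).ker := by
        ext x
        show Perm.sign (e.permCongr x.1) = 1 ↔ Perm.sign x.1 = 1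
        rw [Perm.sign_permCongr]
      rw [hk]
      have hXP : IsPGroup 2 X := IsPGroup.of_card hX
      exact not_decomposable_of_card_center (hXP.to_subgroup _) (hker hr3)
  · -- a product
    have hmlt : m < 2 ^ r := by rw [pow_succ] at hlt; omega
    obtain ⟨R, _, ι, hι, hR, hnice, -, -⟩ := ih m (by omega) (by omega) hmpos
    let e : β ⊕ Fin m ≃ Fin (2 ^ r + m) := Fintype.equivFinOfCardEq (by
      rw [Fintype.card_sum, hβ, Fintype.card_fin])
    let κ : X × R →* Perm (Fin (2 ^ r + m)) :=
      (e.permCongrHom.toMonoidHom.comp (Perm.sumCongrHom β (Fin m))).comp (X.subtype.prodMap ι)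
    have hκ : pullSign κ = prodSign (sgn X) (pullSign ι) := by
      refine MonoidHom.ext fun x => ?_
      show Perm.sign (e.permCongr (Equiv.Perm.sumCongr x.1.1 (ι x.2))) = _
      rw [Perm.sign_permCongr, Perm.sign_sumCongr]
      rfl
    refine ⟨X × R, inferInstance, κ, ?_, ?_, ?_, ?_, ?_⟩
    · exact (e.permCongrHom.injective.comp Perm.sumCongrHom_injective).comp
        (X.subtype_injective.prodMap hι)
    · rw [Nat.card_prod, hX, hR, ← pow_add, vtwo_add hmlt]
    · exact hκ ▸ hnice.prod hT.odd hcpi hzX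
    · haveI := nontrivial_of_nice (nice_of_cpi hT.odd hcpi hzX)
      haveI := nontrivial_of_nice hnice
      refine iff_of_true (decomposable_prod inferInstance inferInstance) fun s hs => ?_
      have h1 : 2 ^ r < 2 ^ s := by omega
      have h2 : 2 ^ s < 2 ^ (r + 1) := by omega
      have := (Nat.pow_lt_pow_iff_right one_lt_two).1 h1
      have := (Nat.pow_lt_pow_iff_right one_lt_two).1 h2
      omega
    · intro _
      rw [hκ]
      exact not_decomposable_ker hT.odd hcpi hzX hnice

end CfsgLib.SylowDecomp
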