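import Cfsg.Agent.Lib.InvChar.CentralProductFactors

/-!
The wreath product `X ≀ C₂` inside `Perm (Bool × β)`: order, centre, indecomposability as a central
product, and the centre of its even part.
-/

set_option autoImplicit false

namespace CfsgLib.SylowDecomp

open Equiv Subgroup
open scoped commutatorElement

variable {β : Type} [Fintype β] [DecidableEq β]

/-- The permutation acting as `a` on the first copy and as `b` on the second. -/
def base (a b : Perm β) : Perm (Bool × β) := Equiv.prodCongrRight fun i => bif i then a else b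

/-- The exchange of the two copies. -/
def flip : Perm (Bool × β) := Equiv.prodCongrLeft fun _ : β => Equiv.swap true false

omit [Fintype β] [DecidableEq β] in
@[simp] theorem base_apply (a b : Perm β) (i : Bool) (x : β) :
    base a b (i, x) = (i, (bif i then a else b) x) := rfl

omit [Fintype β] [DecidableEq β] in
@[simp] theorem flip_apply (i : Bool) (x : β) : flip (i, x) = (!i, x) := by
  cases i <;> rfl

omit [Fintype β] [DecidableEq β] in
theorem base_mul (a b c d : Perm β) : base a b * base c d = base (a * c) (b * d) := by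
  ext ⟨i, x⟩ <;> cases i <;> simp

omit [Fintype β] [DecidableEq β] in
theorem base_one : base (1 : Perm β) 1 = 1 := by
  ext ⟨i, x⟩ <;> cases i <;> simp

omit [Fintype β] [DecidableEq β] in
theorem base_inv (a b : Perm β) : (base a b)⁻¹ = base a⁻¹ b⁻¹ := by
  rw [inv_eq_iff_mul_eq_one, base_mul, mul_inv_cancel, mul_inv_cancel, base_one]

omit [Fintype β] [DecidableEq β] in
theorem flip_mul_flip : (flip : Perm (Bool × β)) * flip = 1 := by
  ext ⟨i, x⟩ <;> cases i <;> simp

omit [Fintype β] [DecidableEq β] in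
theorem flip_inv : (flip : Perm (Bool × β))⁻¹ = flip :=
  inv_eq_of_mul_eq_one_right flip_mul_flip

omit [Fintype β] [DecidableEq β] in
theorem flip_base (a b : Perm β) : flip * base a b = base b a * flip := by
  ext ⟨i, x⟩ <;> cases i <;> simp

omit [Fintype β] [DecidableEq β] in
theorem base_inj {a b c d : Perm β} (h : base a b = base c d) : a = c ∧ b = d := by
  constructor
  · ext x
    have := Equiv.congr_fun h (true, x)
    simpa using this
  · ext x
    have := Equiv.congr_fun h (false, x)
    simpa using this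

omit [Fintype β] [DecidableEq β] in
theorem base_ne_base_flip [Nonempty β] (a b c d : Perm β) : base a b ≠ base c d * flip := by
  intro h
  obtain ⟨x⟩ := (inferInstance : Nonempty β)
  have := Equiv.congr_fun h (true, x)
  simp at this

theorem sign_base (a b : Perm β) : Perm.sign (base a b) = Perm.sign a * Perm.sign b := by
  rw [base, Perm.sign_prodCongrRight, Fintype.prod_bool]
  rfl

theorem sign_flip (he : Even (Fintype.card β)) : Perm.sign (flip : Perm (Bool × β)) = 1 := by
  rw [flip, Perm.sign_prodCongrLeft, Perm.sign_swap (by decide : true ≠ false), Finset.prod_const,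
    Finset.card_univ, he.neg_one_pow]

variable (X : Subgroup (Perm β))

/-- The wreath product `X ≀ C₂`. -/
def wr : Subgroup (Perm (Bool × β)) where
  carrier := {g | ∃ a ∈ X, ∃ b ∈ X, g = base a b ∨ g = base a b * flip}
  one_mem' := ⟨1, X.one_mem, 1, X.one_mem, Or.inl base_one.symm⟩
  mul_mem' := by
    rintro g h ⟨a, ha, b, hb, hg⟩ ⟨c, hc, d, hd, hh⟩
    rcases hg with rfl | rfl <;> rcases hh with rfl | rfl
    · exact ⟨_, mul_mem ha hc, _, mul_mem hb hd, Or.inl (base_mul a b c d)⟩
    · exact ⟨_, mul_mem ha hc, _, mul_mem hb hd, Or.inr (by rw [← mul_assoc, base_mul])⟩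
    · exact ⟨_, mul_mem ha hd, _, mul_mem hb hc,
        Or.inr (by rw [mul_assoc, flip_base, ← mul_assoc, base_mul])⟩
    · exact ⟨_, mul_mem ha hd, _, mul_mem hb hc, Or.inl (by
        rw [mul_assoc, ← mul_assoc flip, flip_base, mul_assoc (base d c), flip_mul_flip, mul_one,
          base_mul])⟩
  inv_mem' := by
    rintro g ⟨a, ha, b, hb, rfl | rfl⟩
    · exact ⟨_, inv_mem ha, _, inv_mem hb, Or.inl (base_inv a b)⟩
    · exact ⟨_, inv_mem hb, _, inv_mem ha,
        Or.inr (by rw [mul_inv_rev, base_inv, flip_inv, flip_base])⟩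

variable {X}

omit [Fintype β] [DecidableEq β] in
theorem base_mem {a b : Perm β} (ha : a ∈ X) (hb : b ∈ X) : base a b ∈ wr X :=
  ⟨a, ha, b, hb, Or.inl rfl⟩

omit [Fintype β] [DecidableEq β] in
theorem flip_mem : (flip : Perm (Bool × β)) ∈ wr X :=
  ⟨1, X.one_mem, 1, X.one_mem, Or.inr (by rw [base_one, one_mul])⟩

omit [DecidableEq β] in
theorem card_wr [Nonempty β] : Nat.card (wr X) = 2 * Nat.card X ^ 2 := by
  classical
  let f : Bool × X × X → wr X := fun p => ⟨base p.2.1.1 p.2.2.1 * (bif p.1 then flip else 1),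
    mul_mem (base_mem p.2.1.2 p.2.2.2) (by cases p.1 <;> [exact one_mem _; exact flip_mem])⟩
  have hf : Function.Bijective f := by
    constructor
    · rintro ⟨i, a, b⟩ ⟨j, c, d⟩ h
      have h' : base a.1 b.1 * (bif i then flip else 1) = base c.1 d.1 * (bif j then flip else 1) :=
        congrArg Subtype.val h
      cases i <;> cases j <;> simp only [cond_true, cond_false, mul_one] at h'
      · obtain ⟨h1, h2⟩ := base_inj h'
        simp [Subtype.ext h1, Subtype.ext h2]
      · exact absurd h' (base_ne_base_flip _ _ _ _)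
      · exact absurd h'.symm (base_ne_base_flip _ _ _ _)
      · obtain ⟨h1, h2⟩ := base_inj (mul_right_cancel h')
        simp [Subtype.ext h1, Subtype.ext h2]
    · rintro ⟨g, a, ha, b, hb, rfl | rfl⟩
      · exact ⟨(false, ⟨a, ha⟩, ⟨b, hb⟩), Subtype.ext (mul_one _)⟩
      · exact ⟨(true, ⟨a, ha⟩, ⟨b, hb⟩), rfl⟩
  rw [← Nat.card_congr (Equiv.ofBijective f hf), Nat.card_prod, Nat.card_prod]
  simp [sq]

/-- The sign on a permutation group. -/
noncomputable def sgn {α : Type} [Fintype α] [DecidableEq α] (H : Subgroup (Perm α)) : H →* ℤˣ :=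
  Perm.sign.comp H.subtype

theorem wr_odd (h : ∃ x : X, sgn X x ≠ 1) : ∃ w : wr X, sgn (wr X) w ≠ 1 := by
  obtain ⟨x, hx⟩ := h
  refine ⟨⟨base x.1 1, base_mem x.2 X.one_mem⟩, ?_⟩
  show Perm.sign (base x.1 1) ≠ 1
  rw [sign_base, map_one, mul_one]
  exact hx

omit [Fintype β] [DecidableEq β] in
/-- An element of the wreath product commuting with the relevant elements is diagonal central. -/
theorem eq_diag [Nonempty β] {g : Perm (Bool × β)} (hg : g ∈ wr X) (e : Perm β) (hne : e ≠ 1)
    (h1 : Commute g (base 1 e)) (h2 : ∀ a ∈ X, ∃ b ∈ X, Commute g (base a b) ∧ Commute g (base b a))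
    (h3 : Commute g flip) : ∃ c ∈ X, g = base c c ∧ ∀ a ∈ X, a * c = c * a := by
  obtain ⟨c, hc, d, hd, rfl | rfl⟩ := hg
  · have hcd : c = d := by
      have := h3.eq
      rw [flip_base] at this
      exact (base_inj (mul_right_cancel this)).1
    subst hcd
    refine ⟨c, hc, rfl, fun a ha => ?_⟩
    obtain ⟨b, -, hb1, -⟩ := h2 a ha
    have := hb1.eq
    rw [base_mul, base_mul] at this
    exact (base_inj this).1.symm
  · exfalso
    have := h1.eq
    rw [mul_assoc, flip_base, ← mul_assoc, base_mul, ← mul_assoc, base_mul] at this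
    obtain ⟨h, -⟩ := base_inj (mul_right_cancel this)
    rw [one_mul] at h
    exact hne (mul_eq_left.1 h)

omit [Fintype β] [DecidableEq β] in
theorem coe_center_eq {Y : Subgroup (Perm β)} {z : Y} (h : z ∈ center Y) {a : Perm β} (ha : a ∈ Y) :
    a * z.1 = z.1 * a := congrArg Subtype.val (mem_center_iff.1 h ⟨a, ha⟩)

/-- The properties carried along the tower of wreath products. -/
structure Tower (X : Subgroup (Perm β)) : Prop where
  card_center : Nat.card (center X) = 2
  odd : ∃ x : X, sgn X x ≠ 1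

omit [Fintype β] [DecidableEq β] in
theorem exists_center [Finite β] (hX : Nat.card (center X) = 2) :
    ∃ z : Perm β, z ∈ X ∧ z ≠ 1 ∧ z * z = 1 ∧ (∀ a ∈ X, a * z = z * a) ∧
      ∀ c ∈ X, (∀ a ∈ X, a * c = c * a) → c = 1 ∨ c = z := by
  obtain ⟨u, hu, huniq⟩ := (Nat.card_eq_two_iff' (1 : center X)).1 hX
  refine ⟨u.1.1, u.1.2, fun h => hu (Subtype.ext (Subtype.ext h)), ?_,
    fun a ha => coe_center_eq u.2 ha, fun c hc hcc => ?_⟩
  · by_contra h
    have := huniq (u * u) fun h' => h (congrArg (fun t : center X => t.1.1) h')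
    exact hu (mul_eq_left.1 this)
  · by_cases hc1 : c = 1
    · exact Or.inl hc1
    · refine Or.inr ?_
      have := huniq ⟨⟨c, hc⟩, mem_center_iff.2 fun a => Subtype.ext (hcc a.1 a.2)⟩
        fun h => hc1 (congrArg (fun t : center X => t.1.1) h)
      exact congrArg (fun t : center X => t.1.1) this

omit [Fintype β] [DecidableEq β] in
theorem base_diag_comm {z : Perm β} (hz : ∀ a ∈ X, a * z = z * a) {g : Perm (Bool × β)}
    (hg : g ∈ wr X) : g * base z z = base z z * g := by
  obtain ⟨a, ha, b, hb, rfl | rfl⟩ := hg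
  · rw [base_mul, base_mul, hz a ha, hz b hb]
  · rw [mul_assoc, flip_base, ← mul_assoc, ← mul_assoc, base_mul, base_mul, hz a ha, hz b hb]

omit [DecidableEq β] in
theorem center_wr [Nonempty β] (hX : Nat.card (center X) = 2) :
    Nat.card (center (wr X)) = 2 ∧ center (wr X) ≤ _root_.commutator (wr X) := by
  obtain ⟨z, hz, hz1, hzz, hzc, hzu⟩ := exists_center hX
  let Z : wr X := ⟨base z z, base_mem hz hz⟩
  have hZ : Z ∈ center (wr X) := mem_center_iff.2 fun g => Subtype.ext (base_diag_comm hzc g.2)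
  have hall : ∀ g ∈ center (wr X), g = 1 ∨ g = Z := by
    intro g hg
    have hcom : ∀ h ∈ wr X, Commute g.1 h := fun h hh => (coe_center_eq hg hh).symm
    obtain ⟨c, hc, hgc, hcc⟩ := eq_diag g.2 z hz1 (hcom _ (base_mem X.one_mem hz))
      (fun a ha => ⟨1, X.one_mem, hcom _ (base_mem ha X.one_mem), hcom _ (base_mem X.one_mem ha)⟩)
      (hcom _ flip_mem)
    rcases hzu c hc hcc with rfl | rfl
    · exact Or.inl (Subtype.ext (hgc.trans base_one))
    · exact Or.inr (Subtype.ext hgc)
  refine ⟨(Nat.card_eq_two_iff' (1 : center (wr X))).2 ⟨⟨Z, hZ⟩, ?_, ?_⟩, fun g hg => ?_⟩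
  · intro h
    have : base z z = base 1 1 := (congrArg (fun t : center (wr X) => t.1.1) h).trans base_one.symm
    exact hz1 (base_inj this).1
  · intro g hg
    exact Subtype.ext ((hall g.1 g.2).resolve_left fun h => hg (Subtype.ext h))
  · rcases hall g hg with rfl | rfl
    · exact one_mem _
    · have e : Z = ⁅(⟨base z 1, base_mem hz X.one_mem⟩ : wr X), ⟨flip, flip_mem⟩⁆ := by
        apply Subtype.ext
        show base z z = base z 1 * flip * (base z 1)⁻¹ * flip⁻¹
        rw [base_inv, flip_inv, mul_assoc (base z 1) flip, flip_base, mul_assoc, mul_assoc,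
          flip_mul_flip, mul_one, base_mul, inv_one, mul_one, one_mul, inv_eq_of_mul_eq_one_right hzz]
      rw [e, _root_.commutator_def]
      exact commutator_mem_commutator (mem_top _) (mem_top _)

omit [Fintype β] [DecidableEq β] in
theorem cpi_wr [Nonempty β] : CPI (wr X) := by
  let B : Subgroup (wr X) :=
    { carrier := {g | ∃ a ∈ X, ∃ b ∈ X, g.1 = base a b}
      one_mem' := ⟨1, X.one_mem, 1, X.one_mem, base_one.symm⟩
      mul_mem' := by
        rintro g h ⟨a, ha, b, hb, hg⟩ ⟨c, hc, d, hd, hh⟩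
        exact ⟨_, mul_mem ha hc, _, mul_mem hb hd, by rw [Subgroup.coe_mul, hg, hh, base_mul]⟩
      inv_mem' := by
        rintro g ⟨a, ha, b, hb, hg⟩
        exact ⟨_, inv_mem ha, _, inv_mem hb, by rw [Subgroup.coe_inv, hg, base_inv]⟩ }
  have hout : ∀ g : wr X, g ∉ B → ∃ a ∈ X, ∃ b ∈ X, g.1 = base a b * flip := by
    intro g hg
    obtain ⟨a, ha, b, hb, h | h⟩ := g.2
    · exact absurd ⟨a, ha, b, hb, h⟩ hg
    · exact ⟨a, ha, b, hb, h⟩
  have key : ∀ U V : Subgroup (wr X), Commuting U V → U ⊔ V = ⊤ → ¬ U ≤ B →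
      ∀ v ∈ V, v ∈ B → v ∈ center (wr X) := by
    intro U V hc hs hU v hv hvB
    obtain ⟨u, hu, huB⟩ := SetLike.not_le_iff_exists.1 hU
    obtain ⟨a, ha, b, hb, hu'⟩ := hout u huB
    obtain ⟨c, hcX, d, hdX, hv'⟩ := hvB
    have hUn := normal_of_commuting hc hs
    -- conjugates of `u` give many elements of `U ⊓ B`
    have hcen : ∀ x ∈ X, x * c = c * x ∧ (b * x * b⁻¹) * d = d * (b * x * b⁻¹) := by
      intro x hx
      let t : wr X := ⟨base x 1, base_mem hx X.one_mem⟩
      have hmem : t⁻¹ * u * t * u⁻¹ ∈ U := by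
        refine mul_mem ?_ (inv_mem hu)
        simpa using hUn.conj_mem u hu t⁻¹
      have h0 : (base x 1)⁻¹ * (base a b * flip) * base x 1 * (base a b * flip)⁻¹ * base c d =
          base c d * ((base x 1)⁻¹ * (base a b * flip) * base x 1 * (base a b * flip)⁻¹) := by
        have := congrArg Subtype.val (hc _ hmem v hv)
        simpa only [Subgroup.coe_mul, Subgroup.coe_inv, hu', hv', t] using this
      have e : (base x 1)⁻¹ * (base a b * flip) * base x 1 * (base a b * flip)⁻¹ =
          base x⁻¹ (b * x * b⁻¹) := by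
        rw [base_inv x 1, mul_inv_rev, base_inv a b, flip_inv, inv_one]
        calc base x⁻¹ 1 * (base a b * flip) * base x 1 * (flip * base a⁻¹ b⁻¹)
            = base x⁻¹ 1 * base a b * (flip * base x 1) * flip * base a⁻¹ b⁻¹ := by
              simp only [mul_assoc]
          _ = base x⁻¹ 1 * base a b * base 1 x * (flip * flip) * base a⁻¹ b⁻¹ := by
              rw [flip_base]; simp only [mul_assoc]
          _ = base x⁻¹ (b * x * b⁻¹) := by
              rw [flip_mul_flip, mul_one, base_mul, base_mul, base_mul]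
              congr 1 <;> group
      rw [e, base_mul, base_mul] at h0
      obtain ⟨h1, h2⟩ := base_inj h0
      exact ⟨((Commute.inv_left_iff).1 (show Commute x⁻¹ c from h1)).eq, h2⟩
    have hd' : ∀ y ∈ X, y * d = d * y := fun y hy => by
      have := (hcen (b⁻¹ * y * b) (mul_mem (mul_mem (inv_mem hb) hy) hb)).2
      simpa [mul_assoc] using this
    have hcd : c = d := by
      have := congrArg Subtype.val (hc u hu v hv)
      rw [Subgroup.coe_mul, Subgroup.coe_mul, hu', hv', mul_assoc, flip_base, ← mul_assoc, base_mul,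
        ← mul_assoc, base_mul] at this
      have h2 := (base_inj (mul_right_cancel this)).1
      rw [hd' a ha] at h2
      exact (mul_right_cancel h2).symm
    subst hcd
    refine mem_center_iff.2 fun g => Subtype.ext ?_
    rw [Subgroup.coe_mul, Subgroup.coe_mul, hv']
    exact base_diag_comm hd' g.2
  intro U V hc hs
  by_cases hU : U ≤ B
  · have hV : ¬ V ≤ B := by
      intro hV
      obtain ⟨a, -, b, -, h⟩ := (sup_le hU hV) (hs ▸ mem_top (⟨flip, flip_mem⟩ : wr X))
      exact base_ne_base_flip a b 1 1 (by rw [base_one, one_mul]; exact h.symm)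
    exact Or.inl fun u hu => key V U hc.symm (by rw [sup_comm, hs]) hV u hu (hU hu)
  by_cases hV : V ≤ B
  · exact Or.inr fun v hv => key U V hc hs hU v hv (hV hv)
  -- both reach outside the base group: both are abelian
  refine Or.inl fun u hu => mem_center_of_commute hs (fun u' hu' => ?_) fun v hv => (hc u hu v hv).symm
  have hcen : ∀ w ∈ U, w ∈ B → w ∈ center (wr X) := key V U hc.symm (by rw [sup_comm, hs]) hV
  by_cases h1 : u ∈ B
  · exact mem_center_iff.1 (hcen u hu h1) u'
  by_cases h2 : u' ∈ B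
  · exact (mem_center_iff.1 (hcen u' hu' h2) u).symm
  obtain ⟨a, ha, b, hb, hu1⟩ := hout u h1
  obtain ⟨c, hc', d, hd, hu2⟩ := hout u' h2
  have hz : u' * u⁻¹ ∈ center (wr X) := by
    refine hcen _ (mul_mem hu' (inv_mem hu)) ⟨c * a⁻¹, mul_mem hc' (inv_mem ha), d * b⁻¹,
      mul_mem hd (inv_mem hb), ?_⟩
    rw [Subgroup.coe_mul, Subgroup.coe_inv, hu1, hu2, mul_inv_rev, base_inv, flip_inv,
      mul_assoc, ← mul_assoc flip, flip_mul_flip, one_mul, base_mul]
  have hcomm := mem_center_iff.1 hz u
  calc u' * u = (u' * u⁻¹) * u * u := by group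
    _ = u * (u' * u⁻¹) * u := by rw [hcomm]
    _ = u * u' := by group

omit [Fintype β] [DecidableEq β] in
theorem Tower.wr [Fintype β] [DecidableEq β] [Nonempty β] (h : Tower X) : Tower (wr X) :=
  ⟨(center_wr h.card_center).1, wr_odd h.odd⟩

/-- The centre of the even part has order two. -/
theorem card_center_ker [Nonempty β] (he : Even (Fintype.card β)) (h : Tower X)
    (hz : center X ≤ _root_.commutator X) : Nat.card (center (sgn (wr X)).ker) = 2 := by
  obtain ⟨z, hzX, hz1, hzz, hzc, hzu⟩ := exists_center h.card_center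
  have hzeven : Perm.sign z = 1 :=
    apply_eq_one_of_mem_commutator (sgn X)
      (hz (mem_center_iff.2 fun a => Subtype.ext (hzc a.1 a.2) : (⟨z, hzX⟩ : X) ∈ center X))
  have hmem : base z z ∈ wr X := base_mem hzX hzX
  let Z : (sgn (wr X)).ker := ⟨⟨base z z, hmem⟩, by
    show Perm.sign (base z z) = 1
    rw [sign_base, hzeven, one_mul]⟩
  refine (Nat.card_eq_two_iff' (1 : center (sgn (wr X)).ker)).2 ⟨⟨Z, ?_⟩, ?_, ?_⟩
  · exact mem_center_iff.2 fun g => Subtype.ext (Subtype.ext (base_diag_comm hzc g.1.2))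
  · intro h
    have : base z z = base 1 1 :=
      (congrArg (fun t : center (sgn (wr X)).ker => t.1.1.1) h).trans base_one.symm
    exact hz1 (base_inj this).1
  · intro g hg
    have hcom : ∀ h ∈ wr X, Perm.sign h = 1 → Commute g.1.1.1 h := fun h hh hs =>
      (congrArg (fun t : (sgn (wr X)).ker => t.1.1) (mem_center_iff.1 g.2 ⟨⟨h, hh⟩, hs⟩)).symm
    obtain ⟨c, hc, hgc, hcc⟩ := eq_diag g.1.1.2 z hz1
      (hcom _ (base_mem X.one_mem hzX) (by rw [sign_base, map_one, hzeven, one_mul]))
      (fun a ha => ⟨a, ha, hcom _ (base_mem ha ha) (by rw [sign_base, Int.units_mul_self]),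
        hcom _ (base_mem ha ha) (by rw [sign_base, Int.units_mul_self])⟩)
      (hcom _ flip_mem (sign_flip he))
    rcases hzu c hc hcc with rfl | rfl
    · exact absurd (Subtype.ext (Subtype.ext (Subtype.ext (hgc.trans base_one)))) hg
    · exact Subtype.ext (Subtype.ext (Subtype.ext hgc))

/-- A finite 2-group with centre of order two is indecomposable. -/
theorem not_decomposable_of_card_center {P : Type*} [Group P] [Finite P] (hP : IsPGroup 2 P)
    (hc : Nat.card (center P) = 2) : ¬ Decomposable P := by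
  rintro ⟨S₁, S₂, h1, h2, hcom, hi, hs⟩
  haveI : Fact (Nat.Prime 2) := ⟨Nat.prime_two⟩
  obtain ⟨z, hz, hzu⟩ := (Nat.card_eq_two_iff' (1 : center P)).1 hc
  have key : ∀ S T : Subgroup P, Commuting S T → S ⊔ T = ⊤ → S ≠ ⊥ → z.1 ∈ S := by
    intro S T hcST hST hS
    haveI : Nontrivial S := (nontrivial_iff_ne_bot S).2 hS
    haveI := (hP.to_subgroup S).center_nontrivial
    obtain ⟨⟨s, hs⟩, hs1⟩ := exists_ne (1 : center S)
    have hscen : s.1 ∈ center P := mem_center_of_commute hST
      (fun u hu => congrArg Subtype.val (mem_center_iff.1 hs ⟨u, hu⟩))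
      (fun v hv => (hcST s.1 s.2 v hv).symm)
    have := hzu ⟨s.1, hscen⟩ fun h => hs1 (Subtype.ext (Subtype.ext (congrArg (fun t : center P => t.1) h :)))
    rw [← this]
    exact s.2
  have hmem : z.1 ∈ S₁ ⊓ S₂ := ⟨key S₁ S₂ hcom hs h1, key S₂ S₁ hcom.symm (by rw [sup_comm, hs]) h2⟩
  rw [hi, mem_bot] at hmem
  exact hz (Subtype.ext hmem)

end CfsgLib.SylowDecomp
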