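import Mathlib
import Cfsg.Prelude.Def_CaseTheorems

/-!
# A faithful action of `S₆` on an elementary abelian group of order 16 forces sectional rank five
-/

set_option autoImplicit false

namespace CfsgLib.InvCharSixRank

open Equiv

local notation "S6" => Equiv.Perm (Fin 6)

section Linear

variable {V : Type*} [CommGroup V]

/-- Fixed points. -/
def fixV (φ : MulAut V) : Subgroup V where
  carrier := {v | φ v = v}
  one_mem' := map_one φ
  mul_mem' := fun {a b} (ha : φ a = a) (hb : φ b = b) => show φ (a * b) = a * b by rw [map_mul, ha, hb]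
  inv_mem' := fun {a} (ha : φ a = a) => show φ a⁻¹ = a⁻¹ by rw [map_inv, ha]

/-- The kernel of `1 + φ + φ²`. -/
def traceKer (φ : MulAut V) : Subgroup V where
  carrier := {v | v * φ v * φ (φ v) = 1}
  one_mem' := by simp
  mul_mem' := fun {a b} (ha : a * φ a * φ (φ a) = 1) (hb : b * φ b * φ (φ b) = 1) =>
    show a * b * φ (a * b) * φ (φ (a * b)) = 1 by
      simp only [map_mul]
      calc a * b * (φ a * φ b) * (φ (φ a) * φ (φ b)) = (a * φ a * φ (φ a)) * (b * φ b * φ (φ b)) := by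
            simp only [mul_assoc, mul_comm, mul_left_comm]
        _ = 1 := by rw [ha, hb, one_mul]
  inv_mem' := fun {a} (ha : a * φ a * φ (φ a) = 1) => show a⁻¹ * φ a⁻¹ * φ (φ a⁻¹) = 1 by
    simp only [map_inv]; rw [← mul_inv, ← mul_inv, ha, inv_one]

variable (h2 : ∀ v : V, v * v = 1)
include h2

theorem inf_eq_bot (φ : MulAut V) {v : V} (h : φ v = v) (h' : v * φ v * φ (φ v) = 1) : v = 1 := by
  rw [h, h, h2, one_mul] at h'
  exact h'

theorem split (φ : MulAut V) (h3 : ∀ v, φ (φ (φ v)) = v) (v : V) :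
    ∃ a ∈ fixV φ, ∃ b ∈ traceKer φ, v = a * b := by
  refine ⟨v * φ v * φ (φ v), ?_, φ v * φ (φ v), ?_, ?_⟩
  · show φ (v * φ v * φ (φ v)) = _
    rw [map_mul, map_mul, h3, mul_comm _ v, ← mul_assoc]
  · show φ v * φ (φ v) * φ (φ v * φ (φ v)) * φ (φ (φ v * φ (φ v))) = 1
    simp only [map_mul, h3]
    calc φ v * φ (φ v) * (φ (φ v) * v) * (v * φ v)
        = (φ v * φ v) * (φ (φ v) * φ (φ v)) * (v * v) := by
          simp only [mul_assoc, mul_comm, mul_left_comm]
      _ = 1 := by simp only [h2, one_mul]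
  · calc v = v * ((φ v * φ (φ v)) * (φ v * φ (φ v))) := by rw [h2, mul_one]
      _ = _ := by simp only [mul_assoc]

theorem eq_of_split (φ : MulAut V) {a a' b b' : V} (ha : a ∈ fixV φ) (ha' : a' ∈ fixV φ)
    (hb : b ∈ traceKer φ) (hb' : b' ∈ traceKer φ) (h : a * b = a' * b') : a = a' ∧ b = b' := by
  have e : a * a' = b * b' := by
    calc a * a' = a * a' * (b * b) := by rw [h2, mul_one]
      _ = (a * b) * (a' * b) := by simp only [mul_assoc, mul_comm, mul_left_comm]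
      _ = (a' * b') * (a' * b) := by rw [h]
      _ = (a' * a') * (b * b') := by simp only [mul_assoc, mul_comm, mul_left_comm]
      _ = b * b' := by rw [h2, one_mul]
  have h1 : a * a' = 1 := inf_eq_bot h2 φ (mul_mem ha ha') (e ▸ mul_mem hb hb')
  refine ⟨?_, ?_⟩
  · calc a = a * a' * a' := by rw [mul_assoc, h2, mul_one]
      _ = a' := by rw [h1, one_mul]
  · rw [h1] at e
    calc b = b * b' * b' := by rw [mul_assoc, h2, mul_one]
      _ = b' := by rw [← e, one_mul]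

/-- A four-group is one orbit of a fixed-point-free element of order three, and `1`. -/
theorem four_span [Finite V] (B : Subgroup V) (hB : Nat.card B = 4) (u : MulAut V) (huB : ∀ v ∈ B, u v ∈ B)
    (hu : ∀ v ∈ B, u v = v → v = 1) (hu3 : ∀ v, u (u (u v)) = v) {x : V} (hx : x ∈ B) (hx1 : x ≠ 1) :
    ∀ y ∈ B, y = 1 ∨ y = x ∨ y = u x ∨ y = u (u x) := by
  classical
  intro y hy
  have hux : u x ≠ x := fun h => hx1 (hu x hx h)
  have huux : u (u x) ≠ x := fun h => hux (by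
    have := congrArg u h
    rw [hu3] at this
    exact this.symm)
  have hne1 : ∀ z : V, z ≠ 1 → u z ≠ 1 := fun z hz h => hz (u.injective (h.trans (map_one u).symm))
  have hs : ({1, x, u x, u (u x)} : Finset V).card = 4 := by
    rw [Finset.card_insert_of_notMem, Finset.card_insert_of_notMem, Finset.card_pair]
    · exact fun h => hux (u.injective h).symm
    · simp [Ne.symm hux, Ne.symm huux]
    · simp [Ne.symm hx1, Ne.symm (hne1 x hx1), Ne.symm (hne1 _ (hne1 x hx1))]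
  have hsub : ({1, x, u x, u (u x)} : Set V) ⊆ (B : Set V) := by
    intro z hz
    rcases hz with rfl | rfl | rfl | rfl
    exacts [one_mem B, hx, huB x hx, huB _ (huB x hx)]
  have heq := Set.eq_of_subset_of_ncard_le hsub (by
    rw [← Nat.card_coe_set_eq]
    refine le_of_eq (hB.trans ?_)
    rw [← hs, ← Set.ncard_coe_finset]
    simp) (Set.toFinite _)
  have : y ∈ ({1, x, u x, u (u x)} : Set V) := heq.symm ▸ hy
  simpa using this

/-- A four-group is generated by any two nontrivial elements. -/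
theorem four_klein [Finite V] (B : Subgroup V) (hB : Nat.card B = 4) {c d : V} (hc : c ∈ B) (hd : d ∈ B) (hc1 : c ≠ 1)
    (hd1 : d ≠ 1) (hne : c ≠ d) : ∀ y ∈ B, y = 1 ∨ y = c ∨ y = d ∨ y = c * d := by
  classical
  intro y hy
  have hcd : c * d ≠ 1 := fun h => hne (by
    calc c = c * (d * d) := by rw [h2, mul_one]
      _ = d := by rw [← mul_assoc, h, one_mul])
  have hs : ({1, c, d, c * d} : Finset V).card = 4 := by
    rw [Finset.card_insert_of_notMem, Finset.card_insert_of_notMem, Finset.card_pair]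
    · exact fun h => hc1 (by
        calc c = c * d * d := by rw [mul_assoc, h2, mul_one]
          _ = 1 := by rw [← h, h2])
    · simp [hne, hd1]
    · simp [Ne.symm hc1, Ne.symm hd1, Ne.symm hcd]
  have hsub : ({1, c, d, c * d} : Set V) ⊆ (B : Set V) := by
    intro z hz
    rcases hz with rfl | rfl | rfl | rfl
    exacts [one_mem B, hc, hd, mul_mem hc hd]
  have heq := Set.eq_of_subset_of_ncard_le hsub (by
    rw [← Nat.card_coe_set_eq]
    refine le_of_eq (hB.trans ?_)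
    rw [← hs, ← Set.ncard_coe_finset]
    simp) (Set.toFinite _)
  have : y ∈ ({1, c, d, c * d} : Set V) := heq.symm ▸ hy
  simpa using this

/-- In a four-group, an involution commuting with a fixed-point-free element of order three is trivial. -/
theorem fix_four [Finite V] (B : Subgroup V) (hB : Nat.card B = 4) (u s : MulAut V) (huB : ∀ v ∈ B, u v ∈ B)
    (hsB : ∀ v ∈ B, s v ∈ B) (hu : ∀ v ∈ B, u v = v → v = 1) (hu3 : ∀ v, u (u (u v)) = v) (hs : ∀ v, s (s v) = v)
    (hcomm : ∀ v, s (u v) = u (s v)) : ∀ v ∈ B, s v = v := by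
  classical
  have := Fintype.ofFinite B
  by_contra! hc
  obtain ⟨v, hv, hne⟩ := hc
  set w := v * s v with hw
  have hwB : w ∈ B := mul_mem hv (hsB v hv)
  have hw1 : w ≠ 1 := fun h => hne (by
    calc s v = v * v * s v := by rw [h2, one_mul]
      _ = v := by rw [mul_assoc, ← hw, h, mul_one])
  have hsw : s w = w := by rw [hw, map_mul, hs, mul_comm]
  apply hne
  rcases four_span h2 B hB u huB hu hu3 hwB hw1 v hv with h | h | h | h <;> rw [h]
  · exact map_one s
  · exact hsw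
  · rw [hcomm, hsw]
  · rw [hcomm, hcomm, hsw]

omit h2 in
theorem card_fix_modEq [Finite V] (B : Subgroup V) (u : MulAut V) (huB : ∀ v ∈ B, u v ∈ B)
    (hu : ∀ v ∈ B, u v = v → v = 1) (hu3 : ∀ v, u (u (u v)) = v) : Nat.card B % 3 = 1 := by
  classical
  have := Fintype.ofFinite B
  have : Fact (Nat.Prime 3) := ⟨Nat.prime_three⟩
  let σ : Function.End B := fun y => ⟨u y, huB y y.2⟩
  have hσ : σ ^ (3 ^ 1) = 1 := by funext y; exact Subtype.ext (hu3 y)
  have h := Equiv.Perm.card_fixedPoints_modEq (p := 3) (n := 1) hσ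
  have hone : Fintype.card (Function.fixedPoints σ) = 1 := by
    rw [Fintype.card_eq_one_iff]
    exact ⟨⟨1, Subtype.ext (map_one u)⟩, fun y => Subtype.ext (Subtype.ext
      (hu y.1 y.1.2 (congrArg Subtype.val y.2)))⟩
  rw [hone] at h
  rw [Nat.card_eq_fintype_card]
  exact h

theorem card_traceKer [Finite V] (hle : Nat.card V ≤ 16) (u : MulAut V) (hu3 : ∀ v, u (u (u v)) = v) (hu1 : u ≠ 1)
    (hA : ∃ v, v ≠ 1 ∧ u v = v) : Nat.card (traceKer u) = 4 ∧ Nat.card (fixV u) * 4 = Nat.card V := by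
  have : Fact (Nat.Prime 2) := ⟨Nat.prime_two⟩
  have hV : IsPGroup 2 V := fun v => ⟨1, by rw [pow_one, pow_two, h2]⟩
  have hmul : Nat.card (fixV u) * Nat.card (traceKer u) = Nat.card V := by
    rw [← Nat.card_prod]
    refine Nat.card_eq_of_bijective (fun x : fixV u × traceKer u => (x.1 : V) * x.2) ⟨?_, ?_⟩
    · intro x y h
      obtain ⟨h1, h2'⟩ := eq_of_split h2 u x.1.2 y.1.2 x.2.2 y.2.2 h
      exact Prod.ext (Subtype.ext h1) (Subtype.ext h2')
    · intro v
      obtain ⟨a, ha, b, hb, rfl⟩ := split h2 u hu3 v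
      exact ⟨(⟨a, ha⟩, ⟨b, hb⟩), rfl⟩
  obtain ⟨v, hv1, hv⟩ := hA
  have hA2 : 2 ≤ Nat.card (fixV u) := by
    have : Nontrivial (fixV u) := ⟨⟨⟨v, hv⟩, 1, fun h => hv1 (congrArg Subtype.val h)⟩⟩
    exact Finite.one_lt_card
  have hmod := card_fix_modEq (traceKer u) u (fun b (hb : b * u b * u (u b) = 1) =>
    show u b * u (u b) * u (u (u b)) = 1 by rw [← map_mul, ← map_mul, hb, map_one])
    (fun b hb h => inf_eq_bot h2 u h hb) hu3
  obtain ⟨k, hk⟩ := IsPGroup.iff_card.1 (hV.to_subgroup (traceKer u))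
  have hk0 : k ≠ 0 := by
    rintro rfl
    refine hu1 (MulEquiv.ext fun x => ?_)
    obtain ⟨a, ha, b, hb, rfl⟩ := split h2 u hu3 x
    have : (⟨b, hb⟩ : traceKer u) = 1 := by
      have := (Nat.card_eq_one_iff_unique.1 (hk.trans (pow_zero 2))).1
      exact Subsingleton.elim _ _
    rw [show b = 1 from congrArg Subtype.val this, mul_one]
    exact ha
  have hk4 : k ≤ 3 := by
    by_contra h
    have h16 : 2 ^ 4 ≤ 2 ^ k := Nat.pow_le_pow_right (by norm_num) (by omega)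
    rw [hk] at hmul
    nlinarith
  rw [hk] at hmod hmul ⊢
  rcases (show k = 1 ∨ k = 2 ∨ k = 3 by omega) with rfl | rfl | rfl
  · norm_num at hmod
  · exact ⟨by norm_num, by simpa using hmul⟩
  · norm_num at hmod

/-- What is needed about a pair of commuting involutions. -/
structure PairData (s t : MulAut V) (c d : V) : Prop where
  c_ne : c ≠ 1
  ne : c ≠ d
  range : ∀ v, v * s v = 1 ∨ v * s v = c
  attained : ∃ v, v * s v = c
  fix_c : s c = c
  fix_d : s d = d
  apart : ∃ v, s v = v ∧ t v ≠ v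
  fix_prod : ∀ v, s (t v) = v → v = 1 ∨ v = c ∨ v = d ∨ v = c * d

/-- One side of the configuration. -/
theorem side [Finite V] (hle : Nat.card V ≤ 16) (u w s : MulAut V) (hu3 : ∀ v, u (u (u v)) = v)
    (hw3 : ∀ v, w (w (w v)) = v) (huw : ∀ v, u (w v) = w (u v)) (hs : ∀ v, s (s v) = v)
    (hsu : ∀ v, s (u v) = u (u (s v))) (hsw : ∀ v, s (w v) = w (s v))
    (hu1 : u ≠ 1) (hw1 : w ≠ 1) (hs1 : s ≠ 1) (hne : u ≠ w) (hne' : u ≠ w * w)
    (hA : ∃ v, v ≠ 1 ∧ u v = v) (hA' : ∃ v, v ≠ 1 ∧ w v = v) :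
    (∀ v ∈ traceKer w, u v = v ∧ s v = v) ∧ (∀ v, ∃ a ∈ traceKer u, ∃ b ∈ traceKer w, v = a * b) ∧
      (∀ a a' b b', a ∈ traceKer u → a' ∈ traceKer u → b ∈ traceKer w → b' ∈ traceKer w →
        a * b = a' * b' → a = a' ∧ b = b') ∧ (∀ v ∈ traceKer u, w v = v ∧ s v ∈ traceKer u) ∧
      ∃ c ∈ traceKer u, c ≠ 1 ∧ s c = c ∧ (∀ v ∈ traceKer u, s v = v → v = 1 ∨ v = c) ∧
        (∀ v, v * s v = 1 ∨ v * s v = c) ∧ ∃ v, v * s v = c := by
  classical
  obtain ⟨hBu, hAu⟩ := card_traceKer h2 hle u hu3 hu1 hA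
  obtain ⟨hBw, hAw⟩ := card_traceKer h2 hle w hw3 hw1 hA'
  have hmoves : ∀ (x y : MulAut V), (∀ v, x (y v) = y (x v)) → ∀ v ∈ traceKer x, y v ∈ traceKer x := by
    intro x y h v (hv : v * x v * x (x v) = 1)
    show y v * x (y v) * x (x (y v)) = 1
    rw [h, h, ← map_mul, ← map_mul, hv, map_one]
  have hself : ∀ x : MulAut V, (∀ v, x (x (x v)) = v) → ∀ v ∈ traceKer x, x v ∈ traceKer x := fun x hx =>
    hmoves x x fun _ => rfl
  -- `w` is trivial on the moved part of `u`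
  have hcross : ∀ (u w : MulAut V), (∀ v, u (u (u v)) = v) → (∀ v, w (w (w v)) = v) → (∀ v, u (w v) = w (u v)) →
      Nat.card (traceKer u) = 4 → Nat.card (traceKer w) = 4 → u ≠ w → u ≠ w * w →
      ∀ v ∈ traceKer u, w v = v := by
    intro u w hu3 hw3 huw hBu hBw hne hne' v hv
    by_contra hmv
    set b := v * w v with hb
    -- the trace of `w` is fixed by `w` and lies in the moved part of `u`
    have hwfix : ∀ x ∈ traceKer u, w x = x → x = 1 := by
      intro x hx hwx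
      by_contra hx1
      apply hmv
      have hall : ∀ y ∈ traceKer u, w y = y := by
        intro y hy
        rcases four_span h2 _ hBu u (hself u hu3) (fun v hv h => inf_eq_bot h2 u h hv) hu3 hx hx1 y hy with
          h | h | h | h <;> rw [h]
        · exact map_one w
        · exact hwx
        · rw [← huw, hwx]
        · rw [← huw, ← huw, hwx]
      exact hall v hv
    have hsub : ∀ x ∈ traceKer u, x ∈ traceKer w := fun x hx => hwfix _
      (mul_mem (mul_mem hx (hmoves u w huw x hx)) (hmoves u w huw _ (hmoves u w huw x hx)))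
      (by rw [map_mul, map_mul, hw3, mul_comm _ x, ← mul_assoc])
    have heq : traceKer u = traceKer w := Subgroup.eq_of_le_of_card_ge hsub (by rw [hBu, hBw])
    have hAA : ∀ a ∈ fixV u, a ∈ fixV w := by
      intro a (ha : u a = a)
      obtain ⟨a', ha', b', hb', e⟩ := split h2 w hw3 a
      rw [← heq] at hb'
      -- `b'` is fixed by `u`
      have hua' : u a' ∈ fixV w := by show w (u a') = u a'; rw [← huw, ha']
      have hub' : u b' ∈ traceKer w := heq ▸ hself u hu3 b' hb'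
      have := (eq_of_split h2 w hua' ha' hub' (heq ▸ hb') (by rw [← map_mul, ← e, ha, e])).2
      rw [inf_eq_bot h2 u this hb', mul_one] at e
      exact e ▸ ha'
    -- on the common moved part `w` is a power of `u`
    obtain ⟨x, hx, hx1⟩ : ∃ x ∈ traceKer u, x ≠ 1 := by
      have : Nontrivial (traceKer u) := Finite.one_lt_card_iff_nontrivial.1 (by rw [hBu]; norm_num)
      obtain ⟨x, hx⟩ := exists_ne (1 : traceKer u)
      exact ⟨x, x.2, fun h => hx (Subtype.ext h)⟩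
    have hsp := four_span h2 _ hBu u (hself u hu3) (fun v hv h => inf_eq_bot h2 u h hv) hu3 hx hx1
    have hext : ∀ φ : MulAut V, (∀ y, φ (u y) = u (φ y)) → φ x = w x → (∀ a, u a = a → φ a = a) → φ = w := by
      intro φ hφ hφx hφA
      refine MulEquiv.ext fun y => ?_
      obtain ⟨a, ha, b, hb, rfl⟩ := split h2 u hu3 y
      rw [map_mul, map_mul, hφA a ha, show w a = a from hAA a ha]
      congr 1
      rcases hsp b hb with h | h | h | h <;> rw [h]
      · rw [map_one, map_one]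
      · exact hφx
      · rw [hφ, hφx, huw]
      · rw [hφ, hφ, hφx, huw, huw]
    rcases hsp (w x) (hmoves u w huw x hx) with hwx | hwx | hwx | hwx
    · exact hx1 (w.injective (hwx.trans (map_one w).symm))
    · exact hx1 (hwfix x hx hwx)
    · exact hne (hext u (fun _ => rfl) hwx.symm (fun a ha => ha))
    · apply hne'
      have h := hext (u * u) (fun y => rfl) hwx.symm (fun a ha => by rw [MulAut.mul_apply, ha, ha])
      rw [← h]
      refine MulEquiv.ext fun y => ?_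
      simp [hu3]
  have hwu : ∀ v ∈ traceKer u, w v = v := hcross u w hu3 hw3 huw hBu hBw hne hne'
  have huw' : ∀ v ∈ traceKer w, u v = v := hcross w u hw3 hu3 (fun v => (huw v).symm) hBw hBu (Ne.symm hne) (fun h => hne' (by
    rw [h]; refine MulEquiv.ext fun y => ?_; simp [hu3]))
  have hAB : ∀ v ∈ fixV u, v ∈ traceKer w := by
    have hle' : Nat.card (fixV u) ≤ 4 := by omega
    have : traceKer w = fixV u := Subgroup.eq_of_le_of_card_ge huw' (by omega)
    exact fun v hv => this ▸ hv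
  have hdec : ∀ v, ∃ a ∈ traceKer u, ∃ b ∈ traceKer w, v = a * b := fun v => by
    obtain ⟨a, ha, b, hb, e⟩ := split h2 u hu3 v
    exact ⟨b, hb, a, hAB a ha, e.trans (mul_comm a b)⟩
  have huniq : ∀ a a' b b', a ∈ traceKer u → a' ∈ traceKer u → b ∈ traceKer w → b' ∈ traceKer w →
      a * b = a' * b' → a = a' ∧ b = b' := fun a a' b b' ha ha' hb hb' h =>
    (eq_of_split h2 u (huw' b hb) (huw' b' hb') ha ha' ((mul_comm b a).trans (h.trans (mul_comm a' b')))).symm
  have hsBu : ∀ v ∈ traceKer u, s v ∈ traceKer u := by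
    intro v (hv : v * u v * u (u v) = 1)
    show s v * u (s v) * u (u (s v)) = 1
    have e1 : u (u (s v)) = s (u v) := (hsu v).symm
    have e2 : u (s v) = s (u (u v)) := by rw [hsu, hsu, hu3]
    rw [e1, e2, ← map_mul, ← map_mul, mul_right_comm, hv, map_one]
  have hsw' : ∀ v ∈ traceKer w, s v = v :=
    fix_four h2 (traceKer w) hBw w s (hself w hw3) (hmoves w s (fun v => (hsw v).symm))
      (fun v hv h => inf_eq_bot h2 w h hv) hw3 hs hsw
  obtain ⟨x, hx, hsx⟩ : ∃ x ∈ traceKer u, s x ≠ x := by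
    by_contra! hall
    refine hs1 (MulEquiv.ext fun v => ?_)
    obtain ⟨a, ha, b, hb, rfl⟩ := hdec v
    rw [map_mul, hall a ha, hsw' b hb]
    rfl
  set c := x * s x with hc
  have hcB : c ∈ traceKer u := mul_mem hx (hsBu x hx)
  have hc1 : c ≠ 1 := fun h => hsx (by
    calc s x = x * x * s x := by rw [h2, one_mul]
      _ = x := by rw [mul_assoc, ← hc, h, mul_one])
  have hsc : s c = c := by rw [hc, map_mul, hs, mul_comm]
  have hfix : ∀ v ∈ traceKer u, s v = v → v = 1 ∨ v = c := by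
    intro y hy hsy
    by_contra hcon
    rw [not_or] at hcon
    -- then `s` fixes the whole four-group
    apply hsx
    rcases four_klein h2 _ hBu hcB hy hc1 hcon.1 (Ne.symm hcon.2) x hx with h | h | h | h <;> rw [h]
    · exact map_one s
    · exact hsc
    · exact hsy
    · rw [map_mul, hsc, hsy]
  refine ⟨fun v hv => ⟨huw' v hv, hsw' v hv⟩, hdec, huniq, fun v hv => ⟨hwu v hv, hsBu v hv⟩,
    c, hcB, hc1, hsc, hfix, fun v => ?_, ⟨x, rfl⟩⟩
  obtain ⟨a, ha, b, hb, rfl⟩ := hdec v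
  rw [map_mul, hsw' b hb, mul_mul_mul_comm, h2, mul_one]
  exact hfix _ (mul_mem ha (hsBu a ha)) (by rw [map_mul, hs, mul_comm])

end Linear

section Pair

/-- The relations between two commuting elements of order three and two involutions. -/
def Rel (u w s t : S6) : Prop :=
  u * u * u = 1 ∧ w * w * w = 1 ∧ u * w = w * u ∧ s * s = 1 ∧ t * t = 1 ∧ s * t = t * s ∧ s * u = u * u * s ∧
    s * w = w * s ∧ t * w = w * w * t ∧ t * u = u * t ∧ u ≠ 1 ∧ w ≠ 1 ∧ s ≠ 1 ∧ t ≠ 1 ∧ u ≠ w ∧ u ≠ w * w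

instance (u w s t : S6) : Decidable (Rel u w s t) := by unfold Rel; infer_instance

theorem pair_data {V : Type*} [CommGroup V] [Finite V] (h2 : ∀ v : V, v * v = 1) (hle : Nat.card V ≤ 16)
    (τ : S6 →* MulAut V) (hτ : Function.Injective τ) {u w s t : S6} (h : Rel u w s t)
    (hA : ∃ v, v ≠ 1 ∧ τ u v = v) (hA' : ∃ v, v ≠ 1 ∧ τ w v = v) :
    Nat.card V = 16 ∧ ∃ c d, PairData (τ s) (τ t) c d ∧ PairData (τ t) (τ s) d c ∧
      (∀ a v, τ s a = a → τ w a = a * (v * τ s v) → a = 1 ∨ a = c) ∧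
      (∀ a v, τ t a = a → τ u a = a * (v * τ t v) → a = 1 ∨ a = d) := by
  obtain ⟨hu3, hw3, huw, hs, ht, hst, hsu, hsw, htw, htu, hu1, hw1, hs1, ht1, hne, hne'⟩ := h
  have ap : ∀ {a b : S6}, a = b → ∀ v, τ a v = τ b v := fun h v => by rw [h]
  have ev : ∀ (a b : S6) (v : V), τ (a * b) v = τ a (τ b v) := fun a b v => by rw [map_mul, MulAut.mul_apply]
  have e1 : ∀ v : V, τ 1 v = v := fun v => by rw [map_one]; rfl
  have ne : ∀ {a b : S6}, a ≠ b → τ a ≠ τ b := fun h h' => h (hτ h')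
  have ne1 : ∀ {a : S6}, a ≠ 1 → τ a ≠ 1 := fun h h' => h (hτ (h'.trans (map_one τ).symm))
  have cu3 : ∀ v, τ u (τ u (τ u v)) = v := fun v => by rw [← ev, ← ev, hu3, e1]
  have cw3 : ∀ v, τ w (τ w (τ w v)) = v := fun v => by rw [← ev, ← ev, hw3, e1]
  have cuw : ∀ v, τ u (τ w v) = τ w (τ u v) := fun v => by rw [← ev, ← ev, huw]
  have cs : ∀ v, τ s (τ s v) = v := fun v => by rw [← ev, hs, e1]
  have ct : ∀ v, τ t (τ t v) = v := fun v => by rw [← ev, ht, e1]
  obtain ⟨hBw, hdec, huniq, hBu, c, hcB, hc1, hsc, hfc, hrc, hatc⟩ := side h2 hle (τ u) (τ w) (τ s) cu3 cw3 cuw cs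
    (fun v => by rw [← ev, ← ev, ← ev, ap hsu]) (fun v => by rw [← ev, ← ev, hsw])
    (ne1 hu1) (ne1 hw1) (ne1 hs1) (ne hne) (by rw [← map_mul]; exact ne hne') hA hA'
  obtain ⟨hBu', -, -, hBw', d, hdB, hd1, htd, hfd, hrd, hatd⟩ := side h2 hle (τ w) (τ u) (τ t) cw3 cu3
    (fun v => (cuw v).symm) ct (fun v => by rw [← ev, ← ev, ← ev, ap htw])
    (fun v => by rw [← ev, ← ev, htu]) (ne1 hw1) (ne1 hu1) (ne1 ht1) (ne hne).symm (by
      rw [← map_mul]
      exact ne fun e => hne' (by rw [e]; calc u = (u * u * u) * u := by rw [hu3, one_mul]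
        _ = u * u * (u * u) := by simp only [mul_assoc])) hA' hA
  have hcd : c ≠ d := fun e => hc1 (huniq c 1 1 c hcB (one_mem _) (one_mem _) (e ▸ hdB) (by simp)).1
  have hcard : Nat.card V = 16 := by
    obtain ⟨hBu4, -⟩ := card_traceKer h2 hle (τ u) cu3 (ne1 hu1) hA
    obtain ⟨hBw4, -⟩ := card_traceKer h2 hle (τ w) cw3 (ne1 hw1) hA'
    have : Nat.card (traceKer (τ u) × traceKer (τ w)) = Nat.card V := by
      refine Nat.card_eq_of_bijective (fun x => (x.1 : V) * x.2) ⟨fun x y h => ?_, fun v => ?_⟩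
      · obtain ⟨h1, h2'⟩ := huniq _ _ _ _ x.1.2 y.1.2 x.2.2 y.2.2 h
        exact Prod.ext (Subtype.ext h1) (Subtype.ext h2')
      · obtain ⟨a, ha, b, hb, rfl⟩ := hdec v
        exact ⟨(⟨a, ha⟩, ⟨b, hb⟩), rfl⟩
    rw [Nat.card_prod, hBu4, hBw4] at this
    omega
  have happ : ∀ {x : V} {φ : MulAut V} {e : V}, e ≠ 1 → x * φ x = e → φ x ≠ x := fun he hx h => he (by
    rw [← hx, h, h2])
  have hprod : ∀ v, τ s (τ t v) = v → v = 1 ∨ v = c ∨ v = d ∨ v = c * d := by
    intro v hv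
    obtain ⟨a, ha, b, hb, rfl⟩ := hdec v
    rw [map_mul, (hBu' a ha).2, map_mul, (hBw _ (hBw' b hb).2).2] at hv
    obtain ⟨ea, eb⟩ := huniq _ _ _ _ (hBu a ha).2 ha (hBw' b hb).2 hb hv
    rcases hfc a ha ea with rfl | rfl <;> rcases hfd b hb eb with rfl | rfl <;> simp
  refine ⟨hcard, c, d, ⟨hc1, hcd, hrc, hatc, hsc, (hBw d hdB).2, ?_, hprod⟩,
    ⟨hd1, hcd.symm, hrd, hatd, htd, (hBu' c hcB).2, ?_, fun v hv => ?_⟩, ?_, ?_⟩
  · obtain ⟨x, hx⟩ := hatd
    obtain ⟨a, ha, b, hb, rfl⟩ := hdec x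
    rw [map_mul, (hBu' a ha).2, mul_mul_mul_comm, h2, one_mul] at hx
    exact ⟨b, (hBw b hb).2, happ hd1 hx⟩
  · obtain ⟨x, hx⟩ := hatc
    obtain ⟨a, ha, b, hb, rfl⟩ := hdec x
    rw [map_mul, (hBw b hb).2, mul_mul_mul_comm, h2 b, mul_one] at hx
    exact ⟨a, (hBu' a ha).2, happ hc1 hx⟩
  · have := hprod v (by rw [← ev, hst, ev]; exact hv)
    rw [mul_comm d c]
    tauto
  · intro x v hsx hwx
    obtain ⟨a, ha, b, hb, rfl⟩ := hdec x
    rw [map_mul, (hBu a ha).1] at hwx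
    rw [map_mul, (hBw b hb).2] at hsx
    have ea : τ s a = a := mul_right_cancel hsx
    have hwb : τ w b ∈ traceKer (τ w) := by
      have hb' : b * τ w b * τ w (τ w b) = 1 := hb
      show τ w b * τ w (τ w b) * τ w (τ w (τ w b)) = 1
      rw [← map_mul, ← map_mul, hb', map_one]
    obtain ⟨e, he⟩ : ∃ e, v * τ s v = e ∧ e ∈ traceKer (τ u) := by
      rcases hrc v with h | h
      · exact ⟨1, h, one_mem _⟩
      · exact ⟨c, h, hcB⟩
    rw [he.1, mul_right_comm] at hwx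
    obtain ⟨-, e2⟩ := huniq _ _ _ _ ha (mul_mem ha he.2) hwb hb hwx
    rw [inf_eq_bot h2 (τ w) e2 hb, mul_one]
    exact hfc a ha ea
  · intro x v htx hux
    obtain ⟨a, ha, b, hb, rfl⟩ := hdec x
    rw [map_mul, (hBw b hb).1] at hux
    rw [map_mul, (hBu' a ha).2] at htx
    have eb : τ t b = b := mul_left_cancel htx
    have hua : τ u a ∈ traceKer (τ u) := by
      have ha' : a * τ u a * τ u (τ u a) = 1 := ha
      show τ u a * τ u (τ u a) * τ u (τ u (τ u a)) = 1
      rw [← map_mul, ← map_mul, ha', map_one]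
    obtain ⟨e, he⟩ : ∃ e, v * τ t v = e ∧ e ∈ traceKer (τ w) := by
      rcases hrd v with h | h
      · exact ⟨1, h, one_mem _⟩
      · exact ⟨d, h, hdB⟩
    rw [he.1, mul_assoc] at hux
    obtain ⟨e1', -⟩ := huniq _ _ _ _ hua ha hb (mul_mem hb he.2) hux
    rw [inf_eq_bot h2 (τ u) e1' ha, one_mul]
    exact hfd b hb eb

end Pair

section Triple

/-- Three commuting involutions, each pair being part of a configuration. -/
structure Triple {V : Type*} [CommGroup V] (τ : S6 →* MulAut V) (t₁ t₂ t₃ : S6) (L : Subgroup V) : Prop where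
  cardV : Nat.card V = 16
  cardL : Nat.card L ≤ 4
  fix₁ : ∀ l ∈ L, τ t₁ l = l
  fix₂ : ∀ l ∈ L, τ t₂ l = l
  fix₃ : ∀ l ∈ L, τ t₃ l = l
  range₁ : ∀ v, v * τ t₁ v ∈ L
  range₂ : ∀ v, v * τ t₂ v ∈ L
  range₃ : ∀ v, v * τ t₃ v ∈ L
  prod₁₂ : ∀ v, τ t₁ (τ t₂ v) = v → v ∈ L
  prod₁₃ : ∀ v, τ t₁ (τ t₃ v) = v → v ∈ L
  prod₂₃ : ∀ v, τ t₂ (τ t₃ v) = v → v ∈ L
  sq₁ : ∃ w, Commute w t₁ ∧ ∀ a v, τ t₁ a = a → τ w a = a * (v * τ t₁ v) → a ∈ L
  sq₂ : ∃ w, Commute w t₂ ∧ ∀ a v, τ t₂ a = a → τ w a = a * (v * τ t₂ v) → a ∈ L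
  sq₃ : ∃ w, Commute w t₃ ∧ ∀ a v, τ t₃ a = a → τ w a = a * (v * τ t₃ v) → a ∈ L

theorem range_unique {V : Type*} [CommGroup V] {s t t' : MulAut V} {c d c' d' : V} (h : PairData s t c d)
    (h' : PairData s t' c' d') : c = c' := by
  obtain ⟨v, hv⟩ := h.attained
  rcases h'.range v with h1 | h1
  · exact absurd (hv.symm.trans h1) h.c_ne
  · exact hv.symm.trans h1

theorem exists_triple {V : Type*} [CommGroup V] [Finite V] (h2 : ∀ v : V, v * v = 1) (hle : Nat.card V ≤ 16)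
    (τ : S6 →* MulAut V) (hτ : Function.Injective τ) {u w t₁ t₂ t₃ g h : S6}
    (r₁₂ : Rel u w t₁ t₂) (r₁₃ : Rel (g * u * g⁻¹) (g * w * g⁻¹) t₁ t₃)
    (r₂₃ : Rel (h * u * h⁻¹) (h * w * h⁻¹) t₂ t₃)
    (hA : ∃ v, v ≠ 1 ∧ τ u v = v) (hA' : ∃ v, v ≠ 1 ∧ τ w v = v) : ∃ L, Triple τ t₁ t₂ t₃ L := by
  have ev : ∀ (a b : S6) (v : V), τ (a * b) v = τ a (τ b v) := fun a b v => by rw [map_mul, MulAut.mul_apply]
  have tr : ∀ (g x : S6), (∃ v, v ≠ 1 ∧ τ x v = v) → ∃ v, v ≠ 1 ∧ τ (g * x * g⁻¹) v = v := by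
    rintro g x ⟨v, hv, hfx⟩
    refine ⟨τ g v, fun e => hv ((τ g).injective (e.trans (map_one _).symm)), ?_⟩
    rw [← ev, inv_mul_cancel_right, ev, hfx]
  obtain ⟨hV, c₁, c₂, p₁₂, p₂₁, q₁, q₂⟩ := pair_data h2 hle τ hτ r₁₂ hA hA'
  obtain ⟨-, c₁', c₃, p₁₃, p₃₁, -, q₃⟩ := pair_data h2 hle τ hτ r₁₃ (tr g u hA) (tr g w hA')
  obtain ⟨-, c₂', c₃', p₂₃, p₃₂, -, -⟩ := pair_data h2 hle τ hτ r₂₃ (tr h u hA) (tr h w hA')
  obtain rfl := range_unique p₁₂ p₁₃
  obtain rfl := range_unique p₂₁ p₂₃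
  obtain rfl := range_unique p₃₁ p₃₂
  set L := Subgroup.closure ({c₁, c₂, c₃} : Set V) with hL
  have m₁ : c₁ ∈ L := Subgroup.subset_closure (by simp)
  have m₂ : c₂ ∈ L := Subgroup.subset_closure (by simp)
  have m₃ : c₃ ∈ L := Subgroup.subset_closure (by simp)
  have hfix : ∀ t : S6, τ t c₁ = c₁ → τ t c₂ = c₂ → τ t c₃ = c₃ → L ≤ fixV (τ t) := fun t e₁ e₂ e₃ => by
    rw [hL, Subgroup.closure_le]
    intro x hx
    simp only [Set.mem_insert_iff, Set.mem_singleton_iff] at hx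
    rcases hx with rfl | rfl | rfl
    exacts [e₁, e₂, e₃]
  have f₁ := hfix t₁ p₁₂.fix_c p₁₂.fix_d p₁₃.fix_d
  have f₂ := hfix t₂ p₂₁.fix_d p₂₁.fix_c p₂₃.fix_d
  have f₃ := hfix t₃ p₃₁.fix_d p₃₂.fix_d p₃₁.fix_c
  have mem4 : ∀ {v c d : V}, c ∈ L → d ∈ L → (v = 1 ∨ v = c ∨ v = d ∨ v = c * d) → v ∈ L := by
    intro v c d hc hd hv
    rcases hv with rfl | rfl | rfl | rfl
    exacts [one_mem L, hc, hd, mul_mem hc hd]
  have mem2 : ∀ {v c : V}, c ∈ L → (v = 1 ∨ v = c) → v ∈ L := by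
    intro v c hc hv
    rcases hv with rfl | rfl
    exacts [one_mem L, hc]
  obtain ⟨-, -, -, -, -, -, -, hsw, -, htu, -⟩ := r₁₂
  obtain ⟨-, -, -, -, -, -, -, -, -, htu', -⟩ := r₁₃
  refine ⟨L, hV, ?_, fun l hl => f₁ hl, fun l hl => f₂ hl, fun l hl => f₃ hl,
    fun v => mem2 m₁ (p₁₂.range v), fun v => mem2 m₂ (p₂₁.range v), fun v => mem2 m₃ (p₃₁.range v),
    fun v hv => mem4 m₁ m₂ (p₁₂.fix_prod v hv), fun v hv => mem4 m₁ m₃ (p₁₃.fix_prod v hv),
    fun v hv => mem4 m₂ m₃ (p₂₃.fix_prod v hv),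
    ⟨w, hsw.symm, fun a v e e' => mem2 m₁ (q₁ a v e e')⟩, ⟨u, htu.symm, fun a v e e' => mem2 m₂ (q₂ a v e e')⟩,
    ⟨g * u * g⁻¹, htu'.symm, fun a v e e' => mem2 m₃ (q₃ a v e e')⟩⟩
  by_contra hlt
  obtain ⟨x, hx₁, hx₂⟩ := p₁₂.apart
  have : Fact (Nat.Prime 2) := ⟨Nat.prime_two⟩
  have hL8 : 8 ≤ Nat.card L := by
    obtain ⟨k, -, hk⟩ := (Nat.dvd_prime_pow Nat.prime_two).1
      ((Subgroup.card_subgroup_dvd_card L).trans (by rw [hV]; norm_num : Nat.card V ∣ 2 ^ 4))
    rcases k with _ | _ | _ | k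
    all_goals try omega
    all_goals rw [hk, pow_succ, pow_succ, pow_succ]; have := Nat.one_le_two_pow (n := k); omega
  have hfixle : Nat.card (fixV (τ t₁)) ≤ 8 := by
    have hne : fixV (τ t₁) ≠ ⊤ := by
      intro e
      obtain ⟨v, hv⟩ := p₁₂.attained
      have hv' : τ t₁ v = v := (e.symm ▸ Subgroup.mem_top v : v ∈ fixV (τ t₁))
      rw [hv', h2] at hv
      exact p₁₂.c_ne hv.symm
    have hm := Subgroup.card_mul_index (fixV (τ t₁))
    rw [hV] at hm
    have h1 : (fixV (τ t₁)).index ≠ 1 := fun e => hne (Subgroup.index_eq_one.1 e)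
    have h0 : (fixV (τ t₁)).index ≠ 0 := Subgroup.index_ne_zero_of_finite
    nlinarith [show 2 ≤ (fixV (τ t₁)).index by omega]
  have e₁ : L = fixV (τ t₁) := Subgroup.eq_of_le_of_card_ge f₁ (by omega)
  exact hx₂ (f₂ (e₁ ▸ hx₁))

/-- The three-cycles and their relatives. -/
def za : S6 := swap 0 1 * swap 1 2
/-- The second three-cycle. -/
def zb : S6 := swap 3 4 * swap 4 5

theorem exists_some_triple {V : Type*} [CommGroup V] [Finite V] (h2 : ∀ v : V, v * v = 1) (hle : Nat.card V ≤ 16)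
    (τ : S6 →* MulAut V) (hτ : Function.Injective τ) :
    ∃ t₁ t₂ t₃ L, t₁ * t₁ = 1 ∧ t₂ * t₂ = 1 ∧ t₃ * t₃ = 1 ∧
      Function.Injective (fun b : Bool × Bool × Bool =>
        (if b.1 then t₁ else 1) * (if b.2.1 then t₂ else 1) * (if b.2.2 then t₃ else 1)) ∧
      Triple τ t₁ t₂ t₃ L := by
  have ev : ∀ (a b : S6) (v : V), τ (a * b) v = τ a (τ b v) := fun a b v => by rw [map_mul, MulAut.mul_apply]
  have e1 : ∀ v : V, τ 1 v = v := fun v => by rw [map_one]; rfl
  have tr : ∀ {g x y : S6}, g * x * g⁻¹ = y → (∃ v, v ≠ 1 ∧ τ x v = v) → ∃ v, v ≠ 1 ∧ τ y v = v := by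
    rintro g x y rfl ⟨v, hv, hfx⟩
    refine ⟨τ g v, fun e => hv ((τ g).injective (e.trans (map_one _).symm)), ?_⟩
    rw [← ev, inv_mul_cancel_right, ev, hfx]
  by_cases hN : ∃ v, v ≠ 1 ∧ τ za v = v
  · refine ⟨swap 0 1, swap 3 4, swap 2 5, ?_⟩
    obtain ⟨L, hL⟩ := exists_triple h2 hle τ hτ (u := za) (w := zb) (t₁ := swap 0 1) (t₂ := swap 3 4)
      (t₃ := swap 2 5) (g := swap 2 3 * swap 4 5) (h := swap 1 5 * swap 1 4 * swap 0 2 * swap 0 3)
      (by decide +kernel) (by decide +kernel) (by decide +kernel) hN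
      (tr (g := swap 0 3 * swap 1 4 * swap 2 5) (by decide) hN)
    exact ⟨L, by decide +kernel, by decide +kernel, by decide +kernel, by decide +kernel, hL⟩
  have hN' : ¬ ∃ v, v ≠ 1 ∧ τ zb v = v := fun h => hN (tr (g := swap 0 3 * swap 1 4 * swap 2 5) (by decide) h)
  have hu : ∃ v, v ≠ 1 ∧ τ (za * zb) v = v := by
    by_contra hU
    have hW : ¬ ∃ v, v ≠ 1 ∧ τ (za * (zb * zb)) v = v := fun h => hU (tr (g := swap 4 5) (by decide) h)
    have fp : ∀ x : S6, x * x * x = 1 → (¬ ∃ v, v ≠ 1 ∧ τ x v = v) → ∀ v, v * τ x v * τ x (τ x v) = 1 := by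
      intro x hx h v
      by_contra hne
      refine h ⟨_, hne, ?_⟩
      rw [map_mul, map_mul, show τ x (τ x (τ x v)) = v by rw [← ev, ← ev, hx, e1], mul_comm _ v, ← mul_assoc]
    have hall : ∀ v : V, v = 1 := by
      intro v
      have a1 := fp za (by decide) hN
      have b1 := fp zb (by decide) hN'
      have p1 := fp _ (by decide) hU v
      have q1 := fp _ (by decide) hW v
      have ezu : ∀ x, τ zb (τ za x) = τ za (τ zb x) := fun x => by
        rw [← ev, ← ev, show zb * za = za * zb by decide]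
      have hb3 : ∀ x, τ zb (τ zb (τ zb x)) = x := fun x => by
        rw [← ev, ← ev, show zb * zb * zb = 1 by decide, e1]
      simp only [ev, ezu, hb3] at p1 q1
      have hyb : τ zb v * τ zb (τ zb v) = v := by
        have := b1 v
        calc τ zb v * τ zb (τ zb v) = v * v * (τ zb v * τ zb (τ zb v)) := by rw [h2, one_mul]
          _ = v := by rw [mul_assoc, ← mul_assoc v (τ zb v), this, mul_one]
      have hxv : τ za v * τ za (τ za v) = v := by
        have := a1 v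
        calc τ za v * τ za (τ za v) = v * v * (τ za v * τ za (τ za v)) := by rw [h2, one_mul]
          _ = v := by rw [mul_assoc, ← mul_assoc v (τ za v), this, mul_one]
      rw [← hxv]
      calc τ za v * τ za (τ za v)
          = τ za (τ zb v * τ zb (τ zb v)) * τ za (τ za (τ zb v * τ zb (τ zb v))) := by rw [hyb]
        _ = (v * τ za (τ zb v) * τ za (τ za (τ zb (τ zb v)))) * (v * τ za (τ zb (τ zb v)) * τ za (τ za (τ zb v))) := by
          simp only [map_mul]
          rw [← one_mul (τ za (τ zb v) * _ * _), ← h2 v]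
          simp only [mul_assoc, mul_comm, mul_left_comm]
        _ = 1 := by rw [p1, q1, one_mul]
    have hza : τ za = τ 1 := MulEquiv.ext fun v => by rw [hall (τ za v), hall (τ 1 v)]
    exact absurd (hτ hza) (by decide)
  refine ⟨swap 0 3 * swap 1 5 * swap 2 4, swap 0 3 * swap 1 4 * swap 2 5, swap 0 3 * swap 1 2 * swap 4 5, ?_⟩
  obtain ⟨L, hL⟩ := exists_triple h2 hle τ hτ (u := za * zb) (w := za * (zb * zb))
    (t₁ := swap 0 3 * swap 1 5 * swap 2 4) (t₂ := swap 0 3 * swap 1 4 * swap 2 5)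
    (t₃ := swap 0 3 * swap 1 2 * swap 4 5) (g := swap 2 4) (h := swap 2 4 * swap 2 5)
    (by decide +kernel) (by decide +kernel) (by decide +kernel) hu (tr (g := swap 4 5) (by decide) hu)
  exact ⟨L, by decide +kernel, by decide +kernel, by decide +kernel, by decide +kernel, hL⟩

end Triple

section Top

theorem not_sectionalPRankLE {Y : Type*} [Group Y] [Finite Y] (V : Subgroup Y) [V.Normal]
    (hab : ∀ a ∈ V, ∀ b ∈ V, a * b = b * a) (h2 : ∀ a ∈ V, a * a = 1) (hle : Nat.card V ≤ 16)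
    (hC : Subgroup.centralizer (V : Set Y) ≤ V) (f : S6 →* Y ⧸ V) (hf : Function.Injective f) :
    ¬ Cfsg.SectionalPRankLE 2 4 Y := by
  classical
  intro hrank
  let _ : CommGroup V := { (inferInstance : Group V) with mul_comm := fun a b => Subtype.ext (hab a a.2 b b.2) }
  have hV2 : ∀ v : V, v * v = 1 := fun v => Subtype.ext (h2 v v.2)
  let act : Y →* MulAut V := MulAut.conjNormal
  have hker : V ≤ act.ker := fun y hy => MonoidHom.mem_ker.2 (MulEquiv.ext fun v => Subtype.ext (by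
    show (MulAut.conjNormal y v : Y) = v
    rw [MulAut.conjNormal_apply, hab y hy v v.2, mul_inv_cancel_right]))
  let actQ : Y ⧸ V →* MulAut V := QuotientGroup.lift V act hker
  let τ : S6 →* MulAut V := actQ.comp f
  have hτ : Function.Injective τ := by
    refine Function.Injective.comp (g := actQ) (f := f) ?_ hf
    rw [injective_iff_map_eq_one]
    intro q hq
    induction q using QuotientGroup.induction_on with
    | _ y =>
      refine (QuotientGroup.eq_one_iff y).2 (hC (Subgroup.mem_centralizer_iff.2 fun v hv => ?_))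
      have h := congrArg (fun φ : MulAut V => (φ ⟨v, hv⟩ : Y)) (show act y = 1 from hq)
      simp only [act, MulAut.conjNormal_apply, MulAut.one_apply] at h
      exact (mul_inv_eq_iff_eq_mul.1 h).symm
  have hconj : ∀ (y : Y) (p : S6), (QuotientGroup.mk y : Y ⧸ V) = f p →
      ∀ v : V, y * v * y⁻¹ = (τ p v : Y) := by
    intro y p hy v
    show _ = (actQ (f p) v : Y)
    rw [← hy]
    exact (MulAut.conjNormal_apply y v).symm
  obtain ⟨t₁, t₂, t₃, L, ht₁, ht₂, ht₃, hinj, T⟩ := exists_some_triple hV2 hle τ hτ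
  have hsq : ∀ (t : S6) (hts : t * t = 1) (x : Y), (QuotientGroup.mk x : Y ⧸ V) = f t →
      (∃ w, Commute w t ∧ ∀ a v, τ t a = a → τ w a = a * (v * τ t v) → a ∈ L) → x * x ∈ L.map V.subtype := by
    rintro t hts x hx ⟨w, hw, hq⟩
    have ha : x * x ∈ V := (QuotientGroup.eq_one_iff _).1 (by rw [QuotientGroup.mk_mul, hx, ← map_mul, hts, map_one])
    obtain ⟨W, hW⟩ := QuotientGroup.mk_surjective (f w)
    obtain ⟨v, hv, e⟩ : ∃ v, v ∈ V ∧ W * x * W⁻¹ = x * v := ⟨x⁻¹ * (W * x * W⁻¹), (QuotientGroup.eq_one_iff _).1 (by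
      rw [QuotientGroup.mk_mul, QuotientGroup.mk_mul, QuotientGroup.mk_mul, QuotientGroup.mk_inv,
        QuotientGroup.mk_inv, hx, hW, ← map_inv, ← map_inv, ← map_mul, ← map_mul, ← map_mul, hw.eq,
        mul_inv_cancel_right, inv_mul_cancel, map_one]), by rw [mul_inv_cancel_left]⟩
    refine ⟨⟨x * x, ha⟩, hq _ ⟨v, hv⟩ (Subtype.ext ?_) (Subtype.ext ?_), rfl⟩
    · rw [← hconj x t hx]; group
    · rw [← hconj W w hW, Subgroup.coe_mul, Subgroup.coe_mul, ← hconj x t hx]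
      show W * (x * x) * W⁻¹ = x * x * (v * (x * v * x⁻¹))
      calc W * (x * x) * W⁻¹ = (W * x * W⁻¹) * (W * x * W⁻¹) := by group
        _ = (x * x) * ((x⁻¹ * v * x) * v) := by rw [e]; group
        _ = _ := by
          have h' : x⁻¹ * v * x = x * v * x⁻¹ := by
            calc x⁻¹ * v * x = x * ((x * x)⁻¹ * v * (x * x)) * x⁻¹ := by group
              _ = x * ((x * x)⁻¹ * (v * (x * x))) * x⁻¹ := by group
              _ = x * v * x⁻¹ := by rw [hab v hv _ ha, inv_mul_cancel_left]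
          rw [h', hab _ ((inferInstance : V.Normal).conj_mem v hv x) v hv]
  obtain ⟨x₁, hx₁⟩ := QuotientGroup.mk_surjective (f t₁)
  obtain ⟨x₂, hx₂⟩ := QuotientGroup.mk_surjective (f t₂)
  obtain ⟨x₃, hx₃⟩ := QuotientGroup.mk_surjective (f t₃)
  have hpr : ∀ (a b : S6) (x y : Y), (QuotientGroup.mk x : Y ⧸ V) = f a → (QuotientGroup.mk y : Y ⧸ V) = f b →
      a * a = 1 → b * b = 1 → Commute a b → (∀ v, τ a (τ b v) = v → v ∈ L) → x * y * (x * y) ∈ L.map V.subtype := by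
    intro a b x y hx hy haa hbb hcomm hL
    have hm : (QuotientGroup.mk (x * y) : Y ⧸ V) = f (a * b) := by rw [QuotientGroup.mk_mul, hx, hy, map_mul]
    have hin : x * y * (x * y) ∈ V := (QuotientGroup.eq_one_iff _).1 (by
      rw [QuotientGroup.mk_mul, hm, ← map_mul, hcomm.symm.mul_mul_mul_comm a b, haa, hbb, one_mul, map_one])
    refine ⟨⟨_, hin⟩, hL _ (Subtype.ext ?_), rfl⟩
    rw [← MulAut.mul_apply, ← map_mul, ← hconj _ _ hm]
    group
  let P : Subgroup S6 := Subgroup.closure {t₁, t₂, t₃}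
  let U : Subgroup Y := (P.map f).comap (QuotientGroup.mk' V)
  have hVU : ∀ v ∈ V, v ∈ U := fun v hv => ⟨1, one_mem P, by rw [map_one]; exact ((QuotientGroup.eq_one_iff v).2 hv).symm⟩
  let L' : Subgroup Y := L.map V.subtype
  have hL'V : ∀ l ∈ L', l ∈ V := by rintro _ ⟨l, -, rfl⟩; exact l.2
  have hcentral : ∀ u ∈ U, ∀ l ∈ L', u * l * u⁻¹ = l := by
    rintro u ⟨p, hp, hpu⟩ _ ⟨l, hl, rfl⟩
    rw [Subgroup.subtype_apply, hconj u p hpu.symm l]
    congr 1
    clear hpu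
    induction hp using Subgroup.closure_induction with
    | mem x hx =>
      simp only [Set.mem_insert_iff, Set.mem_singleton_iff] at hx
      rcases hx with rfl | rfl | rfl
      exacts [T.fix₁ l hl, T.fix₂ l hl, T.fix₃ l hl]
    | one => rw [map_one]; rfl
    | mul a b _ _ ha hb => rw [map_mul, MulAut.mul_apply, hb, ha]
    | inv a _ ha => rw [map_inv]; exact (τ a).injective ((MulAut.apply_inv_self _ _ _).trans ha.symm)
  let N : Subgroup U := L'.subgroupOf U
  have hNn : N.Normal := ⟨fun n hn g => by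
    show ((g * n * g⁻¹ : U) : Y) ∈ L'
    rw [Subgroup.coe_mul, Subgroup.coe_mul, Subgroup.coe_inv, hcentral g g.2 n hn]
    exact hn⟩
  have gU : ∀ (x : Y) (t : S6), (QuotientGroup.mk x : Y ⧸ V) = f t → t ∈ ({t₁, t₂, t₃} : Set S6) → x ∈ U :=
    fun x t hx ht => ⟨t, Subgroup.subset_closure ht, hx.symm⟩
  let g₁ : U := ⟨x₁, gU x₁ t₁ hx₁ (by simp)⟩
  let g₂ : U := ⟨x₂, gU x₂ t₂ hx₂ (by simp)⟩
  let g₃ : U := ⟨x₃, gU x₃ t₃ hx₃ (by simp)⟩
  let π : U →* U ⧸ N := QuotientGroup.mk' N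
  have hπ : ∀ y : U, (y : Y) ∈ L' → π y = 1 := fun y hy => (QuotientGroup.eq_one_iff y).2 hy
  let gens : Set (U ⧸ N) := insert (π g₁) (insert (π g₂) (insert (π g₃) (π '' {y : U | (y : Y) ∈ V})))
  have hsq' : ∀ q ∈ gens, q * q = 1 := by
    rintro q (rfl | rfl | rfl | ⟨y, hy, rfl⟩) <;> rw [← map_mul] <;> apply hπ
    · exact hsq t₁ ht₁ x₁ hx₁ T.sq₁
    · exact hsq t₂ ht₂ x₂ hx₂ T.sq₂
    · exact hsq t₃ ht₃ x₃ hx₃ T.sq₃
    · rw [Subgroup.coe_mul, h2 _ hy]; exact one_mem L'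
  have hcq : ∀ {a b : U ⧸ N}, a * a = 1 → b * b = 1 → a * b * (a * b) = 1 → a * b = b * a := by
    intro a b ha hb hab'
    calc a * b = (a * b)⁻¹ := eq_inv_of_mul_eq_one_left hab'
      _ = b * a := by rw [mul_inv_rev, inv_eq_of_mul_eq_one_right ha, inv_eq_of_mul_eq_one_right hb]
  have hc12 : Commute t₁ t₂ ∧ Commute t₁ t₃ ∧ Commute t₂ t₃ := by
    have : ∀ {a b : S6}, (∀ v, τ a (τ b v) = τ b (τ a v)) → Commute a b := fun h => hτ (MulEquiv.ext fun v => by
      rw [map_mul, map_mul, MulAut.mul_apply, MulAut.mul_apply, h])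
    have key : ∀ (a b : S6), a * a = 1 → b * b = 1 → (∀ l ∈ L, τ a l = l) → (∀ l ∈ L, τ b l = l) →
        (∀ v, v * τ a v ∈ L) → (∀ v, v * τ b v ∈ L) → Commute a b := by
      intro a b _ _ fa fb ra rb
      refine this fun v => ?_
      have ea : τ a v = v * (v * τ a v) := by rw [← mul_assoc, hV2, one_mul]
      have eb : τ b v = v * (v * τ b v) := by rw [← mul_assoc, hV2, one_mul]
      conv_lhs => rw [eb, map_mul, fa _ (rb v), ea]
      conv_rhs => rw [ea, map_mul, fb _ (ra v), eb]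
      rw [mul_right_comm]
    exact ⟨key _ _ ht₁ ht₂ T.fix₁ T.fix₂ T.range₁ T.range₂, key _ _ ht₁ ht₃ T.fix₁ T.fix₃ T.range₁ T.range₃,
      key _ _ ht₂ ht₃ T.fix₂ T.fix₃ T.range₂ T.range₃⟩
  have hxv : ∀ (t : S6) (x : Y) (hx : (QuotientGroup.mk x : Y ⧸ V) = f t), t * t = 1 → (∀ v, v * τ t v ∈ L) →
      ∀ v ∈ V, (v * x * (v * x)) * (x * x)⁻¹ ∈ L' := by
    intro t x hx _ hr v hv
    refine ⟨⟨v, hv⟩ * τ t ⟨v, hv⟩, hr _, ?_⟩
    rw [Subgroup.subtype_apply, Subgroup.coe_mul, ← hconj x t hx]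
    group
  have hcomm : ∀ a ∈ gens, ∀ b ∈ gens, a * b = b * a := by
    have hgv : ∀ (t : S6) (g : U), (QuotientGroup.mk (g : Y) : Y ⧸ V) = f t → t * t = 1 → (∀ v, v * τ t v ∈ L) →
        π g * π g = 1 → ∀ y : U, (y : Y) ∈ V → π y * π g = π g * π y := by
      intro t g hg hts hr hgg y hy
      refine hcq (by rw [← map_mul]; exact hπ _ (by rw [Subgroup.coe_mul, h2 _ hy]; exact one_mem L')) hgg ?_
      have e := hπ (y * g * (y * g) * (g * g)⁻¹) (hxv t g hg hts hr y hy)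
      rwa [map_mul, map_inv, map_mul π g g, hgg, inv_one, mul_one, map_mul, map_mul] at e
    have e₁ := hsq' (π g₁) (Set.mem_insert _ _)
    have e₂ := hsq' (π g₂) (by simp [gens])
    have e₃ := hsq' (π g₃) (by simp [gens])
    have c₁₂ : π g₁ * π g₂ = π g₂ * π g₁ := hcq e₁ e₂ (by
      rw [← map_mul, ← map_mul]; exact hπ _ (hpr t₁ t₂ x₁ x₂ hx₁ hx₂ ht₁ ht₂ hc12.1 T.prod₁₂))
    have c₁₃ : π g₁ * π g₃ = π g₃ * π g₁ := hcq e₁ e₃ (by
      rw [← map_mul, ← map_mul]; exact hπ _ (hpr t₁ t₃ x₁ x₃ hx₁ hx₃ ht₁ ht₃ hc12.2.1 T.prod₁₃))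
    have c₂₃ : π g₂ * π g₃ = π g₃ * π g₂ := hcq e₂ e₃ (by
      rw [← map_mul, ← map_mul]; exact hπ _ (hpr t₂ t₃ x₂ x₃ hx₂ hx₃ ht₂ ht₃ hc12.2.2 T.prod₂₃))
    have v₁ := hgv t₁ g₁ hx₁ ht₁ T.range₁ e₁
    have v₂ := hgv t₂ g₂ hx₂ ht₂ T.range₂ e₂
    have v₃ := hgv t₃ g₃ hx₃ ht₃ T.range₃ e₃
    rintro a (rfl | rfl | rfl | ⟨y, hy, rfl⟩) b (rfl | rfl | rfl | ⟨z, hz, rfl⟩)
    all_goals first
      | rfl
      | exact c₁₂
      | exact c₁₂.symm
      | exact c₁₃
      | exact c₁₃.symm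
      | exact c₂₃
      | exact c₂₃.symm
      | exact v₁ _ hy
      | exact v₂ _ hy
      | exact v₃ _ hy
      | exact (v₁ _ hz).symm
      | exact (v₂ _ hz).symm
      | exact (v₃ _ hz).symm
      | (rw [← map_mul, ← map_mul]; congr 1; exact Subtype.ext (hab _ hy _ hz))
  have hgen : Subgroup.closure gens = ⊤ := by
    rw [eq_top_iff]
    intro q _
    induction q using QuotientGroup.induction_on with
    | _ u =>
      obtain ⟨p, hp, hpu⟩ := u.2
      have key : ∀ p ∈ P, ∃ r : U, (QuotientGroup.mk (r : Y) : Y ⧸ V) = f p ∧ π r ∈ Subgroup.closure gens := by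
        intro p hp
        induction hp using Subgroup.closure_induction with
        | mem x hx =>
          simp only [Set.mem_insert_iff, Set.mem_singleton_iff] at hx
          rcases hx with rfl | rfl | rfl
          · exact ⟨g₁, hx₁, Subgroup.subset_closure (by simp [gens])⟩
          · exact ⟨g₂, hx₂, Subgroup.subset_closure (by simp [gens])⟩
          · exact ⟨g₃, hx₃, Subgroup.subset_closure (by simp [gens])⟩
        | one => exact ⟨1, by simp, by simp⟩
        | mul a b _ _ ha hb =>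
          obtain ⟨r, hr, hr'⟩ := ha
          obtain ⟨r', hs, hs'⟩ := hb
          exact ⟨r * r', by rw [Subgroup.coe_mul, QuotientGroup.mk_mul, hr, hs, map_mul], by
            rw [map_mul]; exact mul_mem hr' hs'⟩
        | inv a _ ha =>
          obtain ⟨r, hr, hr'⟩ := ha
          exact ⟨r⁻¹, by rw [Subgroup.coe_inv, QuotientGroup.mk_inv, hr, map_inv], by
            rw [map_inv]; exact inv_mem hr'⟩
      obtain ⟨r, hr, hr'⟩ := key p hp
      have hy : ((r⁻¹ * u : U) : Y) ∈ V := (QuotientGroup.eq_one_iff _).1 (by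
        rw [Subgroup.coe_mul, Subgroup.coe_inv, QuotientGroup.mk_mul, QuotientGroup.mk_inv, hr, hpu]
        exact inv_mul_cancel _)
      have := mul_mem hr' (Subgroup.subset_closure (show π (r⁻¹ * u) ∈ gens from
        Set.mem_insert_of_mem _ (Set.mem_insert_of_mem _ (Set.mem_insert_of_mem _ ⟨_, hy, rfl⟩))))
      rwa [← map_mul, mul_inv_cancel_left] at this
  have hcent : ∀ a b : U ⧸ N, a * b = b * a := by
    have h1 : Subgroup.closure gens ≤ Subgroup.centralizer gens :=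
      (Subgroup.closure_le _).2 fun a ha => Subgroup.mem_centralizer_iff.2 fun b hb => hcomm b hb a ha
    intro a b
    have hb : Subgroup.closure gens ≤ Subgroup.centralizer {a} := (Subgroup.closure_le _).2 fun g hg =>
      Subgroup.mem_centralizer_singleton_iff.2
        (Subgroup.mem_centralizer_iff.1 (h1 (hgen.symm ▸ Subgroup.mem_top a)) g hg)
    exact (Subgroup.mem_centralizer_singleton_iff.1 (hb (hgen.symm ▸ Subgroup.mem_top b))).symm
  have hexp : ∀ q : U ⧸ N, q ^ 2 = 1 := by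
    intro q
    have hq : q ∈ Subgroup.closure gens := hgen.symm ▸ Subgroup.mem_top q
    induction hq using Subgroup.closure_induction with
    | mem x hx => rw [pow_two]; exact hsq' x hx
    | one => exact one_pow 2
    | mul a b _ _ ha hb => rw [Commute.mul_pow (hcent a b), ha, hb, one_mul]
    | inv a _ ha => rw [inv_pow, ha, inv_one]
  have hQ := hrank U N ⊤ ⟨⟨fun a b => Subtype.ext (hcent a b)⟩⟩ (fun a _ => hexp a)
  rw [Subgroup.card_top] at hQ
  have hP8 : 8 ≤ Nat.card P := by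
    have hm : ∀ (b : Bool) (t : S6), t ∈ P → (if b then t else 1) ∈ P := fun b t ht => by
      cases b <;> simp [ht]
    have h := Nat.card_le_card_of_injective (fun b : Bool × Bool × Bool =>
      (⟨_, mul_mem (mul_mem (hm b.1 t₁ (Subgroup.subset_closure (by simp)))
        (hm b.2.1 t₂ (Subgroup.subset_closure (by simp)))) (hm b.2.2 t₃ (Subgroup.subset_closure (by simp)))⟩ : P))
      (fun a b h => hinj (congrArg Subtype.val h))
    simpa using h
  have hU : Nat.card P * Nat.card V = Nat.card U := by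
    let φ : U →* (P.map f : Subgroup (Y ⧸ V)) :=
      MonoidHom.mk' (fun u => ⟨QuotientGroup.mk (u : Y), u.2⟩) fun a b => rfl
    have hφ : Function.Surjective φ := by
      rintro ⟨_, p, hp, rfl⟩
      obtain ⟨y, hy⟩ := QuotientGroup.mk_surjective (f p)
      exact ⟨⟨y, p, hp, hy.symm⟩, Subtype.ext hy⟩
    have hk : φ.ker = V.subgroupOf U := by
      ext u
      rw [MonoidHom.mem_ker, Subgroup.mem_subgroupOf, Subtype.ext_iff]
      exact QuotientGroup.eq_one_iff _
    rw [Subgroup.card_eq_card_quotient_mul_card_subgroup φ.ker,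
      Nat.card_congr (QuotientGroup.quotientKerEquivOfSurjective φ hφ).toEquiv,
      ← Nat.card_congr (P.equivMapOfInjective f hf).toEquiv, hk,
      Nat.card_congr (Subgroup.subgroupOfEquivOfLe hVU).toEquiv]
  have hN : Nat.card N ≤ 4 := by
    rw [Nat.card_congr (Subgroup.subgroupOfEquivOfLe fun l hl => hVU l (hL'V l hl)).toEquiv,
      ← Nat.card_congr (L.equivMapOfInjective V.subtype V.subtype_injective).toEquiv]
    exact T.cardL
  have hcard := Subgroup.card_eq_card_quotient_mul_card_subgroup N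
  rw [← hU, T.cardV] at hcard
  nlinarith

end Top

end CfsgLib.InvCharSixRank
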