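import Cfsg.Agent.Lib.InvChar.TransitiveFixedAux
import Cfsg.Agent.Lib.InvChar.OrderSixtyFour

/-!
# 2-groups with an involutory automorphism whose fixed points are transitively permuted

`Q` is a finite 2-group, `α` an automorphism with `α² = 1`, `ρ` commutes with `α` and the fixed
points of `α` are `cC F` for a finite field `F`, `ρ` being multiplication by `μ²`, `μ` a generator
of the multiplicative group. Then `Q` is abelian, or of class two with quotient `F × F` and
squaring map `x² + xy + β y²`.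
-/

set_option autoImplicit false
set_option linter.unusedSectionVars false

universe u

namespace CfsgLib.InvCharTransFix

open CfsgLib.InvCharSixtyFour (cm)

/-- The hypotheses. -/
structure Setup {Q F : Type*} [Group Q] [Field F] [Fintype F] (α ρ : MulAut Q) (μ : F) (cC : F → Q) : Prop where
  isP : IsPGroup 2 Q
  alpha_sq : ∀ a, α (α a) = a
  comm : ∀ a, α (ρ a) = ρ (α a)
  period : ∀ a, (ρ ^ (Fintype.card F - 1)) a = a
  inj : Function.Injective cC
  add : ∀ s t, cC (s + t) = cC s * cC t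
  fixed : ∀ a, α a = a ↔ ∃ t, cC t = a
  rho : ∀ t, ρ (cC t) = cC (μ ^ 2 * t)

/-- The conclusion in the non-abelian case. -/
structure Coord {Q F : Type*} [Group Q] [Field F] [Fintype F] (α ρ : MulAut Q) (μ : F) (cD : F → Q)
    (px py : Q → F) (β : F) : Prop where
  setup : Setup α ρ μ cD
  px_mul : ∀ a b, px (a * b) = px a + px b
  py_mul : ∀ a b, py (a * b) = py a + py b
  surj : ∀ x y, ∃ a, px a = x ∧ py a = y
  ker : ∀ a, (px a = 0 ∧ py a = 0) ↔ ∃ t, cD t = a
  px_rho : ∀ a, px (ρ a) = μ * px a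
  py_rho : ∀ a, py (ρ a) = μ * py a
  px_alpha : ∀ a, px (α a) = px a + py a
  py_alpha : ∀ a, py (α a) = py a
  sq : ∀ a, a * a = cD (px a ^ 2 + px a * py a + β * py a ^ 2)

variable {F : Type*} [Field F] [Fintype F] [CharP F 2] {μ : F}

theorem mu_ne_zero (hgen : ∀ t : F, t ≠ 0 → ∃ k : ℕ, μ ^ k = t) (h4 : 4 ≤ Fintype.card F) : μ ≠ 0 := by
  intro h
  classical
  obtain ⟨t, -, ht⟩ := Finset.exists_mem_notMem_of_card_lt_card (s := ({0, 1} : Finset F))
    (t := Finset.univ) (by rw [Finset.card_univ, Finset.card_pair zero_ne_one]; omega)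
  simp only [Finset.mem_insert, Finset.mem_singleton, not_or] at ht
  obtain ⟨k, hk⟩ := hgen t ht.1
  rcases k with _ | k
  · exact ht.2 (by rw [← hk, pow_zero])
  · exact ht.1 (by rw [← hk, h, zero_pow (Nat.succ_ne_zero k)])

/-- Square roots. -/
theorem exists_sqrtFun : ∃ r : F → F, ∀ t, r t ^ 2 = t := by
  have hs : Function.Surjective (frobenius F 2) := Finite.surjective_of_injective (frobenius_inj F 2)
  choose r hr using hs
  exact ⟨r, fun t => by rw [← frobenius_def]; exact hr t⟩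

theorem sq_inj {a b : F} (h : a ^ 2 = b ^ 2) : a = b :=
  frobenius_inj F 2 (by rwa [frobenius_def, frobenius_def])

/-- An alternating homogeneous biadditive map vanishes. -/
theorem alt_eq_zero (hgen : ∀ t : F, t ≠ 0 → ∃ k : ℕ, μ ^ k = t) (B : F → F → F)
    (hl : ∀ x x' y, B (x + x') y = B x y + B x' y) (hr : ∀ x y y', B x (y + y') = B x y + B x y')
    (hh : ∀ x y, B (μ * x) (μ * y) = μ ^ 2 * B x y) (halt : ∀ x, B x x = 0) : ∀ x y, B x y = 0 := by
  intro x y
  rw [biadd_eq_mul_of_gen μ hgen B hl hr hh x y, halt, zero_mul]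

/-- Homogeneity upgrades to linearity. -/
theorem linear_of_gen (hgen : ∀ t : F, t ≠ 0 → ∃ k : ℕ, μ ^ k = t) (e : F → F)
    (hadd : ∀ s t, e (s + t) = e s + e t) (hh : ∀ t, e (μ ^ 2 * t) = μ ^ 2 * e t) :
    ∀ t, e t = e 1 * t := by
  have h0 : e 0 = 0 := by have := hadd 0 0; rw [add_zero] at this; exact left_eq_add.1 this
  obtain ⟨r, hr⟩ := exists_sqrtFun (F := F)
  intro t
  by_cases ht : t = 0
  · rw [ht, h0, mul_zero]
  obtain ⟨k, hk⟩ := hgen (r t) (fun h => ht (by rw [← hr t, h]; ring))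
  have hkk : ∀ j : ℕ, e ((μ ^ 2) ^ j) = (μ ^ 2) ^ j * e 1 := by
    intro j
    induction j with
    | zero => simp
    | succ j ih => rw [pow_succ', hh, ih, mul_assoc]
  rw [← hr t, ← hk, ← pow_mul, mul_comm k, pow_mul, hkk, mul_comm]

/-- An equivariant projection onto an embedded copy of `F` in an elementary abelian group. -/
theorem exists_proj {A : Type*} [Group A] [Finite A] (h2 : ∀ a : A, a * a = 1) (ρ : MulAut A)
    (hper : ∀ a, (ρ ^ (Fintype.card F - 1)) a = a) (hμ : μ ≠ 0) (j : F → A) (hj : Function.Injective j)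
    (hadd : ∀ s t, j (s + t) = j s * j t) (hρ : ∀ t, ρ (j t) = j (μ ^ 2 * t)) :
    ∃ p : A → F, (∀ a b, p (a * b) = p a + p b) ∧ (∀ t, p (j t) = t) ∧ (∀ a, p (ρ a) = μ ^ 2 * p a) := by
  classical
  have hcomm : ∀ a b : A, a * b = b * a := fun a b => by
    have h := inv_eq_of_mul_eq_one_right (h2 (a * b))
    rw [mul_inv_rev, inv_eq_of_mul_eq_one_right (h2 a), inv_eq_of_mul_eq_one_right (h2 b)] at h
    exact h.symm
  let _ : CommGroup A := { (inferInstance : Group A) with mul_comm := hcomm }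
  let _ : Module (ZMod 2) (Additive A) := AddCommGroup.zmodModule fun v => by
    rw [two_nsmul]; exact h2 v.toMul
  let _ : Module (ZMod 2) F := AddCommGroup.zmodModule fun v => by
    rw [two_nsmul]; exact CharTwo.add_self_eq_zero v
  let jL : F →ₗ[ZMod 2] Additive A :=
    (AddMonoidHom.mk' (fun t => Additive.ofMul (j t)) (fun s t => congrArg Additive.ofMul (hadd s t))).toZModLinearMap 2
  obtain ⟨g, hg⟩ := jL.exists_leftInverse_of_injective (LinearMap.ker_eq_bot.2 fun s t h => hj (congrArg Additive.toMul h))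
  let p₀ : A → F := fun a => g (Additive.ofMul a)
  have hp₀ : ∀ a b, p₀ (a * b) = p₀ a + p₀ b := fun a b => g.map_add (Additive.ofMul a) (Additive.ofMul b)
  have hp₀j : ∀ t, p₀ (j t) = t := fun t => LinearMap.congr_fun hg t
  set m := Fintype.card F - 1 with hm
  set l := μ ^ 2 with hl
  have hl0 : l ≠ 0 := pow_ne_zero _ hμ
  have hlm : l ^ m = 1 := FiniteField.pow_card_sub_one_eq_one l hl0
  have hρk : ∀ k t, (ρ ^ k) (j t) = j (l ^ k * t) := by
    intro k
    induction k with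
    | zero => intro t; simp
    | succ k ih => intro t; rw [pow_succ', MulAut.mul_apply, ih, hρ, pow_succ', mul_assoc]
  have hodd : (m : F) = 1 := by
    have h1 : 1 ≤ Fintype.card F := Fintype.card_pos
    rw [hm, Nat.cast_sub h1, Nat.cast_card_eq_zero, Nat.cast_one, zero_sub, CharTwo.neg_eq]
  refine ⟨fun a => ∑ k ∈ Finset.range m, (l ^ k)⁻¹ * p₀ ((ρ ^ k) a), ?_, ?_, ?_⟩
  · intro a b
    simp only [map_mul, hp₀, mul_add, Finset.sum_add_distrib]
  · intro t
    simp only [hρk, hp₀j, inv_mul_cancel_left₀ (pow_ne_zero _ hl0), Finset.sum_const, Finset.card_range,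
      nsmul_eq_mul, hodd, one_mul]
  · intro a
    show ∑ k ∈ Finset.range m, (l ^ k)⁻¹ * p₀ ((ρ ^ k) (ρ a)) = l * ∑ k ∈ Finset.range m, (l ^ k)⁻¹ * p₀ ((ρ ^ k) a)
    rw [Finset.mul_sum]
    let f : ℕ → F := fun k => l * ((l ^ k)⁻¹ * p₀ ((ρ ^ k) a))
    have hstep : ∀ k, (l ^ k)⁻¹ * p₀ ((ρ ^ k) (ρ a)) = f (k + 1) := by
      intro k
      simp only [f]
      rw [show (ρ ^ k) (ρ a) = (ρ ^ (k + 1)) a by rw [pow_succ, MulAut.mul_apply], pow_succ' l]
      field_simp
    rw [Finset.sum_congr rfl (fun k _ => hstep k)]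
    have hend : f m = f 0 := by simp [f, hlm, hper]
    have e1 := Finset.sum_range_succ' f m
    have e2 := Finset.sum_range_succ f m
    rw [e1, hend] at e2
    exact add_right_cancel e2

section Basic

variable {Q : Type*} [Group Q] [Finite Q] {α ρ : MulAut Q} {cC : F → Q}
  (hgen : ∀ t : F, t ≠ 0 → ∃ k : ℕ, μ ^ k = t) (h4 : 4 ≤ Fintype.card F) (S : Setup α ρ μ cC)

include hgen h4 S

theorem cC_zero : cC 0 = 1 := by have := S.add 0 0; rw [add_zero] at this; exact left_eq_mul.1 this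

theorem cC_sq (t : F) : cC t * cC t = 1 := by
  rw [← S.add, CharTwo.add_self_eq_zero, cC_zero hgen h4 S]

theorem alpha_cC (t : F) : α (cC t) = cC t := (S.fixed _).2 ⟨t, rfl⟩

/-- The fixed points form a subgroup. -/
def fixSub : Subgroup Q where
  carrier := Set.range cC
  one_mem' := ⟨0, cC_zero hgen h4 S⟩
  mul_mem' := by rintro _ _ ⟨s, rfl⟩ ⟨t, rfl⟩; exact ⟨s + t, S.add s t⟩
  inv_mem' := by rintro _ ⟨s, rfl⟩; exact ⟨s, (inv_eq_of_mul_eq_one_right (cC_sq hgen h4 S s)).symm⟩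

/-- A nontrivial invariant subgroup contains all fixed points. -/
theorem le_of_invariant (N : Subgroup Q) (hN : N ≠ ⊥) (hα : ∀ a ∈ N, α a ∈ N) (hρ : ∀ a ∈ N, ρ a ∈ N)
    (t : F) : cC t ∈ N := by
  classical
  have : Fact (Nat.Prime 2) := ⟨Nat.prime_two⟩
  have := Fintype.ofFinite N
  have hdvd : 2 ∣ Fintype.card N := by
    obtain ⟨k, hk⟩ := IsPGroup.iff_card.1 (S.isP.to_subgroup N)
    rw [← Nat.card_eq_fintype_card, hk]
    rcases k with _ | k
    · exact absurd (Subgroup.eq_bot_of_card_eq N (by simpa using hk)) hN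
    · exact dvd_pow_self 2 k.succ_ne_zero
  obtain ⟨b, hb, hb1⟩ : ∃ b : N, α (b : Q) = b ∧ b ≠ 1 := by
    let σ : Function.End N := fun y => ⟨α y, hα y y.2⟩
    have hσ : σ ^ (2 ^ 1) = 1 := by funext y; exact Subtype.ext (S.alpha_sq y)
    have h := Equiv.Perm.card_fixedPoints_modEq (p := 2) (n := 1) hσ
    have h1 : (1 : N) ∈ Function.fixedPoints σ := Subtype.ext (map_one α)
    by_contra! hc
    have hone : Fintype.card (Function.fixedPoints σ) = 1 := by
      rw [Fintype.card_eq_one_iff]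
      exact ⟨⟨1, h1⟩, fun y => Subtype.ext (hc y.1 (congrArg Subtype.val y.2))⟩
    rw [hone, Nat.ModEq, Nat.mod_eq_zero_of_dvd hdvd] at h
    omega
  obtain ⟨s, hs⟩ := (S.fixed _).1 hb
  have hs0 : s ≠ 0 := fun h => hb1 (Subtype.ext (by rw [← hs, h, cC_zero hgen h4 S]; rfl))
  by_cases ht : t = 0
  · rw [ht, cC_zero hgen h4 S]; exact one_mem N
  obtain ⟨r, hr⟩ := exists_sqrtFun (F := F)
  obtain ⟨k, hk⟩ := hgen (r (t / s)) (fun h => div_ne_zero ht hs0 (by rw [← hr (t / s), h]; ring))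
  have hmem : ∀ j : ℕ, cC ((μ ^ 2) ^ j * s) ∈ N := by
    intro j
    induction j with
    | zero => rw [pow_zero, one_mul, hs]; exact b.2
    | succ j ih => rw [pow_succ', mul_assoc, ← S.rho]; exact hρ _ ih
  have e : (μ ^ 2) ^ k * s = t := by
    rw [← pow_mul, mul_comm 2, pow_mul, hk, hr, div_mul_cancel₀ _ hs0]
  exact e ▸ hmem k

theorem nontrivial : Nontrivial Q :=
  ⟨⟨cC 1, cC 0, fun h => one_ne_zero (S.inj h)⟩⟩

theorem central (t : F) (g : Q) : g * cC t = cC t * g := by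
  have : Fact (Nat.Prime 2) := ⟨Nat.prime_two⟩
  have := nontrivial hgen h4 S
  have hne := S.isP.center_nontrivial
  exact Subgroup.mem_center_iff.1 (le_of_invariant hgen h4 S _
    ((Subgroup.nontrivial_iff_ne_bot _).1 hne) (CfsgLib.InvCharSixtyFour.center_invariant α)
    (CfsgLib.InvCharSixtyFour.center_invariant ρ) t) g

theorem fixSub_normal : (fixSub hgen h4 S).Normal := by
  constructor
  rintro _ ⟨t, rfl⟩ g
  exact ⟨t, by rw [central hgen h4 S t g, mul_inv_cancel_right]⟩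

/-- Inverse coordinate on the fixed points. -/
theorem coord_fun : ∃ c : Q → F, ∀ a, α a = a → cC (c a) = a := by
  classical
  exact ⟨fun a => if h : ∃ t, cC t = a then h.choose else 0, fun a ha => by
    simp only [dif_pos ((S.fixed a).1 ha)]; exact ((S.fixed a).1 ha).choose_spec⟩

end Basic

/-! ### Bilinearity of central commutators -/

section Central

variable {G : Type*} [Group G] {a b c : G}

theorem cm_mul_l (h : ∀ g, g * cm b c = cm b c * g) : cm (a * b) c = cm b c * cm a c := by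
  calc cm (a * b) c = a * cm b c * c * a⁻¹ * c⁻¹ := by unfold cm; group
    _ = cm b c * a * c * a⁻¹ * c⁻¹ := by rw [h]
    _ = cm b c * cm a c := by unfold cm; group

theorem cm_mul_r (h : ∀ g, g * cm a c = cm a c * g) : cm a (b * c) = cm a b * cm a c := by
  calc cm a (b * c) = a * b * a⁻¹ * (cm a c * b⁻¹) := by unfold cm; group
    _ = a * b * a⁻¹ * (b⁻¹ * cm a c) := by rw [h b⁻¹]
    _ = cm a b * cm a c := by unfold cm; group

theorem cm_self (a : G) : cm a a = 1 := by unfold cm; group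

theorem cm_one_of_comm (h : a * b = b * a) : cm a b = 1 := by unfold cm; rw [h]; group

theorem comm_of_cm_one (h : cm a b = 1) : a * b = b * a := by
  calc a * b = cm a b * (b * a) := by unfold cm; group
    _ = b * a := by rw [h, one_mul]

theorem sq_mul_central (h : ∀ g, g * cm b a = cm b a * g) :
    a * b * (a * b) = cm b a * (a * a * (b * b)) := by
  calc a * b * (a * b) = a * cm b a * a * (b * b) := by unfold cm; group
    _ = cm b a * a * a * (b * b) := by rw [h a]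
    _ = _ := by group

end Central

section Step

variable {Q : Type*} [Group Q] [Finite Q] {α ρ : MulAut Q} {cC : F → Q}
  (hgen : ∀ t : F, t ≠ 0 → ∃ k : ℕ, μ ^ k = t) (h4 : 4 ≤ Fintype.card F) (S : Setup α ρ μ cC)

include hgen h4 S

/-- If commutators are fixed and factor through a copy of `F` of weight one, `Q` is abelian. -/
theorem abelian_of_rank_one (hcm : ∀ a b, ∃ t, cC t = cm a b) (L : Q → F) (hL : Function.Surjective L)
    (hLm : ∀ a b, L (a * b) = L a + L b) (hLρ : ∀ a, L (ρ a) = μ * L a)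
    (hLker : ∀ a a', L a = L a' → ∀ b, cm a b = cm a' b) : ∀ a b : Q, a * b = b * a := by
  choose f hf using hcm
  choose l hl using hL
  have hcen : ∀ a b g : Q, g * cm a b = cm a b * g := fun a b g => by rw [← hf]; exact central hgen h4 S _ g
  have hinv : ∀ a b : Q, cm b a = cm a b := by
    intro a b
    have h1 : cm b a = (cm a b)⁻¹ := by unfold cm; group
    rw [h1, ← hf, inv_eq_of_mul_eq_one_right (cC_sq hgen h4 S _)]
  have hker2 : ∀ a b b' : Q, L b = L b' → cm a b = cm a b' := fun a b b' h => by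
    rw [← hinv a b, ← hinv a b', hLker b b' h]
  have hB : ∀ x y, f (l x) (l y) = 0 := by
    refine alt_eq_zero hgen (fun x y => f (l x) (l y)) ?_ ?_ ?_ ?_
    · intro x x' y
      apply S.inj
      rw [S.add, hf, hf, hf, hLker (l (x + x')) (l x * l x') (by rw [hLm, hl, hl, hl]), cm_mul_l (hcen _ _)]
      exact hcen _ _ _
    · intro x y y'
      apply S.inj
      rw [S.add, hf, hf, hf, hker2 _ (l (y + y')) (l y * l y') (by rw [hLm, hl, hl, hl]), cm_mul_r (hcen _ _)]
    · intro x y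
      apply S.inj
      rw [← S.rho, hf, hf, CfsgLib.InvCharSixtyFour.cm_map, hLker (l (μ * x)) (ρ (l x)) (by rw [hLρ, hl, hl]),
        hker2 _ (l (μ * y)) (ρ (l y)) (by rw [hLρ, hl, hl])]
    · intro x
      apply S.inj
      rw [hf, cm_self, cC_zero hgen h4 S]
  intro a b
  apply comm_of_cm_one
  rw [hLker a (l (L a)) (hl _).symm, hker2 _ b (l (L b)) (hl _).symm, ← hf, hB, cC_zero hgen h4 S]

/-- Abelian groups: elementary, or `A / A²` is a copy of `F`. -/
theorem abelian_cases (hA : ∀ a b : Q, a * b = b * a) :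
    (∀ a : Q, a * a = 1) ∨ ∃ L : Q → F, Function.Surjective L ∧ (∀ a b, L (a * b) = L a + L b) ∧
      (∀ a, L (ρ a) = μ * L a) ∧ ∀ a, L a = 0 → ∃ b, b * b = a := by
  classical
  obtain ⟨c, hc⟩ := coord_fun hgen h4 S
  by_cases hall : ∀ a : Q, a * a = 1
  · exact Or.inl hall
  right
  let _ : CommGroup Q := { (inferInstance : Group Q) with mul_comm := hA }
  let pw : ℕ → Subgroup Q := fun k => (powMonoidHom k : Q →* Q).range
  have hfix1 : ∀ e : Q, e * e = 1 → α e = e := by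
    by_contra! hc'
    obtain ⟨e, he, hne⟩ := hc'
    have hfx : α (e * α e) = e * α e := by rw [map_mul, S.alpha_sq, hA]
    let K : Subgroup Q :=
      { carrier := {a | a * α a = 1}
        one_mem' := by simp
        mul_mem' := fun {a b} (ha : a * α a = 1) (hb : b * α b = 1) => show a * b * α (a * b) = 1 by
          rw [map_mul, mul_mul_mul_comm, ha, hb, one_mul]
        inv_mem' := fun {a} (ha : a * α a = 1) => show a⁻¹ * α a⁻¹ = 1 by
          rw [map_inv, ← mul_inv, ha, inv_one] }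
    let E : Subgroup Q :=
      { carrier := {a | a * a = 1}
        one_mem' := one_mul 1
        mul_mem' := fun {a b} (ha : a * a = 1) (hb : b * b = 1) => show a * b * (a * b) = 1 by
          rw [mul_mul_mul_comm, ha, hb, one_mul]
        inv_mem' := fun {a} (ha : a * a = 1) => show a⁻¹ * a⁻¹ = 1 by rw [← mul_inv, ha, inv_one] }
    have hKα : ∀ a ∈ K, α a ∈ K := fun a (ha : a * α a = 1) => show α a * α (α a) = 1 by
      rw [S.alpha_sq, hA, ha]
    have hKρ : ∀ a ∈ K, ρ a ∈ K := fun a (ha : a * α a = 1) => show ρ a * α (ρ a) = 1 by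
      rw [S.comm, ← map_mul, ha, map_one]
    have hc1 : e * α e ≠ 1 := fun h => hne (mul_left_cancel (h.trans he.symm))
    by_cases hKE : K ≤ E
    · apply hall
      intro a
      let T : Subgroup Q := E.map ((MonoidHom.id Q) * α.toMonoidHom)
      have hTm : ∀ t : F, cC t ∈ T := by
        refine le_of_invariant hgen h4 S T ?_ ?_ ?_
        · exact fun h => hc1 (Subgroup.mem_bot.1 (h ▸ ⟨e, he, rfl⟩))
        · rintro _ ⟨b, hb, rfl⟩
          refine ⟨b, hb, ?_⟩
          show b * α b = α (b * α b)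
          rw [map_mul, S.alpha_sq, hA]
        · rintro _ ⟨b, hb, rfl⟩
          refine ⟨ρ b, ?_, ?_⟩
          · show ρ b * ρ b = 1
            rw [← map_mul, (hb : b * b = 1), map_one]
          · show ρ b * α (ρ b) = ρ (b * α b)
            rw [S.comm, map_mul]
      obtain ⟨b, hb, hba⟩ := hTm (c (a * α a))
      rw [hc _ (by rw [map_mul, S.alpha_sq, hA])] at hba
      have hba' : b * α b = a * α a := hba
      have hab : a * b⁻¹ ∈ K := by
        show a * b⁻¹ * α (a * b⁻¹) = 1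
        rw [map_mul, map_inv, mul_mul_mul_comm, ← mul_inv, hba', mul_inv_cancel]
      have h1 : a * b⁻¹ * (a * b⁻¹) = 1 := hKE hab
      rwa [mul_mul_mul_comm, ← mul_inv, (hb : b * b = 1), inv_one, mul_one] at h1
    · obtain ⟨k₀, hk₀, hk₁⟩ := SetLike.not_le_iff_exists.1 hKE
      let K2 : Subgroup Q := K.map (powMonoidHom 2)
      obtain ⟨w, hw, hwe⟩ : e * α e ∈ K2 := by
        rw [← hc _ hfx]
        refine le_of_invariant hgen h4 S K2 ?_ ?_ ?_ _
        · exact fun h => hk₁ (show k₀ * k₀ = 1 by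
            rw [← pow_two]; exact Subgroup.mem_bot.1 (h ▸ ⟨k₀, hk₀, rfl⟩))
        · rintro _ ⟨b, hb, rfl⟩; exact ⟨α b, hKα b hb, (map_pow α b 2).symm⟩
        · rintro _ ⟨b, hb, rfl⟩; exact ⟨ρ b, hKρ b hb, (map_pow ρ b 2).symm⟩
      have hwe' : w * w = e * α e := by rw [← pow_two]; exact hwe
      have hw' : α w = w⁻¹ := eq_inv_of_mul_eq_one_right hw
      have hfix : α (e * w) = e * w := by
        rw [map_mul, hw']
        calc α e * w⁻¹ = e * e * α e * w⁻¹ := by rw [he, one_mul]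
          _ = e * (e * α e) * w⁻¹ := by group
          _ = e * w := by rw [← hwe']; group
      obtain ⟨t, ht⟩ := (S.fixed _).1 hfix
      have := cC_sq hgen h4 S t
      rw [ht, mul_mul_mul_comm, he, one_mul, hwe'] at this
      exact hc1 this
  -- the exponent
  have hex : ∃ N : ℕ, ∀ a : Q, a ^ 2 ^ N = 1 := by
    obtain ⟨k, hk⟩ := IsPGroup.iff_card.1 S.isP
    exact ⟨k, fun a => by rw [← hk]; exact pow_card_eq_one'⟩
  obtain ⟨M, hM, hMmin⟩ : ∃ M : ℕ, (∀ a : Q, a ^ 2 ^ M = 1) ∧ ∀ M' < M, ¬ ∀ a : Q, a ^ 2 ^ M' = 1 :=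
    ⟨Nat.find hex, Nat.find_spec hex, fun M' h => Nat.find_min hex h⟩
  obtain ⟨N, rfl, hN1⟩ : ∃ N, M = N + 1 ∧ 1 ≤ N := by
    refine ⟨M - 1, ?_, ?_⟩
    all_goals
      by_contra h
      apply hall
      intro a
      have hle : M ≤ 1 := by omega
      have := hM a
      rcases Nat.le_one_iff_eq_zero_or_eq_one.1 hle with rfl | rfl
      · rw [pow_zero, pow_one] at this; rw [this, one_mul]
      · rw [pow_one, pow_two] at this; exact this
  have htop : ∀ a : Q, α (a ^ 2 ^ N) = a ^ 2 ^ N := fun a => hfix1 _ (by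
    rw [← pow_add, ← two_mul, ← pow_succ']; exact hM a)
  obtain ⟨a₀, ha₀⟩ := not_forall.1 (hMmin N (by omega))
  have honto : ∀ t : F, ∃ b : Q, b ^ 2 ^ N = cC t := by
    intro t
    refine le_of_invariant hgen h4 S (pw (2 ^ N)) ?_ ?_ ?_ t
    · exact fun h => ha₀ (Subgroup.mem_bot.1 (h ▸ ⟨a₀, rfl⟩))
    · rintro _ ⟨b, rfl⟩; exact ⟨α b, (map_pow α b _).symm⟩
    · rintro _ ⟨b, rfl⟩; exact ⟨ρ b, (map_pow ρ b _).symm⟩
  have hsquare : ∀ j ≤ N, ∀ a : Q, a ^ 2 ^ j = 1 → ∃ b, b * b = a := by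
    intro j
    induction j with
    | zero => intro _ a ha; exact ⟨1, by rw [pow_zero, pow_one] at ha; rw [ha, one_mul]⟩
    | succ j ih =>
      intro hj a ha
      have hfixj : α (a ^ 2 ^ j) = a ^ 2 ^ j := hfix1 _ (by rw [← pow_add, ← two_mul, ← pow_succ']; exact ha)
      obtain ⟨b, hb⟩ := honto (c (a ^ 2 ^ j))
      rw [hc _ hfixj] at hb
      obtain ⟨d, hd⟩ := ih (by omega) (a * (b ^ 2 ^ (N - j))⁻¹) (by
        rw [mul_pow, inv_pow, ← pow_mul, ← pow_add, Nat.sub_add_cancel (by omega), hb, mul_inv_cancel])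
      obtain ⟨i, hi⟩ : ∃ i, N - j = i + 1 := ⟨N - j - 1, by omega⟩
      refine ⟨d * b ^ 2 ^ i, ?_⟩
      rw [mul_mul_mul_comm, hd, ← pow_add, ← two_mul, ← pow_succ', ← hi, inv_mul_cancel_right]
  obtain ⟨r, hr⟩ := exists_sqrtFun (F := F)
  refine ⟨fun a => r (c (a ^ 2 ^ N)), ?_, ?_, ?_, ?_⟩
  · intro x
    obtain ⟨b, hb⟩ := honto (x ^ 2)
    refine ⟨b, sq_inj ?_⟩
    show r (c (b ^ 2 ^ N)) ^ 2 = x ^ 2
    rw [hr]
    exact S.inj (by rw [hc _ (htop b), hb])
  · intro a b
    apply sq_inj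
    rw [CharTwo.add_sq, hr, hr, hr]
    exact S.inj (by rw [S.add, hc _ (htop _), hc _ (htop _), hc _ (htop _), mul_pow])
  · intro a
    apply sq_inj
    rw [mul_pow, hr, hr]
    exact S.inj (by rw [← S.rho, hc _ (htop _), hc _ (htop _), map_pow])
  · intro a ha
    have h0 : c (a ^ 2 ^ N) = 0 := by
      have := hr (c (a ^ 2 ^ N))
      rw [show r (c (a ^ 2 ^ N)) = 0 from ha] at this
      rw [← this]; ring
    refine hsquare N le_rfl a ?_
    rw [← hc _ (htop a), h0, cC_zero hgen h4 S]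

end Step

/-! ### The quotient by the fixed points -/

section Quot

variable {Q : Type*} [Group Q] [Finite Q] {α ρ : MulAut Q} {cC : F → Q}
  (hgen : ∀ t : F, t ≠ 0 → ∃ k : ℕ, μ ^ k = t) (h4 : 4 ≤ Fintype.card F) (S : Setup α ρ μ cC)

include hgen h4 S

/-- The quotient modulo the fixed points satisfies the hypotheses again, unless `Q` is abelian. -/
theorem quotient_setup :
    (∀ a b : Q, a * b = b * a) ∨ ∃ (N : Subgroup Q) (_ : N.Normal) (α' ρ' : MulAut (Q ⧸ N)) (cC' : F → Q ⧸ N),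
      Setup α' ρ' μ cC' ∧ (∀ a, α' (QuotientGroup.mk a) = QuotientGroup.mk (α a)) ∧
      (∀ a, ρ' (QuotientGroup.mk a) = QuotientGroup.mk (ρ a)) ∧
      (∀ a : Q, (QuotientGroup.mk a : Q ⧸ N) = 1 ↔ ∃ t, cC t = a) ∧ Nat.card (Q ⧸ N) < Nat.card Q := by
  classical
  have : Fact (Nat.Prime 2) := ⟨Nat.prime_two⟩
  obtain ⟨c, hc⟩ := coord_fun hgen h4 S
  let N := fixSub hgen h4 S
  have hN : N.Normal := fixSub_normal hgen h4 S
  have hmap : ∀ φ : MulAut Q, (∀ t, ∃ s, φ (cC t) = cC s) → N.map φ.toMonoidHom = N := by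
    intro φ h
    refine Subgroup.eq_of_le_of_card_ge ?_ (Subgroup.card_map_of_injective (f := φ.toMonoidHom) φ.injective).ge
    rintro _ ⟨_, ⟨t, rfl⟩, rfl⟩
    obtain ⟨s, hs⟩ := h t
    exact ⟨s, hs.symm⟩
  let α' : MulAut (Q ⧸ N) := QuotientGroup.congr N N α (hmap α fun t => ⟨t, alpha_cC hgen h4 S t⟩)
  let ρ' : MulAut (Q ⧸ N) := QuotientGroup.congr N N ρ (hmap ρ fun t => ⟨_, S.rho t⟩)
  have hα' : ∀ a, α' (QuotientGroup.mk a) = QuotientGroup.mk (α a) := fun a => rfl
  have hρ' : ∀ a, ρ' (QuotientGroup.mk a) = QuotientGroup.mk (ρ a) := fun a => rfl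
  have hmk : ∀ a : Q, (QuotientGroup.mk a : Q ⧸ N) = 1 ↔ ∃ t, cC t = a := fun a => QuotientGroup.eq_one_iff a
  have hδ : ∀ a : Q, α' (QuotientGroup.mk a) = QuotientGroup.mk a → α (a⁻¹ * α a) = a⁻¹ * α a := by
    intro a ha
    obtain ⟨t, ht⟩ := (hmk (a⁻¹ * α a)).1 (by rw [QuotientGroup.mk_mul, QuotientGroup.mk_inv, ← hα', ha, inv_mul_cancel])
    rw [← ht, alpha_cC hgen h4 S]
  have hcard : Nat.card (Q ⧸ N) < Nat.card Q := by
    rw [Subgroup.card_eq_card_quotient_mul_card_subgroup N]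
    refine lt_mul_of_one_lt_right Nat.card_pos (Finite.one_lt_card_iff_nontrivial.2 ?_)
    exact ⟨⟨⟨cC 1, 1, rfl⟩, ⟨cC 0, 0, rfl⟩, fun h => one_ne_zero (S.inj (congrArg Subtype.val h))⟩⟩
  by_cases hex : ∃ a : Q, α' (QuotientGroup.mk a) = QuotientGroup.mk a ∧ ¬ ∃ t, cC t = a
  swap
  · left
    push Not at hex
    have htriv : ∀ v : Q ⧸ N, v = 1 := by
      by_contra! hv
      obtain ⟨v, hv⟩ := hv
      have := Fintype.ofFinite (Q ⧸ N)
      have hP : IsPGroup 2 (Q ⧸ N) := S.isP.to_quotient N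
      have hdvd : 2 ∣ Fintype.card (Q ⧸ N) := by
        obtain ⟨k, hk⟩ := IsPGroup.iff_card.1 hP
        rw [← Nat.card_eq_fintype_card, hk]
        rcases k with _ | k
        · exact absurd (Finite.card_le_one_iff_subsingleton.1 (by simpa using hk.le) |>.elim v 1) hv
        · exact dvd_pow_self 2 k.succ_ne_zero
      let σ : Function.End (Q ⧸ N) := fun y => α' y
      have hσ : σ ^ (2 ^ 1) = 1 := by
        funext y
        induction y using QuotientGroup.induction_on with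
        | _ y => show α' (α' (QuotientGroup.mk y)) = QuotientGroup.mk y; rw [hα', hα', S.alpha_sq]
      have h := Equiv.Perm.card_fixedPoints_modEq (p := 2) (n := 1) hσ
      have hone : Fintype.card (Function.fixedPoints σ) = 1 := by
        rw [Fintype.card_eq_one_iff]
        refine ⟨⟨1, map_one α'⟩, fun y => Subtype.ext ?_⟩
        obtain ⟨y, hy⟩ := y
        induction y using QuotientGroup.induction_on with
        | _ a =>
          obtain ⟨t, ht⟩ := hex a hy
          exact (hmk a).2 ⟨t, ht⟩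
      rw [hone, Nat.ModEq, Nat.mod_eq_zero_of_dvd hdvd] at h
      omega
    intro a b
    obtain ⟨t, rfl⟩ := (hmk b).1 (htriv _)
    exact central hgen h4 S t a
  right
  obtain ⟨a₀, ha₀, hna₀⟩ := hex
  let D : Subgroup Q :=
    { carrier := {a | ∃ t, a * cC t = α a}
      one_mem' := ⟨0, by rw [cC_zero hgen h4 S, map_one, mul_one]⟩
      mul_mem' := by
        rintro a b ⟨s, hs⟩ ⟨t, ht⟩
        refine ⟨s + t, ?_⟩
        rw [map_mul, ← hs, ← ht, S.add, mul_assoc a, mul_assoc a, ← mul_assoc b, central hgen h4 S s b,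
          mul_assoc]
      inv_mem' := by
        rintro a ⟨s, hs⟩
        refine ⟨s, ?_⟩
        rw [map_inv, ← hs, mul_inv_rev, inv_eq_of_mul_eq_one_right (cC_sq hgen h4 S s), central hgen h4 S] }
  let e : Q → F := fun a => c (a⁻¹ * α a)
  have heq : ∀ a t, a * cC t = α a → e a = t := fun a t h => S.inj (by
    show cC (c (a⁻¹ * α a)) = cC t
    rw [hc _ (by rw [← h, inv_mul_cancel_left, alpha_cC hgen h4 S]), ← h, inv_mul_cancel_left])
  have hD : ∀ a ∈ D, a * cC (e a) = α a := by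
    rintro a ⟨t, ht⟩
    rw [heq a t ht, ht]
  let T : Subgroup Q :=
    { carrier := {w | ∃ a ∈ D, cC (e a) = w}
      one_mem' := ⟨1, one_mem D, by rw [heq 1 0 (by rw [cC_zero hgen h4 S, map_one, mul_one]), cC_zero hgen h4 S]⟩
      mul_mem' := by
        rintro _ _ ⟨a, ha, rfl⟩ ⟨b, hb, rfl⟩
        refine ⟨a * b, mul_mem ha hb, ?_⟩
        rw [← S.add]
        congr 1
        refine heq _ _ ?_
        rw [map_mul, ← hD a ha, ← hD b hb, S.add, mul_assoc a, mul_assoc a, ← mul_assoc b, central hgen h4 S _ b,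
          mul_assoc]
      inv_mem' := by
        rintro _ ⟨a, ha, rfl⟩
        exact ⟨a, ha, (inv_eq_of_mul_eq_one_right (cC_sq hgen h4 S _)).symm⟩ }
  have hρD : ∀ a ∈ D, ρ a ∈ D ∧ e (ρ a) = μ ^ 2 * e a := fun a ha => by
    have h : ρ a * cC (μ ^ 2 * e a) = α (ρ a) := by rw [← S.rho, ← map_mul, hD a ha, S.comm]
    exact ⟨⟨_, h⟩, heq _ _ h⟩
  have hTall : ∀ t, cC t ∈ T := by
    refine le_of_invariant hgen h4 S T ?_ ?_ ?_
    · intro h
      obtain ⟨t, ht⟩ := (hmk (a₀⁻¹ * α a₀)).1 (by rw [QuotientGroup.mk_mul, QuotientGroup.mk_inv, ← hα', ha₀, inv_mul_cancel])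
      have hmem : a₀ * cC t = α a₀ := by rw [ht, mul_inv_cancel_left]
      have h1 : cC t = 1 := Subgroup.mem_bot.1 (h ▸ ⟨a₀, ⟨t, hmem⟩, by rw [heq a₀ t hmem]⟩)
      rw [h1, mul_one] at hmem
      exact hna₀ ((S.fixed a₀).1 hmem.symm)
    · rintro _ ⟨a, ha, rfl⟩; rw [alpha_cC hgen h4 S]; exact ⟨a, ha, rfl⟩
    · rintro _ ⟨a, ha, rfl⟩; exact ⟨ρ a, (hρD a ha).1, by rw [(hρD a ha).2, S.rho]⟩
  choose d hdD hde using fun t => hTall t
  have hde' : ∀ t, e (d t) = t := fun t => S.inj (hde t)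
  -- elements of `D` with equal coordinate agree modulo `N`
  have hcl : ∀ a ∈ D, (QuotientGroup.mk a : Q ⧸ N) = QuotientGroup.mk (d (e a)) := by
    intro a ha
    rw [QuotientGroup.eq]
    show ∃ t, cC t = a⁻¹ * d (e a)
    refine (S.fixed _).1 ?_
    rw [map_mul, map_inv, ← hD a ha, ← hD _ (hdD _), hde', mul_inv_rev,
      inv_eq_of_mul_eq_one_right (cC_sq hgen h4 S (e a)), mul_assoc, ← mul_assoc a⁻¹, ← mul_assoc,
      ← central hgen h4 S (e a) (a⁻¹ * d (e a)), mul_assoc _ (cC (e a)), cC_sq hgen h4 S, mul_one]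
  refine ⟨N, hN, α', ρ', fun t => QuotientGroup.mk (d t), ⟨S.isP.to_quotient N, ?_, ?_, ?_, ?_, ?_, ?_, ?_⟩,
    hα', hρ', hmk, hcard⟩
  · intro v
    induction v using QuotientGroup.induction_on with
    | _ v => rw [hα', hα', S.alpha_sq]
  · intro v
    induction v using QuotientGroup.induction_on with
    | _ v => rw [hρ', hα', hα', hρ', S.comm]
  · intro v
    have hk : ∀ k (a : Q), (ρ' ^ k) (QuotientGroup.mk a) = QuotientGroup.mk ((ρ ^ k) a) := by
      intro k
      induction k with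
      | zero => intro a; rfl
      | succ k ih => intro a; rw [pow_succ', pow_succ', MulAut.mul_apply, MulAut.mul_apply, ih, hρ']
    induction v using QuotientGroup.induction_on with
    | _ v => rw [hk, S.period]
  · intro s t h
    obtain ⟨u, hu⟩ := QuotientGroup.eq.1 h
    have h' : d t = d s * cC u := by rw [hu, mul_inv_cancel_left]
    have he : e (d t) = e (d s) := heq _ _ (by
      rw [h', map_mul, alpha_cC hgen h4 S, ← hD _ (hdD s), mul_assoc (d s), mul_assoc (d s),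
        central hgen h4 S _ (cC u)])
    rw [hde', hde'] at he
    exact he.symm
  · intro s t
    show (QuotientGroup.mk (d (s + t)) : Q ⧸ N) = QuotientGroup.mk (d s) * QuotientGroup.mk (d t)
    rw [← QuotientGroup.mk_mul, hcl _ (mul_mem (hdD s) (hdD t))]
    congr 1
    congr 1
    exact (heq _ _ (by
      rw [map_mul, ← hD _ (hdD s), ← hD _ (hdD t), hde', hde', S.add, mul_assoc (d s), mul_assoc (d s),
        ← mul_assoc (d t), central hgen h4 S s (d t), mul_assoc])).symm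
  · intro v
    induction v using QuotientGroup.induction_on with
    | _ v =>
      constructor
      · intro hv
        have hvD : v ∈ D := by
          refine ⟨c (v⁻¹ * α v), ?_⟩
          rw [hc _ (hδ v hv), mul_inv_cancel_left]
        exact ⟨e v, (hcl v hvD).symm⟩
      · rintro ⟨t, ht⟩
        rw [← ht, hα', ← hD _ (hdD t), QuotientGroup.mk_mul, (hmk (cC (e (d t)))).2 ⟨_, rfl⟩, mul_one]
  · intro t
    show ρ' (QuotientGroup.mk (d t)) = QuotientGroup.mk (d (μ ^ 2 * t))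
    rw [hρ', hcl _ (hρD _ (hdD t)).1, (hρD _ (hdD t)).2, hde']

end Quot

/-! ### Classification -/

theorem sqrt_add {r : F → F} (hr : ∀ t, r t ^ 2 = t) (s t : F) : r (s + t) = r s + r t :=
  sq_inj (by rw [CharTwo.add_sq, hr, hr, hr])

theorem sqrt_scale {r : F → F} (hr : ∀ t, r t ^ 2 = t) (m t : F) : r (m ^ 2 * t) = m * r t :=
  sq_inj (by rw [mul_pow, hr, hr])

theorem add_inv {A : Type*} [Group A] (p : A → F) (hp : ∀ a b, p (a * b) = p a + p b) (a : A) :
    p a⁻¹ = p a := by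
  have h1 : p 1 = 0 := by have := hp 1 1; rw [mul_one] at this; exact left_eq_add.1 this
  have := hp a⁻¹ a
  rw [inv_mul_cancel, h1] at this
  exact CharTwo.add_eq_zero.1 this.symm

/-- Alternating homogeneous forms on a group with coordinates in `F × F`. -/
theorem form_eq {Q : Type*} [Group Q] {ρ : MulAut Q} (hgen : ∀ t : F, t ≠ 0 → ∃ k : ℕ, μ ^ k = t) (px py : Q → F)
    (hpx : ∀ a b, px (a * b) = px a + px b) (hpy : ∀ a b, py (a * b) = py a + py b)
    (hsurj : ∀ x y, ∃ a, px a = x ∧ py a = y) (hxρ : ∀ a, px (ρ a) = μ * px a) (hyρ : ∀ a, py (ρ a) = μ * py a)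
    (φ : Q → Q → F) (hl : ∀ a a' b, φ (a * a') b = φ a b + φ a' b) (hr : ∀ a b b', φ a (b * b') = φ a b + φ a b')
    (hk : ∀ a, px a = 0 → py a = 0 → ∀ b, φ a b = 0) (halt : ∀ a, φ a a = 0)
    (hh : ∀ a b, φ (ρ a) (ρ b) = μ ^ 2 * φ a b) :
    ∃ k, ∀ a b, φ a b = k * (px a * py b + py a * px b) := by
  have hsym : ∀ a b, φ a b = φ b a := by
    intro a b
    have h := halt (a * b)
    rw [hl, hr, hr, halt, halt, zero_add, add_zero] at h
    exact CharTwo.add_eq_zero.1 h
  have hcls : ∀ a a', px a = px a' → py a = py a' → ∀ b, φ a b = φ a' b := by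
    intro a a' hx hy b
    have h := hl a (a⁻¹ * a') b
    rw [mul_inv_cancel_left, hk (a⁻¹ * a') (by rw [hpx, add_inv px hpx, hx, CharTwo.add_self_eq_zero])
      (by rw [hpy, add_inv py hpy, hy, CharTwo.add_self_eq_zero]), add_zero] at h
    exact h.symm
  have hclsr : ∀ b b', px b = px b' → py b = py b' → ∀ a, φ a b = φ a b' := fun b b' hx hy a => by
    rw [hsym, hcls b b' hx hy, hsym]
  choose X hX hX' using fun x => hsurj x 0
  choose Y hY hY' using fun y => hsurj 0 y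
  have hXadd : ∀ x x' b, φ (X (x + x')) b = φ (X x) b + φ (X x') b := fun x x' b => by
    rw [← hl]; exact hcls _ _ (by simp [hpx, hX]) (by simp [hpy, hX']) b
  have hYadd : ∀ x x' b, φ (Y (x + x')) b = φ (Y x) b + φ (Y x') b := fun x x' b => by
    rw [← hl]; exact hcls _ _ (by simp [hpx, hY]) (by simp [hpy, hY']) b
  have hXX : ∀ x x', φ (X x) (X x') = 0 := by
    refine alt_eq_zero hgen (fun x x' => φ (X x) (X x')) (fun x x' y => hXadd x x' _)
      (fun x y y' => by rw [hsym, hXadd, hsym, hsym (X y')]) (fun x y => ?_) (fun x => halt _)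
    rw [← hh, hcls (X (μ * x)) (ρ (X x)) (by rw [hX, hxρ, hX]) (by rw [hX', hyρ, hX', mul_zero]),
      hclsr (X (μ * y)) (ρ (X y)) (by rw [hX, hxρ, hX]) (by rw [hX', hyρ, hX', mul_zero])]
  have hYY : ∀ x x', φ (Y x) (Y x') = 0 := by
    refine alt_eq_zero hgen (fun x x' => φ (Y x) (Y x')) (fun x x' y => hYadd x x' _)
      (fun x y y' => by rw [hsym, hYadd, hsym, hsym (Y y')]) (fun x y => ?_) (fun x => halt _)
    rw [← hh, hcls (Y (μ * x)) (ρ (Y x)) (by rw [hY, hxρ, hY, mul_zero]) (by rw [hY', hyρ, hY']),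
      hclsr (Y (μ * y)) (ρ (Y y)) (by rw [hY, hxρ, hY, mul_zero]) (by rw [hY', hyρ, hY'])]
  have hXY : ∀ x y, φ (X x) (Y y) = φ (X 1) (Y 1) * (x * y) := by
    refine biadd_eq_mul_of_gen μ hgen (fun x y => φ (X x) (Y y)) (fun x x' y => hXadd x x' _)
      (fun x y y' => by rw [hsym, hYadd, hsym, hsym (Y y')]) (fun x y => ?_)
    rw [← hh, hcls (X (μ * x)) (ρ (X x)) (by rw [hX, hxρ, hX]) (by rw [hX', hyρ, hX', mul_zero]),
      hclsr (Y (μ * y)) (ρ (Y y)) (by rw [hY, hxρ, hY, mul_zero]) (by rw [hY', hyρ, hY'])]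
  refine ⟨φ (X 1) (Y 1), fun a b => ?_⟩
  rw [hcls a (X (px a) * Y (py a)) (by simp [hpx, hX, hY]) (by simp [hpy, hX', hY']),
    hclsr b (X (px b) * Y (py b)) (by simp [hpx, hX, hY]) (by simp [hpy, hX', hY']), hl, hr, hr, hXX, hYY,
    hXY (px a) (py b), hsym (Y (py a)), hXY (px b) (py a)]
  ring

section Elementary

variable {Q : Type*} [Group Q] [Finite Q] {α ρ : MulAut Q} {cC : F → Q}
  (hgen : ∀ t : F, t ≠ 0 → ∃ k : ℕ, μ ^ k = t) (h4 : 4 ≤ Fintype.card F) (S : Setup α ρ μ cC)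

include hgen h4 S

/-- The fixed points modulo which `Q` is `F × F`. -/
theorem elementary_step (px py : Q → F) (hpx : ∀ a b, px (a * b) = px a + px b)
    (hpy : ∀ a b, py (a * b) = py a + py b) (hsurj : ∀ x y, ∃ a, px a = x ∧ py a = y)
    (hker : ∀ a, (px a = 0 ∧ py a = 0) ↔ ∃ t, cC t = a) (hxρ : ∀ a, px (ρ a) = μ * px a)
    (hyρ : ∀ a, py (ρ a) = μ * py a) (hxα : ∀ a, px (α a) = px a + py a) (hyα : ∀ a, py (α a) = py a) :
    (∀ a b : Q, a * b = b * a) ∨ ∃ cD px' py' β, Coord α ρ μ cD px' py' β := by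
  have hsq : ∀ a : Q, ∃ t, cC t = a * a := fun a => (hker _).1
    ⟨by rw [hpx, CharTwo.add_self_eq_zero], by rw [hpy, CharTwo.add_self_eq_zero]⟩
  have hcm : ∀ a b : Q, ∃ t, cC t = cm a b := fun a b => (hker _).1
    ⟨by unfold cm; rw [hpx, hpx, hpx, add_inv px hpx, add_inv px hpx, add_comm (px a) (px b), add_assoc (px b),
          CharTwo.add_self_eq_zero, add_zero, CharTwo.add_self_eq_zero],
      by unfold cm; rw [hpy, hpy, hpy, add_inv py hpy, add_inv py hpy, add_comm (py a) (py b), add_assoc (py b),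
          CharTwo.add_self_eq_zero, add_zero, CharTwo.add_self_eq_zero]⟩
  choose g hg using hsq
  choose f hf using hcm
  have hcen : ∀ a b k : Q, k * cm a b = cm a b * k := fun a b k => by rw [← hf]; exact central hgen h4 S _ k
  obtain ⟨D, hD⟩ := form_eq hgen px py hpx hpy hsurj hxρ hyρ f
    (fun a a' b => S.inj (by rw [S.add, hf, hf, hf, cm_mul_l (hcen _ _), hcen]))
    (fun a b b' => S.inj (by rw [S.add, hf, hf, hf, cm_mul_r (hcen _ _)]))
    (fun a hx hy b => S.inj (by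
      obtain ⟨t, ht⟩ := (hker a).1 ⟨hx, hy⟩
      rw [hf, cC_zero hgen h4 S, cm_one_of_comm]
      rw [← ht]; exact (central hgen h4 S t b).symm))
    (fun a => S.inj (by rw [hf, cm_self, cC_zero hgen h4 S]))
    (fun a b => S.inj (by rw [← S.rho, hf, hf, CfsgLib.InvCharSixtyFour.cm_map]))
  by_cases hD0 : D = 0
  · left
    intro a b
    apply comm_of_cm_one
    rw [← hf, hD, hD0, zero_mul, cC_zero hgen h4 S]
  right
  have hgmul : ∀ a b, g (a * b) = f b a + (g a + g b) := fun a b => S.inj (by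
    rw [S.add, S.add, hg, hg, hg, hf, sq_mul_central (hcen _ _)])
  have hgcls : ∀ a a', px a = px a' → py a = py a' → g a = g a' := by
    intro a a' hx hy
    obtain ⟨t, ht⟩ := (hker (a⁻¹ * a')).1 ⟨by rw [hpx, add_inv px hpx, hx, CharTwo.add_self_eq_zero],
      by rw [hpy, add_inv py hpy, hy, CharTwo.add_self_eq_zero]⟩
    apply S.inj
    rw [hg, hg, show a' = a * cC t by rw [ht, mul_inv_cancel_left], mul_assoc a, ← mul_assoc (cC t),
      ← central hgen h4 S t a, mul_assoc a (cC t), cC_sq hgen h4 S, mul_one]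
  choose X hX hX' using fun x => hsurj x 0
  choose Y hY hY' using fun y => hsurj 0 y
  obtain ⟨r, hr⟩ := exists_sqrtFun (F := F)
  have hgX : ∀ x, g (X x) = g (X (r 1)) * x ^ 2 := by
    intro x
    have h := linear_of_gen hgen (fun t => g (X (r t))) (fun s t => ?_) (fun t => ?_) (x ^ 2)
    · rwa [show r (x ^ 2) = x from sq_inj (hr _)] at h
    · rw [sqrt_add hr, hgcls (X (r s + r t)) (X (r s) * X (r t)) (by simp [hpx, hX]) (by simp [hpy, hX']),
        hgmul, hD, hX', hX']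
      simp
    · rw [sqrt_scale hr, hgcls (X (μ * r t)) (ρ (X (r t))) (by rw [hX, hxρ, hX]) (by rw [hX', hyρ, hX', mul_zero])]
      exact S.inj (by rw [← S.rho, hg, hg, map_mul])
  have hgY : ∀ x, g (Y x) = g (Y (r 1)) * x ^ 2 := by
    intro x
    have h := linear_of_gen hgen (fun t => g (Y (r t))) (fun s t => ?_) (fun t => ?_) (x ^ 2)
    · rwa [show r (x ^ 2) = x from sq_inj (hr _)] at h
    · rw [sqrt_add hr, hgcls (Y (r s + r t)) (Y (r s) * Y (r t)) (by simp [hpx, hY]) (by simp [hpy, hY']),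
        hgmul, hD, hY, hY]
      simp
    · rw [sqrt_scale hr, hgcls (Y (μ * r t)) (ρ (Y (r t))) (by rw [hY, hxρ, hY, mul_zero]) (by rw [hY', hyρ, hY'])]
      exact S.inj (by rw [← S.rho, hg, hg, map_mul])
  set A := g (X (r 1))
  set B := g (Y (r 1))
  have hgall : ∀ a, g a = A * px a ^ 2 + D * (px a * py a) + B * py a ^ 2 := by
    intro a
    rw [hgcls a (X (px a) * Y (py a)) (by simp [hpx, hX, hY]) (by simp [hpy, hX', hY']), hgmul, hgX, hgY, hD]
    simp [hX, hX', hY, hY']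
    ring
  have hAD : A = D := by
    have h : g (α (Y 1)) = g (Y 1) := S.inj (by rw [hg, hg, ← map_mul, ← hg, alpha_cC hgen h4 S])
    rw [hgall, hgall, hxα, hyα, hY, hY'] at h
    exact CharTwo.add_eq_zero.1 (by linear_combination h)
  refine ⟨fun t => cC (D * t), px, py, B / D, ⟨S.isP, S.alpha_sq, S.comm, S.period,
    fun s t h => mul_left_cancel₀ hD0 (S.inj h), fun s t => ?_, fun a => ?_, fun t => ?_⟩,
    hpx, hpy, hsurj, fun a => ?_, hxρ, hyρ, hxα, hyα, fun a => ?_⟩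
  · show cC (D * (s + t)) = cC (D * s) * cC (D * t)
    rw [mul_add, S.add]
  · rw [S.fixed]
    exact ⟨fun ⟨t, ht⟩ => ⟨t / D, by show cC (D * (t / D)) = a; rw [mul_div_cancel₀ _ hD0, ht]⟩,
      fun ⟨t, ht⟩ => ⟨_, ht⟩⟩
  · show ρ (cC (D * t)) = cC (D * (μ ^ 2 * t))
    rw [S.rho]; congr 1; ring
  · rw [hker]
    exact ⟨fun ⟨t, ht⟩ => ⟨t / D, by show cC (D * (t / D)) = a; rw [mul_div_cancel₀ _ hD0, ht]⟩,
      fun ⟨t, ht⟩ => ⟨_, ht⟩⟩
  · show a * a = cC (D * _)
    rw [← hg, hgall, hAD]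
    congr 1
    field_simp

/-- Case of an abelian quotient. -/
theorem step_abelian {N : Subgroup Q} [N.Normal] {α' ρ' : MulAut (Q ⧸ N)} {cC' : F → Q ⧸ N}
    (S' : Setup α' ρ' μ cC') (hα' : ∀ a, α' (QuotientGroup.mk a) = QuotientGroup.mk (α a))
    (hρ' : ∀ a, ρ' (QuotientGroup.mk a) = QuotientGroup.mk (ρ a))
    (hmk : ∀ a : Q, (QuotientGroup.mk a : Q ⧸ N) = 1 ↔ ∃ t, cC t = a) (hA : ∀ a b : Q ⧸ N, a * b = b * a) :
    (∀ a b : Q, a * b = b * a) ∨ ∃ cD px py β, Coord α ρ μ cD px py β := by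
  have hcm : ∀ a b : Q, ∃ t, cC t = cm a b := fun a b => (hmk _).1 (by
    unfold cm
    simp only [QuotientGroup.mk_mul, QuotientGroup.mk_inv]
    rw [hA (QuotientGroup.mk a), mul_assoc (QuotientGroup.mk b : Q ⧸ N), mul_inv_cancel, mul_one, mul_inv_cancel])
  have hcen : ∀ a b k : Q, k * cm a b = cm a b * k := fun a b k => by
    obtain ⟨t, ht⟩ := hcm a b
    rw [← ht]; exact central hgen h4 S _ k
  rcases abelian_cases hgen h4 S' hA with hel | ⟨L, hL, hLm, hLρ, hLk⟩
  swap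
  · left
    refine abelian_of_rank_one hgen h4 S hcm (fun a => L (QuotientGroup.mk a)) ?_ ?_ ?_ ?_
    · exact hL.comp QuotientGroup.mk_surjective
    · exact fun a b => by rw [QuotientGroup.mk_mul, hLm]
    · exact fun a => by rw [← hρ', hLρ]
    · intro a a' h b
      obtain ⟨v, hv⟩ := hLk (QuotientGroup.mk (a⁻¹ * a')) (by
        rw [QuotientGroup.mk_mul, hLm, QuotientGroup.mk_inv, add_inv L hLm, h, CharTwo.add_self_eq_zero])
      obtain ⟨w, rfl⟩ := QuotientGroup.mk_surjective v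
      obtain ⟨t, ht⟩ := (hmk ((w * w)⁻¹ * (a⁻¹ * a'))).1 (by
        rw [QuotientGroup.mk_mul, QuotientGroup.mk_inv, QuotientGroup.mk_mul, hv, inv_mul_cancel])
      have e : a' = a * ((w * w) * cC t) := by rw [ht]; group
      have e1 : cm (cC t) b = 1 := cm_one_of_comm (central hgen h4 S t b).symm
      have e2 : cm (w * w) b = 1 := by
        rw [cm_mul_l (hcen _ _)]
        obtain ⟨s, hs⟩ := hcm w b
        rw [← hs, cC_sq hgen h4 S]
      rw [e, cm_mul_l (hcen _ _), cm_mul_l (hcen _ _), e1, e2, one_mul, one_mul]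
  obtain ⟨c', hc'⟩ := coord_fun hgen h4 S'
  obtain ⟨r, hr⟩ := exists_sqrtFun (F := F)
  have hinvol : ∀ v, α' (v * α' v) = v * α' v := fun v => by rw [map_mul, S'.alpha_sq, hA]
  let T : Q ⧸ N → F := fun v => c' (v * α' v)
  have hT : ∀ v, cC' (T v) = v * α' v := fun v => hc' _ (hinvol v)
  have hTm : ∀ v w, T (v * w) = T v + T w := fun v w => S'.inj (by
    rw [S'.add, hT, hT, hT, map_mul, mul_assoc v, ← mul_assoc w, hA w (α' v)]
    group)
  have hTα : ∀ v, T (α' v) = T v := fun v => S'.inj (by rw [hT, hT, S'.alpha_sq, hA])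
  have hTρ : ∀ v, T (ρ' v) = μ ^ 2 * T v := fun v => S'.inj (by
    rw [hT, ← S'.rho, hT, map_mul, S'.comm])
  have hTc : ∀ t, T (cC' t) = 0 := fun t => S'.inj (by
    rw [hT, alpha_cC hgen h4 S', cC_sq hgen h4 S', cC_zero hgen h4 S'])
  by_cases hT0 : ∀ v, T v = 0
  · left
    have hall : ∀ v, α' v = v := fun v => by
      have h := hT v
      rw [hT0, cC_zero hgen h4 S'] at h
      exact mul_left_cancel (h.symm.trans (hel v).symm)
    refine abelian_of_rank_one hgen h4 S hcm (fun a => r (c' (QuotientGroup.mk a))) ?_ ?_ ?_ ?_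
    · intro x
      obtain ⟨a, ha⟩ := QuotientGroup.mk_surjective (cC' (x ^ 2))
      refine ⟨a, sq_inj ?_⟩
      show r (c' (QuotientGroup.mk a)) ^ 2 = x ^ 2
      rw [hr]
      exact S'.inj (by rw [hc' _ (hall _), ha])
    · intro a b
      rw [← sqrt_add hr]
      congr 1
      exact S'.inj (by rw [S'.add, hc' _ (hall _), hc' _ (hall _), hc' _ (hall _), QuotientGroup.mk_mul])
    · intro a
      rw [← sqrt_scale hr]
      congr 1
      exact S'.inj (by rw [← S'.rho, hc' _ (hall _), hc' _ (hall _), hρ'])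
    · intro a a' h b
      have e : (QuotientGroup.mk a : Q ⧸ N) = QuotientGroup.mk a' := by
        rw [← hc' _ (hall (QuotientGroup.mk a)), ← hc' _ (hall (QuotientGroup.mk a'))]
        congr 1
        rw [← hr (c' _), h, hr]
      obtain ⟨t, ht⟩ := (hmk (a⁻¹ * a')).1 (by rw [QuotientGroup.mk_mul, QuotientGroup.mk_inv, e, inv_mul_cancel])
      rw [show a' = a * cC t by rw [ht, mul_inv_cancel_left], cm_mul_l (hcen _ _),
        cm_one_of_comm (central hgen h4 S t b).symm, one_mul]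
  push Not at hT0
  obtain ⟨v₀, hv₀⟩ := hT0
  have hTsurj : ∀ y, ∃ v, T v = y := by
    intro y
    let R : Subgroup (Q ⧸ N) :=
      { carrier := {w | ∃ v, cC' (T v) = w}
        one_mem' := ⟨1, by rw [hT, map_one, one_mul]⟩
        mul_mem' := by rintro _ _ ⟨a, rfl⟩ ⟨b, rfl⟩; exact ⟨a * b, by rw [hTm, S'.add]⟩
        inv_mem' := by rintro _ ⟨a, rfl⟩; exact ⟨a, (inv_eq_of_mul_eq_one_right (cC_sq hgen h4 S' _)).symm⟩ }
    obtain ⟨v, hv⟩ := le_of_invariant hgen h4 S' R
      (fun h => hv₀ (S'.inj ((Subgroup.mem_bot.1 (h ▸ ⟨v₀, rfl⟩)).trans (cC_zero hgen h4 S').symm)))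
      (by rintro _ ⟨a, rfl⟩; exact ⟨a, (alpha_cC hgen h4 S' _).symm⟩)
      (by rintro _ ⟨a, rfl⟩; exact ⟨ρ' a, by rw [hTρ, S'.rho]⟩) y
    exact ⟨v, S'.inj hv⟩
  obtain ⟨p, hpm, hpc, hpρ⟩ := exists_proj hel ρ' S'.period (mu_ne_zero hgen h4) cC' S'.inj S'.add S'.rho
  refine elementary_step hgen h4 S (fun a => r (p (QuotientGroup.mk a))) (fun a => r (T (QuotientGroup.mk a)))
    (fun a b => by rw [QuotientGroup.mk_mul, hpm, sqrt_add hr]) (fun a b => by rw [QuotientGroup.mk_mul, hTm, sqrt_add hr])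
    ?_ ?_ (fun a => by rw [← hρ', hpρ, sqrt_scale hr]) (fun a => by rw [← hρ', hTρ, sqrt_scale hr]) ?_
    (fun a => by rw [← hα', hTα])
  · intro x y
    obtain ⟨v, hv⟩ := hTsurj (y ^ 2)
    obtain ⟨a, ha⟩ := QuotientGroup.mk_surjective (v * cC' (x ^ 2 + p v))
    refine ⟨a, sq_inj ?_, sq_inj ?_⟩
    · show r (p (QuotientGroup.mk a)) ^ 2 = x ^ 2
      rw [hr, ha, hpm, hpc, add_comm (x ^ 2), ← add_assoc, CharTwo.add_self_eq_zero, zero_add]
    · show r (T (QuotientGroup.mk a)) ^ 2 = y ^ 2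
      rw [hr, ha, hTm, hTc, add_zero, hv]
  · intro a
    rw [← hmk]
    constructor
    · rintro ⟨h1, h2⟩
      have h1' : p (QuotientGroup.mk a) = 0 := by rw [← hr (p _), h1]; ring
      have h2' : T (QuotientGroup.mk a) = 0 := by rw [← hr (T _), h2]; ring
      have h := hT (QuotientGroup.mk a)
      rw [h2', cC_zero hgen h4 S'] at h
      obtain ⟨t, ht⟩ := (S'.fixed _).1 (mul_left_cancel (h.symm.trans (hel (QuotientGroup.mk a)).symm))
      rw [← ht, hpc] at h1'
      rw [← ht, h1', cC_zero hgen h4 S']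
    · intro h
      have h0 : r 0 = 0 := sq_inj (by rw [hr]; ring)
      constructor
      · rw [h, ← cC_zero hgen h4 S', hpc, h0]
      · rw [h, ← cC_zero hgen h4 S', hTc, h0]
  · intro a
    rw [← sqrt_add hr, ← hα']
    congr 1
    have e : α' (QuotientGroup.mk a) = QuotientGroup.mk a * cC' (T (QuotientGroup.mk a)) := by
      rw [hT, ← mul_assoc, hel, one_mul]
    rw [e, hpm, hpc]

/-- The quotient is never of the non-abelian type. -/
theorem step_nonabelian {N : Subgroup Q} [N.Normal] {α' ρ' : MulAut (Q ⧸ N)} {cD : F → Q ⧸ N}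
    {px py : Q ⧸ N → F} {β : F}
    (hα' : ∀ a, α' (QuotientGroup.mk a) = QuotientGroup.mk (α a))
    (hρ' : ∀ a, ρ' (QuotientGroup.mk a) = QuotientGroup.mk (ρ a))
    (hmk : ∀ a : Q, (QuotientGroup.mk a : Q ⧸ N) = 1 ↔ ∃ t, cC t = a) (K : Coord α' ρ' μ cD px py β) :
    False := by
  classical
  have S' := K.setup
  obtain ⟨c, hc⟩ := coord_fun hgen h4 S
  obtain ⟨c', hc'⟩ := coord_fun hgen h4 S'
  obtain ⟨r, hr⟩ := exists_sqrtFun (F := F)
  have hcD' : ∀ t, c' (cD t) = t := fun t => S'.inj (hc' _ (alpha_cC hgen h4 S' t))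
  have hk0 : ∀ a : Q, px (QuotientGroup.mk a) = 0 → py (QuotientGroup.mk a) = 0 →
      ∃ t, cD t = QuotientGroup.mk a := fun a h h' => (K.ker _).1 ⟨h, h'⟩
  let IsD : Q → Prop := fun a => ∃ t, cD t = QuotientGroup.mk a
  have hDsq : ∀ a, IsD a → ∃ t, cC t = a * a := fun a ⟨t, ht⟩ => (hmk _).1 (by
    rw [QuotientGroup.mk_mul, ← ht, cC_sq hgen h4 S'])
  have hDcm : ∀ a, IsD a → ∀ b, ∃ t, cC t = cm a b := fun a ⟨t, ht⟩ b => (hmk _).1 (by
    unfold cm
    simp only [QuotientGroup.mk_mul, QuotientGroup.mk_inv, ← ht]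
    rw [← central hgen h4 S' t, mul_assoc (QuotientGroup.mk b : Q ⧸ N), mul_inv_cancel, mul_one, mul_inv_cancel])
  have hDcen : ∀ a, IsD a → ∀ b k : Q, k * cm a b = cm a b * k := fun a ha b k => by
    obtain ⟨t, ht⟩ := hDcm a ha b
    rw [← ht]; exact central hgen h4 S t k
  have hDmul : ∀ a b, IsD a → IsD b → IsD (a * b) := fun a b ⟨s, hs⟩ ⟨t, ht⟩ =>
    ⟨s + t, by rw [QuotientGroup.mk_mul, ← hs, ← ht, S'.add]⟩
  choose d hd using fun z : F => QuotientGroup.mk_surjective (s := N) (cD (z ^ 2))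
  have hdD : ∀ z, IsD (d z) := fun z => ⟨z ^ 2, (hd z).symm⟩
  -- commutators of `d z` only depend on the class of `d z`
  have hcls : ∀ a, IsD a → ∀ z, cD (z ^ 2) = QuotientGroup.mk a → ∀ b, cm a b = cm (d z) b := by
    intro a ha z hz b
    obtain ⟨t, ht⟩ := (hmk ((d z)⁻¹ * a)).1 (by rw [QuotientGroup.mk_mul, QuotientGroup.mk_inv, hd, ← hz, inv_mul_cancel])
    rw [show a = d z * cC t by rw [ht, mul_inv_cancel_left], cm_mul_l (fun k => ?_),
      cm_one_of_comm (central hgen h4 S t b).symm, one_mul]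
    rw [cm_one_of_comm (central hgen h4 S t b).symm, mul_one, one_mul]
  have hdadd : ∀ z z' b, cm (d (z + z')) b = cm (d z') b * cm (d z) b := by
    intro z z' b
    rw [← hcls (d z * d z') (hDmul _ _ (hdD z) (hdD z')) (z + z') (by
      rw [QuotientGroup.mk_mul, hd, hd, CharTwo.add_sq, S'.add]) b, cm_mul_l (hDcen _ (hdD z') b)]
  have hdρ : ∀ z b, cm (d (μ * z)) b = cm (ρ (d z)) b := fun z b => by
    rw [hcls (ρ (d z)) ⟨μ ^ 2 * z ^ 2, by rw [← hρ', hd, S'.rho]⟩ (μ * z) (by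
      rw [mul_pow, ← S'.rho, ← hρ', hd])]
  -- `D` is abelian
  choose h hh using fun z b => hDcm (d z) (hdD z) b
  have hhl : ∀ z z' b, h (z + z') b = h z b + h z' b := fun z z' b => S.inj (by
    rw [hh, hdadd, ← hh, ← hh, ← S.add, add_comm])
  have hhr : ∀ z a b, h z (a * b) = h z a + h z b := fun z a b => S.inj (by
    rw [hh, S.add, hh, hh, cm_mul_r (hDcen _ (hdD z) b)])
  have hhρ : ∀ z b, h (μ * z) (ρ b) = μ ^ 2 * h z b := fun z b => S.inj (by
    rw [hh, hdρ, ← S.rho, hh, CfsgLib.InvCharSixtyFour.cm_map])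
  have hhinv : ∀ z z', h z (d z') = h z' (d z) := fun z z' => S.inj (by
    rw [hh, hh, show cm (d z) (d z') = (cm (d z') (d z))⁻¹ by unfold cm; group, ← hh,
      inv_eq_of_mul_eq_one_right (cC_sq hgen h4 S _)])
  have hDD0 : ∀ z z', h z (d z') = 0 := by
    refine alt_eq_zero hgen (fun z z' => h z (d z')) (fun z z' y => hhl z z' _)
      (fun z y y' => by rw [hhinv, hhl, hhinv, hhinv y']) (fun z y => ?_) (fun z => ?_)
    · apply S.inj
      rw [hh, hdρ, show cm (ρ (d z)) (d (μ * y)) = (cm (d (μ * y)) (ρ (d z)))⁻¹ by unfold cm; group, hdρ,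
        show (cm (ρ (d y)) (ρ (d z)))⁻¹ = ρ (cm (d z) (d y)) by simp [cm, mul_assoc], ← hh, S.rho]
    · exact S.inj (by rw [hh, cm_self, cC_zero hgen h4 S])
  have hDab : ∀ a, IsD a → ∀ z, h z a = 0 := by
    intro a ha z
    obtain ⟨t, ht⟩ := ha
    obtain ⟨u, hu⟩ := (hmk ((d (r t))⁻¹ * a)).1 (by
      rw [QuotientGroup.mk_mul, QuotientGroup.mk_inv, hd, hr, ← ht, inv_mul_cancel])
    rw [show a = d (r t) * cC u by rw [hu, mul_inv_cancel_left], hhr, hDD0, zero_add]
    exact S.inj (by rw [hh, cm_one_of_comm (central hgen h4 S u (d z)), cC_zero hgen h4 S])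
  -- `D` is central
  choose X hX hX' using fun x => K.surj x 0
  choose Y hY hY' using fun y => K.surj 0 y
  choose X₁ hX₁ using fun x => QuotientGroup.mk_surjective (X x)
  choose Y₁ hY₁ using fun y => QuotientGroup.mk_surjective (Y y)
  have hhcls : ∀ a b : Q, px (QuotientGroup.mk a) = px (QuotientGroup.mk b) →
      py (QuotientGroup.mk a) = py (QuotientGroup.mk b) → ∀ z, h z a = h z b := by
    intro a b hx hy z
    have h' := hhr z a (a⁻¹ * b)
    rw [mul_inv_cancel_left, hDab (a⁻¹ * b) (hk0 _ (by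
      rw [QuotientGroup.mk_mul, K.px_mul, QuotientGroup.mk_inv, add_inv px K.px_mul, hx, CharTwo.add_self_eq_zero])
      (by rw [QuotientGroup.mk_mul, K.py_mul, QuotientGroup.mk_inv, add_inv py K.py_mul, hy, CharTwo.add_self_eq_zero]))] at h'
    rw [h', add_zero]
  have hBX : ∀ z x, h z (X₁ x) = h 1 (X₁ 1) * (z * x) := by
    refine biadd_eq_mul_of_gen μ hgen (fun z x => h z (X₁ x)) (fun z z' x => hhl z z' _) (fun z x x' => ?_)
      (fun z x => ?_)
    · rw [← hhr]
      exact hhcls _ _ (by rw [QuotientGroup.mk_mul, K.px_mul, hX₁, hX₁, hX₁, hX, hX, hX])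
        (by rw [QuotientGroup.mk_mul, K.py_mul, hX₁, hX₁, hX₁, hX', hX', hX', add_zero]) z
    · rw [← hhρ]
      exact hhcls _ _ (by rw [← hρ', K.px_rho, hX₁, hX₁, hX, hX])
        (by rw [← hρ', K.py_rho, hX₁, hX₁, hX', hX', mul_zero]) _
  have hBY : ∀ z y, h z (Y₁ y) = h 1 (Y₁ 1) * (z * y) := by
    refine biadd_eq_mul_of_gen μ hgen (fun z y => h z (Y₁ y)) (fun z z' y => hhl z z' _) (fun z y y' => ?_)
      (fun z y => ?_)
    · rw [← hhr]
      exact hhcls _ _ (by rw [QuotientGroup.mk_mul, K.px_mul, hY₁, hY₁, hY₁, hY, hY, hY, add_zero])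
        (by rw [QuotientGroup.mk_mul, K.py_mul, hY₁, hY₁, hY₁, hY', hY', hY']) z
    · rw [← hhρ]
      exact hhcls _ _ (by rw [← hρ', K.px_rho, hY₁, hY₁, hY, hY, mul_zero])
        (by rw [← hρ', K.py_rho, hY₁, hY₁, hY', hY']) _
  set k₁ := h 1 (X₁ 1)
  set k₂ := h 1 (Y₁ 1)
  have hh2 : ∀ z a, h z a = k₁ * (z * px (QuotientGroup.mk a)) + k₂ * (z * py (QuotientGroup.mk a)) := by
    intro z a
    rw [← hBX, ← hBY, ← hhr]
    exact hhcls _ _ (by rw [QuotientGroup.mk_mul, K.px_mul, hX₁, hY₁, hX, hY, add_zero])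
      (by rw [QuotientGroup.mk_mul, K.py_mul, hX₁, hY₁, hX', hY', zero_add]) z
  have hk1 : k₁ = 0 := by
    have e : h 1 (α (Y₁ 1)) = h 1 (Y₁ 1) := by
      apply S.inj
      conv_rhs => rw [← alpha_cC hgen h4 S (h 1 (Y₁ 1))]
      rw [hh, hh, CfsgLib.InvCharSixtyFour.cm_map]
      exact (hcls (α (d 1)) ⟨1 ^ 2, by rw [← hα', hd, alpha_cC hgen h4 S']⟩ 1
        (by rw [← hα', hd, alpha_cC hgen h4 S']) _).symm
    rw [hh2, hh2, ← hα', K.px_alpha, K.py_alpha, hY₁, hY, hY'] at e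
    linear_combination e
  obtain ⟨s, hs⟩ : ∃ s : F, s ^ 2 + s * 1 + β * 1 ^ 2 ≠ 0 := by
    by_contra! hall
    have h0 := hall 0
    obtain ⟨t, -, ht⟩ := Finset.exists_mem_notMem_of_card_lt_card (s := ({0, 1} : Finset F))
      (t := Finset.univ) (by rw [Finset.card_univ, Finset.card_pair zero_ne_one]; omega)
    simp only [Finset.mem_insert, Finset.mem_singleton, not_or] at ht
    have h1 : t * (t + 1) = 0 := by linear_combination hall t - h0
    exact (mul_ne_zero ht.1 (fun h => ht.2 (CharTwo.add_eq_zero.1 h))) h1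
  have hk2 : k₂ = 0 := by
    obtain ⟨v, hvx, hvy⟩ := K.surj s 1
    obtain ⟨a, rfl⟩ := QuotientGroup.mk_surjective v
    have hsq : cD ((r (s ^ 2 + s * 1 + β * 1 ^ 2)) ^ 2) = QuotientGroup.mk (a * a) := by
      rw [hr, QuotientGroup.mk_mul, K.sq, hvx, hvy]
    have e : h (r (s ^ 2 + s * 1 + β * 1 ^ 2)) a = 0 := S.inj (by
      rw [hh, ← hcls (a * a) ⟨_, hsq⟩ _ hsq, cm_one_of_comm (mul_assoc a a a), cC_zero hgen h4 S])
    rw [hh2, hk1, hvy, zero_mul, zero_add, mul_one, mul_eq_zero] at e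
    exact e.resolve_right (fun h0 => hs (by rw [← hr (s ^ 2 + s * 1 + β * 1 ^ 2), h0]; ring))
  have hDZ : ∀ a, IsD a → ∀ b, b * a = a * b := by
    intro a ha b
    obtain ⟨t, ht⟩ := ha
    refine (comm_of_cm_one ?_).symm
    rw [hcls a ⟨t, ht⟩ (r t) (by rw [hr, ht]), ← hh, hh2, hk1, hk2, zero_mul, zero_mul, add_zero,
      cC_zero hgen h4 S]
  -- all commutators
  have hcmD : ∀ a b : Q, IsD (cm a b) := fun a b => hk0 _ (by
      unfold cm
      simp only [QuotientGroup.mk_mul, QuotientGroup.mk_inv, K.px_mul, add_inv px K.px_mul]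
      linear_combination (px (QuotientGroup.mk a) + px (QuotientGroup.mk b)) * CharTwo.two_eq_zero (R := F))
    (by
      unfold cm
      simp only [QuotientGroup.mk_mul, QuotientGroup.mk_inv, K.py_mul, add_inv py K.py_mul]
      linear_combination (py (QuotientGroup.mk a) + py (QuotientGroup.mk b)) * CharTwo.two_eq_zero (R := F))
  have hsqD : ∀ a : Q, IsD (a * a) := fun a => ⟨_, by rw [QuotientGroup.mk_mul, K.sq]⟩
  have hcen : ∀ a b k : Q, k * cm a b = cm a b * k := fun a b k => hDZ _ (hcmD a b) k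
  let M : Subgroup Q := Subgroup.closure (Set.range fun x : Q × Q => cm x.1 x.2)
  have hgenM : ∀ a b, cm a b ∈ M := fun a b => Subgroup.subset_closure ⟨(a, b), rfl⟩
  have hME : ∀ m ∈ M, IsD m ∧ m * m = 1 := by
    intro m hm
    induction hm using Subgroup.closure_induction with
    | mem m hm =>
      obtain ⟨⟨a, b⟩, rfl⟩ := hm
      refine ⟨hcmD a b, ?_⟩
      show cm a b * cm a b = 1
      rw [← cm_mul_l (hcen _ _)]
      exact cm_one_of_comm (hDZ _ (hsqD a) b).symm
    | one => exact ⟨⟨0, by rw [QuotientGroup.mk_one, cC_zero hgen h4 S']⟩, mul_one 1⟩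
    | mul a b _ _ ha hb =>
      refine ⟨hDmul a b ha.1 hb.1, ?_⟩
      rw [mul_assoc a, ← mul_assoc b, hDZ a ha.1 b, mul_assoc a b b, hb.2, mul_one, ha.2]
    | inv a _ ha => rw [inv_eq_of_mul_eq_one_right ha.2]; exact ha
  have hMinv : ∀ φ : MulAut Q, ∀ m ∈ M, φ m ∈ M := by
    intro φ m hm
    induction hm using Subgroup.closure_induction with
    | mem m hm =>
      obtain ⟨⟨a, b⟩, rfl⟩ := hm
      show φ (cm a b) ∈ M
      rw [CfsgLib.InvCharSixtyFour.cm_map]; exact hgenM _ _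
    | one => rw [map_one]; exact one_mem M
    | mul a b _ _ ha hb => rw [map_mul]; exact mul_mem ha hb
    | inv a _ ha => rw [map_inv]; exact inv_mem ha
  have hne : ∃ a b : Q, (QuotientGroup.mk (cm a b) : Q ⧸ N) ≠ 1 := by
    by_contra! hall
    obtain ⟨a, ha⟩ := QuotientGroup.mk_surjective (X 1)
    obtain ⟨b, hb⟩ := QuotientGroup.mk_surjective (Y 1)
    have e : cm (QuotientGroup.mk b : Q ⧸ N) (QuotientGroup.mk a) = 1 := hall b a
    have e2 := sq_mul_central (a := (QuotientGroup.mk a : Q ⧸ N)) (b := QuotientGroup.mk b)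
      (fun k => by rw [e, mul_one, one_mul])
    rw [e, one_mul, K.sq, K.sq, K.sq, ← S'.add, K.px_mul, K.py_mul, ha, hb, hX, hY, hX', hY'] at e2
    exact one_ne_zero (α := F) (by linear_combination S'.inj e2)
  have hMC : ∀ t, cC t ∈ M := by
    refine le_of_invariant hgen h4 S M ?_ (hMinv α) (hMinv ρ)
    intro h
    obtain ⟨a, b, hab⟩ := hne
    have := hgenM a b
    rw [h, Subgroup.mem_bot] at this
    exact hab (by rw [this, QuotientGroup.mk_one])
  let σ : MulAut M := MulEquiv.ofBijective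
    (MonoidHom.mk' (fun m : M => (⟨ρ m, hMinv ρ m m.2⟩ : M)) fun a b => Subtype.ext (map_mul ρ (a : Q) b))
    (Finite.injective_iff_bijective.1 fun a b h => Subtype.ext (ρ.injective (congrArg Subtype.val h)))
  have hσ : ∀ k (m : M), ((σ ^ k) m : Q) = (ρ ^ k) m := by
    intro k
    induction k with
    | zero => intro m; rfl
    | succ k ih => intro m; rw [pow_succ', pow_succ', MulAut.mul_apply, MulAut.mul_apply, ← ih]; rfl
  obtain ⟨p, hpm, hpc, hpρ⟩ := exists_proj (A := M) (fun m => Subtype.ext (hME m m.2).2) σ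
    (fun m => Subtype.ext (by rw [hσ, S.period])) (mu_ne_zero hgen h4) (fun t => ⟨cC t, hMC t⟩)
    (fun s t h => S.inj (congrArg Subtype.val h)) (fun s t => Subtype.ext (S.add s t)) (fun t => Subtype.ext (S.rho t))
  have hMfix : ∀ m ∈ M, α' (QuotientGroup.mk m) = QuotientGroup.mk m := fun m hm => by
    obtain ⟨t, ht⟩ := (hME m hm).1
    rw [← ht, alpha_cC hgen h4 S']
  let g : Q → F := fun m => c' (QuotientGroup.mk m)
  have hgm : ∀ a ∈ M, ∀ b ∈ M, g (a * b) = g a + g b := fun a ha b hb => S'.inj (by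
    rw [S'.add, hc' _ (hMfix a ha), hc' _ (hMfix b hb), hc' _ (hMfix _ (mul_mem ha hb)), QuotientGroup.mk_mul])
  let PX : Q → F := fun a => px (QuotientGroup.mk a)
  let PY : Q → F := fun a => py (QuotientGroup.mk a)
  have hform : ∀ φ : M → F, (∀ a b, φ (a * b) = φ a + φ b) → (∀ m, φ (σ m) = μ ^ 2 * φ m) →
      ∃ k, ∀ a b, φ ⟨cm a b, hgenM a b⟩ = k * (PX a * PY b + PY a * PX b) := by
    intro φ hφ hφρ
    have hφ1 : φ 1 = 0 := by have := hφ 1 1; rw [mul_one] at this; exact left_eq_add.1 this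
    refine form_eq (ρ := ρ) hgen PX PY (fun a b => by simp only [PX, QuotientGroup.mk_mul, K.px_mul])
      (fun a b => by simp only [PY, QuotientGroup.mk_mul, K.py_mul]) ?_ (fun a => by simp only [PX, ← hρ', K.px_rho])
      (fun a => by simp only [PY, ← hρ', K.py_rho]) _ ?_ ?_ ?_ ?_ ?_
    · intro x y
      obtain ⟨v, hv⟩ := K.surj x y
      obtain ⟨a, rfl⟩ := QuotientGroup.mk_surjective v
      exact ⟨a, hv⟩
    · intro a a' b
      rw [← hφ]; congr 1; apply Subtype.ext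
      show cm (a * a') b = cm a b * cm a' b
      rw [cm_mul_l (hcen _ _), hcen]
    · intro a b b'
      rw [← hφ]; congr 1; apply Subtype.ext
      exact cm_mul_r (hcen _ _)
    · intro a hx hy b
      rw [← hφ1]; congr 1; apply Subtype.ext
      exact cm_one_of_comm (hDZ a (hk0 a hx hy) b).symm
    · intro a
      rw [← hφ1]; congr 1; apply Subtype.ext
      exact cm_self a
    · intro a b
      rw [← hφρ]; congr 1; apply Subtype.ext
      exact (CfsgLib.InvCharSixtyFour.cm_map ρ a b).symm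
  obtain ⟨kp, hkp⟩ := hform p hpm hpρ
  obtain ⟨kg, hkg⟩ := hform (fun m => g m) (fun a b => hgm a a.2 b b.2) (fun m => S'.inj (by
    show cD (g (ρ m)) = cD (μ ^ 2 * g m)
    rw [← S'.rho, hc' _ (hMfix _ (hMinv ρ m m.2)), hc' _ (hMfix m m.2), hρ']))
  have hlin : ∀ m (hm : m ∈ M), kg * p ⟨m, hm⟩ = kp * g m := by
    intro m hm
    have hp1 : p 1 = 0 := by have := hpm 1 1; rw [mul_one] at this; exact left_eq_add.1 this
    induction hm using Subgroup.closure_induction with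
    | mem m hm =>
      obtain ⟨⟨a, b⟩, rfl⟩ := hm
      show kg * p ⟨cm a b, hgenM a b⟩ = kp * g (cm a b)
      rw [hkp, show g (cm a b) = _ from hkg a b]
      ring
    | one =>
      rw [show (⟨1, one_mem M⟩ : M) = 1 from rfl, hp1, show g 1 = 0 from ?_, mul_zero, mul_zero]
      show c' (QuotientGroup.mk 1) = 0
      rw [QuotientGroup.mk_one, ← cC_zero hgen h4 S', hcD']
    | mul a b ha hb iha ihb =>
      rw [show (⟨a * b, mul_mem ha hb⟩ : M) = ⟨a, ha⟩ * ⟨b, hb⟩ from rfl, hpm, hgm a ha b hb, mul_add, mul_add,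
        iha, ihb]
    | inv a ha iha =>
      have e := inv_eq_of_mul_eq_one_right (hME a ha).2
      rw [show (⟨a⁻¹, inv_mem ha⟩ : M) = ⟨a, ha⟩ from Subtype.ext e, e, iha]
  have hkg0 : kg = 0 := by
    have e := hlin _ (hMC 1)
    rw [hpc, show g (cC 1) = 0 from ?_, mul_one, mul_zero] at e
    · exact e
    show c' (QuotientGroup.mk (cC 1)) = 0
    rw [(hmk (cC 1)).2 ⟨1, rfl⟩, ← cC_zero hgen h4 S', hcD']
  obtain ⟨a, b, hab⟩ := hne
  refine hab ?_
  rw [← hc' _ (hMfix _ (hgenM a b)), show c' (QuotientGroup.mk (cm a b)) = _ from hkg a b, hkg0, zero_mul,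
    cC_zero hgen h4 S']

end Elementary

theorem classification_aux (hgen : ∀ t : F, t ≠ 0 → ∃ k : ℕ, μ ^ k = t) (h4 : 4 ≤ Fintype.card F) (m : ℕ) :
    ∀ (Q : Type u) [Group Q] [Finite Q] (α ρ : MulAut Q) (cC : F → Q), Nat.card Q ≤ m → Setup α ρ μ cC →
      (∀ a b : Q, a * b = b * a) ∨ ∃ cD px py β, Coord α ρ μ cD px py β := by
  induction m with
  | zero =>
    intro Q _ _ α ρ cC hm S
    exact absurd hm (by have := Nat.card_pos (α := Q); omega)
  | succ m ih =>
    intro Q _ _ α ρ cC hm S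
    rcases quotient_setup hgen h4 S with h | ⟨N, hN, α', ρ', cC', S', hα', hρ', hmk, hlt⟩
    · exact Or.inl h
    rcases ih (Q ⧸ N) α' ρ' cC' (by omega) S' with hA | ⟨cD, px, py, β, K⟩
    · exact step_abelian hgen h4 S S' hα' hρ' hmk hA
    · exact (step_nonabelian hgen h4 S hα' hρ' hmk K).elim

end CfsgLib.InvCharTransFix
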