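import Mathlib

/-!
# Auxiliary facts for 2-groups with an automorphism fixing a transitively permuted subgroup
-/

set_option autoImplicit false

namespace CfsgLib.InvCharTransFix

section Field

variable {F : Type*} [Field F] [CharP F 2] [Finite F]

/-- A biadditive map which is homogeneous of degree two for all scalars is a multiple of `x * y`. -/
theorem biadd_eq_mul (B : F → F → F) (hl : ∀ x x' y, B (x + x') y = B x y + B x' y)
    (hr : ∀ x y y', B x (y + y') = B x y + B x y') (hh : ∀ t x y, B (t * x) (t * y) = t ^ 2 * B x y) :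
    ∀ x y, B x y = B 1 1 * (x * y) := by
  let g : F → F := fun x => B x 1 + B 1 1 * x
  let h : F → F := fun y => B 1 y + B 1 1 * y
  have h2 : ∀ z : F, z + z = 0 := CharTwo.add_self_eq_zero
  have g0 : ∀ x x', g (x + x') = g x + g x' := fun x x' => by simp only [g, hl]; ring
  have h0 : ∀ x x', h (x + x') = h x + h x' := fun x x' => by simp only [h, hr]; ring
  have g1 : g 1 = 0 := by simp only [g, mul_one, h2]
  have h1 : h 1 = 0 := by simp only [h, mul_one, h2]
  have hzero : ∀ y : F, B 0 y = 0 := fun y => by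
    have := hl 0 0 y; rw [add_zero] at this; exact left_eq_add.1 this
  have hzero' : ∀ x : F, B x 0 = 0 := fun x => by
    have := hr x 0 0; rw [add_zero] at this; exact left_eq_add.1 this
  have key : ∀ y : F, y ≠ 0 → h y = y ^ 2 * g y⁻¹ := fun y hy => by
    have := hh y y⁻¹ 1
    rw [mul_inv_cancel₀ hy, mul_one] at this
    simp only [g, h, this]
    field_simp
  have hh0 : ∀ y : F, h (y ^ 2) = 0 := by
    intro y
    by_cases hy : y = 0
    · simp [h, hy, hzero']
    by_cases hy1 : y + 1 = 0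
    · have : y = 1 := by
        calc y = (y + 1) + 1 := by rw [add_assoc, h2, add_zero]
          _ = 1 := by rw [hy1, zero_add]
      simp [this, h1]
    have e1 := key y hy
    have e2 := key (y + 1) hy1
    rw [h0, h1, add_zero] at e2
    have hw : y * (y + 1) ≠ 0 := mul_ne_zero hy hy1
    have e3 := key (y * (y + 1)) hw
    have hsplit : (y * (y + 1))⁻¹ = y⁻¹ + (y + 1)⁻¹ := by
      field_simp
      linear_combination -(h2 y)
    rw [hsplit, g0, show y * (y + 1) = y ^ 2 + y by ring, h0] at e3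
    linear_combination e3 - (y + 1) ^ 2 * e1 - y ^ 2 * e2 + y * h y * h2 1 + y ^ 2 * h y * h2 1
  have hh1 : ∀ z : F, h z = 0 := fun z => by
    obtain ⟨r, hr⟩ := Finite.surjective_of_injective (frobenius_inj F 2) z
    rw [← hr, frobenius_def]
    exact hh0 r
  have hg1 : ∀ z : F, g z = 0 := fun z => by
    by_cases hz : z = 0
    · simp [g, hz, hzero]
    have := key z⁻¹ (inv_ne_zero hz)
    rw [hh1, inv_inv, eq_comm, mul_eq_zero] at this
    exact this.resolve_left (pow_ne_zero _ (inv_ne_zero hz))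
  intro x y
  by_cases hy : y = 0
  · rw [hy, hzero', mul_zero, mul_zero]
  have := hh y (x / y) 1
  rw [mul_div_cancel₀ _ hy, mul_one] at this
  have hgz : B (x / y) 1 + B 1 1 * (x / y) = 0 := hg1 (x / y)
  rw [this, CharTwo.add_eq_zero.1 hgz]
  field_simp

/-- The same with a generator of the multiplicative group. -/
theorem biadd_eq_mul_of_gen (μ : F) (hgen : ∀ t : F, t ≠ 0 → ∃ k : ℕ, μ ^ k = t) (B : F → F → F)
    (hl : ∀ x x' y, B (x + x') y = B x y + B x' y) (hr : ∀ x y y', B x (y + y') = B x y + B x y')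
    (hh : ∀ x y, B (μ * x) (μ * y) = μ ^ 2 * B x y) : ∀ x y, B x y = B 1 1 * (x * y) := by
  refine biadd_eq_mul B hl hr fun t x y => ?_
  by_cases ht : t = 0
  · have := hr 0 0 0; rw [add_zero] at this
    simp [ht, left_eq_add.1 this]
  obtain ⟨k, rfl⟩ := hgen t ht
  induction k generalizing x y with
  | zero => simp
  | succ k ih =>
    by_cases hμ : μ ^ k = 0
    · exact absurd (by rw [pow_succ, hμ, zero_mul]) ht
    rw [pow_succ, mul_assoc, mul_assoc, ih _ _ hμ, hh]
    ring

end Field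

/-- A section multiplying by the cocycle `β`. -/
theorem exists_section {V Z : Type*} [AddCommGroup V] [AddCommGroup Z] [Finite V]
    (hV : ∀ v : V, v + v = 0) (hZ : ∀ z : Z, z + z = 0) (β : V →+ V →+ Z)
    {K : Type*} [Group K] (ι : Z → K) (hιm : ∀ a b, ι (a + b) = ι a * ι b)
    (hιc : ∀ z g, g * ι z = ι z * g) (p : K → V) (hp : Function.Surjective p)
    (hpm : ∀ a b, p (a * b) = p a + p b) (hpz : ∀ z, p (ι z) = 0) (hsq : ∀ g, g * g = ι (β (p g) (p g))) :
    ∃ s : V → K, (∀ v, p (s v) = v) ∧ ∀ u v, s u * s v = s (u + v) * ι (β u v) := by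
  have hι0 : ι 0 = 1 := by
    have := hιm 0 0; rw [add_zero] at this; exact left_eq_mul.1 this
  have hp1 : p 1 = 0 := by
    have := hpm 1 1; rw [one_mul] at this; exact left_eq_add.1 this
  obtain ⟨W, hW, hWmax⟩ := (Set.toFinite {W : AddSubgroup V | ∃ s : V → K,
    (∀ v ∈ W, p (s v) = v) ∧ ∀ u ∈ W, ∀ v ∈ W, s u * s v = s (u + v) * ι (β u v)}).exists_maximal
    ⟨⊥, fun _ => 1, fun v hv => by rw [AddSubgroup.mem_bot] at hv; rw [hp1, hv],
      fun u hu v hv => by
        rw [AddSubgroup.mem_bot] at hu hv; simp [hu, hv, hι0]⟩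
  obtain ⟨s, hs1, hs2⟩ := hW
  suffices W = ⊤ by
    refine ⟨s, fun v => hs1 v (this ▸ AddSubgroup.mem_top v), fun u v =>
      hs2 u (this ▸ AddSubgroup.mem_top u) v (this ▸ AddSubgroup.mem_top v)⟩
  by_contra hne
  obtain ⟨e, -, he⟩ := SetLike.exists_of_lt (lt_top_iff_ne_top.2 hne)
  obtain ⟨g, hg⟩ := hp e
  classical
  let W' : AddSubgroup V :=
    { carrier := {v | v ∈ W ∨ v + e ∈ W}
      zero_mem' := Or.inl W.zero_mem
      add_mem' := by
        rintro a b (ha | ha) (hb | hb)
        · exact Or.inl (add_mem ha hb)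
        · right; rw [add_assoc]; exact add_mem ha hb
        · right; rw [add_right_comm]; exact add_mem ha hb
        · left
          have := add_mem ha hb
          rwa [add_add_add_comm, hV e, add_zero] at this
      neg_mem' := fun {a} ha => by rwa [neg_eq_of_add_eq_zero_left (hV a)] }
  let s' : V → K := fun v => if v ∈ W then s v else s (v + e) * g * ι (β (v + e) e)
  have hs'W : ∀ v ∈ W, s' v = s v := fun v hv => if_pos hv
  have hs'e : ∀ v ∈ W, s' (v + e) = s v * g * ι (β v e) := fun v hv => by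
    have hv' : v + e ∉ W := fun h => he (by
      have := add_mem hv h; rwa [← add_assoc, hV, zero_add] at this)
    rw [show s' (v + e) = s (v + e + e) * g * ι (β (v + e + e) e) from if_neg hv', add_assoc v, hV, add_zero]
  have hβneg : ∀ z : Z, ι z * ι z = 1 := fun z => by rw [← hιm, hZ, hι0]
  have hcm : ∀ a b : K, b * a = a * b * ι (β (p a) (p b) + β (p b) (p a)) := by
    intro a b
    have h := hsq (a * b)
    rw [hpm, map_add, map_add, AddMonoidHom.add_apply, AddMonoidHom.add_apply] at h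
    set u := p a
    set v := p b
    calc b * a = a⁻¹ * (a * b * (a * b)) * b⁻¹ := by group
      _ = a⁻¹ * ι (β u u + β v u + (β u v + β v v)) * b⁻¹ := by rw [h]
      _ = ι (β u v + β v u) * (a⁻¹ * (ι (β u u) * ι (β v v)) * b⁻¹) := by
        rw [show β u u + β v u + (β u v + β v v) = (β u v + β v u) + (β u u + β v v) by abel, hιm, hιm (β u u)]
        rw [← mul_assoc a⁻¹, hιc _ a⁻¹]; group
      _ = ι (β u v + β v u) * (a⁻¹ * (a * a * (b * b)) * b⁻¹) := by rw [hsq a, hsq b]
      _ = a * b * ι (β u v + β v u) := by rw [hιc]; group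
  have hW' : W' ≤ W := hWmax ⟨s', ?_, ?_⟩ (fun v hv => Or.inl hv)
  · exact he (hW' (Or.inr (by rw [hV]; exact W.zero_mem)))
  · intro v hv
    rcases hv with hv | hv
    · rw [hs'W v hv, hs1 v hv]
    · obtain ⟨w, hw, rfl⟩ : ∃ w ∈ W, v = w + e := ⟨v + e, hv, by rw [add_assoc, hV, add_zero]⟩
      rw [hs'e w hw, hpm, hpm, hs1 w hw, hg, show p (ι (β w e)) = 0 from ?_, add_zero]
      exact hpz _
  · intro u hu v hv
    obtain ⟨u₀, hu₀, i, rfl⟩ : ∃ u₀ ∈ W, ∃ i : Bool, u = u₀ + if i then e else 0 := by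
      rcases hu with hu | hu
      · exact ⟨u, hu, false, by simp⟩
      · exact ⟨u + e, hu, true, by simp [add_assoc, hV]⟩
    obtain ⟨v₀, hv₀, j, rfl⟩ : ∃ v₀ ∈ W, ∃ j : Bool, v = v₀ + if j then e else 0 := by
      rcases hv with hv | hv
      · exact ⟨v, hv, false, by simp⟩
      · exact ⟨v + e, hv, true, by simp [add_assoc, hV]⟩
    have hadd := add_mem hu₀ hv₀
    have hgs : g * s v₀ = s v₀ * g * ι (β v₀ e + β e v₀) := by
      rw [hcm (s v₀) g, hs1 v₀ hv₀, hg]
    have hss := hs2 u₀ hu₀ v₀ hv₀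
    have mc : ∀ (z : Z) (k l : K), k * (ι z * l) = ι z * (k * l) := fun z k l => by
      rw [← mul_assoc, hιc, mul_assoc]
    have hιzm : ∀ (a b : Z) (k : K), ι a * (ι b * k) = ι (a + b) * k := fun a b k => by
      rw [← mul_assoc, hιm]
    cases i <;> cases j
    · simp only [Bool.false_eq_true, if_false, add_zero]
      rw [hs'W _ hu₀, hs'W _ hv₀, hs'W _ hadd, hss]
    · simp only [Bool.false_eq_true, if_false, if_true, add_zero]
      rw [hs'W _ hu₀, hs'e _ hv₀, ← add_assoc, hs'e _ hadd, map_add (β u₀), ← mul_assoc, ← mul_assoc, hss,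
        mul_assoc (s (u₀ + v₀)) (ι _) g, ← hιc, ← mul_assoc]
      simp only [mul_assoc, ← hιm, map_add, AddMonoidHom.add_apply]
      congr 3
      calc β u₀ v₀ + β v₀ e = β u₀ v₀ + β v₀ e + (β u₀ e + β u₀ e) := by rw [hZ, add_zero]
        _ = _ := by abel
    · simp only [Bool.false_eq_true, if_false, if_true, add_zero]
      rw [hs'W _ hv₀, hs'e _ hu₀, add_right_comm, hs'e _ hadd,
        show s u₀ * g * ι (β u₀ e) * s v₀ = s u₀ * (g * s v₀) * ι (β u₀ e) by
          rw [mul_assoc _ (ι _), ← hιc (β u₀ e) (s v₀)]; group,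
        hgs, show s u₀ * (s v₀ * g * ι (β v₀ e + β e v₀)) * ι (β u₀ e) =
          s u₀ * s v₀ * g * (ι (β v₀ e + β e v₀) * ι (β u₀ e)) by group, hss,
        show s (u₀ + v₀) * ι (β u₀ v₀) * g = s (u₀ + v₀) * g * ι (β u₀ v₀) by
          rw [mul_assoc, ← hιc, ← mul_assoc]]
      simp only [mul_assoc, ← hιm, map_add, AddMonoidHom.add_apply]
      congr 3
      calc β u₀ v₀ + (β v₀ e + β e v₀ + β u₀ e) = β u₀ e + β v₀ e + (β u₀ v₀ + β e v₀) := by abel
        _ = _ := rfl
    · simp only [if_true]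
      rw [hs'e _ hu₀, hs'e _ hv₀, add_add_add_comm, hV, add_zero, hs'W _ hadd,
        show s u₀ * g * ι (β u₀ e) * (s v₀ * g * ι (β v₀ e)) =
          s u₀ * (g * s v₀) * g * (ι (β u₀ e) * ι (β v₀ e)) by
          rw [show s u₀ * g * ι (β u₀ e) * (s v₀ * g * ι (β v₀ e)) =
            s u₀ * g * (ι (β u₀ e) * (s v₀ * g)) * ι (β v₀ e) by group, ← hιc (β u₀ e) (s v₀ * g)]
          group,
        hgs, show s u₀ * (s v₀ * g * ι (β v₀ e + β e v₀)) * g =
          s u₀ * s v₀ * (g * (ι (β v₀ e + β e v₀) * g)) by group, ← hιc, ← mul_assoc g g, hsq g, hg, hss]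
      simp only [mul_assoc, ← hιm, map_add, AddMonoidHom.add_apply]
      congr 2
      have hzz := hZ (β v₀ e)
      calc β u₀ v₀ + (β e e + (β v₀ e + β e v₀)) + (β u₀ e + β v₀ e)
          = β u₀ v₀ + β u₀ e + (β e v₀ + β e e) + (β v₀ e + β v₀ e) := by abel
        _ = _ := by rw [hzz, add_zero]; abel

/-- The multiplication rule in coordinates. -/
theorem section_rule {V Z K : Type*} [AddCommGroup V] [AddCommGroup Z] [Group K] (β : V →+ V →+ Z)
    (ι : Z → K) (hm : ∀ a b, ι (a + b) = ι a * ι b) (hc : ∀ z g, g * ι z = ι z * g) (s : V → K)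
    (hs : ∀ u v, s u * s v = s (u + v) * ι (β u v)) (u v : V) (a b : Z) :
    s u * ι a * (s v * ι b) = s (u + v) * ι (β u v + a + b) := by
  rw [hm, hm]
  calc s u * ι a * (s v * ι b) = s u * (ι a * s v) * ι b := by group
    _ = s u * (s v * ι a) * ι b := by rw [← hc a (s v)]
    _ = (s u * s v) * (ι a * ι b) := by group
    _ = _ := by rw [hs]; group

/-- Groups with the same quadratic map on elementary quotient over elementary centre are isomorphic. -/
theorem nonempty_equiv_of_square {V Z : Type*} [AddCommGroup V] [AddCommGroup Z] [Finite V]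
    (hV : ∀ v : V, v + v = 0) (hZ : ∀ z : Z, z + z = 0) (β : V →+ V →+ Z)
    {G : Type*} [Group G] (ι : Z → G) (hι : Function.Injective ι) (hιm : ∀ a b, ι (a + b) = ι a * ι b)
    (hιc : ∀ z g, g * ι z = ι z * g) (p : G → V) (hp : Function.Surjective p)
    (hpm : ∀ a b, p (a * b) = p a + p b) (hpk : ∀ g, p g = 0 → ∃ z, ι z = g) (hpi : ∀ z, p (ι z) = 0)
    (hsq : ∀ g, g * g = ι (β (p g) (p g)))
    {G' : Type*} [Group G'] (ι' : Z → G') (hι' : Function.Injective ι') (hιm' : ∀ a b, ι' (a + b) = ι' a * ι' b)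
    (hιc' : ∀ z g, g * ι' z = ι' z * g) (p' : G' → V) (hp' : Function.Surjective p')
    (hpm' : ∀ a b, p' (a * b) = p' a + p' b) (hpk' : ∀ g, p' g = 0 → ∃ z, ι' z = g) (hpi' : ∀ z, p' (ι' z) = 0)
    (hsq' : ∀ g, g * g = ι' (β (p' g) (p' g))) :
    Nonempty (G ≃* G') := by
  obtain ⟨s, hs1, hs2⟩ := exists_section hV hZ β ι hιm hιc p hp hpm hpi hsq
  obtain ⟨s', hs1', hs2'⟩ := exists_section hV hZ β ι' hιm' hιc' p' hp' hpm' hpi' hsq'
  have hdec : ∀ g, ∃ z, g = s (p g) * ι z := fun g => by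
    obtain ⟨z, hz⟩ := hpk ((s (p g))⁻¹ * g) (by
      have h := hpm (s (p g)) ((s (p g))⁻¹ * g)
      rw [mul_inv_cancel_left, hs1] at h
      exact left_eq_add.1 h)
    exact ⟨z, by rw [hz, mul_inv_cancel_left]⟩
  choose c hc using hdec
  let f : G → G' := fun g => s' (p g) * ι' (c g)
  have hf : ∀ a b, f (a * b) = f a * f b := by
    intro a b
    have hcab : c (a * b) = β (p a) (p b) + c a + c b := by
      apply hι
      refine mul_left_cancel (a := s (p (a * b))) ?_
      rw [← hc, hpm, ← section_rule β ι hιm hιc s hs2, ← hc, ← hc]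
    show s' (p (a * b)) * ι' (c (a * b)) = s' (p a) * ι' (c a) * (s' (p b) * ι' (c b))
    rw [section_rule β ι' hιm' hιc' s' hs2', hpm, hcab]
  refine ⟨MulEquiv.ofBijective (MonoidHom.mk' f hf) ⟨?_, ?_⟩⟩
  · intro a b (h : s' (p a) * ι' (c a) = s' (p b) * ι' (c b))
    have hab : p a = p b := by
      have h' := congrArg p' h
      rwa [hpm', hpm', hs1', hs1', hpi', hpi', add_zero, add_zero] at h'
    rw [hab] at h
    rw [hc a, hc b, hab, hι' (mul_left_cancel h)]
  · intro g'
    obtain ⟨z, hz⟩ := hpk' ((s' (p' g'))⁻¹ * g') (by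
      have h := hpm' (s' (p' g')) ((s' (p' g'))⁻¹ * g')
      rw [mul_inv_cancel_left, hs1'] at h
      exact left_eq_add.1 h)
    refine ⟨s (p' g') * ι z, ?_⟩
    show s' (p (s (p' g') * ι z)) * ι' (c (s (p' g') * ι z)) = g'
    have hp0 : p (s (p' g') * ι z) = p' g' := by rw [hpm, hs1, hpi, add_zero]
    have hc0 : c (s (p' g') * ι z) = z := by
      have h := hc (s (p' g') * ι z)
      rw [hp0] at h
      exact (hι (mul_left_cancel h)).symm
    rw [hp0, hc0, hz, mul_inv_cancel_left]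

end CfsgLib.InvCharTransFix
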