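import Mathlib
import Cfsg.Agent.Lib.InvChar.TransitiveFixed
import Cfsg.Agent.Lib.InvChar.SylowThree

/-!
# The two models: unitriangular and hermitian groups
-/

set_option autoImplicit false

namespace CfsgLib.InvCharTransFix

open CfsgLib.InvCharThree

universe u v

/-- The field of a transitive cyclic group of automorphisms of an elementary abelian 2-group. -/
theorem exists_field {Q : Type u} [Group Q] (ρ : MulAut Q) (C : Subgroup Q) (n : ℕ) (hn : 2 ≤ n)
    (hab : IsMulCommutative C) (h2 : ∀ a ∈ C, a ^ 2 = 1) (hcard : Nat.card C = 2 ^ n)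
    (hinv : ∀ a ∈ C, ρ a ∈ C)
    (htr : ∀ x y : Q, x ∈ C → y ∈ C → x ≠ 1 → y ≠ 1 → ∃ k : ℕ, (ρ ^ k) x = y) :
    ∃ (μ : GaloisField 2 n) (cC : GaloisField 2 n → Q), Function.Injective cC ∧
      (∀ s t, cC (s + t) = cC s * cC t) ∧ (∀ a, a ∈ C ↔ ∃ t, cC t = a) ∧
      (∀ t, ρ (cC t) = cC (μ ^ 2 * t)) ∧ ∀ t, t ≠ 0 → ∃ k : ℕ, μ ^ k = t := by
  classical
  have : Finite C := Nat.finite_of_card_ne_zero (by rw [hcard]; positivity)
  let _ : CommGroup C := { (inferInstance : Group C) with mul_comm := fun a b => hab.is_comm.comm a b }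
  let V := Additive C
  let R : AddMonoid.End V := AddMonoidHom.mk' (fun a => Additive.ofMul ⟨ρ a.toMul.1, hinv _ a.toMul.2⟩)
    (fun a b => congrArg Additive.ofMul (Subtype.ext (map_mul ρ a.toMul.1 b.toMul.1)))
  have hRk : ∀ (k : ℕ) (a : V), (((R ^ k) a).toMul : Q) = (ρ ^ k) a.toMul.1 := by
    intro k
    induction k with
    | zero => intro a; rfl
    | succ k ih =>
      intro a
      rw [pow_succ', pow_succ', MulAut.mul_apply, ← ih]
      rfl
  have hV1 : ∀ a : V, a ≠ 0 → (a.toMul : Q) ≠ 1 := fun a ha h => ha (congrArg Additive.ofMul (Subtype.ext h : a.toMul = 1))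
  have htrV : ∀ a b : V, a ≠ 0 → b ≠ 0 → ∃ k, (R ^ k) a = b := by
    intro a b ha hb
    obtain ⟨k, hk⟩ := htr a.toMul.1 b.toMul.1 a.toMul.2 b.toMul.2 (hV1 a ha) (hV1 b hb)
    exact ⟨k, congrArg Additive.ofMul (Subtype.ext ((hRk k a).trans hk))⟩
  have hnt : Nontrivial V := by
    have : Nontrivial C := Finite.one_lt_card_iff_nontrivial.1 (by rw [hcard]; exact Nat.one_lt_two_pow (by omega))
    exact Additive.ofMul.injective.nontrivial
  obtain ⟨x₀, hx₀⟩ := exists_ne (0 : V)
  let E : Subring (AddMonoid.End V) := Subring.centralizer {R}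
  have hRE : R ∈ E := Subring.mem_centralizer_iff.2 fun g hg => by rw [Set.mem_singleton_iff] at hg; rw [hg]
  have hcom : ∀ (a : E) (k : ℕ), (a.1 : AddMonoid.End V) * R ^ k = R ^ k * a.1 := fun a k =>
    (Commute.pow_right (show Commute a.1 R from (Subring.mem_centralizer_iff.1 a.2 R rfl).symm) k).eq
  let ev : E → V := fun a => a.1 x₀
  have hev : ∀ a b, ev (a + b) = ev a + ev b := fun a b => rfl
  have hinj : Function.Injective ev := by
    intro a b h
    apply Subtype.ext
    refine AddMonoidHom.ext fun v => ?_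
    by_cases hv : v = 0
    · rw [hv]; exact (map_zero a.1).trans (map_zero b.1).symm
    obtain ⟨k, rfl⟩ := htrV x₀ v hx₀ hv
    show (a.1 * R ^ k) x₀ = (b.1 * R ^ k) x₀
    rw [hcom, hcom]
    exact congrArg (R ^ k) h
  have hsurj : Function.Surjective ev := by
    intro v
    by_cases hv : v = 0
    · exact ⟨0, hv.symm⟩
    obtain ⟨k, rfl⟩ := htrV x₀ v hx₀ hv
    exact ⟨⟨R ^ k, pow_mem hRE k⟩, rfl⟩
  have hpow : ∀ a : E, a ≠ 0 → ∃ k : ℕ, a = ⟨R, hRE⟩ ^ k := by
    intro a ha
    obtain ⟨k, hk⟩ := htrV x₀ (ev a) hx₀ (fun h => ha (hinj (h.trans (show (0 : V) = ev 0 from rfl))))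
    refine ⟨k, hinj ?_⟩
    show a.1 x₀ = ((⟨R, hRE⟩ : E) ^ k).1 x₀
    rw [SubmonoidClass.coe_pow]
    exact hk.symm
  have : Finite E := Finite.of_injective ev hinj
  have hne : Nontrivial E := ⟨⟨0, 1, fun h => hx₀ (show x₀ = 0 from (congrArg ev h).symm)⟩⟩
  have hnz : NoZeroDivisors E := ⟨fun {a b} hab => by
    by_contra! h
    obtain ⟨k, rfl⟩ := hpow a h.1
    obtain ⟨l, rfl⟩ := hpow b h.2
    rw [← pow_add] at hab
    have h0 : ((R ^ (k + l) : AddMonoid.End V)) x₀ = 0 := by
      have := congrArg ev hab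
      simpa [ev] using this
    have h1 : (((R ^ (k + l)) x₀).toMul : Q) = 1 := by rw [h0]; rfl
    rw [hRk] at h1
    exact hV1 x₀ hx₀ ((ρ ^ (k + l)).injective (h1.trans (map_one _).symm))⟩
  have : IsDomain E := NoZeroDivisors.to_isDomain E
  let _ : CommRing E := { (inferInstance : Ring E) with
    mul_comm := fun a b => by
      by_cases ha : a = 0
      · rw [ha, zero_mul, mul_zero]
      by_cases hb : b = 0
      · rw [hb, zero_mul, mul_zero]
      obtain ⟨k, rfl⟩ := hpow a ha
      obtain ⟨l, rfl⟩ := hpow b hb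
      rw [← pow_add, ← pow_add, add_comm] }
  let _ : Fintype E := Fintype.ofFinite E
  let _ : Field E := Fintype.fieldOfDomain E
  let _ : Fintype (GaloisField 2 n) := Fintype.ofFinite _
  have hEc : Fintype.card (GaloisField 2 n) = Fintype.card E := by
    rw [← Nat.card_eq_fintype_card, ← Nat.card_eq_fintype_card, GaloisField.card 2 n (by omega),
      Nat.card_eq_of_bijective ev ⟨hinj, hsurj⟩, ← hcard]
    exact Nat.card_congr Additive.ofMul
  let e : GaloisField 2 n ≃+* E := FiniteField.ringEquivOfCardEq hEc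
  obtain ⟨μ, hμ⟩ := Finite.surjective_of_injective (frobenius_inj (GaloisField 2 n) 2) (e.symm ⟨R, hRE⟩)
  rw [frobenius_def] at hμ
  refine ⟨μ, fun t => ((ev (e t)).toMul : Q), ?_, ?_, ?_, ?_, ?_⟩
  · exact fun s t h => e.injective (hinj (congrArg Additive.ofMul (Subtype.ext h)))
  · intro s t
    show ((ev (e (s + t))).toMul : Q) = _
    rw [map_add e, hev]
    rfl
  · intro a
    refine ⟨fun ha => ?_, fun ⟨t, ht⟩ => ht ▸ (ev (e t)).toMul.2⟩
    obtain ⟨x, hx⟩ := hsurj (Additive.ofMul ⟨a, ha⟩)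
    exact ⟨e.symm x, by simp [e.apply_symm_apply, hx]⟩
  · intro t
    show _ = ((ev (e (μ ^ 2 * t))).toMul : Q)
    rw [hμ, map_mul e, e.apply_symm_apply]
    rfl
  · intro t ht
    obtain ⟨k, hk⟩ := hpow (e t) (fun h => ht (e.injective (h.trans (map_zero e).symm)))
    exact ⟨2 * k, by rw [pow_mul, hμ, ← map_pow, ← hk, e.symm_apply_apply]⟩

/-- A bilinear map built from a formula. -/
def biHom {V Z : Type*} [AddCommGroup V] [AddCommGroup Z] (B : V → V → Z)
    (hl : ∀ a b c, B (a + b) c = B a c + B b c) (hr : ∀ a b c, B a (b + c) = B a b + B a c) : V →+ V →+ Z :=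
  AddMonoidHom.mk' (fun a => AddMonoidHom.mk' (B a) (hr a)) fun a b => AddMonoidHom.ext fun c => hl a b c

variable {Q : Type u} [Group Q] {F : Type v} [Field F] [Fintype F] [CharP F 2] {α ρ : MulAut Q} {μ : F}
  {cD : F → Q} {px py : Q → F} {β : F}

theorem coord_central [Finite Q] (hgen : ∀ t : F, t ≠ 0 → ∃ k : ℕ, μ ^ k = t) (h4 : 4 ≤ Fintype.card F)
    (K : Coord α ρ μ cD px py β) : ∀ z g, g * cD z = cD z * g :=
  fun z g => central hgen h4 K.setup z g

theorem coord_iota (K : Coord α ρ μ cD px py β) (z : F) : px (cD z) = 0 ∧ py (cD z) = 0 :=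
  (K.ker _).2 ⟨z, rfl⟩

/-- An isotropic square map gives the unitriangular group. -/
theorem nonempty_equiv_uni [Finite Q] (hgen : ∀ t : F, t ≠ 0 → ∃ k : ℕ, μ ^ k = t) (h4 : 4 ≤ Fintype.card F)
    (K : Coord α ρ μ cD px py β) (r : F) (hr : r ^ 2 + r = β) : Nonempty (Q ≃* Uni F) := by
  have h2 : ∀ x : F, x + x = 0 := CharTwo.add_self_eq_zero
  refine nonempty_equiv_of_square (V := F × F) (Z := F) (fun v => Prod.ext (h2 _) (h2 _)) h2
    (biHom (fun a b => a.2 * b.1) (fun a b c => by simp [add_mul]) (fun a b c => by simp [mul_add]))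
    cD K.setup.inj K.setup.add (coord_central hgen h4 K)
    (fun a => (px a + r * py a, px a + (r + 1) * py a)) ?_ ?_ ?_ ?_ ?_
    (fun z => (⟨0, 0, z⟩ : Uni F)) (fun s t h => congrArg Uni.w h) ?_ ?_ (fun x => (x.u, x.v)) ?_ ?_ ?_ ?_ ?_
  · rintro ⟨u, v⟩
    obtain ⟨a, hx, hy⟩ := K.surj (u + r * (u + v)) (u + v)
    refine ⟨a, ?_⟩
    simp only [hx, hy, Prod.mk.injEq]
    exact ⟨by linear_combination h2 (r * (u + v)), by linear_combination h2 (r * (u + v)) + h2 u⟩
  · intro a b
    simp only [K.px_mul, K.py_mul, Prod.mk_add_mk, Prod.mk.injEq]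
    exact ⟨by ring, by ring⟩
  · intro a ha
    simp only [Prod.mk_eq_zero] at ha
    have hy : py a = 0 := by linear_combination ha.2 - ha.1
    have hx : px a = 0 := by linear_combination ha.1 - r * hy
    exact (K.ker a).1 ⟨hx, hy⟩
  · intro z
    simp [coord_iota K z]
  · intro a
    rw [K.sq]
    congr 1
    show _ = (px a + (r + 1) * py a) * (px a + r * py a)
    linear_combination -(py a ^ 2) * hr - h2 (px a * r * py a)
  · intro s t
    ext <;> simp
  · intro z g
    ext <;> simp [add_comm]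
  · rintro ⟨u, v⟩
    exact ⟨⟨u, v, 0⟩, rfl⟩
  · intro a b
    rfl
  · intro g hg
    simp only [Prod.mk_eq_zero] at hg
    exact ⟨g.w, by ext <;> simp [hg.1, hg.2]⟩
  · intro z
    rfl
  · intro g
    show g * g = (⟨0, 0, g.v * g.u⟩ : Uni F)
    ext <;> simp [h2]

/-- An anisotropic square map gives the hermitian group. -/
theorem nonempty_equiv_herm [Finite Q] (hgen : ∀ t : F, t ≠ 0 → ∃ k : ℕ, μ ^ k = t) (h4 : 4 ≤ Fintype.card F)
    (K : Coord α ρ μ cD px py β) (hβ : ∀ r : F, r ^ 2 + r ≠ β) :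
    ∃ (L : Type v) (_ : Field L) (_ : Fintype L) (q : ℕ) (hF : Fintype.card L = q ^ 2) (he : Even q),
      q = Fintype.card F ∧ (letI := hermGroup hF he; Nonempty (Q ≃* Herm L q)) := by
  classical
  open Polynomial in
  let f : F[X] := X ^ 2 + X + C β
  have hdeg : f.natDegree = 2 := by
    show (Polynomial.X ^ 2 + Polynomial.X + Polynomial.C β : Polynomial F).natDegree = 2
    compute_degree!
  have hmon : f.Monic := by
    show (Polynomial.X ^ 2 + Polynomial.X + Polynomial.C β : Polynomial F).Monic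
    monicity!
  have : Fact (Irreducible f) := ⟨(Polynomial.Monic.irreducible_iff_roots_eq_zero_of_degree_le_three hmon
    (by omega) (by omega)).2 (Multiset.eq_zero_of_forall_notMem fun r hr => by
      rw [Polynomial.mem_roots hmon.ne_zero] at hr
      apply hβ r
      simp [f] at hr
      exact CharTwo.add_eq_zero.1 hr)⟩
  let L := AdjoinRoot f
  let φ : F →+* L := AdjoinRoot.of f
  let z : L := AdjoinRoot.root f
  have hz : z ^ 2 + z + φ β = 0 := by
    have := AdjoinRoot.eval₂_root f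
    simpa [f] using this
  have : Module.Finite F L := (AdjoinRoot.powerBasis hmon.ne_zero).finite
  have : Finite L := Module.finite_of_finite F
  let _ : Fintype L := Fintype.ofFinite L
  set q := Fintype.card F with hqdef
  have hF : Fintype.card L = q ^ 2 := by
    rw [Module.card_eq_pow_finrank (K := F), (AdjoinRoot.powerBasis hmon.ne_zero).finrank,
      AdjoinRoot.powerBasis_dim, hdeg]
  obtain ⟨p, k, hp, hk⟩ : ∃ p k, p = 2 ∧ q = p ^ (k + 1) := by
    obtain ⟨k, -, hk⟩ := FiniteField.card F 2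
    exact ⟨2, k - 1, rfl, by rw [hqdef, hk, Nat.sub_add_cancel k.pos]⟩
  subst hp
  have he : Even q := by rw [hk]; exact even_two.pow_of_ne_zero (by omega)
  have : CharP L 2 := charP_of_injective_algebraMap φ.injective 2
  have h2 : ∀ x : L, x + x = 0 := CharTwo.add_self_eq_zero
  have h2F : ∀ x : F, x + x = 0 := CharTwo.add_self_eq_zero
  refine ⟨L, inferInstance, inferInstance, q, hF, he, rfl, ?_⟩
  let _ := hermGroup hF he
  have hconj : ∀ x y : L, (x + y) ^ q = x ^ q + y ^ q := fun x y => by rw [hk]; exact add_pow_char_pow x y 2 (k + 1)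
  have hφq : ∀ t, φ t ^ q = φ t := fun t => by rw [← map_pow, FiniteField.pow_card]
  have hfix : ∀ x : L, x ^ q = x → ∃ t, φ t = x := by
    intro x hx
    have hb : Function.Bijective (fun t : F => (⟨φ t, hφq t⟩ : {y : L // y ^ q = y})) := by
      refine (Nat.bijective_iff_injective_and_card _).2 ⟨fun s t h => φ.injective (congrArg Subtype.val h), ?_⟩
      have hle := card_fixed_le (F := L) hF
      have hge := Nat.card_le_card_of_injective (fun t : F => (⟨φ t, hφq t⟩ : {y : L // y ^ q = y}))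
        fun s t h => φ.injective (congrArg Subtype.val h)
      rw [Nat.card_eq_fintype_card (α := F)] at hge ⊢
      omega
    obtain ⟨t, ht⟩ := hb.2 ⟨x, hx⟩
    exact ⟨t, congrArg Subtype.val ht⟩
  have hzq : z ^ q = z + 1 := by
    have e : (z ^ q) ^ 2 + z ^ q + φ β = 0 := by
      rw [← pow_mul, mul_comm, pow_mul]
      conv_lhs => rw [← hφq β, ← hconj, ← hconj, hz]
      exact zero_pow (by omega)
    have hne : z ^ q + z ≠ 0 := by
      intro h
      obtain ⟨t, ht⟩ := hfix z (CharTwo.add_eq_zero.1 h)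
      apply hβ t
      apply φ.injective
      rw [map_add, map_pow, ht]
      exact CharTwo.add_eq_zero.1 hz
    have hprod : (z ^ q + z) * (z ^ q + z + 1) = 0 := by
      linear_combination e + hz + z ^ q * h2 z - h2 (φ β)
    have h := (mul_eq_zero.1 hprod).resolve_left hne
    rw [add_assoc] at h
    exact CharTwo.add_eq_zero.1 h
  let j : F × F → L := fun v => φ v.1 + φ v.2 * z
  have hjadd : ∀ a b, j (a + b) = j a + j b := fun a b => by simp [j]; ring
  have hjbij : Function.Bijective j := by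
    refine (Nat.bijective_iff_injective_and_card _).2 ⟨?_, ?_⟩
    · have hker : ∀ a b, φ a + φ b * z = 0 → a = 0 ∧ b = 0 := by
        intro a b h
        by_cases hb : b = 0
        · rw [hb, map_zero, zero_mul, add_zero] at h
          exact ⟨φ.injective (h.trans (map_zero φ).symm), hb⟩
        exfalso
        have hφb : φ b ≠ 0 := fun h => hb (φ.injective (h.trans (map_zero φ).symm))
        have hza : z = φ (a / b) := by
          rw [map_div₀, eq_div_iff hφb]
          exact (CharTwo.add_eq_zero.1 h).symm.trans rfl |> fun e => by rw [mul_comm]; exact e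
        apply hβ (a / b)
        apply φ.injective
        rw [map_add, map_pow, ← hza]
        exact CharTwo.add_eq_zero.1 hz
      intro a b h
      have h' : φ (a.1 + b.1) + φ (a.2 + b.2) * z = 0 := by
        show _ = (0 : L)
        calc _ = j (a + b) := rfl
          _ = j a + j b := hjadd a b
          _ = 0 := by rw [h, h2]
      obtain ⟨h1, h2'⟩ := hker _ _ h'
      exact Prod.ext (CharTwo.add_eq_zero.1 h1) (CharTwo.add_eq_zero.1 h2')
    · rw [Nat.card_prod, Nat.card_eq_fintype_card, Nat.card_eq_fintype_card, hF, pow_two]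
  let J := Equiv.ofBijective j hjbij
  have hJ : ∀ x : L, j (J.symm x) = x := J.apply_symm_apply
  have hnorm : ∀ v : F × F, j v ^ (q + 1) = φ (v.1 * v.1 + v.1 * v.2 + β * v.2 * v.2) := by
    intro v
    rw [pow_succ]
    simp only [j, hconj, mul_pow, hφq, hzq, map_add, map_mul]
    linear_combination φ v.2 * φ v.2 * (hz - h2 (φ β)) + h2 (φ v.1 * φ v.2 * z)
  refine nonempty_equiv_of_square (V := F × F) (Z := F) (fun v => Prod.ext (h2F _) (h2F _)) h2F
    (biHom (fun a b => a.1 * b.1 + a.1 * b.2 + β * a.2 * b.2) (fun a b c => by simp; ring)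
      (fun a b c => by simp; ring))
    cD K.setup.inj K.setup.add (coord_central hgen h4 K) (fun a => (px a, py a)) ?_ ?_ ?_ ?_ ?_
    (fun t => (⟨0, φ t, by rw [hφq, h2, zero_pow (Nat.succ_ne_zero q)]⟩ : Herm L q))
    (fun s t h => φ.injective (congrArg Herm.b h)) ?_ ?_ (fun x => J.symm x.a) ?_ ?_ ?_ ?_ ?_
  · rintro ⟨x, y⟩
    obtain ⟨a, hx, hy⟩ := K.surj x y
    exact ⟨a, Prod.ext hx hy⟩
  · intro a b
    simp only [K.px_mul, K.py_mul, Prod.mk_add_mk]
  · intro a ha
    simp only [Prod.mk_eq_zero] at ha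
    exact (K.ker a).1 ha
  · intro z
    simp [coord_iota K z]
  · intro a
    rw [K.sq]
    congr 1
    show _ = px a * px a + px a * py a + β * py a * py a
    ring
  · intro s t
    refine Herm.ext ?_ ?_
    · rw [herm_mul_a]; exact (add_zero _).symm
    · rw [herm_mul_b]; simp
  · intro t g
    refine Herm.ext ?_ ?_
    · simp [herm_mul_a]
    · simp [herm_mul_b, zero_pow (show q ≠ 0 by omega), add_comm]
  · intro v
    have hN : (j v ^ (q + 1)) ^ q = j v ^ (q + 1) := norm_fixed hF _
    obtain ⟨b, hb⟩ : Nonempty {b : L // b + b ^ q = j v ^ (q + 1)} :=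
      (Nat.card_pos_iff.1 (by rw [card_trace_fibre hF he hN]; omega)).1
    exact ⟨⟨j v, b, hb⟩, J.symm_apply_apply v⟩
  · intro a b
    apply hjbij.1
    rw [hjadd, hJ, hJ, hJ, herm_mul_a]
  · intro g hg
    have ha : g.a = 0 := by rw [← hJ g.a, show J.symm g.a = 0 from hg]; simp [j]
    obtain ⟨t, ht⟩ := hfix g.b (by
      have := g.rel
      rw [ha, zero_pow (Nat.succ_ne_zero q)] at this
      exact (CharTwo.add_eq_zero.1 this).symm)
    exact ⟨t, Herm.ext ha.symm ht⟩
  · intro t
    apply hjbij.1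
    rw [hJ]
    simp [j]
  · intro g
    refine Herm.ext ?_ ?_
    · rw [herm_mul_a]; exact h2 _
    · rw [herm_mul_b, h2, zero_add, ← pow_succ]
      conv_lhs => rw [← hJ g.a, hnorm]
      rfl

end CfsgLib.InvCharTransFix
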