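import Mathlib

/-!
An involution in the centre of a Sylow 2-subgroup `S` lies outside a subgroup of index 2 as soon
as some maximal subgroup of `S` avoiding it contains no conjugate of it central in `S`.
The proof counts fixed points of the involution on the cosets of that maximal subgroup.
-/

set_option autoImplicit false

namespace CfsgLib.InvChar.TwoCentralSign

open Subgroup

variable {G : Type*} [Group G] [Finite G]

/-- The elements moving `t` into a set, fibred over the conjugates of `t` in the set. -/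
theorem card_conj_into (t : G) (A : Set G) :
    Nat.card {g : G // g⁻¹ * t * g ∈ A} =
      Nat.card ↥(centralizer ({t} : Set G)) * Nat.card {y : G // IsConj t y ∧ y ∈ A} := by
  classical
  have hr : ∀ y : {y : G // IsConj t y ∧ y ∈ A}, ∃ g : G, g⁻¹ * t * g = (y : G) := fun y => by
    obtain ⟨c, hc⟩ := isConj_iff.1 y.2.1
    exact ⟨c⁻¹, by simpa using hc⟩
  choose r hr using hr
  rw [← Nat.card_prod]
  refine (Nat.card_congr (Equiv.ofBijective
    (fun p : ↥(centralizer ({t} : Set G)) × {y : G // IsConj t y ∧ y ∈ A} =>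
      (⟨(p.1 : G) * r p.2, ?_⟩ : {g : G // g⁻¹ * t * g ∈ A})) ⟨?_, ?_⟩)).symm
  · have hc := mem_centralizer_singleton_iff.1 p.1.2
    have he : ((p.1 : G) * r p.2)⁻¹ * t * ((p.1 : G) * r p.2) = (p.2 : G) := by
      rw [← hr p.2]
      calc _ = (r p.2)⁻¹ * ((p.1 : G)⁻¹ * (t * (p.1 : G))) * r p.2 := by group
        _ = _ := by rw [← hc, inv_mul_cancel_left]
    rw [he]
    exact p.2.2.2
  · intro p q h
    have h' : (p.1 : G) * r p.2 = (q.1 : G) * r q.2 := congrArg Subtype.val h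
    have hy : p.2 = q.2 := by
      refine Subtype.ext ?_
      rw [← hr p.2, ← hr q.2]
      have hp := mem_centralizer_singleton_iff.1 p.1.2
      have hq := mem_centralizer_singleton_iff.1 q.1.2
      calc (r p.2)⁻¹ * t * r p.2 = ((p.1 : G) * r p.2)⁻¹ * (t * ((p.1 : G) * r p.2)) := by
            rw [← mul_assoc t, ← hp]; group
        _ = ((q.1 : G) * r q.2)⁻¹ * (t * ((q.1 : G) * r q.2)) := by rw [h']
        _ = _ := by rw [← mul_assoc t, ← hq]; group
    refine Prod.ext (Subtype.ext ?_) hy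
    rw [hy] at h'
    exact mul_right_cancel h'
  · rintro ⟨g, hg⟩
    have hy : IsConj t (g⁻¹ * t * g) ∧ g⁻¹ * t * g ∈ A :=
      ⟨isConj_iff.2 ⟨g⁻¹, by simp⟩, hg⟩
    set y : {y : G // IsConj t y ∧ y ∈ A} := ⟨_, hy⟩ with hydef
    have h1 : (r y)⁻¹ * t * r y = g⁻¹ * t * g := hr y
    refine ⟨(⟨g * (r y)⁻¹, mem_centralizer_singleton_iff.2 ?_⟩, y), Subtype.ext (by simp)⟩
    calc g * (r y)⁻¹ * t = g * ((r y)⁻¹ * t * r y) * (r y)⁻¹ := by group
      _ = t * (g * (r y)⁻¹) := by rw [h1]; group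

/-- Fixed points of `t` on the cosets of `M`. -/
theorem card_fixed_mul (t : G) (ht : t⁻¹ = t) (M : Subgroup G) :
    Nat.card {q : G ⧸ M // t • q = q} * Nat.card ↥M =
      Nat.card ↥(centralizer ({t} : Set G)) * Nat.card {y : G // IsConj t y ∧ y ∈ M} := by
  have h1 := card_conj_into t (M : Set G)
  have h2 : Nat.card ↥(QuotientGroup.mk ⁻¹' {q : G ⧸ M | t • q = q} : Set G) =
      Nat.card ↥M * Nat.card {q : G ⧸ M // t • q = q} := by
    rw [Nat.card_congr (QuotientGroup.preimageMkEquivSubgroupProdSet M _), Nat.card_prod]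
    rfl
  have h3 : (QuotientGroup.mk ⁻¹' {q : G ⧸ M | t • q = q} : Set G) =
      {g : G | g⁻¹ * t * g ∈ M} := by
    ext g
    simp only [Set.mem_preimage, Set.mem_setOf_eq, MulAction.Quotient.smul_mk, smul_eq_mul,
      QuotientGroup.eq, mul_inv_rev, ht]
  rw [h3] at h2
  simp only [SetLike.mem_coe] at h1
  rw [mul_comm, ← h2, ← h1]
  rfl

/-- Conjugates of `t` in a maximal subgroup of `S`, none central in `S`, are even in number. -/
theorem even_card_conj (S : Sylow 2 G) (t : G) (M : Subgroup G)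
    (hMn : ∀ s ∈ (S : Subgroup G), ∀ y ∈ M, s * y * s⁻¹ ∈ M)
    (hno : ∀ y ∈ M, (∀ s ∈ (S : Subgroup G), s * y = y * s) → ¬ IsConj t y) :
    Even (Nat.card {y : G // IsConj t y ∧ y ∈ M}) := by
  classical
  let _ : MulAction ↥(S : Subgroup G) {y : G // IsConj t y ∧ y ∈ M} :=
    { smul := fun s y => ⟨(s : G) * y * (s : G)⁻¹,
        y.2.1.trans (isConj_iff.2 ⟨s, rfl⟩), hMn s s.2 y y.2.2⟩
      one_smul := fun y => Subtype.ext (by
        show ((1 : ↥(S : Subgroup G)) : G) * y * ((1 : ↥(S : Subgroup G)) : G)⁻¹ = y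
        simp)
      mul_smul := fun a b y => Subtype.ext (by
        show ((a * b : ↥(S : Subgroup G)) : G) * y * ((a * b : ↥(S : Subgroup G)) : G)⁻¹ =
          (a : G) * ((b : G) * y * (b : G)⁻¹) * (a : G)⁻¹
        simp [mul_assoc]) }
  have hmod := S.2.card_modEq_card_fixedPoints {y : G // IsConj t y ∧ y ∈ M}
  have hempty : IsEmpty (MulAction.fixedPoints ↥(S : Subgroup G) {y : G // IsConj t y ∧ y ∈ M}) := by
    refine ⟨fun ⟨y, hy⟩ => hno y y.2.2 (fun s hs => ?_) y.2.1⟩
    have h : s * (y : G) * s⁻¹ = y := congrArg Subtype.val (hy ⟨s, hs⟩)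
    exact mul_inv_eq_iff_eq_mul.1 h
  rw [Nat.card_of_isEmpty (α := MulAction.fixedPoints ↥(S : Subgroup G) {y : G // IsConj t y ∧ y ∈ M})] at hmod
  exact Nat.even_iff.2 hmod

/-- The sign of `t` on the cosets of `M` is `-1`. -/
theorem exists_hom_neg (S : Sylow 2 G) {t : G} (ht : orderOf t = 2) (htS : t ∈ (S : Subgroup G))
    (htc : ∀ s ∈ (S : Subgroup G), s * t = t * s)
    (M : Subgroup G) (hMS : M ≤ (S : Subgroup G))
    (hM : 2 * Nat.card ↥M = Nat.card ↥(S : Subgroup G))
    (hno : ∀ y ∈ M, (∀ s ∈ (S : Subgroup G), s * y = y * s) → ¬ IsConj t y) :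
    ∃ χ : G →* ℤˣ, χ t = -1 := by
  classical
  have : Fintype G := Fintype.ofFinite G
  have : Fintype (G ⧸ M) := Fintype.ofFinite _
  have hMn : ∀ s ∈ (S : Subgroup G), ∀ y ∈ M, s * y * s⁻¹ ∈ M := by
    have hidx : (M.subgroupOf (S : Subgroup G)).index = 2 := by
      have h := (M.subgroupOf (S : Subgroup G)).card_mul_index
      rw [Nat.card_congr (subgroupOfEquivOfLe hMS).toEquiv, ← hM, mul_comm 2] at h
      exact Nat.eq_of_mul_eq_mul_left Nat.card_pos h
    have hn := normal_of_index_eq_two hidx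
    intro s hs y hy
    exact hn.conj_mem (⟨y, hMS hy⟩ : ↥(S : Subgroup G)) hy ⟨s, hs⟩
  have ht2 : t * t = 1 := by rw [← pow_two, ← ht, pow_orderOf_eq_one]
  have htinv : t⁻¹ = t := inv_eq_of_mul_eq_one_right ht2
  have hSC : (S : Subgroup G) ≤ centralizer ({t} : Set G) := fun s hs =>
    mem_centralizer_singleton_iff.2 (htc s hs)
  obtain ⟨l, hl, hlodd⟩ : ∃ l, Nat.card ↥(centralizer ({t} : Set G)) =
      Nat.card ↥(S : Subgroup G) * l ∧ Odd l := by
    refine ⟨(S : Subgroup G).relIndex (centralizer ({t} : Set G)), ?_, ?_⟩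
    · rw [← ((S : Subgroup G).subgroupOf (centralizer ({t} : Set G))).card_mul_index,
        Nat.card_congr (subgroupOfEquivOfLe hSC).toEquiv]
      rfl
    · refine Odd.of_dvd_nat ?_ (Dvd.intro _ (relIndex_mul_index hSC))
      exact Nat.not_even_iff_odd.1 fun h => S.not_dvd_index (even_iff_two_dvd.1 h)
  obtain ⟨o, ho, hoodd⟩ : ∃ o, Nat.card (G ⧸ M) = 2 * o ∧ Odd o := by
    refine ⟨(S : Subgroup G).index, ?_, Nat.not_even_iff_odd.1 fun h =>
      S.not_dvd_index (even_iff_two_dvd.1 h)⟩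
    have h1 := M.card_mul_index
    have h2 := (S : Subgroup G).card_mul_index
    rw [← hM, ← h1] at h2
    rw [← index_eq_card]
    refine Nat.eq_of_mul_eq_mul_left (Nat.card_pos (α := ↥M)) ?_
    rw [← h2]; ring
  obtain ⟨k, hk⟩ := even_card_conj S t M hMn hno
  have hfix : Nat.card {q : G ⧸ M // t • q = q} = 4 * (l * k) := by
    have h := card_fixed_mul t htinv M
    rw [hl, hk, ← hM] at h
    refine Nat.eq_of_mul_eq_mul_right (Nat.card_pos (α := ↥M)) ?_
    rw [h]; ring
  refine ⟨(Equiv.Perm.sign).comp (MulAction.toPermHom G (G ⧸ M)), ?_⟩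
  have hσ : (MulAction.toPermHom G (G ⧸ M) t) ^ 2 = 1 := by
    rw [← map_pow, pow_two, ht2, map_one]
  rw [MonoidHom.comp_apply, Equiv.Perm.sign_of_pow_two_eq_one hσ]
  have hcf : Fintype.card (Function.fixedPoints (MulAction.toPermHom G (G ⧸ M) t)) =
      4 * (l * k) := by
    rw [← hfix, Nat.card_eq_fintype_card]
    exact Fintype.card_congr (Equiv.refl _)
  have hle : 4 * (l * k) ≤ 2 * o := by
    rw [← hfix, ← ho, Nat.card_eq_fintype_card, Nat.card_eq_fintype_card]
    exact Fintype.card_subtype_le _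
  rw [hcf, ← Nat.card_eq_fintype_card, ho]
  obtain ⟨a, ha⟩ := hoodd
  have hodd : Odd ((2 * o - 4 * (l * k)) / 2) := ⟨a - l * k, by omega⟩
  exact hodd.neg_one_pow

end CfsgLib.InvChar.TwoCentralSign
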