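import Cfsg.Agent.Lib.InvChar.TwoTimesSymFourData
import Cfsg.Agent.Lib.InvChar.SymSixParts
import Cfsg.Agent.Lib.InvChar.DihedralEight
import Cfsg.Agent.Lib.Involutions.BrauerSuzuki
import Cfsg.Agent.S2911
import Cfsg.Agent.S0497

/-!
Groups with a 2-central involution centralized by the direct product of a group of order 2 and the
symmetric group of degree 4, with self-centralizing commutator of a Sylow 2-subgroup.
-/

set_option autoImplicit false

namespace CfsgLib.InvChar.TwoSymFour

open Equiv

variable {G : Type*} [Group G] [Finite G]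

set_option maxHeartbeats 1600000 in
/-- The centralizer is everything, or the group is the symmetric group of degree 6. -/
theorem dichotomy (t : G) (ht : orderOf t = 2) (T : Sylow 2 G)
    (htc : ∀ s ∈ (T : Subgroup G), s * t = t * s)
    (e : ↥(Subgroup.centralizer ({t} : Set G)) ≃* M)
    (h2 : ∀ S : Sylow 2 G,
      Subgroup.centralizer ((⁅(S : Subgroup G), (S : Subgroup G)⁆ : Subgroup G) : Set G) = (S : Subgroup G)) :
    Subgroup.centralizer ({t} : Set G) = ⊤ ∨ Nonempty (G ≃* Perm (Fin 6)) := by
  classical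
  have : Fact (Nat.Prime 2) := ⟨Nat.prime_two⟩
  set C := Subgroup.centralizer ({t} : Set G) with hCdef
  let ι : M →* G := C.subtype.comp e.symm.toMonoidHom
  have hιi : Function.Injective ι := C.subtype_injective.comp e.symm.injective
  have hιC : ∀ m, ι m ∈ C := fun m => (e.symm m).2
  have hιs : ∀ x ∈ C, ∃ m, ι m = x := fun x hx => ⟨e ⟨x, hx⟩, by
    show (e.symm (e ⟨x, hx⟩)).1 = x
    rw [e.symm_apply_apply]⟩
  have htC : t ∈ C := Subgroup.mem_centralizer_singleton_iff.mpr rfl
  have ht2 : t * t = 1 := by rw [← pow_two, ← ht, pow_orderOf_eq_one]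
  have ht1 : t ≠ 1 := fun h => by rw [h, orderOf_one] at ht; omega
  have hιcomm : ∀ m, ι m * t = t * ι m := fun m =>
    Subgroup.mem_centralizer_singleton_iff.mp (hιC m)
  have ht0 : ι t0 = t := by
    obtain ⟨m, hm⟩ := hιs t htC
    have hm2 : m * m = 1 := hιi (by rw [map_mul, hm, ht2, map_one])
    rcases center_data m hm2 (fun x => hιi (by rw [map_mul, map_mul, hm]; exact hιcomm x)) with h | h
    · exact absurd (by rw [← hm, h, map_one]) ht1
    · rw [← h]; exact hm
  have hCcard : Nat.card C = 48 := by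
    rw [Nat.card_congr e.toEquiv, Nat.card_prod, Nat.card_perm, Nat.card_fin,
      Nat.card_congr Multiplicative.toAdd, Nat.card_zmod]
    rfl
  -- the standard Sylow 2-subgroup
  let δ : Multiplicative (ZMod 2) × DihedralGroup 4 →* G :=
    ι.comp (MonoidHom.prodMap (MonoidHom.id _) dihHom)
  have hδ : ∀ i a, δ (i, a) = ι (i, dih4 a) := fun _ _ => rfl
  have hδi : Function.Injective δ := by
    rintro ⟨i, a⟩ ⟨j, b⟩ hab
    have h : ((i, dih4 a) : M) = (j, dih4 b) := hιi hab
    exact Prod.ext (congrArg Prod.fst h :) (dih4_injective (congrArg Prod.snd h :))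
  have hR16 : Nat.card δ.range = 16 := by
    rw [← Nat.card_congr (MonoidHom.ofInjective hδi).toEquiv, Nat.card_prod,
      Nat.card_congr Multiplicative.toAdd, Nat.card_zmod, DihedralGroup.nat_card]
  have hT16 : Nat.card (T : Subgroup G) ≤ 16 := by
    obtain ⟨n, hn⟩ := IsPGroup.iff_card.mp T.isPGroup'
    have hd : 2 ^ n ∣ 48 := hn ▸ hCcard ▸ Subgroup.card_dvd_of_le (fun s hs =>
      Subgroup.mem_centralizer_singleton_iff.mpr (htc s hs))
    rw [hn]
    refine le_trans (Nat.pow_le_pow_right (by norm_num) (?_ : n ≤ 4)) (by norm_num)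
    by_contra hlt
    exact absurd ((Nat.pow_dvd_pow 2 (by omega : 5 ≤ n)).trans hd) (by norm_num)
  obtain ⟨U, hU⟩ := (IsPGroup.of_card (p := 2) (n := 4) (G := δ.range) (by rw [hR16]; norm_num)).exists_le_sylow
  have hUR : δ.range = (U : Subgroup G) := Subgroup.eq_of_le_of_card_ge hU (by
    rw [hR16, U.card_eq_multiplicity, ← T.card_eq_multiplicity]; exact hT16)
  have h32 : ¬ 32 ∣ Nat.card G := fun hd => by
    obtain ⟨Q, hQ⟩ := Sylow.exists_subgroup_card_pow_prime (G := G) 2 (n := 5) (by simpa using hd)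
    obtain ⟨Q', hQ'⟩ := (IsPGroup.of_card hQ).exists_le_sylow
    have := Subgroup.card_le_of_le hQ'
    rw [hQ, Q'.card_eq_multiplicity, ← U.card_eq_multiplicity, ← hUR, hR16] at this
    omega
  -- the central involution of the derived group
  let z := ι (1, u0)
  let w := ι (1, w0)
  let c := ι (1, c0)
  obtain ⟨fu, fw, fuw, fu1, fw1, fne, fc3, fc1, fcu, fcw, fcuw, fwD, fcsq⟩ := four_data
  have hz2 : z * z = 1 := by
    show ι _ * ι _ = 1
    rw [← map_mul, Prod.mk_mul_mk, one_mul, fu, Prod.mk_one_one, map_one]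
  have hw2 : w * w = 1 := by
    show ι _ * ι _ = 1
    rw [← map_mul, Prod.mk_mul_mk, one_mul, fw, Prod.mk_one_one, map_one]
  have hzw : z * w = w * z := by
    show ι _ * ι _ = ι _ * ι _
    rw [← map_mul, ← map_mul, Prod.mk_mul_mk, Prod.mk_mul_mk, fuw]
  have hcz : c * z * c⁻¹ = w := by
    show ι _ * ι _ * (ι _)⁻¹ = ι _
    rw [← map_mul, ← map_inv, ← map_mul]
    exact congrArg ι (Prod.ext (by simp) fcu)
  have hcw : c * w * c⁻¹ = z * w := by
    show ι _ * ι _ * (ι _)⁻¹ = ι _ * ι _
    rw [← map_mul, ← map_inv, ← map_mul, ← map_mul]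
    exact congrArg ι (Prod.ext (by simp) fcw)
  have hccw : c * (z * w) * c⁻¹ = z := by
    show ι _ * (ι _ * ι _) * (ι _)⁻¹ = ι _
    rw [← map_mul, ← map_mul, ← map_inv, ← map_mul]
    exact congrArg ι (Prod.ext (by simp) fcuw)
  have hz1 : z ≠ 1 := fun h => fu1 (congrArg Prod.snd (hιi (h.trans (map_one ι).symm)))
  have hw1 : w ≠ 1 := fun h => fw1 (congrArg Prod.snd (hιi (h.trans (map_one ι).symm)))
  have hzord : orderOf z = 2 := orderOf_eq_prime (by rw [pow_two, hz2]) hz1
  have hword : orderOf w = 2 := orderOf_eq_prime (by rw [pow_two, hw2]) hw1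
  have hCz : ∀ x : G, x * z = z * x → x ∈ δ.range := by
    intro x hx
    rw [hUR, ← h2 U]
    have hle : (⁅(U : Subgroup G), (U : Subgroup G)⁆ : Subgroup G) ≤ Subgroup.zpowers z := by
      rw [Subgroup.commutator_le]
      intro a ha b hb
      rw [← hUR] at ha hb
      obtain ⟨⟨i, p⟩, rfl⟩ := ha
      obtain ⟨⟨j, q⟩, rfl⟩ := hb
      rw [commutatorElement_def, hδ, hδ, ← map_mul, ← map_inv, ← map_mul, ← map_inv, ← map_mul]
      have hfst : i * j * i⁻¹ * j⁻¹ = 1 := by rw [mul_comm i j, mul_inv_cancel_right, mul_inv_cancel]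
      rcases commutator_data p q with h | h
      · rw [show ((i, dih4 p) : M) * (j, dih4 q) * (i, dih4 p)⁻¹ * (j, dih4 q)⁻¹ = 1 from
          Prod.ext hfst h, map_one]
        exact one_mem _
      · rw [show ((i, dih4 p) : M) * (j, dih4 q) * (i, dih4 p)⁻¹ * (j, dih4 q)⁻¹ = (1, u0) from
          Prod.ext hfst h]
        exact Subgroup.mem_zpowers _
    rw [Subgroup.mem_centralizer_iff]
    intro y hy
    obtain ⟨k, rfl⟩ := Subgroup.mem_zpowers_iff.mp (hle hy)
    exact ((Commute.zpow_right (hx : Commute x z) k).eq).symm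
  have hRz : ∀ x ∈ δ.range, x * z = z * x := by
    rintro _ ⟨⟨i, a⟩, rfl⟩
    show ι _ * ι _ = ι _ * ι _
    rw [← map_mul, ← map_mul]
    exact congrArg ι (Prod.ext (by simp) (dih_data.1 a))
  -- `z` is not conjugate to `t`
  have hnconj : ∀ n : G, n * z * n⁻¹ ≠ t := by
    intro n hn
    have hle : C ≤ (Subgroup.centralizer ({z} : Set G)).map (MulAut.conj n).toMonoidHom := by
      intro x hx
      refine ⟨n⁻¹ * x * n, Subgroup.mem_centralizer_singleton_iff.mpr ?_, ?_⟩
      · have h1 := Subgroup.mem_centralizer_singleton_iff.mp hx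
        rw [← hn] at h1
        have h3 := congrArg (fun y => n⁻¹ * y * n) h1
        simpa [mul_assoc] using h3
      · show n * (n⁻¹ * x * n) * n⁻¹ = x
        group
    have h1 := Subgroup.card_le_of_le hle
    rw [← Nat.card_congr (Subgroup.equivMapOfInjective _ _ (MulAut.conj n).injective).toEquiv,
      hCcard] at h1
    have h3 := Subgroup.card_le_of_le
      (fun x hx => hCz x (Subgroup.mem_centralizer_singleton_iff.mp hx) :
        Subgroup.centralizer ({z} : Set G) ≤ δ.range)
    omega
  -- groups of odd order normalized by the four group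
  have hodd : ∀ X : Subgroup G, Odd (Nat.card X) → (∀ x ∈ X, z * x * z ∈ X) →
      (∀ x ∈ X, w * x * w ∈ X) → X = ⊥ := by
    intro X hX hnz hnw
    have hone : ∀ g : G, ∀ x ∈ X, x * (g * z * g⁻¹) = (g * z * g⁻¹) * x → x = 1 := by
      intro g x hx hxg
      have h1 : (g⁻¹ * x * g) * z = z * (g⁻¹ * x * g) := by
        have h3 := congrArg (fun y => g⁻¹ * y * g) hxg
        simpa [mul_assoc] using h3
      have h4 : orderOf (g⁻¹ * x * g) = orderOf x := by
        rw [show g⁻¹ * x * g = MulAut.conj g⁻¹ x by simp [MulAut.conj_apply]]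
        exact MulEquiv.orderOf_eq _ x
      have h5 : orderOf x ∣ 2 ^ 4 :=
        h4 ▸ (show (16 : ℕ) = 2 ^ 4 by norm_num) ▸ hR16 ▸ δ.range.orderOf_dvd_natCard (hCz _ h1)
      have h6 : orderOf x ∣ Nat.card X := X.orderOf_dvd_natCard hx
      have h7 : Nat.Coprime (2 ^ 4) (Nat.card X) := (Nat.coprime_two_left.mpr hX).pow_left 4
      exact orderOf_eq_one_iff.mp (Nat.eq_one_of_dvd_coprimes h7 h5 h6)
    refine SymSix.eq_bot_of_four_fpf hX hz2 hw2 hzw hnz hnw ?_ ?_ ?_
    · intro x hx h
      exact hone 1 x hx (by rw [one_mul, inv_one, mul_one]; exact h.symm)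
    · intro x hx h
      exact hone c x hx (by rw [hcz]; exact h.symm)
    · intro x hx h
      refine hone (c * c) x hx ?_
      have h8 : c * c * z * (c * c)⁻¹ = z * w := by
        rw [mul_inv_rev, ← hcw, ← hcz]
        simp only [mul_assoc]
      rw [h8]
      exact h.symm
  -- a subgroup of index 2
  obtain ⟨H, hH⟩ := Cfsg.Agent.S2911.result U
    ⟨(MulEquiv.subgroupCongr hUR.symm).trans (MonoidHom.ofInjective hδi).symm⟩
  have hHn : H.Normal := Subgroup.normal_of_index_eq_two hH
  have hm := fun {a b : G} => Subgroup.mul_mem_iff_of_index_two hH (a := a) (b := b)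
  have hGH : 2 * Nat.card H = Nat.card G := by
    rw [← H.card_mul_index, hH, mul_comm]
  have h16H : ¬ 16 ∣ Nat.card H := fun hd => h32 (hGH ▸ Nat.mul_dvd_mul_left 2 hd)
  have hsq : ∀ x : G, x * x ∈ H := fun x => hm.mpr Iff.rfl
  have hcH : c ∈ H := by
    have h : c = (c * c) * (c * c) := by
      show ι _ = ι _ * ι _ * (ι _ * ι _)
      rw [← map_mul, ← map_mul]
      refine congrArg ι (Prod.ext (by simp) ?_)
      show c0 = c0 * c0 * (c0 * c0)
      exact fcsq.symm.trans (pow_two _)
    rw [h]
    exact hsq _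
  have hzH : z ∈ H := by
    have h : z = ι (1, rot4) * ι (1, rot4) := by
      rw [← map_mul]
      exact congrArg ι (Prod.ext (by simp) rfl)
    rw [h]
    exact hsq _
  have hwH : w ∈ H := hcz ▸ hHn.conj_mem z hzH c
  have heven : ∀ σ : Perm (Fin 4), Perm.sign σ = 1 → ι (1, σ) ∈ H := by
    intro σ hσ
    have hci : ∀ i : ℕ, ι (1, c0 ^ i) ∈ H := fun i => by
      rw [show ((1, c0 ^ i) : M) = (1, c0) ^ i from Prod.ext (by simp) (by simp), map_pow]
      exact pow_mem hcH i
    have hsplit : ∀ a b : Perm (Fin 4), ι (1, a * b) = ι (1, a) * ι (1, b) := fun a b => by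
      rw [← map_mul, Prod.mk_mul_mk, one_mul]
    obtain ⟨i, h | h | h | h⟩ := even_data σ hσ <;> subst h
    · exact hci _
    · rw [hsplit]; exact mul_mem hzH (hci _)
    · rw [hsplit]; exact mul_mem hwH (hci _)
    · rw [hsplit, hsplit]; exact mul_mem (mul_mem hzH hwH) (hci _)
  have hRH : ¬ δ.range ≤ H := by
    intro hle
    have h1 := Subgroup.card_dvd_of_le hle
    rw [hR16] at h1
    exact h16H h1
  have hCH : ¬ C ≤ H := fun hle => hRH fun x hx => by
    obtain ⟨⟨i, a⟩, rfl⟩ := hx
    exact hle (hιC _)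
  have htopC : H ≤ C → C = ⊤ := by
    intro hle
    have h1 := Subgroup.relIndex_mul_index hle
    rw [hH] at h1
    rcases (Nat.dvd_prime Nat.prime_two).mp (Dvd.intro _ h1) with h3 | h3
    · exact absurd (Subgroup.relIndex_eq_one.mp h3) hCH
    · rw [h3] at h1
      exact Subgroup.index_eq_one.mp (by omega)
  by_cases htH : t ∈ H
  · left
    refine htopC ?_
    -- membership in `H` is evenness
    have hmem : ∀ i σ, ι (i, σ) ∈ H ↔ Perm.sign σ = 1 := by
      have hfst : ∀ i : Multiplicative (ZMod 2), ι (i, 1) ∈ H := by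
        intro i
        have hi := zmod_two i
        rcases hi with rfl | rfl
        · rw [Prod.mk_one_one, map_one]; exact one_mem _
        · show ι t0 ∈ H
          rw [ht0]; exact htH
      intro i σ
      have hsplit : ι (i, σ) = ι (i, 1) * ι (1, σ) := by
        rw [← map_mul, Prod.mk_mul_mk, mul_one, one_mul]
      refine ⟨fun h => ?_, fun h => by rw [hsplit]; exact mul_mem (hfst i) (heven σ h)⟩
      by_contra hne
      have hσ1 : Perm.sign σ = -1 := (Int.units_eq_one_or _).resolve_left hne
      apply hRH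
      rintro _ ⟨⟨j, a⟩, rfl⟩
      rw [hδ]
      rcases Int.units_eq_one_or (Perm.sign (dih4 a)) with ha | ha
      · rw [show ι (j, dih4 a) = ι (j, 1) * ι (1, dih4 a) by
          rw [← map_mul, Prod.mk_mul_mk, mul_one, one_mul]]
        exact mul_mem (hfst j) (heven _ ha)
      · have he : Perm.sign (dih4 a * σ⁻¹) = 1 := by
          rw [map_mul, map_inv, ha, hσ1]; rfl
        have h' : ι (j, dih4 a) = ι (j * i⁻¹, 1) * ι (1, dih4 a * σ⁻¹) * ι (i, σ) := by
          rw [← map_mul, ← map_mul, Prod.mk_mul_mk, Prod.mk_mul_mk]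
          exact congrArg ι (Prod.ext (by simp) (by simp))
        rw [h']
        exact mul_mem (mul_mem (hfst _) (heven _ he)) h
    let E1 : Subgroup G := δ.range ⊓ H
    have hcardE1 : Nat.card E1 = 8 := by
      have h1 := Subgroup.card_mul_index (H.subgroupOf δ.range)
      change _ * H.relIndex δ.range = _ at h1
      rw [← Subgroup.inf_subgroupOf_left,
        Nat.card_congr (Subgroup.subgroupOfEquivOfLe inf_le_left).toEquiv, hR16] at h1
      have h3 : H.relIndex δ.range ∣ 2 := (Subgroup.relIndex_dvd_index_of_normal H _).trans (dvd_of_eq hH)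
      rcases (Nat.dvd_prime Nat.prime_two).mp h3 with h4 | h4
      · exact absurd (Subgroup.relIndex_eq_one.mp h4) hRH
      · rw [h4] at h1
        show Nat.card (δ.range ⊓ H : Subgroup G) = 8
        omega
    have hE1mem : ∀ {m : M}, ι m ∈ E1 ↔ (m.2 = 1 ∨ m.2 = u0 ∨ m.2 = w0 ∨ m.2 = u0 * w0) := by
      rintro ⟨i, σ⟩
      constructor
      · rintro ⟨⟨⟨j, a⟩, he⟩, hh⟩
        have h1 := hιi he
        obtain rfl : dih4 a = σ := congrArg Prod.snd h1
        exact even_dih_data a ((hmem i _).mp hh)
      · intro h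
        obtain ⟨aw, haw⟩ := fwD
        have hD : ∃ a, dih4 a = σ := by
          rcases h with h | h | h | h <;> simp only at h <;> subst h
          · exact ⟨1, (dihHom).map_one⟩
          · exact ⟨_, dih_data.2.2.1⟩
          · exact ⟨aw, haw⟩
          · exact ⟨DihedralGroup.r 2 * aw, by rw [dih4_mul, dih_data.2.2.1, haw]⟩
        obtain ⟨a, rfl⟩ := hD
        refine ⟨⟨(i, a), rfl⟩, (hmem i _).mpr ?_⟩
        rcases h with h | h | h | h <;> simp only at h <;> rw [h]
        · exact map_one _
        · exact dih_sign.2.1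
        · exact dih_sign.2.2.1
        · rw [map_mul, dih_sign.2.1, dih_sign.2.2.1, one_mul]
    have hE1C : E1 ≤ C := fun x hx => by
      obtain ⟨⟨i, a⟩, rfl⟩ := hx.1
      exact hιC _
    have hnormE1 : ∀ m, ι m ∈ Subgroup.normalizer (E1 : Set G) := by
      have hsub : ∀ m, ∀ x ∈ E1, ι m * x * (ι m)⁻¹ ∈ E1 := by
        intro m x hx
        obtain ⟨y, rfl⟩ := hιs x (hE1C hx)
        rw [← map_mul, ← map_inv, ← map_mul, hE1mem]
        show m.2 * y.2 * m.2⁻¹ = 1 ∨ m.2 * y.2 * m.2⁻¹ = u0 ∨ m.2 * y.2 * m.2⁻¹ = w0 ∨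
          m.2 * y.2 * m.2⁻¹ = u0 * w0
        rcases hE1mem.mp hx with h | h | h | h <;> rw [h]
        · left; group
        · exact Or.inr (normal_data m.2)
        · exact Or.inr (normal_data' m.2)
        · have h1 := normal_data m.2
          have h3 := normal_data' m.2
          rw [show m.2 * (u0 * w0) * m.2⁻¹ = (m.2 * u0 * m.2⁻¹) * (m.2 * w0 * m.2⁻¹) by group]
          rcases h1 with h1 | h1 | h1 <;> rcases h3 with h3 | h3 | h3 <;> rw [h1, h3] <;> decide +kernel
      intro m
      rw [Subgroup.mem_normalizer_iff]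
      intro x
      refine ⟨hsub m x, fun hx => ?_⟩
      have h1 := hsub m⁻¹ _ hx
      rw [map_inv, inv_inv] at h1
      simpa [mul_assoc] using h1
    let K : Subgroup G := H ⊓ C
    have hKcard : Nat.card K = 24 := by
      have h1 := Subgroup.card_mul_index (H.subgroupOf C)
      change _ * H.relIndex C = _ at h1
      rw [← Subgroup.inf_subgroupOf_left,
        Nat.card_congr (Subgroup.subgroupOfEquivOfLe inf_le_left).toEquiv, hCcard] at h1
      have h3 : H.relIndex C ∣ 2 := (Subgroup.relIndex_dvd_index_of_normal H _).trans (dvd_of_eq hH)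
      rcases (Nat.dvd_prime Nat.prime_two).mp h3 with h4 | h4
      · exact absurd (Subgroup.relIndex_eq_one.mp h4) hCH
      · rw [h4] at h1
        show Nat.card (H ⊓ C : Subgroup G) = 24
        rw [inf_comm]
        omega
    let N : Subgroup G := H ⊓ Subgroup.normalizer (E1 : Set G)
    have hKN : K ≤ N := fun x hx => ⟨hx.1, by
      obtain ⟨m, rfl⟩ := hιs x hx.2
      exact hnormE1 m⟩
    let : MulAction N G := MulAction.compHom G ((MulAut.conj).comp N.subtype)
    have hsmul : ∀ (n : N) (g : G), n • g = n.1 * g * n.1⁻¹ := fun _ _ => rfl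
    have hstab : Nat.card (MulAction.stabilizer N z) = 8 := by
      rw [← hcardE1]
      have hle : E1 ≤ N := fun x hx => ⟨hx.2, Subgroup.le_normalizer hx⟩
      refine (Nat.card_congr ?_).trans (Nat.card_congr (Subgroup.subgroupOfEquivOfLe hle).toEquiv)
      refine (MulEquiv.subgroupCongr ?_).toEquiv
      ext n
      rw [MulAction.mem_stabilizer_iff, hsmul, Subgroup.mem_subgroupOf, mul_inv_eq_iff_eq_mul]
      exact ⟨fun h => ⟨hCz _ h, n.2.1⟩, fun h => hRz _ h.1⟩
    have hzE1 : z ∈ E1 := hE1mem.mpr (Or.inr (Or.inl rfl))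
    have htE1 : t ∈ E1 := ht0 ▸ hE1mem.mpr (Or.inl rfl)
    have horb : (MulAction.orbit N z).ncard ≤ 6 := by
      have hsub : MulAction.orbit N z ⊆ ((E1 : Set G) \ {1, t}) := by
        rintro _ ⟨n, rfl⟩
        show n • z ∈ _
        rw [hsmul]
        refine ⟨(Subgroup.mem_normalizer_iff.mp n.2.2 z).mp hzE1, ?_⟩
        rintro (h | h)
        · exact hz1 (conj_eq_one_iff.mp h)
        · exact hnconj _ h
      refine le_trans (Set.ncard_le_ncard hsub (Set.toFinite _)) ?_
      rw [Set.ncard_sdiff (by
        rintro x (rfl | rfl)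
        exacts [one_mem _, htE1]) (Set.toFinite _), Set.ncard_pair (Ne.symm ht1),
        ← Nat.card_coe_set_eq, SetLike.coe_sort_coe, hcardE1]
    have hN : Nat.card N = 8 * (MulAction.orbit N z).ncard := by
      rw [← MulAction.index_stabilizer, ← hstab, Subgroup.card_mul_index]
    have h24 : 24 ∣ Nat.card N := hKcard ▸ Subgroup.card_dvd_of_le hKN
    have hNle : N ≤ C := by
      have h3 : 3 ∣ (MulAction.orbit N z).ncard := by
        rw [hN] at h24
        exact (Nat.mul_dvd_mul_iff_left (by norm_num : 0 < 8)).mp (by simpa using h24)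
      have hne : (MulAction.orbit N z).ncard ≠ 0 := fun h => by
        rw [h, mul_zero] at hN
        exact Nat.card_pos.ne' hN
      have h6 : (MulAction.orbit N z).ncard ≠ 6 := fun h => by
        rw [h] at hN
        exact h16H (dvd_trans ⟨3, by rw [hN]; norm_num⟩ (Subgroup.card_dvd_of_le (inf_le_left : N ≤ H)))
      have hK : K = N := Subgroup.eq_of_le_of_card_ge hKN (by omega)
      rw [← hK]
      exact inf_le_right
    let P₀ : Subgroup H := E1.subgroupOf H
    have hP₀card : Nat.card P₀ = 8 :=
      (Nat.card_congr (Subgroup.subgroupOfEquivOfLe (inf_le_right : E1 ≤ H)).toEquiv).trans hcardE1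
    obtain ⟨P, hP⟩ := (IsPGroup.of_card (p := 2) (n := 3) (G := P₀) (by rw [hP₀card]; norm_num)).exists_le_sylow
    have hPeq : P₀ = (P : Subgroup H) := Subgroup.eq_of_le_of_card_ge hP (by
      obtain ⟨n, hn⟩ := IsPGroup.iff_card.mp P.isPGroup'
      rw [hP₀card, hn]
      refine le_trans (Nat.pow_le_pow_right (by norm_num) (?_ : n ≤ 3)) (by norm_num)
      by_contra hlt
      exact h16H ((Nat.pow_dvd_pow 2 (by omega : 4 ≤ n)).trans
        (hn ▸ (P : Subgroup H).card_subgroup_dvd_card)))
    have hPab : IsMulCommutative (P : Subgroup H) := by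
      refine ⟨⟨fun a b => ?_⟩⟩
      have hab : ∀ x : (P : Subgroup H), x.1.1 ∈ E1 := fun x => by
        exact (hPeq.symm.le x.2 : (x.1 : H) ∈ P₀)
      obtain ⟨ma, ha⟩ := hιs _ (hE1C (hab a))
      obtain ⟨mb, hb⟩ := hιs _ (hE1C (hab b))
      apply Subtype.ext
      apply Subtype.ext
      show a.1.1 * b.1.1 = b.1.1 * a.1.1
      have hA := hE1mem.mp (ha.symm ▸ hab a : ι ma ∈ E1)
      have hB := hE1mem.mp (hb.symm ▸ hab b : ι mb ∈ E1)
      rw [← ha, ← hb, ← map_mul, ← map_mul]
      refine congrArg ι (Prod.ext (mul_comm _ _) ?_)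
      show ma.2 * mb.2 = mb.2 * ma.2
      rcases hA with h | h | h | h <;> rcases hB with h' | h' | h' | h' <;> rw [h, h'] <;> decide +kernel
    have hiso : Cfsg.IsIsolatedInvolution (⟨t, htH⟩ : H) := by
      refine ⟨by rw [← Subgroup.orderOf_coe]; exact ht, fun g hg => ?_⟩
      have hg' : t * (g.1 * t * g.1⁻¹) = (g.1 * t * g.1⁻¹) * t := congrArg Subtype.val hg
      obtain ⟨m, hmeq⟩ := hιs _ (Subgroup.mem_centralizer_singleton_iff.mpr hg'.symm)
      have hsq1 : ι (m * m) = 1 := by rw [map_mul, hmeq, conj_mul, ht2, mul_one, mul_inv_cancel]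
      have hmH : ι m ∈ H := hmeq.symm ▸ hHn.conj_mem t htH g.1
      have hm2 : m.2 * m.2 = 1 := congrArg Prod.snd (hιi (hsq1.trans (map_one ι).symm))
      have hmE : ι m ∈ E1 := hE1mem.mpr (even_inv_data m.2 ((hmem m.1 m.2).mp hmH) hm2)
      have hx : (⟨t, htH⟩ : H) ∈ (P : Subgroup H) := hPeq ▸ (htE1 : (⟨t, htH⟩ : H) ∈ P₀)
      have hy : g⁻¹⁻¹ * ⟨t, htH⟩ * g⁻¹ ∈ (P : Subgroup H) := by
        rw [inv_inv, ← hPeq]
        show g.1 * t * g.1⁻¹ ∈ E1
        rw [← hmeq]; exact hmE
      obtain ⟨n, hn, hne⟩ := P.conj_eq_normalizer_conj_of_mem _ g⁻¹ hx hy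
      rw [inv_inv] at hne
      rw [hne]
      have hnN : n.1 ∈ C := by
        refine hNle ⟨n.2, ?_⟩
        replace hn : n ∈ Subgroup.normalizer (P₀ : Set H) := by
          rw [hPeq]; exact hn
        show (n : G) ∈ Subgroup.normalizer (E1 : Set G)
        rw [Subgroup.mem_normalizer_iff] at hn ⊢
        intro x
        constructor
        · intro hxE
          exact (hn ⟨x, hxE.2⟩).mp hxE
        · intro hxE
          have hxH : x ∈ H := by
            have h1 := hHn.conj_mem _ hxE.2 n.1⁻¹
            simpa [mul_assoc] using h1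
          exact (hn ⟨x, hxH⟩).mpr hxE
      apply Subtype.ext
      show n.1⁻¹ * t * n.1 = t
      rw [mul_assoc, ← Subgroup.mem_centralizer_singleton_iff.mp hnN, inv_mul_cancel_left]
    have hO : Cfsg.pPrimeCore 2 H = ⊥ := by
      rw [← Subgroup.map_eq_bot_iff_of_injective _ H.subtype_injective]
      have hn : (Cfsg.pPrimeCore 2 H).Characteristic := inferInstance
      have hnG : ((Cfsg.pPrimeCore 2 H).map H.subtype).Normal := inferInstance
      have hinv : ∀ {y : G}, y * y = 1 → ∀ x ∈ (Cfsg.pPrimeCore 2 H).map H.subtype,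
          y * x * y ∈ (Cfsg.pPrimeCore 2 H).map H.subtype := fun {y} hy x hx => by
        have h1 := hnG.conj_mem x hx y
        rwa [inv_eq_of_mul_eq_one_left hy] at h1
      refine hodd _ ?_ (hinv hz2) (hinv hw2)
      rw [Subgroup.card_subtype]
      exact Nat.coprime_two_right.mp CfsgLib.PCore.pPrimeCore_coprime
    intro x hx
    have h1 := CfsgLib.Involutions.zstar H ⟨t, htH⟩ hiso ⟨x, hx⟩
    rw [hO, Subgroup.mem_bot] at h1
    exact Subgroup.mem_centralizer_singleton_iff.mpr
      (mul_inv_eq_iff_eq_mul.mp (congrArg Subtype.val (mul_inv_eq_one.mp h1)))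
  · -- the outer case
    have hflip : ∀ σ, ι (1, σ) ∉ H → ι (Multiplicative.ofAdd 1, σ) ∈ H := by
      intro σ hn
      rw [show ((Multiplicative.ofAdd 1, σ) : M) = t0 * (1, σ) from Prod.ext (by simp [t0]) (by simp [t0]),
        map_mul, ht0]
      exact hm.mpr (iff_of_false htH hn)
    have huniq : ∀ {i j σ}, ι (i, σ) ∈ H → ι (j, σ) ∈ H → i = j := by
      intro i j σ hi hj
      have h1 := mul_mem hi (inv_mem hj)
      rw [← map_inv, ← map_mul] at h1
      have h3 : ((i, σ) : M) * (j, σ)⁻¹ = (i * j⁻¹, 1) := Prod.ext (by simp) (by simp)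
      rw [h3] at h1
      have hij := zmod_two (i * j⁻¹)
      rcases hij with h | h
      · exact mul_inv_eq_one.mp h
      · exfalso
        rw [h] at h1
        exact htH (ht0 ▸ h1)
    let s : Perm (Fin 4) → Multiplicative (ZMod 2) := fun σ =>
      if ι (1, σ) ∈ H then 1 else Multiplicative.ofAdd 1
    have hs : ∀ σ, ι (s σ, σ) ∈ H := fun σ => by
      by_cases h : ι (1, σ) ∈ H
      · simp only [s, if_pos h]; exact h
      · simp only [s, if_neg h]; exact hflip σ h
    have hsmul' : ∀ a b, s (a * b) = s a * s b := fun a b => huniq (hs (a * b)) (by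
      rw [show ((s a * s b, a * b) : M) = (s a, a) * (s b, b) from rfl, map_mul]
      exact mul_mem (hs a) (hs b))
    let g : Perm (Fin 4) →* G := ι.comp (MonoidHom.mk' (fun σ => ((s σ, σ) : M))
      fun a b => Prod.ext (hsmul' a b) rfl)
    have hgi : Function.Injective g := fun a b h => congrArg Prod.snd (hιi h)
    have hgH : ∀ σ, g σ ∈ H := hs
    have hgev : ∀ σ, Perm.sign σ = 1 → g σ = ι (1, σ) := fun σ hσ => by
      show ι (s σ, σ) = _
      simp only [s, if_pos (heven σ hσ)]
    have hgz : g u0 = z := hgev _ dih_sign.2.1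
    have hgw : g w0 = w := hgev _ dih_sign.2.2.1
    have hgc : g c0 = c := hgev _ dih_sign.2.2.2.1
    have hHC : ∀ x ∈ H, x * t = t * x → ∃ σ, g σ = x := by
      intro x hx hxt
      obtain ⟨⟨i, σ⟩, rfl⟩ := hιs x (Subgroup.mem_centralizer_singleton_iff.mpr hxt)
      exact ⟨σ, congrArg ι (Prod.ext (huniq (hs σ) hx) rfl)⟩
    have hHz : ∀ x ∈ H, x * z = z * x → ∃ a, g (dih4 a) = x := by
      intro x hx hxz
      obtain ⟨⟨i, a⟩, rfl⟩ := hCz x hxz
      exact ⟨a, congrArg ι (Prod.ext (huniq (hs _) hx) rfl)⟩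
    have hgcomm : ∀ σ, g σ * t = t * g σ := fun σ => hιcomm _
    have htn : ∀ x ∈ H, t * x * t ∈ H := fun x hx => by
      have := hHn.conj_mem x hx t
      rwa [inv_eq_of_mul_eq_one_left ht2] at this
    have hgfix : ∀ σ, t * g σ * t = g σ := fun σ => by
      rw [← hgcomm σ, mul_assoc, ht2, mul_one]
    let g' : Perm (Fin 4) →* H := g.codRestrict H hgH
    let ψH : H →* H := ((MulAut.conj t).toMonoidHom.comp H.subtype).codRestrict H fun x => by
      show t * x.1 * t⁻¹ ∈ H
      rw [inv_eq_of_mul_eq_one_left ht2]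
      exact htn _ x.2
    have hψH : ∀ x : H, (ψH x).1 = t * x.1 * t := fun x => by
      show t * x.1 * t⁻¹ = _
      rw [inv_eq_of_mul_eq_one_left ht2]
    by_cases hidx : ∀ L : Subgroup H, L.index ≠ 2
    · have hzHord : orderOf (⟨z, hzH⟩ : H) = 2 := by rw [← Subgroup.orderOf_coe]; exact hzord
      let f : DihedralGroup 4 →* ↥(Subgroup.centralizer ({⟨z, hzH⟩} : Set H)) :=
        (g'.comp dihHom).codRestrict _ fun a => Subgroup.mem_centralizer_singleton_iff.mpr (Subtype.ext (by
          show g (dih4 a) * z = z * g (dih4 a)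
          rw [← hgz, ← map_mul, ← map_mul, dih_data.1]))
      have hf : Function.Bijective f := by
        constructor
        · intro a b h
          exact dih4_injective (hgi (congrArg (fun x => x.1.1) h))
        · intro x
          obtain ⟨a, ha⟩ := hHz x.1.1 x.1.2
            (congrArg Subtype.val (Subgroup.mem_centralizer_singleton_iff.mp x.2))
          exact ⟨a, Subtype.ext (Subtype.ext ha)⟩
      let eD := (MulEquiv.ofBijective f hf).symm
      have hsimple := DihedralEight.isSimpleGroup hzHord eD hidx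
      rcases DihedralEight.card_168_or_360 hzHord eD hidx with h168 | h360
      · exfalso
        refine SymSix.not_card_168 H hH h168 hsimple t ht htH hCcard fun k hk => ?_
        have hkc := Subgroup.mem_center_iff.mp hk
        obtain ⟨m, rfl⟩ := hιs k (Subgroup.mem_centralizer_singleton_iff.mpr (hkc t).symm)
        rcases center_data' m (fun x => hιi (by rw [map_mul, map_mul]; exact hkc _)) with h | h
        · exact Or.inl (by rw [h, map_one])
        · exact Or.inr (by rw [h, ht0])
      · obtain ⟨e0⟩ := Cfsg.Agent.S0497.result (G := H) h360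
        let dt6 : ↥(alternatingGroup (Fin 6)) := ⟨AltSix.dt, AltRigid.signs6.1⟩
        have hdt : orderOf (e0.symm dt6) = 2 := by
          rw [MulEquiv.orderOf_eq]
          refine orderOf_eq_prime (Subtype.ext ?_) fun h => ?_
          · show AltSix.dt ^ 2 = 1
            decide +kernel
          · have := congrArg Subtype.val h
            revert this
            decide +kernel
        obtain ⟨k, hk⟩ := isConj_iff.mp (DihedralEight.isConj_of_no_index_two
          (DihedralEight.isD8Centralizer_of_equiv hzHord eD) hidx hdt)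
        let eH : H ≃* ↥(alternatingGroup (Fin 6)) := (MulAut.conj k).trans e0
        have heHz : eH ⟨z, hzH⟩ = dt6 := by
          show e0 (k * ⟨z, hzH⟩ * k⁻¹) = dt6
          rw [hk, e0.apply_symm_apply]
        let Φ : Perm (Fin 4) →* ↥(alternatingGroup (Fin 6)) := eH.toMonoidHom.comp g'
        have hΦi : Function.Injective Φ := eH.injective.comp fun a b h => hgi (congrArg Subtype.val h :)
        have hΦu : (Φ u0).1 = AltSix.dt := by
          show (eH (g' u0)).1 = _
          rw [show g' u0 = ⟨z, hzH⟩ from Subtype.ext hgz, heHz]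
        have hD : ∀ a, ∃ b, AltSix.dihFun b = (Φ (dih4 a)).1 := by
          intro a
          refine AltSix.dihFun_complete _ ?_ (Φ (dih4 a)).2
          rw [← hΦu]
          have := congrArg (fun σ => (Φ σ).1) (dih_data.1 a)
          simpa using this
        choose κ hκ using hD
        have hκs : Function.Surjective κ := Finite.injective_iff_surjective.mp fun a b h => by
          refine dih4_injective (hΦi (Subtype.ext ?_))
          rw [← hκ, ← hκ, h]
        have hDs : ∀ b, ∃ a, (Φ (dih4 a)).1 = AltSix.dihFun b := fun b => by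
          obtain ⟨a, rfl⟩ := hκs b
          exact ⟨a, (hκ a).symm⟩
        let ψ6 : ↥(alternatingGroup (Fin 6)) →* ↥(alternatingGroup (Fin 6)) :=
          eH.toMonoidHom.comp (ψH.comp eH.symm.toMonoidHom)
        have hψΦ : ∀ σ, ψ6 (Φ σ) = Φ σ := fun σ => by
          show eH (ψH (eH.symm (eH (g' σ)))) = eH (g' σ)
          rw [eH.symm_apply_apply]
          congr 1
          exact Subtype.ext ((hψH _).trans (hgfix σ))
        have hfixD : ∀ b, ∀ x : ↥(alternatingGroup (Fin 6)), x.1 = AltSix.dihFun b → ψ6 x = x := by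
          intro b x hx
          obtain ⟨a, ha⟩ := hDs b
          rw [show x = Φ (dih4 a) from Subtype.ext (hx.trans ha.symm), hψΦ]
        have hσ3 : (Φ c0).1 ^ 3 = 1 := by
          rw [← SubmonoidClass.coe_pow, ← map_pow, fc3, map_one]
          rfl
        have hσ1 : (Φ c0).1 ≠ 1 := fun h => fc1 (hΦi (by rw [map_one]; exact Subtype.ext h))
        have hclosed : ∀ b, ∃ (a : DihedralGroup 4) (i : Fin 3),
            (Φ c0).1 * AltSix.dihFun b = AltSix.dihFun a * (Φ c0).1 ^ i.val := by
          intro b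
          obtain ⟨a, ha⟩ := hDs b
          obtain ⟨a', i, hai⟩ := dih_data.2.1 a
          refine ⟨κ a', i, ?_⟩
          rw [← ha, hκ, ← SubmonoidClass.coe_pow, ← map_pow, ← Subgroup.coe_mul, ← map_mul,
            ← Subgroup.coe_mul, ← map_mul, hai]
        have hrot : AltSix.dihFun (DihedralGroup.r 1) = AltSix.rot := by decide +kernel
        have hrefl : AltSix.dihFun (DihedralGroup.sr 0) = AltSix.refl := by decide +kernel
        obtain ⟨ar, ir, hr⟩ := hclosed (DihedralGroup.r 1)
        obtain ⟨af, iff', hf'⟩ := hclosed (DihedralGroup.sr 0)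
        rw [hrot] at hr
        rw [hrefl] at hf'
        have hfixc : ∀ (x : ↥(alternatingGroup (Fin 6))) (a : DihedralGroup 4) (i : Fin 3),
            x.1 = AltSix.dihFun a * (Φ c0).1 ^ i.val → ψ6 x = x := by
          intro x a i hx
          obtain ⟨a', ha'⟩ := hDs a
          have hx' : x = Φ (dih4 a' * c0 ^ i.val) := Subtype.ext (by
            rw [hx, map_mul, map_pow, Subgroup.coe_mul, SubmonoidClass.coe_pow, ha'])
          rw [hx', hψΦ]
        have hfin := AltRigid.rigid_six ψ6 (hfixD _ _ hrot.symm) (hfixD _ _ hrefl.symm) (by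
          rcases AltRigid.closed_contains _ hσ3 hσ1 (Φ c0).2 ⟨ar, ir, hr⟩ ⟨af, iff', hf'⟩ with
            ⟨a, i, h⟩ | ⟨a, i, h⟩
          · exact Or.inl (hfixc _ a i h)
          · exact Or.inr (hfixc _ a i h))
        have hψe : ∀ (x : H), ψ6 (eH x) = eH (ψH x) := fun x => by
          show eH (ψH (eH.symm (eH x))) = _
          rw [eH.symm_apply_apply]
        have hgoal : ∀ τ : Perm (Fin 6), τ * τ = 1 → Perm.sign τ = -1 →
            (∀ x, (ψ6 x).1 = τ * x.1 * τ) → Nonempty (G ≃* Perm (Fin 6)) := by
          intro τ hτ hτo hall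
          refine SymSix.equiv_perm_six H hH t ht2 htH eH τ hτ hτo fun x x' hxx => ?_
          rw [show x' = ψH x from Subtype.ext (hxx.trans (hψH x).symm), ← hψe, hall]
        rcases hfin with h | h | h
        · exfalso
          have hle : H ≤ C := fun x hx => by
            have h1 := h (eH ⟨x, hx⟩)
            rw [hψe] at h1
            have h3 := (hψH ⟨x, hx⟩).symm.trans (congrArg Subtype.val (eH.injective h1))
            refine Subgroup.mem_centralizer_singleton_iff.mpr ?_
            have h4 := congrArg (fun y => y * t) h3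
            simp only [mul_assoc, ht2, mul_one] at h4
            exact h4.symm
          have := Subgroup.card_le_of_le hle
          omega
        · exact Or.inr (hgoal _ AltRigid.tau_data.1 AltRigid.signs6.2.2.2.2.2.1 h)
        · exact Or.inr (hgoal _ AltRigid.tau_data.2.1 AltRigid.signs6.2.2.2.2.2.2 h)
    · left
      simp only [not_forall, not_not] at hidx
      obtain ⟨L0, hL0⟩ := hidx
      have hL0n : L0.Normal := Subgroup.normal_of_index_eq_two hL0
      have hm0 := fun {a b : H} => Subgroup.mul_mem_iff_of_index_two hL0 (a := a) (b := b)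
      have hL0sq : ∀ x : H, x * x ∈ L0 := fun x => hm0.mpr Iff.rfl
      have hzL0 : g' u0 ∈ L0 := by
        rw [show u0 = rot4 * rot4 from rfl, map_mul]; exact hL0sq _
      have hcL0 : g' c0 ∈ L0 := by
        rw [show c0 = (c0 * c0) * (c0 * c0) by rw [← pow_two, fcsq], map_mul]; exact hL0sq _
      have hwL0 : g' w0 ∈ L0 := by
        rw [← fcu, map_mul, map_mul, map_inv]
        exact hL0n.conj_mem _ hzL0 _
      have hL0card : 2 * Nat.card L0 = Nat.card H := by rw [← L0.card_mul_index, hL0, mul_comm]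
      have h8L : ¬ 8 ∣ Nat.card L0 := fun hd => h16H (hL0card ▸ Nat.mul_dvd_mul_left 2 hd)
      -- the conjugate by `t`
      let L1 : Subgroup H := L0.comap ψH
      have hψs : Function.Surjective ψH := fun x => ⟨ψH x, Subtype.ext (by
        rw [hψH, hψH]
        simp only [mul_assoc]
        rw [ht2, mul_one, ← mul_assoc, ht2, one_mul])⟩
      have hL1 : L1.index = 2 := by rw [Subgroup.index_comap_of_surjective _ hψs, hL0]
      have hψg : ∀ σ, ψH (g' σ) = g' σ := fun σ => Subtype.ext ((hψH _).trans (hgfix σ))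
      let four' : Multiplicative (ZMod 2) × Multiplicative (ZMod 2) →* H :=
        g'.comp (MonoidHom.mk' four four_hom.1)
      have hfour : ∀ X : Subgroup H, g' u0 ∈ X → g' w0 ∈ X → 4 ∣ Nat.card X := by
        intro X hu hw
        have hmemX : ∀ p, four' p ∈ X := fun p => by
          show g' ((if p.1 = 1 then 1 else u0) * (if p.2 = 1 then 1 else w0)) ∈ X
          rw [map_mul]
          refine mul_mem ?_ ?_
          · split_ifs
            · rw [map_one]; exact one_mem _
            · exact hu
          · split_ifs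
            · rw [map_one]; exact one_mem _
            · exact hw
        have h := Subgroup.card_dvd_of_injective (four'.codRestrict X hmemX) fun p q h =>
          four_hom.2.1 p q (hgi (congrArg (fun y => y.1.1) h))
        rwa [Nat.card_prod, Nat.card_congr Multiplicative.toAdd, Nat.card_zmod] at h
      have hL01 : L0 ≤ L1 := by
        have : L1.Normal := Subgroup.normal_of_index_eq_two hL1
        have h3 : L1.relIndex L0 ∣ 2 := (Subgroup.relIndex_dvd_index_of_normal L1 L0).trans (dvd_of_eq hL1)
        rcases (Nat.dvd_prime Nat.prime_two).mp h3 with h4 | h4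
        · exact Subgroup.relIndex_eq_one.mp h4
        · exfalso
          have h1 := Subgroup.card_mul_index (L1.subgroupOf L0)
          change _ * L1.relIndex L0 = _ at h1
          rw [← Subgroup.inf_subgroupOf_left,
            Nat.card_congr (Subgroup.subgroupOfEquivOfLe inf_le_left).toEquiv, h4] at h1
          obtain ⟨q, hq⟩ := hfour (L0 ⊓ L1) ⟨hzL0, by show ψH (g' u0) ∈ L0; rw [hψg]; exact hzL0⟩
            ⟨hwL0, by show ψH (g' w0) ∈ L0; rw [hψg]; exact hwL0⟩
          exact h8L ⟨q, by rw [← h1, hq]; ring⟩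
      let ψL : L0 →* L0 := (ψH.comp L0.subtype).codRestrict L0 fun x => hL01 x.2
      have hψLi : Function.Injective ψL := fun a b h => by
        have h1 : ψH a.1 = ψH b.1 := congrArg Subtype.val h
        exact Subtype.ext ((Finite.injective_iff_surjective.mpr hψs) h1)
      have hdih : ∀ a, g' (dih4 a) ∈ L0 → Perm.sign (dih4 a) = 1 := by
        intro a ha
        by_contra hne
        have hev : ∀ σ, Perm.sign σ = 1 → g' σ ∈ L0 := by
          intro σ hσ
          obtain ⟨i, h | h | h | h⟩ := even_data σ hσ <;> subst h <;> simp only [map_mul, map_pow]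
          · exact pow_mem hcL0 _
          · exact mul_mem hzL0 (pow_mem hcL0 _)
          · exact mul_mem hwL0 (pow_mem hcL0 _)
          · exact mul_mem (mul_mem hzL0 hwL0) (pow_mem hcL0 _)
        have hall : ∀ σ, g' σ ∈ L0 := by
          intro σ
          rcases Int.units_eq_one_or (Perm.sign σ) with h | h
          · exact hev σ h
          · rw [show σ = (σ * (dih4 a)⁻¹) * dih4 a by group, map_mul]
            refine mul_mem (hev _ ?_) ha
            rw [map_mul, map_inv, h, (Int.units_eq_one_or _).resolve_left hne]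
            rfl
        have h := Subgroup.card_dvd_of_injective ((g'.comp dihHom).codRestrict L0 fun a => hall _)
          fun a b h => dih4_injective (hgi (congrArg (fun y => y.1.1) h))
        rw [DihedralGroup.nat_card] at h
        exact h8L h
      have hLodd : ∀ X : Subgroup L0, X.Normal → Odd (Nat.card X) → X = ⊥ := by
        intro X hXn hXo
        let j : L0 →* G := H.subtype.comp L0.subtype
        have hj : Function.Injective j := H.subtype_injective.comp L0.subtype_injective
        rw [← Subgroup.map_eq_bot_iff_of_injective _ hj]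
        have hinv : ∀ y : L0, (j y) * (j y) = 1 → ∀ x ∈ X.map j, j y * x * j y ∈ X.map j := by
          rintro y hy _ ⟨x, hx, rfl⟩
          refine ⟨y * x * y⁻¹, hXn.conj_mem x hx y, ?_⟩
          rw [map_mul, map_mul, map_inv, inv_eq_of_mul_eq_one_left hy]
        refine hodd _ ?_ (hgz ▸ hinv ⟨g' u0, hzL0⟩ ?_) (hgw ▸ hinv ⟨g' w0, hwL0⟩ ?_)
        · rw [← Nat.card_congr (Subgroup.equivMapOfInjective X j hj).toEquiv]; exact hXo
        · show g u0 * g u0 = 1
          rw [hgz, hz2]
        · show g w0 * g w0 = 1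
          rw [hgw, hw2]
      have hzw' : (⟨g' u0, hzL0⟩ : L0) ≠ ⟨g' w0, hwL0⟩ := fun h =>
        fne (hgi (congrArg (fun y : L0 => y.1.1) h))
      have hordL : ∀ {σ : Perm (Fin 4)} (hσ : g' σ ∈ L0), σ * σ = 1 → σ ≠ 1 →
          orderOf (⟨g' σ, hσ⟩ : L0) = 2 := fun hσ h2' h1 => by
        refine orderOf_eq_prime (Subtype.ext ?_) fun h => h1 ?_
        · show (g' _) ^ 2 = 1
          rw [← map_pow, pow_two, h2', map_one]
        · exact hgi (by rw [map_one]; exact congrArg (fun y : L0 => y.1.1) h)
      have hres := SymSix.klein_case (⟨g' u0, hzL0⟩ : L0) ⟨g' w0, hwL0⟩ ⟨g' c0, hcL0⟩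
        (hordL hzL0 fu fu1) (hordL hwL0 fw fw1) hzw'
        (Subtype.ext (by show g' u0 * g' w0 = g' w0 * g' u0; rw [← map_mul, ← map_mul, fuw]))
        (fun x hx => by
          obtain ⟨a, ha⟩ := hHz x.1.1 x.1.2 (by
            rw [← hgz]
            exact congrArg (fun y : L0 => y.1.1) hx)
          have hax : g' (dih4 a) = x.1 := Subtype.ext ha
          have hsgn := hdih a (hax.symm ▸ x.2)
          rcases even_dih_data a hsgn with h | h | h | h <;> rw [h] at hax
          · exact Or.inl (Subtype.ext (hax.symm.trans (map_one g')))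
          · exact Or.inr (Or.inl (Subtype.ext hax.symm))
          · exact Or.inr (Or.inr (Or.inl (Subtype.ext hax.symm)))
          · refine Or.inr (Or.inr (Or.inr (Subtype.ext ?_)))
            rw [← hax, map_mul]
            rfl)
        (Subtype.ext (by show (g' c0) ^ 3 = 1; rw [← map_pow, fc3, map_one]))
        (Subtype.ext (by show g' c0 * g' u0 * (g' c0)⁻¹ = g' w0; rw [← map_mul, ← map_inv, ← map_mul, fcu]))
        (Subtype.ext (by
          show g' c0 * g' w0 * (g' c0)⁻¹ = g' u0 * g' w0
          rw [← map_mul, ← map_inv, ← map_mul, ← map_mul, fcw]))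
        h8L hLodd ψL hψLi (Subtype.ext (hψg _)) (Subtype.ext (hψg _)) (Subtype.ext (hψg _))
      have h12 : Nat.card L0 = 12 := by
        rcases hres with h | h
        · exact h
        · have h3 : 3 ∣ Nat.card L0 := by
            have : Fact (Nat.Prime 3) := ⟨Nat.prime_three⟩
            have hord : orderOf (⟨g' c0, hcL0⟩ : L0) = 3 := orderOf_eq_prime
              (Subtype.ext (by show (g' c0) ^ 3 = 1; rw [← map_pow, fc3, map_one]))
              fun h => fc1 (hgi (by rw [map_one]; exact congrArg (fun y : L0 => y.1.1) h))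
            exact hord ▸ orderOf_dvd_natCard _
          have h4 := hfour L0 hzL0 hwL0
          have h24 : Nat.card L0 ∣ 24 := by
            have hle : L0 ≤ g'.range := fun x hx => by
              have h1 := congrArg (fun y : L0 => y.1.1) (h ⟨x, hx⟩)
              change (ψH x).1 = x.1 at h1
              rw [hψH] at h1
              have h5 := congrArg (fun y => y * t) h1
              simp only [mul_assoc, ht2, mul_one] at h5
              obtain ⟨σ, hσ⟩ := hHC x.1 x.2 h5.symm
              exact ⟨σ, Subtype.ext hσ⟩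
            have h1 := Subgroup.card_dvd_of_le hle
            rwa [← Nat.card_congr (MonoidHom.ofInjective
              (fun a b h => hgi (congrArg Subtype.val h :) : Function.Injective g')).toEquiv,
              Nat.card_perm, Nat.card_fin] at h1
          have h6 : 12 ∣ Nat.card L0 :=
            Nat.Coprime.mul_dvd_of_dvd_of_dvd (by norm_num : Nat.Coprime 4 3) h4 h3
          obtain ⟨q, hq⟩ := h6
          have := Nat.le_of_dvd (by norm_num) h24
          rcases (by omega : q = 0 ∨ q = 1 ∨ q = 2) with rfl | rfl | rfl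
          · exact absurd hq (by have := (Nat.card_pos (α := L0)); omega)
          · exact hq
          · exact absurd ⟨3, hq⟩ h8L
      refine Subgroup.eq_top_of_card_eq _ ?_
      rw [hCcard, ← hGH, ← hL0card, h12]

end CfsgLib.InvChar.TwoSymFour
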