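import Mathlib

/-! Finite facts about the direct product of a group of order 2 and the symmetric group of degree 4. -/

set_option autoImplicit false

namespace CfsgLib.InvChar.TwoSymFour

open Equiv

/-- The group. -/
abbrev M := Multiplicative (ZMod 2) × Perm (Fin 4)

/-- The central involution. -/
def t0 : M := (Multiplicative.ofAdd 1, 1)
/-- A 4-cycle. -/
def rot4 : Perm (Fin 4) := swap 0 1 * swap 1 2 * swap 2 3
/-- A transposition inverting it. -/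
def refl4 : Perm (Fin 4) := swap 0 2
/-- The square of the 4-cycle. -/
def u0 : Perm (Fin 4) := rot4 * rot4
/-- Another double transposition. -/
def w0 : Perm (Fin 4) := swap 0 1 * swap 2 3
/-- A 3-cycle. -/
def c0 : Perm (Fin 4) := swap 2 3 * swap 1 2

/-- The dihedral group inside the symmetric group. -/
def dih4 : DihedralGroup 4 → Perm (Fin 4)
  | .r i => rot4 ^ i.val
  | .sr i => refl4 * rot4 ^ i.val

theorem dih4_mul : ∀ a b : DihedralGroup 4, dih4 (a * b) = dih4 a * dih4 b := by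
  decide +kernel

theorem dih4_injective : Function.Injective dih4 := by
  unfold Function.Injective
  decide +kernel

/-- The hom. -/
def dihHom : DihedralGroup 4 →* Perm (Fin 4) := MonoidHom.mk' dih4 dih4_mul

theorem center_data : ∀ m : M, m * m = 1 → (∀ x : M, x * m = m * x) → m = 1 ∨ m = t0 := by
  decide +kernel

theorem commutator_data : ∀ (a b : DihedralGroup 4),
    dih4 a * dih4 b * (dih4 a)⁻¹ * (dih4 b)⁻¹ = 1 ∨ dih4 a * dih4 b * (dih4 a)⁻¹ * (dih4 b)⁻¹ = u0 := by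
  decide +kernel

theorem dih_data : (∀ a : DihedralGroup 4, dih4 a * u0 = u0 * dih4 a) ∧
    (∀ a : DihedralGroup 4, ∃ (b : DihedralGroup 4) (i : Fin 3), c0 * dih4 a = dih4 b * c0 ^ i.val) ∧
    dih4 (.r 2) = u0 ∧ dih4 (.r 1) = rot4 ∧ dih4 (.sr 0) = refl4 := by
  decide +kernel

theorem four_data : u0 * u0 = 1 ∧ w0 * w0 = 1 ∧ u0 * w0 = w0 * u0 ∧ u0 ≠ 1 ∧ w0 ≠ 1 ∧ u0 ≠ w0 ∧
    c0 ^ 3 = 1 ∧ c0 ≠ 1 ∧ c0 * u0 * c0⁻¹ = w0 ∧ c0 * w0 * c0⁻¹ = u0 * w0 ∧
    c0 * (u0 * w0) * c0⁻¹ = u0 ∧ (∃ a, dih4 a = w0) ∧ (c0 * c0) ^ 2 = c0 := by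
  decide +kernel

theorem even_data : ∀ σ : Perm (Fin 4), Perm.sign σ = 1 →
    ∃ (i : Fin 3), σ = c0 ^ i.val ∨ σ = u0 * c0 ^ i.val ∨ σ = w0 * c0 ^ i.val ∨
      σ = u0 * w0 * c0 ^ i.val := by
  decide +kernel

theorem even_dih_data : ∀ a : DihedralGroup 4, Perm.sign (dih4 a) = 1 →
    dih4 a = 1 ∨ dih4 a = u0 ∨ dih4 a = w0 ∨ dih4 a = u0 * w0 := by
  decide +kernel

theorem normal_data : ∀ σ : Perm (Fin 4), σ * u0 * σ⁻¹ = u0 ∨ σ * u0 * σ⁻¹ = w0 ∨ σ * u0 * σ⁻¹ = u0 * w0 := by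
  decide +kernel

theorem normal_data' : ∀ σ : Perm (Fin 4), σ * w0 * σ⁻¹ = u0 ∨ σ * w0 * σ⁻¹ = w0 ∨ σ * w0 * σ⁻¹ = u0 * w0 := by
  decide +kernel

theorem zmod_two : ∀ i : Multiplicative (ZMod 2), i = 1 ∨ i = Multiplicative.ofAdd 1 := by
  decide

theorem center_data' : ∀ m : M, (∀ x : M, x * m = m * x) → m = 1 ∨ m = t0 := by
  decide +kernel

theorem even_inv_data : ∀ σ : Perm (Fin 4), Perm.sign σ = 1 → σ * σ = 1 →
    σ = 1 ∨ σ = u0 ∨ σ = w0 ∨ σ = u0 * w0 := by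
  decide +kernel

/-- The four group. -/
def four : Multiplicative (ZMod 2) × Multiplicative (ZMod 2) → Perm (Fin 4) := fun p =>
  (if p.1 = 1 then 1 else u0) * (if p.2 = 1 then 1 else w0)

theorem four_hom : (∀ p q, four (p * q) = four p * four q) ∧ (∀ p q, four p = four q → p = q) ∧
    ∀ p, Perm.sign (four p) = 1 := by
  decide +kernel

theorem dih_sign : Perm.sign rot4 = -1 ∧ Perm.sign u0 = 1 ∧ Perm.sign w0 = 1 ∧ Perm.sign c0 = 1 ∧
    (∀ a : DihedralGroup 4, dih4 a * u0 = u0 * dih4 a) := by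
  decide +kernel

end CfsgLib.InvChar.TwoSymFour
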