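import Mathlib
import Cfsg.Prelude.Def_Solvable
import Cfsg.Prelude.Def_CaseTheorems
import Cfsg.Prelude.Def_EvenType
import Cfsg.Agent.Lib.InvChar.InvolutionCores
import Cfsg.Agent.Lib.Involutions.BrauerSuzuki

/-!
A group all of whose 2-local subgroups are 2-constrained, whose Sylow 2-subgroup has an elementary
normal subgroup of order at least 8 and normalizes no nontrivial odd subgroup: an involution in the
centre of a Sylow 2-subgroup cannot be the only one in every local centre.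
-/

set_option autoImplicit false

namespace CfsgLib.InvChar.UniqueLocalCentre

open Subgroup CfsgLib.Involutions CfsgLib.InvChar.InvolutionCores

universe u

variable {G : Type u} [Group G] [Finite G]

omit [Finite G] in
theorem normalizer_zpowers {t : G} (ht : orderOf t = 2) :
    normalizer ((zpowers t : Subgroup G) : Set G) = centralizer ({t} : Set G) := by
  ext g
  rw [mem_centralizer_singleton_iff]
  constructor
  · intro hg
    have h1 := (mem_normalizer_iff.1 hg t).1 (mem_zpowers t)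
    obtain ⟨k, hk⟩ := mem_zpowers_iff.1 h1
    rcases Int.even_or_odd k with ⟨j, rfl⟩ | ⟨j, rfl⟩
    · exfalso
      rw [← two_mul, zpow_mul, zpow_two, mul_self_eq_one ht, one_zpow] at hk
      exact ne_one_of_involution ht (by
        simpa [mul_assoc] using congrArg (fun w => g⁻¹ * w * g) hk.symm)
    · rw [zpow_add, zpow_mul, zpow_two, mul_self_eq_one ht, one_zpow, one_mul, zpow_one] at hk
      exact mul_inv_eq_iff_eq_mul.1 hk.symm
  · intro hg
    refine mem_normalizer_iff.2 fun w => ⟨fun hw => ?_, fun hw => ?_⟩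
    · obtain ⟨k, rfl⟩ := mem_zpowers_iff.1 hw
      rw [((show Commute g t from hg).zpow_right k).eq, mul_inv_cancel_right]
      exact zpow_mem (mem_zpowers t) k
    · obtain ⟨k, hk⟩ := mem_zpowers_iff.1 hw
      have h' : w = g⁻¹ * (t ^ k) * g := by rw [hk]; group
      rw [h', mul_assoc, ← ((show Commute g t from hg).zpow_right k).eq, inv_mul_cancel_left]
      exact zpow_mem (mem_zpowers t) k

theorem con_of_local (hcon : ∀ T : Subgroup G, IsPGroup 2 ↥T → T ≠ ⊥ →
    Cfsg.IsPConstrained 2 ↥(normalizer (T : Set G))) {t : G} (ht : orderOf t = 2) : Con t := by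
  have h := hcon (zpowers t) (IsPGroup.of_card (n := 1) (by rw [Nat.card_zpowers, ht, pow_one]))
    (by rw [Ne, zpowers_eq_bot]; exact ne_one_of_involution ht)
  rw [normalizer_zpowers ht] at h
  exact h

/-- A 2-element centralizing `O₂(M)` in a constrained subgroup with trivial core lies in it. -/
theorem mem_pCore_of_constrained (M : Subgroup G) (hM : Cfsg.IsPConstrained 2 ↥M)
    (hcore : (Cfsg.pPrimeCore 2 ↥M).map M.subtype = ⊥) {x : G} (hx : x ∈ M)
    (hc : ∀ p ∈ Cfsg.pCore 2 ↥M, Commute x (p : G)) :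
    (⟨x, hx⟩ : ↥M) ∈ Cfsg.pCore 2 ↥M := by
  have : Fact (Nat.Prime 2) := ⟨Nat.prime_two⟩
  have h0 : Cfsg.pPrimeCore 2 ↥M = ⊥ := by
    rwa [map_eq_bot_iff_of_injective _ M.subtype_injective] at hcore
  refine (CfsgLib.PLocal.isPConstrained_iff_of_core_eq_bot h0).1 hM ?_
  exact mem_centralizer_iff.2 fun p hp => Subtype.ext (hc p hp).eq.symm

/-- A conjugate of a 2-subgroup of `H` lies in a Sylow subgroup contained in `H`. -/
theorem exists_conj_mem_sylow (S : Sylow 2 G) (H : Subgroup G) (hSH : (S : Subgroup G) ≤ H)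
    (R : Subgroup G) (hRH : R ≤ H) (hR : IsPGroup 2 ↥R) :
    ∃ c ∈ H, ∀ r ∈ R, c * r * c⁻¹ ∈ (S : Subgroup G) := by
  have : Fact (Nat.Prime 2) := ⟨Nat.prime_two⟩
  have hR' : IsPGroup 2 ↥(R.subgroupOf H) :=
    hR.of_equiv (subgroupOfEquivOfLe hRH).symm
  obtain ⟨c, hc⟩ := CfsgLib.Involutions.exists_conj_le_sylow hR' (S.subtype hSH)
  exact ⟨c, c.2, fun r hr => hc ⟨r, hRH hr⟩ hr⟩

theorem isPGroup_sup_zpowers {R : Subgroup G} (hR : IsPGroup 2 ↥R) {s : G}
    (hs : ∃ k, s ^ 2 ^ k = 1) (hn : s ∈ normalizer (R : Set G)) :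
    IsPGroup 2 ↥(R ⊔ zpowers s) := by
  have : Fact (Nat.Prime 2) := ⟨Nat.prime_two⟩
  obtain ⟨k, hk⟩ := hs
  obtain ⟨j, -, hj⟩ := (Nat.dvd_prime_pow Nat.prime_two).1 (orderOf_dvd_of_pow_eq_one hk)
  exact hR.to_sup_of_normal_left' (IsPGroup.of_card (n := j) (by rw [Nat.card_zpowers, hj]))
    (zpowers_le.2 hn)

/-- An involution of an elementary group of order at least 8 invariant under an involution `t` has
two fixed nontrivial elements. -/
theorem exists_two_fixed {E : Subgroup G} (hsq : ∀ a ∈ E, a * a = 1)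
    (hcomm : ∀ a ∈ E, ∀ b ∈ E, Commute a b) (hbig : 4 < Nat.card ↥E) {t : G} (ht : t * t = 1)
    (htE : ∀ a ∈ E, t * a * t⁻¹ ∈ E) :
    ∃ e ∈ E, ∃ f ∈ E, e ≠ 1 ∧ f ≠ 1 ∧ e ≠ f ∧ Commute e t ∧ Commute f t := by
  classical
  have hti : t⁻¹ = t := inv_eq_of_mul_eq_one_right ht
  let f : ↥E →* ↥E :=
    { toFun := fun a => ⟨(a : G) * (t * a * t⁻¹), E.mul_mem a.2 (htE _ a.2)⟩
      map_one' := Subtype.ext (by simp)
      map_mul' := fun a b => Subtype.ext (by
        show ((a : G) * b) * (t * ((a : G) * b) * t⁻¹) =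
          ((a : G) * (t * a * t⁻¹)) * ((b : G) * (t * b * t⁻¹))
        calc _ = (a : G) * ((b : G) * (t * a * t⁻¹)) * (t * b * t⁻¹) := by group
          _ = _ := by rw [(hcomm _ b.2 _ (htE _ a.2)).eq]; group) }
  set F : Subgroup G := E ⊓ centralizer ({t} : Set G) with hF
  have hFle : F ≤ E := inf_le_left
  have hker : f.ker = F.subgroupOf E := by
    ext a
    rw [MonoidHom.mem_ker, mem_subgroupOf, hF, mem_inf, mem_centralizer_singleton_iff]
    constructor
    · intro h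
      have h' : (a : G) * (t * a * t⁻¹) = 1 := congrArg Subtype.val h
      refine ⟨a.2, ?_⟩
      have h2 : t * (a : G) * t⁻¹ = a := by
        rw [← inv_eq_of_mul_eq_one_right h', inv_eq_of_mul_eq_one_right (hsq _ a.2)]
      exact (mul_inv_eq_iff_eq_mul.1 h2).symm
    · rintro ⟨-, h⟩
      refine Subtype.ext ?_
      show (a : G) * (t * a * t⁻¹) = 1
      rw [← h, mul_inv_cancel_right, hsq _ a.2]
  have hrange : f.range ≤ F.subgroupOf E := by
    rintro _ ⟨a, rfl⟩
    rw [mem_subgroupOf, hF, mem_inf, mem_centralizer_singleton_iff]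
    refine ⟨(f a).2, ?_⟩
    show (a : G) * (t * a * t⁻¹) * t = t * ((a : G) * (t * a * t⁻¹))
    have hc := (hcomm _ a.2 _ (htE _ a.2)).eq
    rw [hti] at hc ⊢
    conv_lhs => rw [hc]
    group
  have h1 := f.ker.card_eq_card_quotient_mul_card_subgroup
  have h2 : Nat.card (↥E ⧸ f.ker) = Nat.card ↥f.range :=
    Nat.card_congr (QuotientGroup.quotientKerEquivRange f).toEquiv
  have h3 := Nat.le_of_dvd Nat.card_pos (card_dvd_of_le hrange)
  have h4 : Nat.card ↥(F.subgroupOf E) = Nat.card ↥F :=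
    Nat.card_congr (subgroupOfEquivOfLe hFle).toEquiv
  rw [h2, hker, h4] at h1
  rw [h4] at h3
  have h5 : 2 < Nat.card ↥F := by
    by_contra hle
    push Not at hle
    have := Nat.mul_le_mul (h3.trans hle) hle
    have := hbig
    omega
  obtain ⟨a, b, c, hab, hac, hbc⟩ : ∃ a b c : ↥F, a ≠ b ∧ a ≠ c ∧ b ≠ c := by
    have := Fintype.ofFinite ↥F
    rw [Nat.card_eq_fintype_card] at h5
    exact Fintype.two_lt_card_iff.1 h5
  have key : ∀ u : ↥F, (u : G) ∈ E ∧ Commute (u : G) t := fun u =>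
    ⟨u.2.1, mem_centralizer_singleton_iff.1 u.2.2⟩
  rcases eq_or_ne (a : G) 1 with ha | ha
  · exact ⟨b, (key b).1, c, (key c).1, fun h => hab (Subtype.ext (ha.trans h.symm)),
      fun h => hac (Subtype.ext (ha.trans h.symm)), fun h => hbc (Subtype.ext h), (key b).2, (key c).2⟩
  rcases eq_or_ne (b : G) 1 with hb | hb
  · exact ⟨a, (key a).1, c, (key c).1, ha, fun h => hbc (Subtype.ext (hb.trans h.symm)),
      fun h => hac (Subtype.ext h), (key a).2, (key c).2⟩
  · exact ⟨a, (key a).1, b, (key b).1, ha, hb, fun h => hab (Subtype.ext h), (key a).2, (key b).2⟩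

/-- The 2-local statement. -/
theorem exists_noncyclic [IsSimpleGroup G] (hG : ¬ IsMulCommutative G) (S : Sylow 2 G)
    (E : Subgroup G) (hES : E ≤ (S : Subgroup G))
    (hsq : ∀ a ∈ E, a * a = 1) (hcomm : ∀ a ∈ E, ∀ b ∈ E, Commute a b) (hbig : 4 < Nat.card ↥E)
    (hEn : ∀ s ∈ (S : Subgroup G), ∀ a ∈ E, s * a * s⁻¹ ∈ E)
    (hzE : ∀ z : G, orderOf z = 2 → z ∈ (S : Subgroup G) →
      (∀ s ∈ (S : Subgroup G), Commute s z) → z ∈ E)
    (hinv : ∀ X : Subgroup G, Odd (Nat.card ↥X) →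
      (S : Subgroup G) ≤ normalizer (X : Set G) → X = ⊥)
    (hcon : ∀ T : Subgroup G, IsPGroup 2 ↥T → T ≠ ⊥ →
      Cfsg.IsPConstrained 2 ↥(normalizer (T : Set G))) :
    ∃ M : Subgroup G, Cfsg.IsMaximalTwoLocal M ∧ ¬ IsCyclic ↥(center ↥(Cfsg.pCore 2 ↥M)) := by
  classical
  have : Fact (Nat.Prime 2) := ⟨Nat.prime_two⟩
  by_contra hall
  push Not at hall
  -- odd subgroups normalized by `S` are trivial
  have hinvS : ∀ X : Subgroup G, Odd (Nat.card ↥X) →
      (∀ s ∈ (S : Subgroup G), ∀ x ∈ X, s * x * s⁻¹ ∈ X) → X = ⊥ := by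
    intro X hX hn
    refine hinv X hX fun s hs => mem_normalizer_iff.2 fun x => ⟨hn s hs x, fun h => ?_⟩
    have h' := hn s⁻¹ (inv_mem hs) _ h
    simpa [mul_assoc] using h'
  -- a central involution
  have hSne : (S : Subgroup G) ≠ ⊥ := fun h => by
    have := card_dvd_of_le hES
    rw [h, card_bot, Nat.dvd_one] at this
    omega
  have hnt : Nontrivial ↥(S : Subgroup G) := (nontrivial_iff_ne_bot _).2 hSne
  have hcnt := S.2.center_nontrivial
  obtain ⟨k, hk⟩ := IsPGroup.iff_card.1 (S.2.to_subgroup (center ↥(S : Subgroup G)))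
  have h2dvd : 2 ∣ Nat.card ↥(center ↥(S : Subgroup G)) := by
    rcases k with _ | k
    · rw [pow_zero] at hk
      exact absurd hk (Finite.one_lt_card).ne'
    · rw [hk]; exact dvd_pow_self 2 k.succ_ne_zero
  obtain ⟨w, hw⟩ := exists_prime_orderOf_dvd_card' 2 h2dvd
  set z : G := ((w : ↥(S : Subgroup G)) : G) with hz
  have hz2 : orderOf z = 2 := by
    rw [hz, Subgroup.orderOf_coe, Subgroup.orderOf_coe]; exact hw
  have hzS : z ∈ (S : Subgroup G) := (w : ↥(S : Subgroup G)).2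
  have hzc : ∀ s ∈ (S : Subgroup G), Commute s z := fun s hs =>
    congrArg Subtype.val (mem_center_iff.1 w.2 ⟨s, hs⟩)
  have hzEm := hzE z hz2 hzS hzc
  have hz1 := ne_one_of_involution hz2
  have hzcore : cc z = ⊥ := hinvS _ (odd_card_cc z) fun s hs x hx => conj_mem_cc (hzc s hs) hx
  -- the cores of the centralizers of `E` are trivial
  have hord : ∀ a ∈ E, a ≠ 1 → orderOf a = 2 := fun a ha ha1 =>
    orderOf_eq_two_iff_mul.2 ⟨ha1, hsq a ha⟩
  have hset : Setting E z :=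
    ⟨hsq, hcomm, hbig, hzEm, hz1, hzcore, fun a ha ha1 => con_of_local hcon (hord a ha ha1)⟩
  set W := closure {x : G | ∃ a ∈ E, a ≠ 1 ∧ x ∈ cc a} with hW
  have hWbot : W = ⊥ := by
    refine hinvS W hset.odd_closure fun s hs x hx => ?_
    have h1 : W.map (MulAut.conj s).toMonoidHom ≤ W := by
      rw [hW, MonoidHom.map_closure, closure_le]
      rintro _ ⟨y, ⟨a, ha, ha1, hy⟩, rfl⟩
      refine subset_closure ⟨s * a * s⁻¹, hEn s hs a ha, fun h => ha1 ?_, cc_conj s hy⟩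
      simpa [mul_assoc] using congrArg (fun u => s⁻¹ * u * s) h
    exact h1 ⟨x, hx, rfl⟩
  have hEcore : ∀ a ∈ E, a ≠ 1 → cc a = ⊥ := fun a ha ha1 => by
    rw [eq_bot_iff, ← hWbot]
    exact fun x hx => subset_closure ⟨a, ha, ha1, hx⟩
  have hScore : ∀ t ∈ (S : Subgroup G), orderOf t = 2 → cc t = ⊥ := by
    intro t htS ht
    obtain ⟨e, he, f, hf, he1, hf1, hef, het, hft⟩ :=
      exists_two_fixed hsq hcomm hbig (mul_self_eq_one ht) (fun a ha => hEn t htS a ha)
    have hkey : ∀ d ∈ E, d ≠ 1 → Commute d t → ∀ x ∈ cc t, d * x * d⁻¹ = x⁻¹ := by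
      intro d hd hd1 hdt
      refine inverts (hsq d hd) _ (fun x hx => conj_mem_cc hdt hx) fun x hx hc => ?_
      have h1 := balance (con_of_local hcon (hord d hd hd1)) ht hdt hx hc
      rwa [hEcore d hd hd1, mem_bot] at h1
    have hef1 : e * f ≠ 1 := fun h => hef (by
      rw [mul_eq_one_iff_eq_inv] at h; rw [h, inv_eq_of_mul_eq_one_right (hsq f hf)])
    rw [eq_bot_iff]
    intro x hx
    have h1 := hkey (e * f) (E.mul_mem he hf) hef1 (het.mul_left hft) x hx
    rw [show e * f * x * (e * f)⁻¹ = e * (f * x * f⁻¹) * e⁻¹ by group, hkey f hf hf1 hft x hx,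
      hkey e he he1 het x⁻¹ ((cc t).inv_mem hx), inv_inv] at h1
    refine mem_bot.2 (orderOf_eq_one_iff.1 ?_)
    have h2 : orderOf x ∣ 2 := orderOf_dvd_of_pow_eq_one (by
      rw [pow_two]
      nth_rw 2 [h1]
      exact mul_inv_cancel x)
    rcases (Nat.dvd_prime Nat.prime_two).1 h2 with h3 | h3
    · exact h3
    · exact absurd (odd_orderOf_cc hx) (by rw [h3]; decide)
  -- involutions commuting with a conjugate of `z`
  have hScz : (S : Subgroup G) ≤ centralizer ({z} : Set G) := fun s hs =>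
    mem_centralizer_singleton_iff.2 (hzc s hs).eq
  have hccz : ∀ t g : G, orderOf t = 2 → Commute t (g * z * g⁻¹) → cc t = ⊥ := by
    intro t g ht hc
    have hc' : Commute (g⁻¹ * t * g) z := by
      have := hc.map (MulAut.conj g⁻¹).toMonoidHom
      simpa [mul_assoc] using this
    have ht' : orderOf (g⁻¹ * t * g) = 2 := by
      have := orderOf_conj_eq g⁻¹ t
      rw [inv_inv] at this
      rw [this, ht]
    obtain ⟨c, -, hcS⟩ := exists_conj_mem_sylow S _ hScz (zpowers (g⁻¹ * t * g))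
      (zpowers_le.2 (mem_centralizer_singleton_iff.2 hc'.eq))
      (IsPGroup.of_card (n := 1) (by rw [Nat.card_zpowers, ht', pow_one]))
    have h1 := hScore _ (hcS _ (mem_zpowers _)) (by rw [orderOf_conj_eq, ht'])
    rw [eq_bot_iff]
    intro x hx
    have h2 := cc_conj (c * g⁻¹) hx
    rw [show c * g⁻¹ * t * (c * g⁻¹)⁻¹ = c * (g⁻¹ * t * g) * c⁻¹ by group, h1, mem_bot] at h2
    refine mem_bot.2 ?_
    calc x = (c * g⁻¹)⁻¹ * (c * g⁻¹ * x * (c * g⁻¹)⁻¹) * (c * g⁻¹) := by group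
      _ = 1 := by rw [h2]; group
  -- maximal 2-locals exist
  have hmax : ∀ N : Subgroup G, Cfsg.IsTwoLocal N →
      ∃ M, Cfsg.IsMaximalTwoLocal M ∧ N ≤ M := by
    intro N hN
    obtain ⟨M, ⟨hM, hNM⟩, hMmax⟩ := Set.Finite.exists_maximal
      (s := {K : Subgroup G | Cfsg.IsTwoLocal K ∧ N ≤ K}) (Set.toFinite _) ⟨N, hN, le_rfl⟩
    exact ⟨M, ⟨hM, fun K hK hMK => le_antisymm (hMmax ⟨hK, hNM.trans hMK⟩ hMK) hMK⟩, hNM⟩
  -- the centre of `O₂` of a maximal 2-local has exactly one involution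
  have huniq : ∀ M : Subgroup G, Cfsg.IsMaximalTwoLocal M → ∀ a b : ↥M,
      a ∈ Cfsg.pCore 2 ↥M → b ∈ Cfsg.pCore 2 ↥M →
      (∀ p ∈ Cfsg.pCore 2 ↥M, Commute a p) → (∀ p ∈ Cfsg.pCore 2 ↥M, Commute b p) →
      orderOf a = 2 → orderOf b = 2 → a = b := by
    intro M hM a b ha hb hac hbc ha2 hb2
    have hcyc := hall M hM
    set Z := center ↥(Cfsg.pCore 2 ↥M)
    have haZ : (⟨a, ha⟩ : ↥(Cfsg.pCore 2 ↥M)) ∈ Z :=
      mem_center_iff.2 fun p => Subtype.ext (hac p p.2).eq.symm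
    have hbZ : (⟨b, hb⟩ : ↥(Cfsg.pCore 2 ↥M)) ∈ Z :=
      mem_center_iff.2 fun p => Subtype.ext (hbc p p.2).eq.symm
    have h1 : orderOf (⟨_, haZ⟩ : ↥Z) = 2 := by
      rw [← Subgroup.orderOf_coe, ← Subgroup.orderOf_coe]; exact ha2
    have h2 : orderOf (⟨_, hbZ⟩ : ↥Z) = 2 := by
      rw [← Subgroup.orderOf_coe, ← Subgroup.orderOf_coe]; exact hb2
    by_contra hne
    have := Fintype.ofFinite ↥Z
    have hle := IsCyclic.card_pow_eq_one_le (α := ↥Z) (n := 2) two_pos
    have hsub : ({1, (⟨_, haZ⟩ : ↥Z), ⟨_, hbZ⟩} : Finset ↥Z) ⊆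
        Finset.univ.filter fun u : ↥Z => u ^ 2 = 1 := by
      intro u hu
      simp only [Finset.mem_insert, Finset.mem_singleton] at hu
      rw [Finset.mem_filter]
      refine ⟨Finset.mem_univ _, ?_⟩
      rcases hu with rfl | rfl | rfl
      · simp
      · exact orderOf_dvd_iff_pow_eq_one.1 h1.dvd
      · exact orderOf_dvd_iff_pow_eq_one.1 h2.dvd
    have h3 : ({1, (⟨_, haZ⟩ : ↥Z), ⟨_, hbZ⟩} : Finset ↥Z).card = 3 := by
      refine Finset.card_eq_three.2 ⟨_, _, _, ?_, ?_, ?_, rfl⟩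
      · intro h; rw [← h] at h1; simp at h1
      · intro h; rw [← h] at h2; simp at h2
      · intro h; exact hne (congrArg (fun u : ↥Z => ((u : ↥(Cfsg.pCore 2 ↥M)) : ↥M)) h)
    have := Finset.card_le_card hsub
    omega
  -- every maximal 2-local is the centralizer of a conjugate of `z`
  have hcover : ∀ M : Subgroup G, Cfsg.IsMaximalTwoLocal M →
      ∃ g : G, M = centralizer ({g * z * g⁻¹} : Set G) := by
    intro M hM
    obtain ⟨T, hT, hT1, hMT⟩ := hM.1
    set P := Cfsg.pCore 2 ↥M with hP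
    have hPp : IsPGroup 2 ↥P := CfsgLib.LocalEvenCharP.isPGroup_pCore 2 _
    have hTM : T ≤ M := hMT ▸ le_normalizer
    have hTP : T.subgroupOf M ≤ P := by
      refine CfsgLib.LocalEvenCharP.le_pCore ?_ (hT.of_equiv (subgroupOfEquivOfLe hTM).symm)
      exact ⟨fun u hu g => (mem_normalizer_iff.1 (hMT ▸ g.2 : (g : G) ∈ normalizer (T : Set G)) u).1 hu⟩
    have hPne : P ≠ ⊥ := fun h => hT1 (by
      rw [h, le_bot_iff, subgroupOf_eq_bot] at hTP
      exact (eq_bot_iff.2 (fun x hx => (disjoint_iff.1 hTP).le ⟨hx, hTM hx⟩)))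
    have : Nontrivial ↥P := (nontrivial_iff_ne_bot _).2 hPne
    have := hPp.center_nontrivial
    obtain ⟨j, hj⟩ := IsPGroup.iff_card.1 (hPp.to_subgroup (center ↥P))
    have h2 : 2 ∣ Nat.card ↥(center ↥P) := by
      rcases j with _ | j
      · rw [pow_zero] at hj
        exact absurd hj (Finite.one_lt_card).ne'
      · rw [hj]; exact dvd_pow_self 2 j.succ_ne_zero
    obtain ⟨u, hu⟩ := exists_prime_orderOf_dvd_card' 2 h2
    set a : ↥M := ((u : ↥P) : ↥M) with ha
    have ha2 : orderOf a = 2 := by rw [ha, Subgroup.orderOf_coe, Subgroup.orderOf_coe]; exact hu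
    have haP : a ∈ P := (u : ↥P).2
    have hac : ∀ p ∈ P, Commute a p := fun p hp =>
      (congrArg Subtype.val (mem_center_iff.1 u.2 ⟨p, hp⟩)).symm
    set y : G := (a : G) with hy
    have hy2 : orderOf y = 2 := by rw [hy, Subgroup.orderOf_coe, ha2]
    have hMy : M ≤ centralizer ({y} : Set G) := by
      intro m hm
      have hn : (Cfsg.pCore 2 ↥M).Normal := Cfsg.pCore_normal 2 _
      have h1 := huniq M hM (⟨m, hm⟩ * a * (⟨m, hm⟩)⁻¹) a (hn.conj_mem _ haP _) haP (fun p hp => by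
        have h := (hac _ (hn.conj_mem _ hp (⟨m, hm⟩)⁻¹)).map (MulAut.conj (⟨m, hm⟩ : ↥M)).toMonoidHom
        simpa [mul_assoc] using h) hac (by rw [orderOf_conj_eq, ha2]) ha2
      exact mem_centralizer_singleton_iff.2 (mul_inv_eq_iff_eq_mul.1 (congrArg Subtype.val h1))
    have hMeq : M = centralizer ({y} : Set G) := by
      refine (hM.2 _ ⟨zpowers y, IsPGroup.of_card (n := 1) (by rw [Nat.card_zpowers, hy2, pow_one]),
        ?_, (normalizer_zpowers hy2).symm⟩ hMy).symm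
      rw [Ne, zpowers_eq_bot]
      exact ne_one_of_involution hy2
    -- a Sylow subgroup of `M` in a Sylow subgroup of `G`
    obtain ⟨R⟩ : Nonempty (Sylow 2 ↥M) := inferInstance
    obtain ⟨g, hg⟩ := CfsgLib.Involutions.exists_conj_le_sylow
      (T := (R : Subgroup ↥M).map M.subtype) (R.2.map M.subtype) S
    set v := g⁻¹ * z * g with hv
    have hvR : ∀ r ∈ (R : Subgroup ↥M), Commute (r : G) v := by
      intro r hr
      have h := hzc _ (hg r ⟨r, hr, rfl⟩)
      have h' := h.map (MulAut.conj g⁻¹).toMonoidHom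
      simpa [hv, mul_assoc] using h'
    have hn : (Cfsg.pCore 2 ↥M).Normal := Cfsg.pCore_normal 2 _
    have hPR : P ≤ (R : Subgroup ↥M) := CfsgLib.PCore.pCore_le_sylow R
    have hvy : Commute y v := hvR a (hPR haP)
    have hvM : v ∈ M := hMeq ▸ mem_centralizer_singleton_iff.2 hvy.eq.symm
    have hcy : cc y = ⊥ := hccz y g⁻¹ hy2 (by rw [inv_inv]; exact hvy)
    have hMcore : (Cfsg.pPrimeCore 2 ↥M).map M.subtype = ⊥ := by
      rw [eq_bot_iff, ← hcy]
      refine le_cc ?_ ?_ ?_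
      · exact (map_subtype_le _).trans hMy
      · rw [← Nat.card_congr (equivMapOfInjective _ _ M.subtype_injective).toEquiv]
        exact Nat.not_even_iff_odd.1 fun h =>
          CfsgLib.PCore.not_dvd_card_pPrimeCore (even_iff_two_dvd.1 h)
      · rintro h hh _ ⟨x, hx, rfl⟩
        have hhM : h ∈ M := hMeq ▸ mem_centralizer_singleton_iff.2 hh.eq
        exact ⟨⟨h, hhM⟩ * x * (⟨h, hhM⟩)⁻¹, (Cfsg.pPrimeCore_normal 2 _).conj_mem _ hx _, rfl⟩
    have hconM : Cfsg.IsPConstrained 2 ↥M := by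
      rw [hMT]; exact hcon T hT hT1
    have hvP : (⟨v, hvM⟩ : ↥M) ∈ P :=
      mem_pCore_of_constrained M hconM hMcore hvM fun p hp => (hvR p (hPR hp)).symm
    have hv2 : orderOf (⟨v, hvM⟩ : ↥M) = 2 := by
      rw [← Subgroup.orderOf_coe]
      show orderOf v = 2
      rw [hv]
      have := orderOf_conj_eq g⁻¹ z
      rw [inv_inv] at this
      rw [this, hz2]
    have heq := huniq M hM ⟨v, hvM⟩ a hvP haP
      (fun p hp => Subtype.ext (hvR p (hPR hp)).eq.symm) hac hv2 ha2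
    refine ⟨g⁻¹, ?_⟩
    rw [hMeq, inv_inv, hy, ← heq]
  -- the centre of `S` has only one involution
  have hzuniq : ∀ t ∈ (S : Subgroup G), orderOf t = 2 → (∀ s ∈ (S : Subgroup G), Commute s t) →
      t = z := by
    intro t htS ht htc
    obtain ⟨M, hM, hNM⟩ := hmax (normalizer ((S : Subgroup G) : Set G))
      ⟨S, S.2, hSne, rfl⟩
    have hSM : (S : Subgroup G) ≤ M := le_normalizer.trans hNM
    obtain ⟨g, hMg⟩ := hcover M hM
    obtain ⟨T, hT, hT1, hMT⟩ := hM.1
    have hMcore : (Cfsg.pPrimeCore 2 ↥M).map M.subtype = ⊥ := by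
      refine hinvS _ ?_ ?_
      · rw [← Nat.card_congr (equivMapOfInjective _ _ M.subtype_injective).toEquiv]
        exact Nat.not_even_iff_odd.1 fun h =>
          CfsgLib.PCore.not_dvd_card_pPrimeCore (even_iff_two_dvd.1 h)
      · rintro s hs _ ⟨x, hx, rfl⟩
        exact ⟨⟨s, hSM hs⟩ * x * (⟨s, hSM hs⟩)⁻¹, (Cfsg.pPrimeCore_normal 2 _).conj_mem _ hx _, rfl⟩
    have hconM : Cfsg.IsPConstrained 2 ↥M := by
      rw [hMT]; exact hcon T hT hT1
    have hPS : ∀ p ∈ Cfsg.pCore 2 ↥M, (p : G) ∈ (S : Subgroup G) := fun p hp =>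
      CfsgLib.PCore.pCore_le_sylow (S.subtype hSM) hp
    have h1 : (⟨t, hSM htS⟩ : ↥M) ∈ Cfsg.pCore 2 ↥M :=
      mem_pCore_of_constrained M hconM hMcore _ fun p hp => (htc p (hPS p hp)).symm
    have h2 : (⟨z, hSM hzS⟩ : ↥M) ∈ Cfsg.pCore 2 ↥M :=
      mem_pCore_of_constrained M hconM hMcore _ fun p hp => (hzc p (hPS p hp)).symm
    exact congrArg Subtype.val (huniq M hM ⟨t, hSM htS⟩ ⟨z, hSM hzS⟩ h1 h2
      (fun p hp => Subtype.ext (htc p (hPS p hp)).eq.symm)
      (fun p hp => Subtype.ext (hzc p (hPS p hp)).eq.symm)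
      (by rw [← Subgroup.orderOf_coe]; exact ht) (by rw [← Subgroup.orderOf_coe]; exact hz2))
  -- a second conjugate commuting with `z`
  obtain ⟨y₀, hy₀z, hy₀c, hy₀ne⟩ : ∃ y, IsConj z y ∧ Commute z y ∧ y ≠ z := by
    by_contra hno
    push Not at hno
    have hiso : Cfsg.IsIsolatedInvolution z :=
      ⟨hz2, fun g hg => hno _ (isConj_iff.2 ⟨g, rfl⟩) hg⟩
    have hzs := CfsgLib.Involutions.zstar G z hiso
    have hO : Cfsg.pPrimeCore 2 G = ⊥ := by
      refine ((Cfsg.pPrimeCore_normal 2 G).eq_bot_or_eq_top).resolve_right fun h => ?_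
      have h1 : ¬ 2 ∣ Nat.card ↥(Cfsg.pPrimeCore 2 G) := CfsgLib.PCore.not_dvd_card_pPrimeCore
      rw [h, card_top, ← hz2] at h1
      exact h1 (orderOf_dvd_natCard z)
    have hzZ : z ∈ center G := mem_center_iff.2 fun g => by
      have := hzs g
      rw [hO, mem_bot, mul_inv_eq_one] at this
      exact mul_inv_eq_iff_eq_mul.1 this
    rcases (inferInstance : (center G).Normal).eq_bot_or_eq_top with h | h
    · exact hz1 (by rwa [h, mem_bot] at hzZ)
    · exact hG ⟨⟨fun a b => (mem_center_iff.1 (h ▸ mem_top b : b ∈ center G) a)⟩⟩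
  -- choose the pair with the largest 2-part
  let Q : G → Subgroup G := fun y => centralizer ({z} : Set G) ⊓ centralizer ({y} : Set G)
  obtain ⟨y, ⟨hyz, hyc, hyne⟩, hymax⟩ := Set.exists_max_image
    {y : G | IsConj z y ∧ Commute z y ∧ y ≠ z}
    (fun y => (Nat.card ↥(Q y)).factorization 2) (Set.toFinite _) ⟨y₀, hy₀z, hy₀c, hy₀ne⟩
  obtain ⟨P⟩ : Nonempty (Sylow 2 ↥(Q y)) := inferInstance
  set R : Subgroup G := (P : Subgroup ↥(Q y)).map (Q y).subtype with hR
  have hRp : IsPGroup 2 ↥R := P.2.map _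
  have hRQ : R ≤ Q y := map_subtype_le _
  have hRcard : Nat.card ↥R = 2 ^ (Nat.card ↥(Q y)).factorization 2 := by
    rw [hR, ← Nat.card_congr (equivMapOfInjective _ _ (Q y).subtype_injective).toEquiv,
      Sylow.card_eq_multiplicity]
  have hbig' : ∀ w : G, IsConj z w → Commute z w → w ≠ z → ∀ U : Subgroup G,
      IsPGroup 2 ↥U → U ≤ Q w → Nat.card ↥U ≤ Nat.card ↥R := by
    intro w h1 h2 h3 U hU hUQ
    obtain ⟨P', hP'⟩ := (hU.of_equiv (subgroupOfEquivOfLe hUQ).symm).exists_le_sylow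
    have h4 := Nat.le_of_dvd Nat.card_pos (card_dvd_of_le hP')
    rw [Nat.card_congr (subgroupOfEquivOfLe hUQ).toEquiv, Sylow.card_eq_multiplicity] at h4
    rw [hRcard]
    exact h4.trans (Nat.pow_le_pow_right two_pos (hymax w ⟨h1, h2, h3⟩))
  have hy2 : orderOf y = 2 := by
    obtain ⟨g, rfl⟩ := isConj_iff.1 hyz
    rw [orderOf_conj_eq, hz2]
  have hcenR : ∀ w : G, orderOf w = 2 → w ∈ Q y → (∀ q ∈ Q y, Commute q w) → w ∈ R := by
    intro w hw hwQ hwc
    have hle : IsPGroup 2 ↥(R ⊔ zpowers w) := isPGroup_sup_zpowers hRp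
      ⟨1, by rw [pow_one, ← hw, pow_orderOf_eq_one]⟩ (mem_normalizer_iff.2 fun r => by
        constructor
        · intro hr
          rw [← (hwc r (hRQ hr)).eq, mul_inv_cancel_right]
          exact hr
        · intro hr
          have h1 := (hwc _ (hRQ hr)).eq
          have : r = w⁻¹ * (w * r * w⁻¹) * w := by group
          rw [this, mul_assoc, h1, inv_mul_cancel_left]
          exact hr)
    have hsup : R ⊔ zpowers w ≤ Q y := sup_le hRQ (zpowers_le.2 hwQ)
    have h1 := hbig' y hyz hyc hyne _ hle hsup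
    have h2 := eq_of_le_of_card_ge (le_sup_left : R ≤ R ⊔ zpowers w) h1
    rw [h2]
    exact mem_sup_right (mem_zpowers w)
  have hzR : z ∈ R := hcenR z hz2
    ⟨mem_centralizer_singleton_iff.2 rfl, mem_centralizer_singleton_iff.2 hyc.eq⟩
    fun q hq => mem_centralizer_singleton_iff.1 hq.1
  have hyR : y ∈ R := hcenR y hy2
    ⟨mem_centralizer_singleton_iff.2 hyc.eq.symm, mem_centralizer_singleton_iff.2 rfl⟩
    fun q hq => mem_centralizer_singleton_iff.1 hq.2
  have hRne : R ≠ ⊥ := fun h => hz1 (by rw [h, mem_bot] at hzR; exact hzR)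
  -- growing inside a Sylow subgroup centralizing a pair
  have hgrow : ∀ s : G, (∃ k, s ^ 2 ^ k = 1) → s ∈ normalizer (R : Set G) → s ∉ R →
      ∀ w : G, IsConj z w → Commute z w → w ≠ z → R ≤ Q w → s ∈ Q w → False := by
    intro s hs hsn hsR w h1 h2 h3 hRw hsw
    have hle := hbig' w h1 h2 h3 _ (isPGroup_sup_zpowers hRp hs hsn)
      (sup_le hRw (zpowers_le.2 hsw))
    have h4 := eq_of_le_of_card_ge (le_sup_left : R ≤ R ⊔ zpowers s) hle
    exact hsR (h4 ▸ mem_sup_right (mem_zpowers s))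
  -- a Sylow subgroup of `C(z)` containing `R`
  obtain ⟨c, hc, hcS⟩ := exists_conj_mem_sylow S _ hScz R (hRQ.trans inf_le_left) hRp
  set T : Subgroup G := (S : Subgroup G).map (MulAut.conj c⁻¹).toMonoidHom with hT
  have hTp : IsPGroup 2 ↥T := S.2.map _
  have hcz : Commute c z := mem_centralizer_singleton_iff.1 hc
  have hRT : R ≤ T := fun r hr => ⟨c * r * c⁻¹, hcS r hr, by simp [mul_assoc]⟩
  have hTz : ∀ s ∈ T, Commute s z := by
    rintro _ ⟨s, hs, rfl⟩
    have h := (hzc s hs).map (MulAut.conj c⁻¹).toMonoidHom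
    have hfix : (MulAut.conj c⁻¹).toMonoidHom z = z := by
      show c⁻¹ * z * c⁻¹⁻¹ = z
      rw [inv_inv, mul_assoc, ← hcz.eq, inv_mul_cancel_left]
    rwa [hfix] at h
  have hRTne : R ≠ T := by
    intro h
    apply hyne
    have hyS : c * y * c⁻¹ ∈ (S : Subgroup G) := hcS y hyR
    have h1 := hzuniq _ hyS (by rw [orderOf_conj_eq, hy2]) fun s hs => by
      have hsT : c⁻¹ * s * c ∈ R := by
        rw [h]; exact ⟨s, hs, by simp⟩
      have h2 : Commute (c⁻¹ * s * c) y := mem_centralizer_singleton_iff.1 (hRQ hsT).2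
      have h3 := h2.map (MulAut.conj c).toMonoidHom
      simpa [mul_assoc] using h3
    calc y = c⁻¹ * (c * y * c⁻¹) * c := by group
      _ = z := by rw [h1, mul_assoc, ← hcz.eq, inv_mul_cancel_left]
  obtain ⟨s, hsT, hsR, hsn⟩ :=
    CfsgLib.LocalEvenCharP.exists_mem_normalizer_not_mem (p := 2) hTp hRT hRTne
  -- the local containing `N(R)`
  obtain ⟨M, hM, hNM⟩ := hmax (normalizer (R : Set G)) ⟨R, hRp, hRne, rfl⟩
  obtain ⟨g, hMg⟩ := hcover M hM
  set w := g * z * g⁻¹ with hw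
  have hNw : ∀ x ∈ normalizer (R : Set G), Commute x w := fun x hx => by
    have := hNM hx
    rw [hMg] at this
    exact mem_centralizer_singleton_iff.1 this
  have hRw : ∀ r ∈ R, Commute r w := fun r hr => hNw r (le_normalizer hr)
  have hwz : w = z := by
    by_contra hne
    refine hgrow s ?_ hsn hsR w (isConj_iff.2 ⟨g, rfl⟩) (hRw z hzR) hne ?_ ?_
    · obtain ⟨k, hk⟩ := hTp ⟨s, hsT⟩
      exact ⟨k, by simpa using congrArg Subtype.val hk⟩
    · exact fun r hr => ⟨(hRQ hr).1, mem_centralizer_singleton_iff.2 (hRw r hr).eq⟩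
    · exact ⟨mem_centralizer_singleton_iff.2 (hTz s hsT).eq,
        mem_centralizer_singleton_iff.2 (hNw s hsn).eq⟩
  -- a Sylow subgroup of `C(y)` containing `R`
  obtain ⟨d, hd⟩ := isConj_iff.1 hyz
  have hScy : ((S : Subgroup G)).map (MulAut.conj d).toMonoidHom ≤ centralizer ({y} : Set G) := by
    rintro _ ⟨s, hs, rfl⟩
    rw [← hd]
    exact mem_centralizer_singleton_iff.2 ((hzc s hs).map (MulAut.conj d).toMonoidHom).eq
  obtain ⟨e, he, heS⟩ := exists_conj_mem_sylow (MulAut.conj d • S) _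
    (by rw [Sylow.pointwise_smul_def, Subgroup.pointwise_smul_def]; exact hScy) R (hRQ.trans inf_le_right) hRp
  set T₂ : Subgroup G := ((MulAut.conj d • S : Sylow 2 G) : Subgroup G).map
    (MulAut.conj e⁻¹).toMonoidHom with hT₂
  have hT₂p : IsPGroup 2 ↥T₂ := (MulAut.conj d • S : Sylow 2 G).2.map _
  have hRT₂ : R ≤ T₂ := fun r hr => ⟨e * r * e⁻¹, heS r hr, by simp [mul_assoc]⟩
  have hT₂y : ∀ x ∈ T₂, Commute x y := by
    rintro _ ⟨x, hx, rfl⟩
    have hx' : Commute x y := mem_centralizer_singleton_iff.1 (hScy (by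
      rw [Sylow.pointwise_smul_def, Subgroup.pointwise_smul_def] at hx; exact hx))
    have h := hx'.map (MulAut.conj e⁻¹).toMonoidHom
    have hey : Commute e y := mem_centralizer_singleton_iff.1 he
    have hfix : (MulAut.conj e⁻¹).toMonoidHom y = y := by
      show e⁻¹ * y * e⁻¹⁻¹ = y
      rw [inv_inv, mul_assoc, ← hey.eq, inv_mul_cancel_left]
    rwa [hfix] at h
  have hcardT : Nat.card ↥T₂ = Nat.card ↥T := by
    rw [hT₂, hT, ← Nat.card_congr (equivMapOfInjective _ _ (MulAut.conj e⁻¹).injective).toEquiv,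
      ← Nat.card_congr (equivMapOfInjective _ _ (MulAut.conj c⁻¹).injective).toEquiv,
      Sylow.card_eq_multiplicity, Sylow.card_eq_multiplicity]
  have hRT₂ne : R ≠ T₂ := fun h => hRTne (eq_of_le_of_card_ge hRT (by rw [← hcardT, ← h]))
  obtain ⟨s', hsT', hsR', hsn'⟩ :=
    CfsgLib.LocalEvenCharP.exists_mem_normalizer_not_mem (p := 2) hT₂p hRT₂ hRT₂ne
  refine hgrow s' ?_ hsn' hsR' y hyz hyc hyne hRQ
    ⟨mem_centralizer_singleton_iff.2 (hwz ▸ hNw s' hsn' : Commute s' z).eq,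
      mem_centralizer_singleton_iff.2 (hT₂y s' hsT').eq⟩
  obtain ⟨k, hk⟩ := hT₂p ⟨s', hsT'⟩
  exact ⟨k, by simpa using congrArg Subtype.val hk⟩

end CfsgLib.InvChar.UniqueLocalCentre
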